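import Groth.Prelude.Def_FlatMod2
import Mathlib.Tactic

/-!
# Rank inequality for monomorphisms of finite locally free modules

If `i : F ⟶ E` is a monomorphism of `O_X`-modules on a nonempty scheme, `F` finite locally free of
rank `r` and `E` finite locally free of rank `n`, then `r ≤ n`.
-/

set_option autoImplicit false
universe u
open CategoryTheory CategoryTheory.Limits AlgebraicGeometry TopologicalSpace

namespace Groth.Agent.H92.LocFreeRank

variable {X : Scheme.{u}}

open AlgebraicGeometry.Scheme.Modules in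
theorem mono_iff_app_injective {M N : X.Modules} (φ : M ⟶ N) :
    Mono φ ↔ ∀ U : X.Opens, Function.Injective (φ.app U) := by
  constructor
  · intro h U
    have h1 : Mono ((Scheme.Modules.toPresheaf X).map φ) := inferInstance
    rw [NatTrans.mono_iff_mono_app] at h1
    have h2 := h1 (Opposite.op U)
    rw [AddCommGrpCat.mono_iff_injective] at h2
    exact h2
  · intro h
    have h1 : Mono ((Scheme.Modules.toPresheaf X).map φ) := by
      rw [NatTrans.mono_iff_mono_app]
      intro U
      rw [AddCommGrpCat.mono_iff_injective]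
      exact h U.unop
    exact (Scheme.Modules.toPresheaf X).mono_of_mono_map h1

theorem mono_restrict {X Y : Scheme.{u}} (f : X ⟶ Y) [IsOpenImmersion f] {M N : Y.Modules}
    (φ : M ⟶ N) [hφ : Mono φ] : Mono ((Scheme.Modules.restrictFunctor f).map φ) := by
  rw [mono_iff_app_injective] at hφ ⊢
  intro U
  exact hφ (f ''ᵁ U)

section Free

variable (W : Scheme.{u})

/-- sections of the structure module over `⊤` are the global functions -/
noncomputable def secEquiv :
    Γ(Coh.structureModule W, (⊤ : W.Opens)) ≃ₗ[Γ(W, ⊤)] Γ(W, ⊤) where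
  toFun x := x
  invFun x := x
  map_add' _ _ := rfl
  map_smul' _ _ := rfl
  left_inv _ := rfl
  right_inv _ := rfl

variable {W}

/-- the action of a morphism of modules on sections, as a linear map -/
noncomputable def appLin {M N : W.Modules} (φ : M ⟶ N) (U : W.Opens) :
    Γ(M, U) →ₗ[Γ(W, U)] Γ(N, U) where
  toFun x := φ.app U x
  map_add' x y := map_add _ x y
  map_smul' r x := Scheme.Modules.Hom.app_smul φ r x

theorem appLin_apply {M N : W.Modules} (φ : M ⟶ N) (U : W.Opens) (x : Γ(M, U)) :
    appLin φ U x = φ.app U x := rfl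

theorem appLin_comp {M N K : W.Modules} (φ : M ⟶ N) (ψ : N ⟶ K) (U : W.Opens) :
    appLin (φ ≫ ψ) U = (appLin ψ U).comp (appLin φ U) := by
  ext x
  simp [appLin_apply, Scheme.Modules.Hom.comp_app]

theorem appLin_id (M : W.Modules) (U : W.Opens) : appLin (𝟙 M) U = LinearMap.id := by
  ext x
  simp [appLin_apply, Scheme.Modules.Hom.id_app]

theorem appLin_zero (M N : W.Modules) (U : W.Opens) : appLin (0 : M ⟶ N) U = 0 := by
  ext x
  simp [appLin_apply, Scheme.Modules.Hom.zero_app]

theorem appLin_add {M N : W.Modules} (φ ψ : M ⟶ N) (U : W.Opens) :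
    appLin (φ + ψ) U = appLin φ U + appLin ψ U := by
  ext x
  simp [appLin_apply, Scheme.Modules.Hom.add_app]

theorem appLin_sum {ι : Type*} (s : Finset ι) {M N : W.Modules} (φ : ι → (M ⟶ N)) (U : W.Opens) :
    appLin (∑ i ∈ s, φ i) U = ∑ i ∈ s, appLin (φ i) U := by
  classical
  induction s using Finset.induction_on with
  | empty => simp [appLin_zero]
  | insert a s ha ih => rw [Finset.sum_insert ha, Finset.sum_insert ha, appLin_add, ih]

variable (W)

/-- the inclusion of the `i`-th summand -/
noncomputable def inc (m : ℕ) (i : Fin m) : Coh.structureModule W ⟶ FlatMod.freeMod W m :=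
  Sigma.ι (fun _ : Fin m => Coh.structureModule W) i

/-- the projection to the `j`-th summand -/
noncomputable def prj (m : ℕ) (j : Fin m) : FlatMod.freeMod W m ⟶ Coh.structureModule W :=
  Sigma.desc (fun i => if i = j then 𝟙 _ else 0)

theorem inc_prj (m : ℕ) (i j : Fin m) :
    inc W m i ≫ prj W m j = if i = j then 𝟙 _ else 0 := by
  simp [inc, prj]

theorem sum_prj_inc (m : ℕ) : ∑ j, prj W m j ≫ inc W m j = 𝟙 (FlatMod.freeMod W m) := by
  apply Sigma.hom_ext
  intro i
  rw [Preadditive.comp_sum]
  have : ∀ j, Sigma.ι (fun _ : Fin m => Coh.structureModule W) i ≫ prj W m j ≫ inc W m j =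
      if i = j then inc W m i else 0 := by
    intro j
    rw [← Category.assoc]
    change (inc W m i ≫ prj W m j) ≫ inc W m j = _
    rw [inc_prj]
    split_ifs with h
    · subst h; simp
    · simp
  simp only [this, Finset.sum_ite_eq, Finset.mem_univ, if_true, Category.comp_id]
  rfl

variable {W}

theorem prj_inc_apply (m : ℕ) (i x : Fin m) (y : Γ(Coh.structureModule W, (⊤ : W.Opens))) :
    appLin (prj W m i) ⊤ (appLin (inc W m x) ⊤ y) = if x = i then y else 0 := by
  rw [← LinearMap.comp_apply, ← appLin_comp, inc_prj]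
  split_ifs with h
  · rw [appLin_id]; rfl
  · rw [appLin_zero]; rfl

/-- A monomorphism `O^r ⟶ O^n` on a nonempty scheme forces `r ≤ n`. -/
theorem le_of_mono_free [Nonempty W] (r n : ℕ) (f : FlatMod.freeMod W r ⟶ FlatMod.freeMod W n)
    [hf : Mono f] : r ≤ n := by
  have hinj : Function.Injective (appLin f ⊤) := (mono_iff_app_injective f).mp hf ⊤
  let A : (Fin r → Γ(W, ⊤)) →ₗ[Γ(W, ⊤)] Γ(FlatMod.freeMod W r, (⊤ : W.Opens)) :=
    ∑ i, (appLin (inc W r i) ⊤).comp ((secEquiv W).symm.toLinearMap.comp (LinearMap.proj i))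
  let B : Γ(FlatMod.freeMod W n, (⊤ : W.Opens)) →ₗ[Γ(W, ⊤)] (Fin n → Γ(W, ⊤)) :=
    LinearMap.pi fun j => (secEquiv W).toLinearMap.comp (appLin (prj W n j) ⊤)
  have hA : Function.Injective A := by
    intro v w hvw
    funext i
    have h1 := congrArg (fun s => secEquiv W (appLin (prj W r i) ⊤ s)) hvw
    simp only [A, LinearMap.sum_apply, LinearMap.comp_apply, map_sum, prj_inc_apply,
      LinearMap.proj_apply, LinearEquiv.coe_coe] at h1
    simpa [Finset.sum_ite_eq', apply_ite] using h1
  have hB : Function.Injective B := by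
    intro s t hst
    have h1 : ∀ j, appLin (prj W n j) ⊤ s = appLin (prj W n j) ⊤ t := by
      intro j
      have := congrFun hst j
      simpa [B] using this
    have h2 : ∀ s : Γ(FlatMod.freeMod W n, (⊤ : W.Opens)),
        s = ∑ j, appLin (inc W n j) ⊤ (appLin (prj W n j) ⊤ s) := by
      intro s
      have h3 := congrArg (fun φ => appLin φ (⊤ : W.Opens) s) (sum_prj_inc W n)
      simp only [appLin_sum, appLin_comp, appLin_id, LinearMap.sum_apply, LinearMap.comp_apply,
        LinearMap.id_apply] at h3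
      exact h3.symm
    rw [h2 s, h2 t]
    exact Finset.sum_congr rfl fun j _ => by rw [h1 j]
  have hT : Function.Injective (B.comp ((appLin f ⊤).comp A)) :=
    hB.comp (hinj.comp hA)
  obtain ⟨x₀⟩ := ‹Nonempty W›
  have : Nonempty (((⊤ : W.Opens) : Scheme.{u})) := ⟨⟨x₀, trivial⟩⟩
  have : Nontrivial Γ(W, ⊤) := Scheme.component_nontrivial W ⊤
  exact le_of_fin_injective Γ(W, ⊤) _ hT

end Free

/-- restriction of a free module along an open immersion is free -/
noncomputable def restrictFreeIso {X Y : Scheme.{u}} (j : X ⟶ Y) [IsOpenImmersion j] (m : ℕ) :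
    (Scheme.Modules.restrictFunctor j).obj (FlatMod.freeMod Y m) ≅ FlatMod.freeMod X m :=
  PreservesCoproduct.iso (Scheme.Modules.restrictFunctor j) _ ≪≫
    Sigma.mapIso (fun _ => Scheme.Modules.restrictUnitIso j)

/-- a local trivialisation restricts to smaller opens -/
noncomputable def restrictTriv {M : X.Modules} {U W : X.Opens} (h : W ≤ U) (m : ℕ)
    (e : M.restrict U.ι ≅ FlatMod.freeMod (↑U) m) : M.restrict W.ι ≅ FlatMod.freeMod (↑W) m :=
  (Scheme.Modules.restrictFunctorCongr (X.homOfLE_ι h).symm).app M ≪≫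
    (Scheme.Modules.restrictFunctorComp (X.homOfLE h) U.ι).app M ≪≫
    (Scheme.Modules.restrictFunctor (X.homOfLE h)).mapIso e ≪≫
    restrictFreeIso (X.homOfLE h) m

/-- A monomorphism between finite locally free modules on a nonempty scheme does not raise the
rank. -/
theorem rank_le_of_mono [Nonempty X] {F E : X.Modules} (i : F ⟶ E) [Mono i] {r n : ℕ}
    (hF : FlatMod.IsFinLocFreeOfRank r F) (hE : FlatMod.IsFinLocFreeOfRank n E) : r ≤ n := by
  obtain ⟨x₀⟩ := ‹Nonempty X›
  obtain ⟨UF, hxF, ⟨eF⟩⟩ := hF x₀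
  obtain ⟨UE, hxE, ⟨eE⟩⟩ := hE x₀
  let W : X.Opens := UF ⊓ UE
  have hW : Nonempty (W : Scheme.{u}) := ⟨⟨x₀, hxF, hxE⟩⟩
  let isoF := restrictTriv (inf_le_left : W ≤ UF) r eF
  let isoE := restrictTriv (inf_le_right : W ≤ UE) n eE
  have : Mono ((Scheme.Modules.restrictFunctor W.ι).map i) := mono_restrict W.ι i
  have : Mono (isoF.inv ≫ (Scheme.Modules.restrictFunctor W.ι).map i ≫ isoE.hom) :=
    mono_comp _ _
  exact le_of_mono_free r n (isoF.inv ≫ (Scheme.Modules.restrictFunctor W.ι).map i ≫ isoE.hom)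

end Groth.Agent.H92.LocFreeRank
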