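import Mathlib
import Groth.Prelude.Def_HopfRep

/-!
# The smallest subcomodule containing a submodule, for an fpqc-locally projective coalgebra
(helper92)

`A` a commutative ring, `C` an `A`-coalgebra, `V` a `C`-comodule, `M ≤ V`, `B` a faithfully flat
`A`-algebra with `B ⊗ C` projective over `B`.  We put
`N' = B-span {Σ g(cᵢ) ⊗ vᵢ | g : C →ₗ[A] B, m ∈ M, ρ m = Σ vᵢ ⊗ cᵢ} ≤ B ⊗ V` and
`N = {v | 1 ⊗ v ∈ N'}`; then `N` is the smallest subcomodule containing `M`.

Main tools:
* `le_range_of_desc`: flat descent of submodules, in a one-sided concrete form;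
* `exists_expansion`: dual-basis expansion for the projective module `B ⊗ C`.
-/

set_option autoImplicit false

universe u

open TensorProduct

namespace Groth.Agent.H92.SubcomodDesc

section General

variable {A : Type u} [CommRing A] {B : Type u} [CommRing B] [Algebra A B]
variable {V : Type u} [AddCommGroup V] [Module A V]

/-- `σ_t : B ⊗ V → T ⊗ V`, `b ⊗ v ↦ (b • t) ⊗ v` -/
noncomputable def sig {T : Type u} [AddCommGroup T] [Module A T] [Module B T]
    [IsScalarTower A B T] (t : T) : B ⊗[A] V →ₗ[A] T ⊗[A] V :=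
  LinearMap.rTensor V ((LinearMap.toSpanSingleton B T t).restrictScalars A)

@[simp]
lemma sig_tmul {T : Type u} [AddCommGroup T] [Module A T] [Module B T]
    [IsScalarTower A B T] (t : T) (b : B) (v : V) :
    sig (A := A) t (b ⊗ₜ[A] v) = (b • t) ⊗ₜ[A] v := rfl

/-- `b ⊗ v ↦ (b ⊗ 1) ⊗ v` -/
noncomputable def tau1 : B ⊗[A] V →ₗ[A] (B ⊗[A] B) ⊗[A] V :=
  LinearMap.rTensor V
    (Algebra.TensorProduct.includeLeft (R := A) (S := A) (A := B) (B := B)).toLinearMap

/-- `b ⊗ v ↦ (1 ⊗ b) ⊗ v` -/
noncomputable def tau2 : B ⊗[A] V →ₗ[A] (B ⊗[A] B) ⊗[A] V :=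
  LinearMap.rTensor V
    (Algebra.TensorProduct.includeRight (R := A) (A := B) (B := B)).toLinearMap

@[simp]
lemma tau1_tmul (b : B) (v : V) : tau1 (A := A) (b ⊗ₜ[A] v) = (b ⊗ₜ[A] (1 : B)) ⊗ₜ[A] v := rfl

@[simp]
lemma tau2_tmul (b : B) (v : V) : tau2 (A := A) (b ⊗ₜ[A] v) = ((1 : B) ⊗ₜ[A] b) ⊗ₜ[A] v := rfl

/-- the descended submodule `{v | 1 ⊗ v ∈ N'}` -/
noncomputable def Nof (N' : Submodule B (B ⊗[A] V)) : Submodule A V :=
  (N'.restrictScalars A).comap (TensorProduct.mk A B V 1)

lemma mem_Nof {N' : Submodule B (B ⊗[A] V)} {v : V} :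
    v ∈ Nof N' ↔ (1 : B) ⊗ₜ[A] v ∈ N' := Iff.rfl

/-- the image of `B ⊗ N → B ⊗ V` lies in `N'` -/
lemma range_le (N' : Submodule B (B ⊗[A] V)) (x : B ⊗[A] (Nof N')) :
    LinearMap.lTensor B (Nof N').subtype x ∈ N' := by
  induction x using TensorProduct.induction_on with
  | zero => simp
  | tmul b n =>
    have h1 : (1 : B) ⊗ₜ[A] (n : V) ∈ N' := n.2
    have h2 : b • ((1 : B) ⊗ₜ[A] (n : V)) ∈ N' := N'.smul_mem b h1
    rw [TensorProduct.smul_tmul', smul_eq_mul, mul_one] at h2
    simpa using h2
  | add x y hx hy =>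
    rw [map_add]
    exact N'.add_mem hx hy

/-- **Flat descent of submodules** (one-sided form). -/
theorem le_range_of_desc [Module.Flat A B] (N' : Submodule B (B ⊗[A] V))
    (h : ∀ x ∈ N', tau2 x ∈ Submodule.span (B ⊗[A] B) (tau1 '' (N' : Set (B ⊗[A] V)))) :
    ∀ x ∈ N', x ∈ LinearMap.range (LinearMap.lTensor B (Nof N').subtype) := by
  classical
  let Q := (B ⊗[A] V) ⧸ N'
  let πA : B ⊗[A] V →ₗ[A] Q := (N'.mkQ).restrictScalars A
  let ι : V →ₗ[A] Q := πA ∘ₗ (TensorProduct.mk A B V 1)
  let Φ : (B ⊗[A] B) ⊗[A] V →ₗ[A] Q ⊗[A] B :=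
    (πA.rTensor B) ∘ₗ (TensorProduct.rightComm A B B V).toLinearMap
  have hπ : ∀ y : B ⊗[A] V, y ∈ N' → πA y = 0 := by
    intro y hy
    exact (Submodule.Quotient.mk_eq_zero N').mpr hy
  have K1 : ∀ (a b : B) (y : B ⊗[A] V),
      Φ ((a ⊗ₜ[A] b) • tau1 y) = (πA (a • y)) ⊗ₜ[A] b := by
    intro a b y
    induction y using TensorProduct.induction_on with
    | zero => simp
    | tmul c v =>
      rw [tau1_tmul, TensorProduct.smul_tmul', smul_eq_mul,
        Algebra.TensorProduct.tmul_mul_tmul, mul_one, TensorProduct.smul_tmul', smul_eq_mul]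
      rfl
    | add x y hx hy =>
      rw [map_add, smul_add, map_add, hx, hy, smul_add, map_add, TensorProduct.add_tmul]
  have K2 : ∀ (t : B ⊗[A] B) (y : B ⊗[A] V), y ∈ N' → Φ (t • tau1 y) = 0 := by
    intro t y hy
    induction t using TensorProduct.induction_on with
    | zero => simp
    | tmul a b =>
      rw [K1, hπ _ (N'.smul_mem a hy), TensorProduct.zero_tmul]
    | add s t hs ht =>
      rw [add_smul, map_add, hs, ht, add_zero]
  have K3' : ∀ w ∈ Submodule.span (B ⊗[A] B) (tau1 '' (N' : Set (B ⊗[A] V))),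
      ∀ t : B ⊗[A] B, Φ (t • w) = 0 := by
    intro w hw
    induction hw using Submodule.span_induction with
    | mem w hw =>
      obtain ⟨y, hy, rfl⟩ := hw
      intro t
      exact K2 t y hy
    | zero => intro t; simp
    | add x y _ _ hx hy => intro t; rw [smul_add, map_add, hx, hy, add_zero]
    | smul s x _ hx =>
      intro t
      rw [smul_smul]
      exact hx _
  have K3 : ∀ w ∈ Submodule.span (B ⊗[A] B) (tau1 '' (N' : Set (B ⊗[A] V))), Φ w = 0 := by
    intro w hw
    have := K3' w hw 1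
    rwa [one_smul] at this
  have K4 : ∀ x : B ⊗[A] V, Φ (tau2 x) = (ι.rTensor B) (TensorProduct.comm A B V x) := by
    intro x
    induction x using TensorProduct.induction_on with
    | zero => simp
    | tmul c v => rfl
    | add x y hx hy => rw [map_add, map_add, hx, hy, map_add, map_add]
  have hker : LinearMap.ker ι = Nof N' := by
    ext v
    rw [LinearMap.mem_ker, mem_Nof]
    exact Submodule.Quotient.mk_eq_zero N'
  have hex : Function.Exact (Nof N').subtype ι := by
    rw [LinearMap.exact_iff, hker, Submodule.range_subtype]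
  have hexB : Function.Exact ((Nof N').subtype.rTensor B) (ι.rTensor B) :=
    Module.Flat.rTensor_exact B hex
  intro x hx
  have h0 : (ι.rTensor B) (TensorProduct.comm A B V x) = 0 := by
    rw [← K4]
    exact K3 _ (h x hx)
  obtain ⟨z, hz⟩ := (hexB _).mp h0
  refine ⟨(TensorProduct.comm A B (Nof N')).symm z, ?_⟩
  apply (TensorProduct.comm A B V).injective
  rw [← hz]
  clear hz h0
  induction z using TensorProduct.induction_on with
  | zero => simp
  | tmul n b => rfl
  | add x y hx hy => simp only [map_add, hx, hy]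

end General

section Proj

variable {A : Type u} [CommRing A] {B : Type u} [CommRing B] [Algebra A B]
variable {V : Type u} [AddCommGroup V] [Module A V] {C : Type u} [AddCommGroup C] [Module A C]

/-- `v ⊗ c ↦ G c ⊗ v` -/
noncomputable def swapL {T : Type u} [AddCommGroup T] [Module A T] (G : C →ₗ[A] T) :
    V ⊗[A] C →ₗ[A] T ⊗[A] V :=
  (TensorProduct.comm A V T).toLinearMap ∘ₗ G.lTensor V

@[simp]
lemma swapL_tmul {T : Type u} [AddCommGroup T] [Module A T] (G : C →ₗ[A] T) (v : V) (c : C) :
    swapL G (v ⊗ₜ[A] c) = G c ⊗ₜ[A] v := rfl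

/-- **Dual basis expansion**: all the maps `swapL G` at a given `z` are combinations of finitely
many `swapL h`, `h : C → B`. -/
theorem exists_expansion [Module.Projective B (B ⊗[A] C)] (z : V ⊗[A] C) :
    ∃ (F : Finset (B ⊗[A] C)) (h : B ⊗[A] C → (C →ₗ[A] B)),
      ∀ (T : Type u) [AddCommGroup T] [Module A T] [Module B T] [IsScalarTower A B T]
        (G : C →ₗ[A] T),
        swapL G z = ∑ p ∈ F, sig (G.liftBaseChange B p) (swapL (h p) z) := by
  classical
  obtain ⟨s, hs⟩ := (Module.projective_def'.mp (inferInstance : Module.Projective B (B ⊗[A] C)))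
  obtain ⟨S, rfl⟩ := TensorProduct.exists_finset z
  let F : Finset (B ⊗[A] C) := S.biUnion fun i => (s ((1 : B) ⊗ₜ[A] i.2)).support
  let h : B ⊗[A] C → (C →ₗ[A] B) := fun p =>
    ((Finsupp.lapply p : (B ⊗[A] C →₀ B) →ₗ[B] B).restrictScalars A) ∘ₗ
      (s.restrictScalars A) ∘ₗ (TensorProduct.mk A B C 1)
  refine ⟨F, h, ?_⟩
  intro T _ _ _ _ G
  have key : ∀ i ∈ S, G i.2 = ∑ p ∈ F, (h p i.2) • (G.liftBaseChange B p) := by
    intro i hi
    have h1 : (1 : B) ⊗ₜ[A] i.2 = Finsupp.linearCombination B id (s ((1 : B) ⊗ₜ[A] i.2)) := by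
      have := congrArg (fun φ => φ ((1 : B) ⊗ₜ[A] i.2)) hs
      exact this.symm
    have h2 : G i.2 = G.liftBaseChange B ((1 : B) ⊗ₜ[A] i.2) := by
      rw [LinearMap.liftBaseChange_tmul, one_smul]
    rw [h2, h1, Finsupp.linearCombination_apply, Finsupp.sum, map_sum]
    rw [Finset.sum_subset (s₁ := (s ((1 : B) ⊗ₜ[A] i.2)).support) (s₂ := F)]
    · apply Finset.sum_congr rfl
      intro p _
      rw [map_smul]
      rfl
    · intro p hp
      exact Finset.mem_biUnion.mpr ⟨i, hi, hp⟩
    · intro p _ hp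
      rw [Finsupp.notMem_support_iff.mp hp, zero_smul, map_zero]
  simp only [map_sum, swapL_tmul, sig_tmul]
  rw [Finset.sum_comm]
  apply Finset.sum_congr rfl
  intro i hi
  rw [key i hi, TensorProduct.sum_tmul]

end Proj

section Main

open HopfRep

variable {A : Type u} [CommRing A] {C : Type u} [AddCommGroup C] [Module A C] [Coalgebra A C]
variable {V : Type u} [AddCommGroup V] [Module A V] [HopfRep.Comod A C V]
variable (B : Type u) [CommRing B] [Algebra A B]

/-- `Λ_g m = Σ g(cᵢ) ⊗ vᵢ` for `ρ m = Σ vᵢ ⊗ cᵢ` -/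
noncomputable def Lam (g : C →ₗ[A] B) : V →ₗ[A] B ⊗[A] V :=
  swapL g ∘ₗ (Comod.coact (k := A) (A := C) (V := V))

/-- the `B`-submodule of `B ⊗ V` spanned by the `Λ_g m` -/
noncomputable def Nprime (M : Submodule A V) : Submodule B (B ⊗[A] V) :=
  Submodule.span B {x | ∃ (g : C →ₗ[A] B) (m : V), m ∈ M ∧ x = Lam B g m}

/-- the candidate smallest subcomodule -/
noncomputable def Nmin (M : Submodule A V) : Submodule A V := Nof (Nprime (C := C) B M)

variable {B}

lemma Lam_mem (M : Submodule A V) (g : C →ₗ[A] B) {m : V} (hm : m ∈ M) :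
    Lam B g m ∈ Nprime (C := C) B M :=
  Submodule.subset_span ⟨g, m, hm, rfl⟩

/-- `M ≤ N` -/
theorem le_Nmin (M : Submodule A V) : M ≤ Nmin (C := C) B M := by
  intro m hm
  rw [Nmin, mem_Nof]
  have h1 : (1 : B) ⊗ₜ[A] m =
      Lam B ((Algebra.linearMap A B) ∘ₗ (CoalgebraStruct.counit (R := A) (A := C))) m := by
    have hc := congrArg (fun φ => φ m) (Comod.counit_comp (k := A) (A := C) (V := V))
    simp only [LinearMap.comp_apply, LinearMap.flip_apply, TensorProduct.mk_apply] at hc
    unfold Lam swapL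
    rw [LinearMap.comp_apply, LinearMap.comp_apply, LinearMap.lTensor_comp, LinearMap.comp_apply,
      hc]
    simp
  rw [h1]
  exact Lam_mem M _ hm

/-- minimality -/
theorem Nmin_le [Module.FaithfullyFlat A B] (M : Submodule A V) (W : Submodule A V)
    (hW : IsSubcomod (k := A) (A := C) W) (hMW : M ≤ W) : Nmin (C := C) B M ≤ W := by
  have h1 : Nprime (C := C) B M ≤
      LinearMap.range (LinearMap.baseChange B W.subtype) := by
    apply Submodule.span_le.mpr
    rintro x ⟨g, m, hm, rfl⟩
    obtain ⟨z, hz⟩ := hW m (hMW hm)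
    refine ⟨swapL g z, ?_⟩
    unfold Lam
    rw [LinearMap.comp_apply, ← hz]
    clear hz
    induction z using TensorProduct.induction_on with
    | zero => simp
    | tmul w c => rfl
    | add x y hx hy => simp only [map_add, hx, hy]
  intro v hv
  rw [Nmin, mem_Nof] at hv
  obtain ⟨y, hy⟩ := h1 hv
  have h2 : (LinearMap.lTensor B W.mkQ) ((1 : B) ⊗ₜ[A] v) = 0 := by
    rw [← hy]
    clear hy
    induction y using TensorProduct.induction_on with
    | zero => simp
    | tmul b w =>
      simp only [LinearMap.baseChange_tmul, LinearMap.lTensor_tmul, Submodule.subtype_apply,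
        Submodule.mkQ_apply]
      rw [(Submodule.Quotient.mk_eq_zero W).mpr w.2, TensorProduct.tmul_zero]
    | add x y hx hy => simp only [map_add, hx, hy, add_zero]
  rw [LinearMap.lTensor_tmul] at h2
  have h3 : W.mkQ v = 0 := by
    apply Module.FaithfullyFlat.tensorProduct_mk_injective (A := A) (B := B) (V ⧸ W)
    rw [TensorProduct.mk_apply, h2, map_zero]
  exact (Submodule.Quotient.mk_eq_zero W).mp h3

variable [Module.Projective B (B ⊗[A] C)]

/-- the descent condition for `N'` -/
theorem Nprime_desc (M : Submodule A V) :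
    ∀ x ∈ Nprime (C := C) B M, tau2 x ∈
      Submodule.span (B ⊗[A] B) (tau1 '' (Nprime (C := C) B M : Set (B ⊗[A] V))) := by
  intro x hx
  induction hx using Submodule.span_induction with
  | mem x hx =>
    obtain ⟨g, m, hm, rfl⟩ := hx
    obtain ⟨F, h, hF⟩ := exists_expansion (B := B) (Comod.coact (k := A) (A := C) m)
    have h1 : tau2 (Lam B g m) =
        swapL ((Algebra.TensorProduct.includeRight (R := A) (A := B) (B := B)).toLinearMap ∘ₗ g)
          (Comod.coact (k := A) (A := C) m) := by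
      unfold Lam
      rw [LinearMap.comp_apply]
      generalize Comod.coact (k := A) (A := C) m = z
      induction z using TensorProduct.induction_on with
      | zero => simp
      | tmul v c => rfl
      | add x y hx hy => simp only [map_add, hx, hy]
    rw [h1, hF (B ⊗[A] B)]
    apply Submodule.sum_mem
    intro p _
    have h2 : ∀ (t : B ⊗[A] B) (y : B ⊗[A] V), sig t y = t • tau1 y := by
      intro t y
      induction y using TensorProduct.induction_on with
      | zero => simp
      | tmul b v =>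
        rw [sig_tmul, tau1_tmul, TensorProduct.smul_tmul', smul_eq_mul]
        congr 1
        induction t using TensorProduct.induction_on with
        | zero => simp
        | tmul t1 t2 =>
          rw [TensorProduct.smul_tmul', smul_eq_mul, Algebra.TensorProduct.tmul_mul_tmul, mul_one,
            mul_comm]
        | add s t hs ht => rw [smul_add, hs, ht, add_mul]
      | add x y hx hy => rw [map_add, map_add, smul_add, hx, hy]
    rw [h2]
    apply Submodule.smul_mem
    apply Submodule.subset_span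
    exact ⟨_, Lam_mem M (h p) hm, rfl⟩
  | zero => simp
  | add x y _ _ hx hy =>
    rw [map_add]
    exact Submodule.add_mem _ hx hy
  | smul b x _ hx =>
    have h3 : ∀ x : B ⊗[A] V, tau2 (A := A) (b • x) = ((1 : B) ⊗ₜ[A] b) • tau2 x := by
      intro x
      induction x using TensorProduct.induction_on with
      | zero => simp
      | tmul c v =>
        rw [TensorProduct.smul_tmul', smul_eq_mul, tau2_tmul, tau2_tmul,
          TensorProduct.smul_tmul', smul_eq_mul, Algebra.TensorProduct.tmul_mul_tmul, mul_one]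
      | add x y hx hy => rw [smul_add, map_add, hx, hy, map_add, smul_add]
    rw [h3]
    exact Submodule.smul_mem _ _ hx

/-- `N' = B ⊗ N` -/
theorem Nprime_eq [Module.Flat A B] (M : Submodule A V) :
    ∀ x ∈ Nprime (C := C) B M,
      x ∈ LinearMap.range (LinearMap.lTensor B (Nmin (C := C) B M).subtype) :=
  le_range_of_desc _ (Nprime_desc M)


/-! ### `N` is a subcomodule -/

omit [Module.Projective B (B ⊗[A] C)] in
/-- `E : (B ⊗ C) ⊗ V → B ⊗ ((V/N) ⊗ C)`, `(b ⊗ c) ⊗ v ↦ b ⊗ (q v ⊗ c)` -/
noncomputable def Emap (N : Submodule A V) :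
    (B ⊗[A] C) ⊗[A] V →ₗ[A] B ⊗[A] ((V ⧸ N) ⊗[A] C) :=
  (LinearMap.lTensor B ((N.mkQ.rTensor C) ∘ₗ (TensorProduct.comm A C V).toLinearMap)) ∘ₗ
    (TensorProduct.assoc A B C V).toLinearMap

omit [Module.Projective B (B ⊗[A] C)] in
lemma Emap_tmul (N : Submodule A V) (b : B) (c : C) (v : V) :
    Emap N ((b ⊗ₜ[A] c) ⊗ₜ[A] v) = b ⊗ₜ[A] (N.mkQ v ⊗ₜ[A] c) := rfl

omit [Module.Projective B (B ⊗[A] C)] in
lemma Emap_zero (N : Submodule A V) (s : B ⊗[A] C) (n : V) (hn : n ∈ N) :
    Emap N (s ⊗ₜ[A] n) = 0 := by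
  induction s using TensorProduct.induction_on with
  | zero => simp
  | tmul b c =>
    rw [Emap_tmul, Submodule.mkQ_apply, (Submodule.Quotient.mk_eq_zero N).mpr hn,
      TensorProduct.zero_tmul, TensorProduct.tmul_zero]
  | add x y hx hy => rw [TensorProduct.add_tmul, map_add, hx, hy, add_zero]

omit [Module.Projective B (B ⊗[A] C)] in
lemma Emap_sig_zero (N : Submodule A V) (t : B ⊗[A] C) (x : B ⊗[A] N) :
    Emap N (sig t (LinearMap.lTensor B N.subtype x)) = 0 := by
  induction x using TensorProduct.induction_on with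
  | zero => simp
  | tmul b n =>
    rw [LinearMap.lTensor_tmul, sig_tmul]
    exact Emap_zero N _ _ n.2
  | add x y hx hy => rw [map_add, map_add, map_add, hx, hy, add_zero]

omit [Module.Projective B (B ⊗[A] C)] in
/-- `G_g : C → B ⊗ C`, `c ↦ Σ g(c'') ⊗ c'` -/
noncomputable def Gof (g : C →ₗ[A] B) : C →ₗ[A] B ⊗[A] C :=
  (TensorProduct.comm A C B).toLinearMap ∘ₗ (g.lTensor C) ∘ₗ
    (CoalgebraStruct.comul (R := A) (A := C))

omit [Module.Projective B (B ⊗[A] C)] in
/-- the key computation using coassociativity -/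
lemma Theta_Lam (N : Submodule A V) (g : C →ₗ[A] B) (m : V) :
    (LinearMap.lTensor B ((N.mkQ.rTensor C) ∘ₗ (Comod.coact (k := A) (A := C) (V := V))))
      (Lam B g m) = Emap N (swapL (Gof g) (Comod.coact (k := A) (A := C) m)) := by
  let ρ : V →ₗ[A] V ⊗[A] C := Comod.coact (k := A) (A := C) (V := V)
  let Ξ : (V ⊗[A] C) ⊗[A] C →ₗ[A] B ⊗[A] ((V ⧸ N) ⊗[A] C) :=
    (TensorProduct.comm A ((V ⧸ N) ⊗[A] C) B).toLinearMap ∘ₗ
      (TensorProduct.map (N.mkQ.rTensor C) g)
  have hI : ∀ z : V ⊗[A] C,
      (LinearMap.lTensor B ((N.mkQ.rTensor C) ∘ₗ ρ)) (swapL g z) = Ξ (ρ.rTensor C z) := by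
    intro z
    induction z using TensorProduct.induction_on with
    | zero => simp
    | tmul v c => rfl
    | add x y hx hy => simp only [map_add, hx, hy]
  have hII0 : ∀ (v : V) (d : C ⊗[A] C),
      Ξ ((TensorProduct.assoc A V C C).symm (v ⊗ₜ[A] d)) =
        Emap N (((TensorProduct.comm A C B) (g.lTensor C d)) ⊗ₜ[A] v) := by
    intro v d
    induction d using TensorProduct.induction_on with
    | zero => simp
    | tmul c' c'' => rfl
    | add x y hx hy =>
      rw [TensorProduct.tmul_add, map_add, map_add, hx, hy, map_add, map_add,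
        TensorProduct.add_tmul, map_add]
  have hII : ∀ z : V ⊗[A] C,
      Ξ ((TensorProduct.assoc A V C C).symm
        ((CoalgebraStruct.comul (R := A) (A := C)).lTensor V z)) = Emap N (swapL (Gof g) z) := by
    intro z
    induction z using TensorProduct.induction_on with
    | zero => simp
    | tmul v c =>
      rw [LinearMap.lTensor_tmul, hII0]
      rfl
    | add x y hx hy => simp only [map_add, hx, hy]
  have hco : ρ.rTensor C (ρ m) = (TensorProduct.assoc A V C C).symm
      ((CoalgebraStruct.comul (R := A) (A := C)).lTensor V (ρ m)) := by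
    rw [LinearEquiv.eq_symm_apply]
    exact congrArg (fun φ => φ m) (Comod.coassoc (k := A) (A := C) (V := V))
  change (LinearMap.lTensor B ((N.mkQ.rTensor C) ∘ₗ ρ)) (swapL g (ρ m)) = _
  rw [hI, hco, hII]

/-- **`N` is a subcomodule.** -/
theorem isSubcomod_Nmin [Module.FaithfullyFlat A B] (M : Submodule A V) :
    IsSubcomod (k := A) (A := C) (Nmin (C := C) B M) := by
  set N := Nmin (C := C) B M with hN
  let θ : V →ₗ[A] (V ⧸ N) ⊗[A] C :=
    (N.mkQ.rTensor C) ∘ₗ (Comod.coact (k := A) (A := C) (V := V))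
  let Θ : B ⊗[A] V →ₗ[B] B ⊗[A] ((V ⧸ N) ⊗[A] C) := θ.baseChange B
  have hΘ : ∀ x, Θ x = LinearMap.lTensor B θ x := by
    intro x
    rw [← LinearMap.baseChange_eq_ltensor]
  have hgen : ∀ (g : C →ₗ[A] B) (m : V), m ∈ M → Θ (Lam B g m) = 0 := by
    intro g m hm
    rw [hΘ, Theta_Lam N g m]
    obtain ⟨F, h, hF⟩ := exists_expansion (B := B) (Comod.coact (k := A) (A := C) m)
    rw [hF (B ⊗[A] C), map_sum]
    apply Finset.sum_eq_zero
    intro p _
    obtain ⟨x, hx⟩ := Nprime_eq (B := B) (C := C) M _ (Lam_mem M (h p) hm)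
    have : swapL (h p) (Comod.coact (k := A) (A := C) m) = Lam B (h p) m := rfl
    rw [this, ← hx]
    exact Emap_sig_zero N _ x
  have hN' : ∀ x ∈ Nprime (C := C) B M, Θ x = 0 := by
    intro x hx
    induction hx using Submodule.span_induction with
    | mem x hx =>
      obtain ⟨g, m, hm, rfl⟩ := hx
      exact hgen g m hm
    | zero => simp
    | add x y _ _ hx hy => rw [map_add, hx, hy, add_zero]
    | smul b x _ hx => rw [map_smul, hx, smul_zero]
  intro v hv
  have h1 : Θ ((1 : B) ⊗ₜ[A] v) = 0 := hN' _ hv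
  rw [LinearMap.baseChange_tmul] at h1
  have h2 : θ v = 0 := by
    apply Module.FaithfullyFlat.tensorProduct_mk_injective (A := A) (B := B) ((V ⧸ N) ⊗[A] C)
    rw [TensorProduct.mk_apply, h1, map_zero]
  have h3 : Comod.coact (k := A) (A := C) v ∈ LinearMap.ker (N.mkQ.rTensor C) := h2
  rw [rTensor_mkQ] at h3
  exact h3

/-! ### finite generation -/

/-- `N'` is finitely generated when `M` is. -/
theorem Nprime_fg (M : Submodule A V) (hM : M.FG) : (Nprime (C := C) B M).FG := by
  classical
  obtain ⟨S, rfl⟩ := hM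
  choose F h hF using fun m : V => exists_expansion (B := B) (Comod.coact (k := A) (A := C) m)
  let Gen : Finset (B ⊗[A] V) := S.biUnion fun m => (F m).image fun p => Lam B (h m p) m
  refine ⟨Gen, ?_⟩
  apply le_antisymm
  · apply Submodule.span_le.mpr
    intro x hx
    obtain ⟨m, hm, hx⟩ := Finset.mem_biUnion.mp hx
    obtain ⟨p, _, rfl⟩ := Finset.mem_image.mp hx
    exact Lam_mem _ _ (Submodule.subset_span hm)
  · apply Submodule.span_le.mpr
    rintro x ⟨g, m, hm, rfl⟩
    have hsig : ∀ (t : B) (y : B ⊗[A] V), sig t y = t • y := by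
      intro t y
      induction y using TensorProduct.induction_on with
      | zero => simp
      | tmul b v =>
        rw [sig_tmul, TensorProduct.smul_tmul', smul_eq_mul, smul_eq_mul, mul_comm]
      | add x y hx hy => rw [map_add, smul_add, hx, hy]
    induction hm using Submodule.span_induction with
    | mem m hm =>
      have := hF m B g
      change Lam B g m = _ at this
      rw [this]
      apply Submodule.sum_mem
      intro p hp
      rw [hsig]
      apply Submodule.smul_mem
      apply Submodule.subset_span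
      exact Finset.mem_biUnion.mpr ⟨m, hm, Finset.mem_image.mpr ⟨p, hp, rfl⟩⟩
    | zero => simp
    | add x y _ _ hx hy =>
      rw [map_add]
      exact Submodule.add_mem _ hx hy
    | smul a x _ hx =>
      rw [map_smul, ← algebraMap_smul B a]
      exact Submodule.smul_mem _ _ hx

/-- **`N` is finitely generated when `M` is.** -/
theorem Nmin_fg [Module.FaithfullyFlat A B] (M : Submodule A V) (hM : M.FG) :
    (Nmin (C := C) B M).FG := by
  set N := Nmin (C := C) B M with hN
  have hinj : Function.Injective (LinearMap.baseChange B N.subtype) := by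
    rw [LinearMap.baseChange_eq_ltensor]
    exact Module.Flat.lTensor_preserves_injective_linearMap _ N.injective_subtype
  have hrange : LinearMap.range (LinearMap.baseChange B N.subtype) = Nprime (C := C) B M := by
    apply le_antisymm
    · rintro _ ⟨x, rfl⟩
      have := range_le (Nprime (C := C) B M) x
      rwa [← LinearMap.baseChange_eq_ltensor] at this
    · intro x hx
      obtain ⟨y, hy⟩ := Nprime_eq (B := B) (C := C) M x hx
      refine ⟨y, ?_⟩
      rw [← hy, ← LinearMap.baseChange_eq_ltensor]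
  have hfin : Module.Finite B (B ⊗[A] N) := by
    have e : (B ⊗[A] N) ≃ₗ[B] (Nprime (C := C) B M) :=
      (LinearEquiv.ofInjective _ hinj).trans (LinearEquiv.ofEq _ _ hrange)
    have : Module.Finite B (Nprime (C := C) B M) :=
      Module.Finite.iff_fg.mpr (Nprime_fg M hM)
    exact Module.Finite.equiv e.symm
  have : Module.Finite A N := Module.Finite.of_finite_tensorProduct_of_faithfullyFlat B
  exact Module.Finite.iff_fg.mp this

/-- **Main theorem**: the smallest subcomodule containing `M`. -/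
theorem main [Module.FaithfullyFlat A B] (M : Submodule A V) :
    ∃ W : Submodule A V, IsSubcomod (k := A) (A := C) W ∧ M ≤ W ∧
      (∀ W' : Submodule A V, IsSubcomod (k := A) (A := C) W' → M ≤ W' → W ≤ W') ∧
      (M.FG → W.FG) :=
  ⟨Nmin (C := C) B M, isSubcomod_Nmin M, le_Nmin M, fun W' hW' hM => Nmin_le M W' hW' hM,
    Nmin_fg M⟩

end Main

end Groth.Agent.H92.SubcomodDesc
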