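import Groth.Agent.H5.Stalk.Tensor
import Groth.Agent.H5.Stalk.Acyclic
import Groth.Agent.H18.ResProp.Ample

/-!
helper92: tensoring with a flat `O_X`-module (`FlatMod.IsFlat`, stalkwise flatness) preserves short
exact sequences of `O_X`-modules.  Proof on stalks via helper5's `stalkTensorIso`.
-/

set_option autoImplicit false
set_option linter.style.haveILetI false
universe u
open CategoryTheory CategoryTheory.Limits AlgebraicGeometry MonoidalCategory

namespace Groth.Agent.H92.TwistExact

open Groth.Agent.H5.Stalk Groth.Agent.H5.Stalk.Tensor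

variable {X : Scheme.{u}}

/-- the functor `- ⊗ N` on `O_X`-modules -/
noncomputable abbrev tensorRightMod (N : X.Modules) : X.Modules ⥤ X.Modules :=
  (DCoh.tensorBi (X := X)).flip.obj N

lemma tensorRightMod_obj (N M : X.Modules) : (tensorRightMod N).obj M = CohB1.tensorMod M N := rfl

lemma tensorRightMod_map (N : X.Modules) {M M' : X.Modules} (φ : M ⟶ M') :
    (tensorRightMod N).map φ = KoszTw.tensorMap φ (𝟙 N) :=
  KoszTw.tensorBi_map_app φ N

instance (N : X.Modules) : (tensorRightMod N).Additive where
  map_add {M M' f g} := by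
    change ((DCoh.tensorBi (X := X)).map (f + g)).app N =
      ((DCoh.tensorBi (X := X)).map f).app N + ((DCoh.tensorBi (X := X)).map g).app N
    rw [Functor.map_add]
    rfl

/-- stalkwise: `(M ⊗ N)_x → (M' ⊗ N)_x` is `M_x ⊗ N_x → M'_x ⊗ N_x` -/
lemma stalk_map_tensorRight (x : X) (N : X.Modules) {M M' : X.Modules} (φ : M ⟶ M') :
    (stalkFunctor x).map ((tensorRightMod N).map φ) ≫ (stalkTensorIso x M' N).hom =
      (stalkTensorIso x M N).hom ≫ ((stalkFunctor x).map φ ▷ (stalkFunctor x).obj N) :=
  stalkTensorIso_hom_naturality_left x φ N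

/-- the comparison of short complexes of stalks -/
noncomputable def stalkScIso (x : X) (N : X.Modules) (S : ShortComplex X.Modules) :
    (S.map (tensorRightMod N)).map (stalkFunctor x) ≅
      (S.map (stalkFunctor x)).map (tensorRight ((stalkFunctor x).obj N)) :=
  ShortComplex.isoMk (stalkTensorIso x S.X₁ N) (stalkTensorIso x S.X₂ N) (stalkTensorIso x S.X₃ N)
    (stalk_map_tensorRight x N S.f).symm (stalk_map_tensorRight x N S.g).symm

/-- **tensoring with a flat module is exact** -/
theorem shortExact_map_tensorRightMod (N : X.Modules) (hN : FlatMod.IsFlat N)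
    (S : ShortComplex X.Modules) (hS : S.ShortExact) :
    (S.map (tensorRightMod N)).ShortExact := by
  have hflat : ∀ x : X, Module.Flat (X.presheaf.stalk x) ((stalkFunctor x).obj N) := fun x => hN x
  have hx : ∀ x : X, ((S.map (stalkFunctor x)).map
      (tensorRight ((stalkFunctor x).obj N))).ShortExact := by
    intro x
    have h1 := stalkFunctor_map_shortExact x S hS
    haveI := hflat x
    haveI := h1.mono_f
    haveI := h1.epi_g
    refine ShortComplex.ShortExact.mk'
      (Module.Flat.rTensor_shortComplex_exact _ _ h1.exact) ?_ ?_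
    · change Mono ((S.map (stalkFunctor x)).f ▷ (stalkFunctor x).obj N)
      rw [ModuleCat.mono_iff_injective]
      exact Module.Flat.rTensor_preserves_injective_linearMap _
        ((ModuleCat.mono_iff_injective _).1 inferInstance)
    · change Epi ((S.map (stalkFunctor x)).g ▷ (stalkFunctor x).obj N)
      rw [ModuleCat.epi_iff_surjective]
      exact LinearMap.rTensor_surjective _ ((ModuleCat.epi_iff_surjective _).1 inferInstance)
  have hx' : ∀ x : X, ((S.map (tensorRightMod N)).map (stalkFunctor x)).ShortExact := fun x =>
    ShortComplex.shortExact_of_iso (stalkScIso x N S).symm (hx x)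
  haveI := hS.epi_g
  refine ShortComplex.ShortExact.mk' ?_ ?_ ?_
  · rw [shortComplex_exact_iff_stalk]
    exact fun x => (hx' x).exact
  · exact mono_of_mono_stalkFunctor_map _ (fun x => (hx' x).mono_f)
  · change Epi ((tensorRightMod N).map S.g)
    rw [tensorRightMod_map]
    exact Groth.Agent.H18.ResProp.epi_tensorMap_left S.g N

end Groth.Agent.H92.TwistExact
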