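import Mathlib

/-!
helper92: for a short exact sequence `0 → F → E → G → 0` in an abelian category and a subobject
`S ≤ E`, the sequence `0 → i⁻¹(S) → S → p(S) → 0` (pulled-back subobject, image subobject) is short
exact, and `i⁻¹(S) → S` is a kernel of `S → E → G`.
Used for the additivity of parabolic Hilbert functions.
-/

set_option autoImplicit false
universe v u
open CategoryTheory CategoryTheory.Limits

namespace Groth.Agent.H92.ParSES

variable {C : Type u} [Category.{v} C] [Abelian C]

/-- the map `i⁻¹(S) ⟶ S` -/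
noncomputable abbrev pbMap {F E : C} (i : F ⟶ E) (S : Subobject E) :
    ((Subobject.pullback i).obj S : C) ⟶ (S : C) := Subobject.pullbackπ i S

/-- the map `S ⟶ p(S)` -/
noncomputable abbrev imMap {E G : C} (p : E ⟶ G) (S : Subobject E) :
    (S : C) ⟶ (imageSubobject (S.arrow ≫ p) : C) := factorThruImageSubobject (S.arrow ≫ p)

lemma pbMap_comp {F E G : C} (i : F ⟶ E) (p : E ⟶ G) (w : i ≫ p = 0) (S : Subobject E) :
    pbMap i S ≫ (S.arrow ≫ p) = 0 := by
  rw [← Category.assoc, (Subobject.isPullback i S).w, Category.assoc, w, comp_zero]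

lemma pbMap_imMap {F E G : C} (i : F ⟶ E) (p : E ⟶ G) (w : i ≫ p = 0) (S : Subobject E) :
    pbMap i S ≫ imMap p S = 0 := by
  rw [← cancel_mono (imageSubobject (S.arrow ≫ p)).arrow, Category.assoc, zero_comp,
    imageSubobject_arrow_comp, pbMap_comp i p w S]

lemma mono_pbMap {F E : C} (i : F ⟶ E) [Mono i] (S : Subobject E) : Mono (pbMap i S) := by
  have : Mono (pbMap i S ≫ S.arrow) := by
    rw [(Subobject.isPullback i S).w]
    infer_instance
  exact mono_of_mono (pbMap i S) S.arrow

/-- `i⁻¹(S) → S` is a kernel of `S → E → G` -/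
noncomputable def isKernelPb {F E G : C} (i : F ⟶ E) (p : E ⟶ G) (w : i ≫ p = 0)
    (h : (ShortComplex.mk i p w).ShortExact) (S : Subobject E) :
    IsLimit (KernelFork.ofι (pbMap i S) (pbMap_comp i p w S)) := by
  have hmi : Mono i := h.mono_f
  have hma : Mono (pbMap i S) := mono_pbMap i S
  have hker : IsLimit (KernelFork.ofι i w) := h.fIsKernel
  refine KernelFork.IsLimit.ofι _ _
    (fun {T} t ht => (Subobject.isPullback i S).lift t
      (hker.lift (KernelFork.ofι (t ≫ S.arrow) (by rw [Category.assoc]; exact ht)))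
      ((hker.fac (KernelFork.ofι (t ≫ S.arrow) (by rw [Category.assoc]; exact ht))
        WalkingParallelPair.zero).symm))
    (fun {T} t ht => ?_) (fun {T} t ht m hm => ?_)
  · exact (Subobject.isPullback i S).lift_fst _ _ _
  · rw [← cancel_mono (pbMap i S), hm]
    exact ((Subobject.isPullback i S).lift_fst _ _ _).symm

/-- **the short exact sequence `0 → i⁻¹(S) → S → p(S) → 0`** -/
theorem shortExact_pb_im {F E G : C} (i : F ⟶ E) (p : E ⟶ G) (w : i ≫ p = 0)
    (h : (ShortComplex.mk i p w).ShortExact) (S : Subobject E) :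
    (ShortComplex.mk (pbMap i S) (imMap p S) (pbMap_imMap i p w S)).ShortExact := by
  have hmi : Mono i := h.mono_f
  have hma : Mono (pbMap i S) := mono_pbMap i S
  refine ShortComplex.ShortExact.mk' ?_ hma inferInstance
  apply ShortComplex.exact_of_f_is_kernel
  refine KernelFork.IsLimit.ofι _ _
    (fun {T} t ht => (isKernelPb i p w h S).lift (KernelFork.ofι t (by
      have := congrArg (· ≫ (imageSubobject (S.arrow ≫ p)).arrow) ht
      simpa using this)))
    (fun {T} t ht => ?_) (fun {T} t ht m hm => ?_)
  · exact (isKernelPb i p w h S).fac _ WalkingParallelPair.zero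
  · rw [← cancel_mono (pbMap i S), hm]
    exact ((isKernelPb i p w h S).fac (KernelFork.ofι t _) WalkingParallelPair.zero).symm

end Groth.Agent.H92.ParSES
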