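import Groth.Prelude.Def_ParBun
import Groth.Agent.H92.ParSES

/-!
helper92: bookkeeping for `ParSh.Str.parSum`: the weighted sum only depends on the values of the
function on the extended pieces `pieceX j`; descriptions of `parSum` for the induced and coinduced
structures; the two algebraic identities behind the additivity of parabolic Hilbert functions and
their expression through the quotients `E / E_j`.
-/

set_option autoImplicit false
universe v u
open CategoryTheory CategoryTheory.Limits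

namespace Groth.Agent.H92.ParSum

open ParSh

variable {C : Type u} [Category.{v} C]

/-- the weighted sum attached to a real function on subobjects -/
noncomputable def parSumOf {E : C} (𝓔 : Str E) (φ : Subobject E → ℝ) : ℝ :=
  φ 𝓔.bot + ∑ j : Fin (𝓔.l + 1), 𝓔.wt j * (φ (𝓔.piece j) - φ (𝓔.pieceX j.succ))

lemma parSum_eq_parSumOf {E : C} (𝓔 : Str E) (f : C → ℝ) :
    𝓔.parSum f = parSumOf 𝓔 (fun S => f (S : C)) := rfl

/-- `parSumOf` only depends on the values on the extended pieces, and is additive -/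
lemma parSumOf_add {E : C} (𝓔 : Str E) (φ φ₁ φ₂ : Subobject E → ℝ)
    (h : ∀ j, φ (𝓔.pieceX j) = φ₁ (𝓔.pieceX j) + φ₂ (𝓔.pieceX j)) :
    parSumOf 𝓔 φ = parSumOf 𝓔 φ₁ + parSumOf 𝓔 φ₂ := by
  have hb : φ 𝓔.bot = φ₁ 𝓔.bot + φ₂ 𝓔.bot := by
    have := h (Fin.last (𝓔.l + 1))
    simpa using this
  have hp : ∀ j : Fin (𝓔.l + 1), φ (𝓔.piece j) = φ₁ (𝓔.piece j) + φ₂ (𝓔.piece j) := by
    intro j
    have := h j.castSucc
    simpa using this
  unfold parSumOf
  rw [hb, add_add_add_comm, ← Finset.sum_add_distrib]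
  congr 1
  refine Finset.sum_congr rfl (fun j _ => ?_)
  rw [hp j, h j.succ]
  ring

section Induced

variable [HasPullbacks C]

lemma induced_pieceX {E F : C} (𝓔 : Str E) (i : F ⟶ E) (j : Fin (𝓔.l + 2)) :
    (𝓔.induced i).pieceX j = (Subobject.pullback i).obj (𝓔.pieceX j) := by
  induction j using Fin.lastCases with
  | last =>
    rw [𝓔.pieceX_last]
    exact (𝓔.induced i).pieceX_last
  | cast j =>
    rw [𝓔.pieceX_castSucc]
    exact (𝓔.induced i).pieceX_castSucc j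

lemma parSum_induced {E F : C} (𝓔 : Str E) (i : F ⟶ E) (f : C → ℝ) :
    (𝓔.induced i).parSum f = parSumOf 𝓔 (fun S => f ((Subobject.pullback i).obj S : C)) := by
  change f ((𝓔.induced i).bot : C) + ∑ j : Fin (𝓔.l + 1), 𝓔.wt j *
    (f ((𝓔.induced i).piece j : C) - f ((𝓔.induced i).pieceX j.succ : C)) = _
  unfold parSumOf
  congr 1
  refine Finset.sum_congr rfl (fun j _ => ?_)
  rw [induced_pieceX]
  rfl

end Induced

section Coinduced

variable [HasImages C] [HasEqualizers C] [Balanced C]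

lemma coinduced_pieceX {E G : C} (𝓔 : Str E) (p : E ⟶ G) [Epi p] (j : Fin (𝓔.l + 2)) :
    (𝓔.coinduced p).pieceX j = imageSubobject ((𝓔.pieceX j).arrow ≫ p) := by
  induction j using Fin.lastCases with
  | last =>
    rw [𝓔.pieceX_last]
    exact (𝓔.coinduced p).pieceX_last
  | cast j =>
    rw [𝓔.pieceX_castSucc]
    exact (𝓔.coinduced p).pieceX_castSucc j

lemma parSum_coinduced {E G : C} (𝓔 : Str E) (p : E ⟶ G) [Epi p] (f : C → ℝ) :
    (𝓔.coinduced p).parSum f = parSumOf 𝓔 (fun S => f (imageSubobject (S.arrow ≫ p) : C)) := by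
  change f ((𝓔.coinduced p).bot : C) + ∑ j : Fin (𝓔.l + 1), 𝓔.wt j *
    (f ((𝓔.coinduced p).piece j : C) - f ((𝓔.coinduced p).pieceX j.succ : C)) = _
  unfold parSumOf
  congr 1
  refine Finset.sum_congr rfl (fun j _ => ?_)
  rw [coinduced_pieceX]
  rfl

end Coinduced

/-- **additivity of `parSum` on a parabolic extension**, given additivity of the function on the
sequences `0 → i⁻¹(S) → S → p(S) → 0` for the extended pieces `S` -/
theorem parSum_add_of_parExt [Abelian C] {F E G : C} (i : F ⟶ E) (p : E ⟶ G) [Epi p]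
    (𝓕 : Str F) (𝓔 : Str E) (𝓖 : Str G) (hext : IsParExt i p 𝓕 𝓔 𝓖) (f : C → ℝ)
    (hadd : ∀ j, f (𝓔.pieceX j : C) = f ((Subobject.pullback i).obj (𝓔.pieceX j) : C) +
      f (imageSubobject ((𝓔.pieceX j).arrow ≫ p) : C)) :
    𝓕.parSum f + 𝓖.parSum f = 𝓔.parSum f := by
  obtain ⟨w, hse, rfl, rfl⟩ := hext
  rw [parSum_induced, parSum_coinduced, parSum_eq_parSumOf]
  exact (parSumOf_add 𝓔 _ _ _ hadd).symm

/-- **the weighted sum through the quotients**: if `φ(E_j) = c - h_j` with `h_0 = 0` then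
`parSumOf = c - Σ_j (w_{j+1} - w_j) h_{j+1}` (`w_{l+1} = 1`) -/
theorem parSumOf_eq_sub {E : C} (𝓔 : Str E) (φ : Subobject E → ℝ) (c : ℝ)
    (h : Fin (𝓔.l + 2) → ℝ) (hφ : ∀ j, φ (𝓔.pieceX j) = c - h j) (h0 : h 0 = 0) :
    parSumOf 𝓔 φ = c - ∑ j : Fin (𝓔.l + 1), (𝓔.wtX j.succ - 𝓔.wtX j.castSucc) * h j.succ := by
  have hb : φ 𝓔.bot = c - h (Fin.last (𝓔.l + 1)) := by
    have := hφ (Fin.last (𝓔.l + 1))
    simpa using this
  have hp : ∀ j : Fin (𝓔.l + 1), φ (𝓔.piece j) = c - h j.castSucc := by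
    intro j
    have := hφ j.castSucc
    simpa using this
  unfold parSumOf
  rw [hb]
  have h1 : ∑ j : Fin (𝓔.l + 1), 𝓔.wt j * (φ (𝓔.piece j) - φ (𝓔.pieceX j.succ)) =
      ∑ j : Fin (𝓔.l + 1), (𝓔.wtX j.castSucc * h j.succ - 𝓔.wtX j.castSucc * h j.castSucc) := by
    refine Finset.sum_congr rfl (fun j _ => ?_)
    rw [hp j, hφ j.succ, 𝓔.wtX_castSucc]
    ring
  rw [h1]
  -- telescoping: Σ_j (wX j.succ * h j.succ - wX j.castSucc * h j.castSucc) = wX last * h last - wX 0 * h 0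
  have h2 : ∑ j : Fin (𝓔.l + 1), (𝓔.wtX j.succ * h j.succ - 𝓔.wtX j.castSucc * h j.castSucc) =
      𝓔.wtX (Fin.last (𝓔.l + 1)) * h (Fin.last (𝓔.l + 1)) - 𝓔.wtX 0 * h 0 := by
    have := Fin.sum_univ_castSucc (n := 𝓔.l + 1) (fun j => 𝓔.wtX j * h j)
    have h' := Fin.sum_univ_succ (n := 𝓔.l + 1) (fun j => 𝓔.wtX j * h j)
    rw [Finset.sum_sub_distrib]
    linarith
  rw [𝓔.wtX_last, h0] at h2
  have h3 : ∑ j : Fin (𝓔.l + 1), (𝓔.wtX j.succ - 𝓔.wtX j.castSucc) * h j.succ =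
      ∑ j : Fin (𝓔.l + 1), (𝓔.wtX j.succ * h j.succ - 𝓔.wtX j.castSucc * h j.castSucc) -
      ∑ j : Fin (𝓔.l + 1), (𝓔.wtX j.castSucc * h j.succ - 𝓔.wtX j.castSucc * h j.castSucc) := by
    rw [← Finset.sum_sub_distrib]
    refine Finset.sum_congr rfl (fun j _ => ?_)
    ring
  rw [h3, h2]
  ring

end Groth.Agent.H92.ParSum
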