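import Groth.Prelude.Def_ParBun
import Groth.Prelude.Def_ShStab
import Groth.Agent.H92.ParSumCore
import Groth.Agent.H92.TwistExact
import Groth.Agent.H5.PerfectPull
import Groth.Agent.H18.STL.Invertible
import Groth.Agent.H18.STL.QuasiAffine
import Groth.Agent.H71.QCoh.LocFreeRank
import Groth.Agent.H71.QCoh.ExactSections
import Groth.Agent.H71.QCoh.TensorQCoh
import Groth.Agent.H12.CohOpen

/-!
helper92: parabolic Hilbert functions (`ParSh.Str.parHilb`) on a locally Noetherian scheme over a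
field, CONDITIONALLY on the additivity of the Euler characteristic `Curv2.euler` on short exact
sequences of coherent modules (`EulerAdd`; on a proper scheme over a field this is S1524):
* `euler_twist_add`: additivity of `χ(- ⊗ L^m)` for `L` invertible;
* `parHilb_add`: additivity of `parHilb` on parabolic extensions (S18524);
* `parHilb_eq_sub`: `parHilb` through the Hilbert polynomials of the quotients `E / E_j` (S18526).
-/

set_option autoImplicit false
set_option linter.style.haveILetI false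
universe u
open CategoryTheory CategoryTheory.Limits AlgebraicGeometry

namespace Groth.Agent.H92.ParHilb

open ParSh Groth.Agent.H92.TwistExact Groth.Agent.H92.ParSES Groth.Agent.H92.ParSum

section Coh

variable {X : Scheme.{u}}

theorem isCoh_iso {M N : X.Modules} (e : M ≅ N) (h : Coh.IsCoh M) : Coh.IsCoh N := by
  haveI : M.IsQuasicoherent := h.1
  haveI : N.IsQuasicoherent := Groth.Agent.H12.QCohAbelian.isQuasicoherent_of_iso e
  exact ⟨inferInstance, Groth.Agent.H12.CohOpen.isFiniteType_of_iso e.symm h.2⟩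

theorem isCoh_cokernel {A B : X.Modules} (f : A ⟶ B) (hA : Coh.IsCoh A) (hB : Coh.IsCoh B) :
    Coh.IsCoh (cokernel f) := by
  haveI : A.IsQuasicoherent := hA.1
  haveI : B.IsQuasicoherent := hB.1
  haveI : SheafOfModules.IsFiniteType (R := X.ringCatSheaf) B := hB.2
  haveI hq : (cokernel f).IsQuasicoherent :=
    Groth.Agent.H12.QCohAbelian.isQuasicoherent_cokernel f
  exact ⟨hq, Groth.Agent.H71.QCoh.isFiniteType_of_epi (cokernel.π f)⟩

theorem isCoh_kernel [IsLocallyNoetherian X] {A B : X.Modules} (f : A ⟶ B) (hA : Coh.IsCoh A)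
    (hB : Coh.IsQCoh B) : Coh.IsCoh (kernel f) := by
  haveI : A.IsQuasicoherent := hA.1
  haveI : B.IsQuasicoherent := hB
  haveI : SheafOfModules.IsFiniteType (R := X.ringCatSheaf) A := hA.2
  haveI hq : (kernel f).IsQuasicoherent :=
    Groth.Agent.H12.QCohAbelian.isQuasicoherent_kernel f
  exact ⟨hq, Groth.Agent.H71.QCoh.isFiniteType_of_mono (kernel.ι f)⟩

/-- zero modules are coherent (given one coherent module) -/
theorem isCoh_of_isZero [IsLocallyNoetherian X] {E : X.Modules} (hE : Coh.IsCoh E)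
    {Z : X.Modules} (hZ : IsZero Z) : Coh.IsCoh Z :=
  isCoh_iso ((isZero_kernel_of_mono (𝟙 E)).iso hZ) (isCoh_kernel (𝟙 E) hE hE.1)

/-- the third term of a short exact sequence with coherent first two terms is coherent -/
theorem isCoh_X₃ (S : ShortComplex X.Modules) (hS : S.ShortExact) (h₁ : Coh.IsCoh S.X₁)
    (h₂ : Coh.IsCoh S.X₂) : Coh.IsCoh S.X₃ :=
  isCoh_iso (IsColimit.coconePointUniqueUpToIso (cokernelIsCokernel S.f) hS.gIsCokernel)
    (isCoh_cokernel S.f h₁ h₂)

theorem isCoh_tensorPow {L : X.Modules} (hL : PicF.IsInvertible L) (m : ℕ) :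
    Coh.IsCoh (CohB1.tensorPow L m) := by
  have h1 := Groth.Agent.H18.STL.isInvertible_tensorPow hL m
  haveI := Groth.Agent.H18.STL.isQuasicoherent_of_isInvertible h1
  exact ⟨inferInstance, Groth.Agent.H71.QCoh.isFiniteType_of_isFinLocFree _
    (Groth.Agent.H18.ResProp.isFinLocFree_of_isInvertible h1)⟩

theorem isFlat_tensorPow {L : X.Modules} (hL : PicF.IsInvertible L) (m : ℕ) :
    FlatMod.IsFlat (CohB1.tensorPow L m) :=
  Groth.Agent.H5.PerfectPull.flatMod_of_isFinLocFree _
    (Groth.Agent.H18.ResProp.isFinLocFree_of_isInvertible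
      (Groth.Agent.H18.STL.isInvertible_tensorPow hL m))

theorem isCoh_twist {L : X.Modules} (hL : PicF.IsInvertible L) (m : ℕ) {M : X.Modules}
    (hM : Coh.IsCoh M) : Coh.IsCoh (ShStab.twist X L M m) := by
  haveI : M.IsQuasicoherent := hM.1
  haveI : SheafOfModules.IsFiniteType (R := X.ringCatSheaf) M := hM.2
  have h := isCoh_tensorPow hL m
  haveI : (CohB1.tensorPow L m).IsQuasicoherent := h.1
  haveI : SheafOfModules.IsFiniteType (R := X.ringCatSheaf) (CohB1.tensorPow L m) := h.2
  unfold ShStab.twist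
  exact ⟨inferInstance, inferInstance⟩

end Coh

section Euler

variable (k : Type u) [Field k] (X : Scheme.{u}) [X.Over (Spec (CommRingCat.of k))]

/-- the additivity of the Euler characteristic on short exact sequences of coherent modules -/
def EulerAdd : Prop :=
  ∀ S : ShortComplex X.Modules, S.ShortExact → Coh.IsCoh S.X₁ → Coh.IsCoh S.X₂ → Coh.IsCoh S.X₃ →
    Curv2.euler k X S.X₂ = Curv2.euler k X S.X₁ + Curv2.euler k X S.X₃

variable {k X}

/-- `χ(0) = 0` -/
theorem euler_of_isZero (hadd : EulerAdd k X) {Z : X.Modules} (hZ : IsZero Z)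
    (hZc : Coh.IsCoh Z) : Curv2.euler k X Z = 0 := by
  let S : ShortComplex X.Modules := ShortComplex.mk (𝟙 Z) (0 : Z ⟶ Z) (by simp)
  have hS : S.ShortExact :=
    { exact := (S.exact_iff_epi rfl).2 (inferInstanceAs (Epi (𝟙 Z)))
      mono_f := inferInstanceAs (Mono (𝟙 Z))
      epi_g := ⟨fun _ _ _ => hZ.eq_of_src _ _⟩ }
  have := hadd S hS hZc hZc hZc
  change Curv2.euler k X Z = Curv2.euler k X Z + Curv2.euler k X Z at this
  linarith

/-- **twisted additivity**: `χ(M₂(m)) = χ(M₁(m)) + χ(M₃(m))` -/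
theorem euler_twist_add (hadd : EulerAdd k X) {L : X.Modules} (hL : PicF.IsInvertible L) (m : ℕ)
    (S : ShortComplex X.Modules) (hS : S.ShortExact) (h₁ : Coh.IsCoh S.X₁) (h₂ : Coh.IsCoh S.X₂)
    (h₃ : Coh.IsCoh S.X₃) :
    Curv2.euler k X (ShStab.twist X L S.X₂ m) =
      Curv2.euler k X (ShStab.twist X L S.X₁ m) + Curv2.euler k X (ShStab.twist X L S.X₃ m) :=
  hadd (S.map (tensorRightMod (CohB1.tensorPow L m)))
    (shortExact_map_tensorRightMod _ (isFlat_tensorPow hL m) S hS)
    (isCoh_twist hL m h₁) (isCoh_twist hL m h₂) (isCoh_twist hL m h₃)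

/-- `χ(Z(m)) = 0` for `Z` zero -/
theorem euler_twist_of_isZero [IsLocallyNoetherian X] (hadd : EulerAdd k X) {L : X.Modules}
    (_hL : PicF.IsInvertible L) (m : ℕ) {E : X.Modules} (hE : Coh.IsCoh E) {Z : X.Modules}
    (hZ : IsZero Z) : Curv2.euler k X (ShStab.twist X L Z m) = 0 := by
  have hZ' : IsZero (ShStab.twist X L Z m) :=
    (tensorRightMod (CohB1.tensorPow L m)).map_isZero hZ
  exact euler_of_isZero hadd hZ' (isCoh_of_isZero hE hZ')

end Euler

section Main

variable {k : Type u} [Field k] {X : Scheme.{u}} [X.Over (Spec (CommRingCat.of k))]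
  [IsLocallyNoetherian X]

omit [IsLocallyNoetherian X] in
/-- the extended pieces of a structure with coherent pieces and bottom are coherent -/
theorem isCoh_pieceX {E : X.Modules} (𝓔 : Str E)
    (hcoh : ∀ j, Coh.IsCoh ((𝓔.piece j : Subobject E) : X.Modules))
    (hbot : Coh.IsCoh ((𝓔.bot : Subobject E) : X.Modules)) (j : Fin (𝓔.l + 2)) :
    Coh.IsCoh ((𝓔.pieceX j : Subobject E) : X.Modules) := by
  induction j using Fin.lastCases with
  | last => rw [𝓔.pieceX_last]; exact hbot
  | cast j => rw [𝓔.pieceX_castSucc]; exact hcoh j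

/-- **S18524**: additivity of the parabolic Hilbert function on parabolic extensions -/
theorem parHilb_add (hadd : EulerAdd k X) {L : X.Modules} (hL : PicF.IsInvertible L)
    {F E G : X.Modules} (hG : Coh.IsCoh G)
    (i : F ⟶ E) (p : E ⟶ G) [Epi p] (𝓕 : Str F) (𝓔 : Str E) (𝓖 : Str G)
    (hext : IsParExt i p 𝓕 𝓔 𝓖)
    (hcoh : ∀ j, Coh.IsCoh ((𝓔.piece j : Subobject E) : X.Modules))
    (hbot : Coh.IsCoh ((𝓔.bot : Subobject E) : X.Modules)) (m : ℕ) :
    𝓕.parHilb k X L m + 𝓖.parHilb k X L m = 𝓔.parHilb k X L m := by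
  obtain ⟨w, hse, h1, h2⟩ := id hext
  refine parSum_add_of_parExt i p 𝓕 𝓔 𝓖 hext
    (fun M => (Curv2.euler k X (ShStab.twist X L M m) : ℝ)) (fun j => ?_)
  have hSj := isCoh_pieceX 𝓔 hcoh hbot j
  have hses := shortExact_pb_im i p w hse (𝓔.pieceX j)
  -- coherence of `i⁻¹(S)`
  have hP : Coh.IsCoh ((Subobject.pullback i).obj (𝓔.pieceX j) : X.Modules) :=
    isCoh_iso (IsLimit.conePointUniqueUpToIso (kernelIsKernel ((𝓔.pieceX j).arrow ≫ p))
      (isKernelPb i p w hse (𝓔.pieceX j))) (isCoh_kernel _ hSj hG.1)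
  have hI : Coh.IsCoh (imageSubobject ((𝓔.pieceX j).arrow ≫ p) : X.Modules) :=
    isCoh_X₃ _ hses hP hSj
  have := euler_twist_add hadd hL m _ hses hP hSj hI
  simp only at this
  rw [this]
  push_cast
  rfl

/-- **S18526**: the parabolic Hilbert function through the quotients `E / E_j` -/
theorem parHilb_eq_sub (hadd : EulerAdd k X) {L : X.Modules} (hL : PicF.IsInvertible L)
    {E : X.Modules} (hE : Coh.IsCoh E) (𝓔 : Str E)
    (hcoh : ∀ j, Coh.IsCoh ((𝓔.pieceX j : Subobject E) : X.Modules)) (m : ℕ) :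
    𝓔.parHilb k X L m =
      (Curv2.euler k X (ShStab.twist X L E m) : ℝ) -
        ∑ j : Fin (𝓔.l + 1), (𝓔.wtX j.succ - 𝓔.wtX j.castSucc) *
          (Curv2.euler k X (ShStab.twist X L (cokernel (𝓔.pieceX j.succ).arrow) m) : ℝ) := by
  have hkey : ∀ j : Fin (𝓔.l + 2),
      (Curv2.euler k X (ShStab.twist X L ((𝓔.pieceX j : Subobject E) : X.Modules) m) : ℝ) =
        (Curv2.euler k X (ShStab.twist X L E m) : ℝ) -
          (Curv2.euler k X (ShStab.twist X L (cokernel (𝓔.pieceX j).arrow) m) : ℝ) := by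
    intro j
    have hS : (ShortComplex.mk (𝓔.pieceX j).arrow (cokernel.π (𝓔.pieceX j).arrow)
        (cokernel.condition _)).ShortExact :=
      { exact := ShortComplex.exact_cokernel _
        mono_f := inferInstanceAs (Mono (𝓔.pieceX j).arrow)
        epi_g := inferInstanceAs (Epi (cokernel.π (𝓔.pieceX j).arrow)) }
    have := euler_twist_add hadd hL m _ hS (hcoh j) hE (isCoh_cokernel _ (hcoh j) hE)
    simp only at this
    rw [this]
    push_cast
    ring
  have h0 : (Curv2.euler k X (ShStab.twist X L (cokernel (𝓔.pieceX 0).arrow) m) : ℝ) = 0 := by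
    have hz : IsZero (cokernel (𝓔.pieceX 0).arrow) := by
      have h00 : 𝓔.pieceX 0 = ⊤ := by
        have := 𝓔.pieceX_castSucc 0
        rw [Fin.castSucc_zero] at this
        rw [this, 𝓔.piece_zero]
      rw [h00]
      exact isZero_cokernel_of_epi _
    rw [euler_twist_of_isZero hadd hL m hE hz]
    simp
  exact parSumOf_eq_sub 𝓔
    (fun S : Subobject E => (Curv2.euler k X (ShStab.twist X L (S : X.Modules) m) : ℝ))
    (Curv2.euler k X (ShStab.twist X L E m) : ℝ) (fun j =>
    (Curv2.euler k X (ShStab.twist X L (cokernel (𝓔.pieceX j).arrow) m) : ℝ)) hkey h0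

end Main

end Groth.Agent.H92.ParHilb
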