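import Mathlib

/-!
# Corners of Azumaya algebras (helper92)

`A` an Azumaya `R`-algebra, `ε` an idempotent, `B = ε A ε` the corner ring, `M = A ε`.
* `B` is an `R`-algebra, finitely generated projective; if it is faithful it is Azumaya.
* `A ⊗ Bᵐᵒᵖ ≃ₐ End_R(M)`.
-/

set_option autoImplicit false
set_option linter.style.haveILetI false

universe u v

namespace Groth.Agent.H92.CornerAz

open TensorProduct MulOpposite

variable {R : Type u} [CommRing R] {A : Type v} [Ring A] [Algebra R A] {ε : A}
  (hε : IsIdempotentElem ε)

theorem corner_left (b : hε.Corner) : ε * b.1 = b.1 :=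
  ((Subsemigroup.mem_corner_iff hε).mp b.2).1

theorem corner_right (b : hε.Corner) : b.1 * ε = b.1 :=
  ((Subsemigroup.mem_corner_iff hε).mp b.2).2

theorem val_mul (b b' : hε.Corner) : (b * b').1 = b.1 * b'.1 := rfl

theorem val_add (b b' : hε.Corner) : (b + b').1 = b.1 + b'.1 := rfl

theorem val_one : (1 : hε.Corner).1 = ε := rfl

theorem val_zero : (0 : hε.Corner).1 = 0 := rfl

/-- the structure map of the corner -/
def cornerAlgebraMap : R →+* hε.Corner where
  toFun := fun r => ⟨r • ε, ⟨r • ε, by
    change ε * (r • ε) * ε = r • ε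
    rw [mul_smul_comm, smul_mul_assoc, hε.eq, hε.eq]⟩⟩
  map_one' := Subtype.ext (one_smul R ε)
  map_mul' := fun r s => Subtype.ext (by
    change (r * s) • ε = (r • ε) * (s • ε)
    rw [smul_mul_smul_comm, hε.eq])
  map_zero' := Subtype.ext (zero_smul R ε)
  map_add' := fun r s => Subtype.ext (add_smul r s ε)

/-- the corner as an algebra -/
@[instance_reducible]
def cornerAlgebra : Algebra R hε.Corner :=
  (cornerAlgebraMap hε).toAlgebra' (fun r b => Subtype.ext (by
    change (r • ε) * b.1 = b.1 * (r • ε)
    rw [smul_mul_assoc, mul_smul_comm, corner_left, corner_right]))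

attribute [local instance] cornerAlgebra

theorem val_smul (r : R) (b : hε.Corner) : (r • b).1 = r • b.1 := by
  change (r • ε) * b.1 = r • b.1
  rw [smul_mul_assoc, corner_left]

/-- the compression as a function -/
def cutFun (x : A) : hε.Corner := ⟨ε * x * ε, ⟨x, rfl⟩⟩

theorem cutFun_val (x : A) : (cutFun hε x).1 = ε * x * ε := rfl

variable (R) in
/-- the inclusion of the corner -/
def valL : hε.Corner →ₗ[R] A where
  toFun := Subtype.val
  map_add' := fun _ _ => rfl
  map_smul' := fun r b => val_smul hε r b

variable (R) in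
/-- the compression onto the corner -/
def cutL : A →ₗ[R] hε.Corner where
  toFun := cutFun hε
  map_add' := fun x y => Subtype.ext (by
    change ε * (x + y) * ε = ε * x * ε + ε * y * ε
    rw [mul_add, add_mul])
  map_smul' := fun r x => Subtype.ext (by
    change ε * (r • x) * ε = (r • cutFun hε x).1
    rw [val_smul, cutFun_val, mul_smul_comm, smul_mul_assoc])

theorem valL_apply (b : hε.Corner) : valL R hε b = b.1 := rfl

theorem cutL_val (x : A) : (cutL R hε x).1 = ε * x * ε := rfl

variable (R) in
theorem cutL_valL (b : hε.Corner) : cutL R hε (valL R hε b) = b :=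
  Subtype.ext (by rw [cutL_val, valL_apply, corner_left, corner_right])

theorem finite_corner [Module.Finite R A] : Module.Finite R hε.Corner :=
  Module.Finite.of_surjective (cutL R hε) (fun b => ⟨valL R hε b, cutL_valL R hε b⟩)

theorem projective_corner [Module.Projective R A] : Module.Projective R hε.Corner :=
  Module.Projective.of_split (valL R hε) (cutL R hε) (LinearMap.ext (cutL_valL R hε))

variable (R) in
/-- the opposite versions -/
def valLop : hε.Cornerᵐᵒᵖ →ₗ[R] Aᵐᵒᵖ :=
  (opLinearEquiv R).toLinearMap ∘ₗ valL R hε ∘ₗ (opLinearEquiv R).symm.toLinearMap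

variable (R) in
/-- the opposite compression -/
def cutLop : Aᵐᵒᵖ →ₗ[R] hε.Cornerᵐᵒᵖ :=
  (opLinearEquiv R).toLinearMap ∘ₗ cutL R hε ∘ₗ (opLinearEquiv R).symm.toLinearMap

theorem valLop_apply (b : hε.Cornerᵐᵒᵖ) : valLop R hε b = op (b.unop.1) := rfl

theorem cutLop_apply (x : Aᵐᵒᵖ) : cutLop R hε x = op (cutL R hε x.unop) := rfl

variable (R) in
theorem cutLop_valLop (b : hε.Cornerᵐᵒᵖ) : cutLop R hε (valLop R hε b) = b := by
  rw [cutLop_apply, valLop_apply, unop_op]
  have := cutL_valL R hε b.unop
  rw [valL_apply] at this
  rw [this, op_unop]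

section Azumaya

theorem mulLeftRight_cut (t : A ⊗[R] Aᵐᵒᵖ) (b : hε.Corner) :
    (AlgHom.mulLeftRight R hε.Corner (TensorProduct.map (cutL R hε) (cutLop R hε) t) b).1 =
      ε * (AlgHom.mulLeftRight R A t b.1) * ε := by
  induction t using TensorProduct.induction_on with
  | zero => simp [val_zero]
  | tmul a a' =>
    rw [TensorProduct.map_tmul, AlgHom.mulLeftRight_apply, AlgHom.mulLeftRight_apply,
      cutLop_apply, unop_op, val_mul, val_mul, cutL_val, cutL_val]
    have h1 := corner_left hε b
    have h2 := corner_right hε b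
    calc ε * a * ε * b.1 * (ε * a'.unop * ε)
        = ε * a * (ε * b.1) * ε * a'.unop * ε := by simp only [mul_assoc]
      _ = ε * a * b.1 * ε * a'.unop * ε := by rw [h1]
      _ = ε * a * (b.1 * ε) * a'.unop * ε := by simp only [mul_assoc]
      _ = ε * (a * b.1 * a'.unop) * ε := by rw [h2]; simp only [mul_assoc]
  | add s t hs ht =>
    rw [map_add, map_add, LinearMap.add_apply, val_add, hs, ht, map_add, LinearMap.add_apply,
      mul_add, add_mul]

theorem mulLeftRight_val (s : hε.Corner ⊗[R] hε.Cornerᵐᵒᵖ) (x : A) :
    AlgHom.mulLeftRight R A (TensorProduct.map (valL R hε) (valLop R hε) s) x =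
      (AlgHom.mulLeftRight R hε.Corner s (cutL R hε x)).1 := by
  induction s using TensorProduct.induction_on with
  | zero => simp [val_zero]
  | tmul b b' =>
    rw [TensorProduct.map_tmul, AlgHom.mulLeftRight_apply, AlgHom.mulLeftRight_apply,
      valLop_apply, unop_op, val_mul, val_mul, cutL_val, valL_apply]
    have h1 := corner_right hε b
    have h2 := corner_left hε b'.unop
    calc b.1 * x * b'.unop.1 = (b.1 * ε) * x * (ε * b'.unop.1) := by rw [h1, h2]
      _ = b.1 * (ε * x * ε) * b'.unop.1 := by simp only [mul_assoc]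
  | add s t hs ht =>
    rw [map_add, map_add, LinearMap.add_apply, hs, ht, map_add, LinearMap.add_apply, val_add]

/-- the corner of an Azumaya algebra is Azumaya as soon as it is faithful -/
theorem isAzumaya_corner [IsAzumaya R A] (hF : FaithfulSMul R hε.Corner) :
    IsAzumaya R hε.Corner := by
  haveI := finite_corner (R := R) hε
  haveI := projective_corner (R := R) hε
  refine { bij := ⟨?_, ?_⟩ }
  · rw [injective_iff_map_eq_zero]
    intro s hs
    have h1 : TensorProduct.map (valL R hε) (valLop R hε) s = 0 := by
      apply (IsAzumaya.bij (R := R) (A := A)).1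
      rw [map_zero]
      apply LinearMap.ext
      intro x
      rw [mulLeftRight_val, hs]
      rfl
    have h2 : TensorProduct.map (cutL R hε) (cutLop R hε)
        (TensorProduct.map (valL R hε) (valLop R hε) s) = s := by
      rw [← LinearMap.comp_apply, ← TensorProduct.map_comp]
      have e1 : cutL R hε ∘ₗ valL R hε = LinearMap.id := LinearMap.ext (cutL_valL R hε)
      have e2 : cutLop R hε ∘ₗ valLop R hε = LinearMap.id := LinearMap.ext (cutLop_valLop R hε)
      rw [e1, e2, TensorProduct.map_id, LinearMap.id_apply]
    rw [← h2, h1, map_zero]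
  · intro h
    obtain ⟨t, ht⟩ := (IsAzumaya.bij (R := R) (A := A)).2 (valL R hε ∘ₗ h ∘ₗ cutL R hε)
    refine ⟨TensorProduct.map (cutL R hε) (cutLop R hε) t, ?_⟩
    apply LinearMap.ext
    intro b
    apply Subtype.ext
    rw [mulLeftRight_cut, ht, LinearMap.comp_apply, LinearMap.comp_apply, valL_apply,
      ← valL_apply (R := R) hε b, cutL_valL R hε, corner_left, corner_right]

end Azumaya

section Column

variable (R) (ε) in
/-- the left ideal `A ε` as an `R`-module -/
def col : Submodule R A := LinearMap.range (LinearMap.mulRight R ε)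

include hε in
theorem mem_col_iff (x : A) : x ∈ col R ε ↔ x * ε = x := by
  constructor
  · rintro ⟨y, rfl⟩
    rw [LinearMap.mulRight_apply, mul_assoc, hε.eq]
  · intro h
    exact ⟨x, h⟩

include hε in
theorem col_right (m : col R ε) : m.1 * ε = m.1 := (mem_col_iff hε m.1).mp m.2

variable (R) in
/-- the projection onto the column -/
def projCol : A →ₗ[R] col R ε := (LinearMap.mulRight R ε).rangeRestrict

theorem projCol_val (x : A) : (projCol R (ε := ε) x).1 = x * ε := rfl

include hε in
theorem projCol_subtype (m : col R ε) : projCol R (m : A) = m :=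
  Subtype.ext (col_right hε m)

include hε in
theorem finite_col [Module.Finite R A] : Module.Finite R (col R ε) :=
  Module.Finite.of_surjective (projCol R) (fun m => ⟨m.1, projCol_subtype hε m⟩)

include hε in
theorem projective_col [Module.Projective R A] : Module.Projective R (col R ε) :=
  Module.Projective.of_split (col R ε).subtype (projCol R) (LinearMap.ext (projCol_subtype hε))

variable (R) in
theorem valL_mul_eps (b : hε.Corner) : valL R hε b * ε = valL R hε b := corner_right hε b

variable (R) in
theorem eps_mul_valL (b : hε.Corner) : ε * valL R hε b = valL R hε b := corner_left hε b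

variable (R) in
theorem valL_mul (b b' : hε.Corner) : valL R hε (b * b') = valL R hε b * valL R hε b' := rfl

variable (R) in
theorem valL_one : valL R hε 1 = ε := rfl

variable (R) in
/-- left multiplication on the column -/
def leftCol : A →ₗ[R] Module.End R (col R ε) where
  toFun := fun a => (LinearMap.mulLeft R a).restrict (p := col R ε) (q := col R ε) (by
    rintro _ ⟨y, rfl⟩
    exact ⟨a * y, by simp [mul_assoc]⟩)
  map_add' := fun a b => by
    apply LinearMap.ext
    intro m
    apply Subtype.ext
    simp [LinearMap.restrict_apply, add_mul]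
  map_smul' := fun r a => by
    apply LinearMap.ext
    intro m
    apply Subtype.ext
    simp [LinearMap.restrict_apply]

theorem leftCol_val (a : A) (m : col R ε) : (leftCol R a m).1 = a * m.1 := rfl

/-- right multiplication by the corner on the column -/
def rightCol : hε.Cornerᵐᵒᵖ →ₗ[R] Module.End R (col R ε) where
  toFun := fun b => (LinearMap.mulRight R (valL R hε b.unop)).restrict (p := col R ε)
    (q := col R ε) (by
      intro x _
      rw [mem_col_iff hε, LinearMap.mulRight_apply, mul_assoc, valL_mul_eps])
  map_add' := fun a b => by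
    apply LinearMap.ext
    intro m
    apply Subtype.ext
    simp [LinearMap.restrict_apply, mul_add]
  map_smul' := fun r a => by
    apply LinearMap.ext
    intro m
    apply Subtype.ext
    simp [LinearMap.restrict_apply]

theorem rightCol_val (b : hε.Cornerᵐᵒᵖ) (m : col R ε) :
    (rightCol (R := R) hε b m).1 = m.1 * valL R hε b.unop := rfl

/-- left multiplication as an algebra map -/
def leftColAlg : A →ₐ[R] Module.End R (col R ε) :=
  AlgHom.ofLinearMap (leftCol R)
    (by
      apply LinearMap.ext
      intro m
      apply Subtype.ext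
      rw [leftCol_val, one_mul]
      rfl)
    (by
      intro a b
      apply LinearMap.ext
      intro m
      apply Subtype.ext
      rw [Module.End.mul_apply, leftCol_val, leftCol_val, leftCol_val, mul_assoc])

/-- right multiplication as an algebra map -/
def rightColAlg : hε.Cornerᵐᵒᵖ →ₐ[R] Module.End R (col R ε) :=
  AlgHom.ofLinearMap (rightCol hε)
    (by
      apply LinearMap.ext
      intro m
      apply Subtype.ext
      rw [rightCol_val, unop_one, valL_one, col_right hε]
      rfl)
    (by
      intro a b
      apply LinearMap.ext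
      intro m
      apply Subtype.ext
      rw [Module.End.mul_apply, rightCol_val, rightCol_val, rightCol_val, unop_mul, valL_mul,
        mul_assoc])

/-- the comparison map `A ⊗ Bᵐᵒᵖ → End_R(A ε)` -/
def Psi : A ⊗[R] hε.Cornerᵐᵒᵖ →ₐ[R] Module.End R (col R ε) :=
  Algebra.TensorProduct.lift (leftColAlg (R := R) (ε := ε)) (rightColAlg hε) (fun a b => by
    change leftColAlg a * rightColAlg hε b = rightColAlg hε b * leftColAlg a
    apply LinearMap.ext
    intro m
    apply Subtype.ext
    change a * (m.1 * valL R hε b.unop) = (a * m.1) * valL R hε b.unop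
    rw [mul_assoc])

theorem Psi_tmul_val (a : A) (b : hε.Cornerᵐᵒᵖ) (m : col R ε) :
    (Psi (R := R) hε (a ⊗ₜ b) m).1 = a * m.1 * valL R hε b.unop := by
  rw [Psi, Algebra.TensorProduct.lift_tmul, Module.End.mul_apply]
  change a * (m.1 * valL R hε b.unop) = _
  rw [mul_assoc]

theorem Psi_cut (t : A ⊗[R] Aᵐᵒᵖ) (m : col R ε) :
    (Psi (R := R) hε (TensorProduct.map LinearMap.id (cutLop R hε) t) m).1 =
      (AlgHom.mulLeftRight R A t m.1) * ε := by
  induction t using TensorProduct.induction_on with
  | zero => simp
  | tmul a a' =>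
    rw [TensorProduct.map_tmul, LinearMap.id_apply, Psi_tmul_val, AlgHom.mulLeftRight_apply,
      cutLop_apply, unop_op, valL_apply, cutL_val]
    have h1 := col_right hε m
    calc a * m.1 * (ε * a'.unop * ε) = a * (m.1 * ε) * a'.unop * ε := by simp only [mul_assoc]
      _ = a * m.1 * a'.unop * ε := by rw [h1]
  | add s t hs ht =>
    rw [map_add, map_add, LinearMap.add_apply, Submodule.coe_add, hs, ht, map_add,
      LinearMap.add_apply, add_mul]

theorem Psi_val (s : A ⊗[R] hε.Cornerᵐᵒᵖ) (x : A) :
    AlgHom.mulLeftRight R A (TensorProduct.map LinearMap.id (valLop R hε) s) x =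
      (Psi (R := R) hε s (projCol R x)).1 := by
  induction s using TensorProduct.induction_on with
  | zero => simp
  | tmul a b =>
    rw [TensorProduct.map_tmul, LinearMap.id_apply, Psi_tmul_val, AlgHom.mulLeftRight_apply,
      valLop_apply, unop_op, projCol_val]
    have h1 := eps_mul_valL R hε b.unop
    rw [valL_apply] at h1
    calc a * x * b.unop.1 = a * x * (ε * b.unop.1) := by rw [h1]
      _ = a * (x * ε) * b.unop.1 := by simp only [mul_assoc]
  | add s t hs ht =>
    rw [map_add, map_add, LinearMap.add_apply, hs, ht, map_add, LinearMap.add_apply,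
      Submodule.coe_add]

theorem Psi_bijective [IsAzumaya R A] : Function.Bijective (Psi (R := R) hε) := by
  constructor
  · rw [injective_iff_map_eq_zero]
    intro s hs
    have h1 : TensorProduct.map LinearMap.id (valLop R hε) s = 0 := by
      apply (IsAzumaya.bij (R := R) (A := A)).1
      rw [map_zero]
      apply LinearMap.ext
      intro x
      rw [Psi_val, hs]
      rfl
    have h2 : TensorProduct.map LinearMap.id (cutLop R hε)
        (TensorProduct.map LinearMap.id (valLop R hε) s) = s := by
      rw [← LinearMap.comp_apply, ← TensorProduct.map_comp]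
      have e2 : cutLop R hε ∘ₗ valLop R hε = LinearMap.id := LinearMap.ext (cutLop_valLop R hε)
      rw [e2, LinearMap.id_comp, TensorProduct.map_id, LinearMap.id_apply]
    rw [← h2, h1, map_zero]
  · intro h
    obtain ⟨t, ht⟩ := (IsAzumaya.bij (R := R) (A := A)).2
      ((col R ε).subtype ∘ₗ h ∘ₗ projCol R)
    refine ⟨TensorProduct.map LinearMap.id (cutLop R hε) t, ?_⟩
    apply LinearMap.ext
    intro m
    apply Subtype.ext
    rw [Psi_cut, ht, LinearMap.comp_apply, LinearMap.comp_apply, Submodule.subtype_apply,
      projCol_subtype hε, col_right hε]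

/-- `A ⊗ Bᵐᵒᵖ ≃ₐ End_R(A ε)` -/
noncomputable def PsiEquiv [IsAzumaya R A] : A ⊗[R] hε.Cornerᵐᵒᵖ ≃ₐ[R] Module.End R (col R ε) :=
  AlgEquiv.ofBijective (Psi hε) (Psi_bijective hε)

end Column

end Groth.Agent.H92.CornerAz
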