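import Mathlib

/-!
# Finitely generated projective modules of positive rank are faithful (helper92)
-/

set_option autoImplicit false
set_option linter.style.haveILetI false

universe u v

namespace Groth.Agent.H92.ProjFaithful

open Module

variable {R : Type u} [CommRing R]

attribute [local instance] Module.free_of_flat_of_isLocalRing

/-- a finitely generated flat module of positive rank everywhere is faithful -/
theorem faithful_of_rank_pos (X : Type v) [AddCommGroup X] [Module R X] [Module.Finite R X]
    [Module.Flat R X] (h : ∀ p : PrimeSpectrum R, 0 < rankAtStalk X p) : FaithfulSMul R X := by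
  refine ⟨fun {r s} hrs => ?_⟩
  rw [← sub_eq_zero]
  set t := r - s with ht
  have ht0 : ∀ x : X, t • x = 0 := fun x => by rw [ht, sub_smul, hrs x, sub_self]
  -- the annihilator of `t` is the unit ideal
  by_contra hne
  have hann : (Ideal.span {t}).annihilator ≠ ⊤ := by
    intro htop
    apply hne
    have h1 : (1 : R) ∈ (Ideal.span {t}).annihilator := by rw [htop]; trivial
    rw [Submodule.mem_annihilator_span_singleton] at h1
    simpa using h1
  obtain ⟨m, hm, hle⟩ := Ideal.exists_le_maximal _ hann
  let p : PrimeSpectrum R := ⟨m, hm.isPrime⟩
  have hfr : 0 < Module.finrank (Localization.AtPrime p.asIdeal)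
      (LocalizedModule p.asIdeal.primeCompl X) := h p
  haveI : Nontrivial (LocalizedModule p.asIdeal.primeCompl X) :=
    Module.nontrivial_of_finrank_pos hfr
  have hzero : algebraMap R (Localization.AtPrime p.asIdeal) t = 0 := by
    have hF : FaithfulSMul (Localization.AtPrime p.asIdeal)
      (LocalizedModule p.asIdeal.primeCompl X) := inferInstance
    apply hF.eq_of_smul_eq_smul
    intro y
    induction y using LocalizedModule.induction_on with
    | h x s =>
      rw [zero_smul, algebraMap_smul, LocalizedModule.smul'_mk, ht0, LocalizedModule.zero_mk]
  rw [IsLocalization.map_eq_zero_iff p.asIdeal.primeCompl] at hzero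
  obtain ⟨c, hc⟩ := hzero
  have hcm : (c : R) ∈ (Ideal.span {t}).annihilator := by
    rw [Submodule.mem_annihilator_span_singleton]
    exact hc
  exact c.2 (hle hcm)

/-- over a connected base, a nonzero finitely generated projective module has positive rank -/
theorem rank_pos_of_connected [ConnectedSpace (PrimeSpectrum R)] (X : Type v) [AddCommGroup X]
    [Module R X] [Module.Finite R X] [Module.Projective R X] [Nontrivial X]
    (p : PrimeSpectrum R) : 0 < rankAtStalk X p := by
  haveI : Module.FinitePresentation R X := Module.finitePresentation_of_projective R X
  have hc : IsLocallyConstant (rankAtStalk (R := R) X) := Module.isLocallyConstant_rankAtStalk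
  by_contra h0
  have h0' : rankAtStalk X p = 0 := Nat.eq_zero_of_not_pos h0
  have : rankAtStalk (R := R) X = 0 := by
    funext q
    rw [hc.apply_eq_of_preconnectedSpace q p, h0']
    rfl
  rw [Module.rankAtStalk_eq_zero_iff_subsingleton] at this
  exact not_subsingleton X this

end Groth.Agent.H92.ProjFaithful
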