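import Mathlib
import Groth.Agent.H92.CornerAz
import Groth.Agent.H92.ProjFaithful

/-!
# Brauer classes over a connected ring are represented by algebras with trivial idempotents
(helper92)
-/

set_option autoImplicit false
set_option linter.style.haveILetI false

universe u v

namespace Groth.Agent.H92.BrauerIndec

open TensorProduct MulOpposite Module CornerAz

variable {R : Type u} [CommRing R] {A : Type v} [Ring A] [Algebra R A]

/-- orthogonal idempotents split the column module -/
def colSplit {e₁ e₂ : A} (h₁ : IsIdempotentElem e₁) (h₂ : IsIdempotentElem e₂)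
    (h12 : e₁ * e₂ = 0) (h21 : e₂ * e₁ = 0) :
    col R (e₁ + e₂) ≃ₗ[R] col R e₁ × col R e₂ where
  toFun := fun x => (projCol R x.1, projCol R x.1)
  map_add' := fun x y => by simp
  map_smul' := fun r x => by simp
  invFun := fun yz => ⟨yz.1.1 + yz.2.1, by
    have hsum : IsIdempotentElem (e₁ + e₂) := by
      change (e₁ + e₂) * (e₁ + e₂) = e₁ + e₂
      rw [mul_add, add_mul, add_mul, h₁.eq, h₂.eq, h12, h21, add_zero, zero_add]
    rw [mem_col_iff hsum, add_mul, mul_add, mul_add]
    have hy := col_right h₁ yz.1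
    have hz := col_right h₂ yz.2
    have hy2 : yz.1.1 * e₂ = 0 := by rw [← hy, mul_assoc, h12, mul_zero]
    have hz1 : yz.2.1 * e₁ = 0 := by rw [← hz, mul_assoc, h21, mul_zero]
    rw [hy, hz, hy2, hz1, add_zero, zero_add]⟩
  left_inv := fun x => by
    have hsum : IsIdempotentElem (e₁ + e₂) := by
      change (e₁ + e₂) * (e₁ + e₂) = e₁ + e₂
      rw [mul_add, add_mul, add_mul, h₁.eq, h₂.eq, h12, h21, add_zero, zero_add]
    apply Subtype.ext
    change x.1 * e₁ + x.1 * e₂ = x.1
    rw [← mul_add, col_right hsum x]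
  right_inv := fun yz => by
    have hy := col_right h₁ yz.1
    have hz := col_right h₂ yz.2
    have hy2 : yz.1.1 * e₂ = 0 := by rw [← hy, mul_assoc, h12, mul_zero]
    have hz1 : yz.2.1 * e₁ = 0 := by rw [← hz, mul_assoc, h21, mul_zero]
    apply Prod.ext
    · apply Subtype.ext
      change (yz.1.1 + yz.2.1) * e₁ = yz.1.1
      rw [add_mul, hy, hz1, add_zero]
    · apply Subtype.ext
      change (yz.1.1 + yz.2.1) * e₂ = yz.2.1
      rw [add_mul, hy2, hz, zero_add]

section Main

attribute [local instance] cornerAlgebra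

theorem col_nontrivial {ε : A} (hε : IsIdempotentElem ε) (hne : ε ≠ 0) :
    Nontrivial (col R ε) := by
  refine ⟨⟨⟨ε, (mem_col_iff hε ε).mpr hε.eq⟩, 0, ?_⟩⟩
  intro h
  exact hne (congrArg Subtype.val h)

/-- **Main theorem.** -/
theorem main [ConnectedSpace (PrimeSpectrum R)] [IsAzumaya R A] :
    ∃ (B : Type v) (_ : Ring B) (_ : Algebra R B) (_ : IsAzumaya R B) (P Q : Type v)
      (_ : AddCommGroup P) (_ : Module R P) (_ : AddCommGroup Q) (_ : Module R Q),
      (∀ b : B, IsIdempotentElem b → b = 0 ∨ b = 1) ∧ Module.Finite R P ∧ Module.Projective R P ∧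
      FaithfulSMul R P ∧ Module.Finite R Q ∧ Module.Projective R Q ∧ FaithfulSMul R Q ∧
      Nonempty (A ⊗[R] Module.End R P ≃ₐ[R] B ⊗[R] Module.End R Q) := by
  classical
  obtain ⟨p₀⟩ := (inferInstance : Nonempty (PrimeSpectrum R))
  haveI : Nontrivial R := p₀.nontrivial
  haveI : Nontrivial A := (FaithfulSMul.algebraMap_injective R A).nontrivial
  -- a nonzero idempotent with minimal rank of its column
  have hex : ∃ k : ℕ, ∃ ε : A, IsIdempotentElem ε ∧ ε ≠ 0 ∧ rankAtStalk (col R ε) p₀ = k :=
    ⟨_, 1, IsIdempotentElem.one, one_ne_zero, rfl⟩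
  obtain ⟨ε, hε, hne, hk⟩ := Nat.find_spec hex
  have hmin : ∀ ε' : A, IsIdempotentElem ε' → ε' ≠ 0 →
      rankAtStalk (col R ε) p₀ ≤ rankAtStalk (col R ε') p₀ := by
    intro ε' h' hne'
    rw [hk]
    exact Nat.find_min' hex ⟨ε', h', hne', rfl⟩
  -- positivity of ranks of columns
  have hpos : ∀ ε' : A, IsIdempotentElem ε' → ε' ≠ 0 → 0 < rankAtStalk (col R ε') p₀ := by
    intro ε' h' hne'
    haveI := finite_col (R := R) h'
    haveI := projective_col (R := R) h'
    haveI := col_nontrivial (R := R) h' hne'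
    exact ProjFaithful.rank_pos_of_connected _ p₀
  -- the corner algebra
  haveI hfinB : Module.Finite R hε.Corner := finite_corner hε
  haveI hprojB : Module.Projective R hε.Corner := projective_corner hε
  haveI hntB : Nontrivial hε.Corner := ⟨⟨1, 0, fun h => hne (congrArg Subtype.val h)⟩⟩
  haveI hfaithB : FaithfulSMul R hε.Corner :=
    ProjFaithful.faithful_of_rank_pos (R := R) hε.Corner
      (fun p => ProjFaithful.rank_pos_of_connected (R := R) hε.Corner p)
  haveI hAzB : IsAzumaya R hε.Corner := isAzumaya_corner hε hfaithB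
  haveI hfinQ : Module.Finite R (col R ε) := finite_col hε
  haveI hprojQ : Module.Projective R (col R ε) := projective_col hε
  have hfaithQ : FaithfulSMul R (col R ε) := by
    refine ⟨fun {r s} hrs => ?_⟩
    apply hfaithB.eq_of_smul_eq_smul
    intro b
    have h1 := congrArg Subtype.val (hrs ⟨ε, (mem_col_iff hε ε).mpr hε.eq⟩)
    change r • ε = s • ε at h1
    apply Subtype.ext
    rw [val_smul, val_smul, ← corner_left hε b, ← smul_mul_assoc, ← smul_mul_assoc, h1]
  refine ⟨hε.Corner, inferInstance, cornerAlgebra hε, hAzB, hε.Corner, col R ε, inferInstance,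
    inferInstance, inferInstance, inferInstance, ?_, hfinB, hprojB, hfaithB, hfinQ, hprojQ,
    hfaithQ, ?_⟩
  · -- trivial idempotents
    intro b hb
    by_contra hcon
    rw [not_or] at hcon
    obtain ⟨hb0, hb1⟩ := hcon
    have h1 : IsIdempotentElem b.1 := by
      have := congrArg Subtype.val hb.eq
      exact this
    have hne1 : b.1 ≠ 0 := fun h => hb0 (Subtype.ext h)
    have hl := corner_left hε b
    have hr := corner_right hε b
    have h2 : IsIdempotentElem (ε - b.1) := by
      change (ε - b.1) * (ε - b.1) = ε - b.1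
      rw [mul_sub, sub_mul, sub_mul, hε.eq, hl, hr, h1.eq, sub_self, sub_zero]
    have hne2 : ε - b.1 ≠ 0 := by
      intro h
      apply hb1
      apply Subtype.ext
      rw [val_one]
      exact (sub_eq_zero.mp h).symm
    have h12 : b.1 * (ε - b.1) = 0 := by rw [mul_sub, hr, h1.eq, sub_self]
    have h21 : (ε - b.1) * b.1 = 0 := by rw [sub_mul, hl, h1.eq, sub_self]
    have hsum : b.1 + (ε - b.1) = ε := by abel
    haveI := finite_col (R := R) h1
    haveI := projective_col (R := R) h1
    haveI := finite_col (R := R) h2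
    haveI := projective_col (R := R) h2
    have hrk := congrFun (rankAtStalk_eq_of_equiv (colSplit (R := R) h1 h2 h12 h21)) p₀
    rw [rankAtStalk_prod, Pi.add_apply, hsum] at hrk
    have hm := hmin b.1 h1 hne1
    have hp := hpos (ε - b.1) h2 hne2
    omega
  · -- the isomorphism
    let μ : hε.Corner ⊗[R] hε.Cornerᵐᵒᵖ ≃ₐ[R] Module.End R hε.Corner :=
      AlgEquiv.ofBijective (AlgHom.mulLeftRight R hε.Corner) (IsAzumaya.bij (R := R))
    exact ⟨(Algebra.TensorProduct.congr (AlgEquiv.refl : A ≃ₐ[R] A) μ.symm).trans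
      ((Algebra.TensorProduct.assoc R R R A hε.Corner hε.Cornerᵐᵒᵖ).symm.trans
        ((Algebra.TensorProduct.congr (Algebra.TensorProduct.comm R A hε.Corner)
          (AlgEquiv.refl : hε.Cornerᵐᵒᵖ ≃ₐ[R] hε.Cornerᵐᵒᵖ)).trans
          ((Algebra.TensorProduct.assoc R R R hε.Corner A hε.Cornerᵐᵒᵖ).trans
            (Algebra.TensorProduct.congr (AlgEquiv.refl : hε.Corner ≃ₐ[R] hε.Corner)
              (PsiEquiv hε)))))⟩

end Main

end Groth.Agent.H92.BrauerIndec
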