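import Mathlib
import Groth.Prelude.Def_CE
import Groth.Agent.H6.InjHorseshoe

/-!
helper92: basic facts on injective resolutions in the sense of `CE.IsInjResolutionVia`:
comparison with quasi-isomorphisms from the single complex, transport along isomorphisms,
existence (the zero complex for zero objects).
-/

set_option autoImplicit false
universe v u

open CategoryTheory CategoryTheory.Limits HomologicalComplex ZeroObject

namespace Groth.Agent.H92.CEres

variable {A : Type u} [Category.{v} A] [Abelian A]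

lemma mono_of_isZero_src {X Y : A} (hX : IsZero X) (f : X ⟶ Y) : Mono f :=
  ⟨fun _ _ _ => hX.eq_of_tgt _ _⟩

/-- a morphism from a single complex in degree `0` to a complex `≥ 0` is a quasi-isomorphism iff
the target is exact in nonzero degrees and the degree `0` component is a kernel of `d 0 1`. -/
lemma quasiIso_from_single_iff (C : CochainComplex A ℤ) [C.IsStrictlyGE 0] {M : A}
    (α : (HomologicalComplex.single A (ComplexShape.up ℤ) 0).obj M ⟶ C) :
    QuasiIso α ↔ (∀ q : ℤ, q ≠ 0 → C.ExactAt q) ∧ Mono (α.f 0) ∧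
      (ShortComplex.mk (α.f 0) (C.d 0 1)
        (by rw [α.comm 0 1, HomologicalComplex.single_obj_d, zero_comp])).Exact := by
  have key : QuasiIsoAt α 0 ↔ (ShortComplex.mk (α.f 0) (C.d 0 1)
        (by rw [α.comm 0 1, HomologicalComplex.single_obj_d, zero_comp])).Exact ∧ Mono (α.f 0) := by
    rw [quasiIsoAt_iff' α (-1) 0 1 (by simp) (by simp)]
    exact ShortComplex.quasiIso_iff_of_zeros _
      (HomologicalComplex.single_obj_d (ComplexShape.up ℤ) 0 M _ _)
      (HomologicalComplex.single_obj_d (ComplexShape.up ℤ) 0 M _ _)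
      ((C.isZero_of_isStrictlyGE 0 (-1)).eq_of_src _ _)
  rw [quasiIso_iff]
  constructor
  · intro H
    refine ⟨fun q hq => ?_, (key.1 (H 0)).2, (key.1 (H 0)).1⟩
    exact (quasiIsoAt_iff_exactAt α q (exactAt_single_obj (ComplexShape.up ℤ) 0 M q hq)).1 (H q)
  · rintro ⟨h1, h2, h3⟩ q
    by_cases hq : q = 0
    · subst hq
      exact key.2 ⟨h3, h2⟩
    · exact (quasiIsoAt_iff_exactAt α q (exactAt_single_obj (ComplexShape.up ℤ) 0 M q hq)).2
        (h1 q hq)

lemma mono_from_single (C : CochainComplex A ℤ) {M : A}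
    (α : (HomologicalComplex.single A (ComplexShape.up ℤ) 0).obj M ⟶ C) (h : Mono (α.f 0)) :
    Mono α := by
  refine HomologicalComplex.mono_of_mono_f α (fun q => ?_)
  by_cases hq : q = 0
  · subst hq
    exact h
  · exact mono_of_isZero_src (isZero_single_obj_X _ _ _ _ hq) _

/-- the augmentation as a morphism from the single complex -/
noncomputable def augHom (C : CochainComplex A ℤ) {M : A} (a : M ⟶ C.X 0) (h : a ≫ C.d 0 1 = 0) :
    (HomologicalComplex.single A (ComplexShape.up ℤ) 0).obj M ⟶ C :=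
  HomologicalComplex.mkHomFromSingle a (by
    intro k hk
    obtain rfl : (0 : ℤ) + 1 = k := hk
    simpa using h)

lemma augHom_f (C : CochainComplex A ℤ) {M : A} (a : M ⟶ C.X 0) (h : a ≫ C.d 0 1 = 0) :
    (augHom C a h).f 0 = (singleObjXSelf (ComplexShape.up ℤ) 0 M).hom ≫ a :=
  HomologicalComplex.mkHomFromSingle_f _ _

/-- exactness and monomorphy are insensitive to precomposition with an isomorphism -/
lemma exact_mono_comp_iso_iff {M M' X Y : A} (e : M' ≅ M) (a : M ⟶ X) (d : X ⟶ Y) (h : a ≫ d = 0) :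
    (Mono (e.hom ≫ a) ∧ (ShortComplex.mk (e.hom ≫ a) d (by rw [Category.assoc, h, comp_zero])).Exact)
      ↔ (Mono a ∧ (ShortComplex.mk a d h).Exact) := by
  have e' : ShortComplex.mk (e.hom ≫ a) d (by rw [Category.assoc, h, comp_zero]) ≅
      ShortComplex.mk a d h :=
    ShortComplex.isoMk e (Iso.refl _) (Iso.refl _) (by simp) (by simp)
  rw [ShortComplex.exact_iff_of_iso e']
  constructor
  · rintro ⟨h1, h2⟩
    refine ⟨?_, h2⟩
    have : a = e.inv ≫ (e.hom ≫ a) := by simp
    rw [this]
    infer_instance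
  · rintro ⟨h1, h2⟩
    exact ⟨inferInstance, h2⟩

/-- resolutions in the sense of `CE.IsInjResolutionVia` through quasi-isomorphisms -/
lemma isInjResolutionVia_iff (C : CochainComplex A ℤ) {M : A} (a : M ⟶ C.X 0) :
    CE.IsInjResolutionVia C M a ↔ ∃ h : a ≫ C.d 0 1 = 0,
      C.IsStrictlyGE 0 ∧ (∀ q : ℤ, Injective (C.X q)) ∧ QuasiIso (augHom C a h) := by
  constructor
  · rintro ⟨h, h1, h2, h3, h4, h5⟩
    refine ⟨h, h1, h2, ?_⟩
    rw [quasiIso_from_single_iff]
    refine ⟨h3, ?_⟩
    have := (exact_mono_comp_iso_iff (singleObjXSelf (ComplexShape.up ℤ) 0 M) a (C.d 0 1) h).2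
      ⟨h4, h5⟩
    simp only [augHom_f]
    exact this
  · rintro ⟨h, h1, h2, h3⟩
    have := h1
    rw [quasiIso_from_single_iff] at h3
    obtain ⟨h3, h4, h5⟩ := h3
    simp only [augHom_f] at h4 h5
    have := (exact_mono_comp_iso_iff (singleObjXSelf (ComplexShape.up ℤ) 0 M) a (C.d 0 1) h).1
      ⟨h4, h5⟩
    exact ⟨h, h1, h2, h3, this.1, this.2⟩

/-- transport of resolutions along isomorphisms of complexes -/
lemma isInjResolutionVia_of_iso {C C' : CochainComplex A ℤ} (e : C ≅ C') {M : A} (a : M ⟶ C.X 0)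
    (h : CE.IsInjResolutionVia C M a) : CE.IsInjResolutionVia C' M (a ≫ e.hom.f 0) := by
  rw [isInjResolutionVia_iff] at h ⊢
  obtain ⟨h0, h1, h2, h3⟩ := h
  have := h1
  have h0' : (a ≫ e.hom.f 0) ≫ C'.d 0 1 = 0 := by
    rw [Category.assoc, e.hom.comm 0 1, ← Category.assoc, h0, zero_comp]
  refine ⟨h0', CochainComplex.isStrictlyGE_of_iso e 0, fun q => ?_, ?_⟩
  · have e' : C.X q ≅ C'.X q := (HomologicalComplex.eval A (ComplexShape.up ℤ) q).mapIso e
    exact Injective.of_iso e' (h2 q)
  · have hcomp : augHom C' (a ≫ e.hom.f 0) h0' = augHom C a h0 ≫ e.hom := by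
      apply HomologicalComplex.from_single_hom_ext
      rw [HomologicalComplex.comp_f, augHom_f, augHom_f, Category.assoc]
    rw [hcomp]
    have := h3
    infer_instance

/-- the zero complex resolves zero objects -/
lemma isInjResolutionVia_zero {M : A} (hM : IsZero M) :
    CE.IsInjResolutionVia (0 : CochainComplex A ℤ) M 0 := by
  have hz : ∀ q : ℤ, IsZero ((0 : CochainComplex A ℤ).X q) := fun q =>
    Functor.map_isZero (HomologicalComplex.eval A (ComplexShape.up ℤ) q) (isZero_zero _)
  refine ⟨by simp, ?_, fun q => ?_, fun q _ => ?_, mono_of_isZero_src hM _, ?_⟩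
  · rw [CochainComplex.isStrictlyGE_iff]
    intro i _
    exact hz i
  · exact (hz q).injective
  · rw [exactAt_iff_isZero_homology]
    exact ShortComplex.isZero_homology_of_isZero_X₂ _ (hz q)
  · exact ShortComplex.exact_of_isZero_X₂ _ (hz 0)

variable [EnoughInjectives A]

/-- existence of resolutions, zero for zero objects -/
theorem exists_res (M : A) : ∃ (C : CochainComplex A ℤ) (a : M ⟶ C.X 0),
    CE.IsInjResolutionVia C M a ∧ (IsZero M → ∀ q, IsZero (C.X q)) := by
  by_cases hM : IsZero M
  · refine ⟨0, 0, isInjResolutionVia_zero hM, fun _ q => ?_⟩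
    exact Functor.map_isZero (HomologicalComplex.eval A (ComplexShape.up ℤ) q) (isZero_zero _)
  · have : CochainComplex.IsStrictlyGE
        ((HomologicalComplex.single A (ComplexShape.up ℤ) 0).obj M) 0 := by
      change ((CochainComplex.singleFunctor A 0).obj M).IsStrictlyGE 0
      infer_instance
    obtain ⟨L, i, hi, hq, hinj, hL⟩ := Groth.Agent.H6.exists_mono_quasiIso_injective_ge
      ((HomologicalComplex.single A (ComplexShape.up ℤ) 0).obj M) 0
    refine ⟨L, (singleObjXSelf (ComplexShape.up ℤ) 0 M).inv ≫ i.f 0, ?_, fun h => absurd h hM⟩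
    rw [isInjResolutionVia_iff]
    have h0 : ((singleObjXSelf (ComplexShape.up ℤ) 0 M).inv ≫ i.f 0) ≫ L.d 0 1 = 0 := by
      rw [Category.assoc, i.comm 0 1, HomologicalComplex.single_obj_d, zero_comp, comp_zero]
    refine ⟨h0, hL, hinj, ?_⟩
    have : augHom L _ h0 = i := by
      apply HomologicalComplex.from_single_hom_ext
      rw [augHom_f, Iso.hom_inv_id_assoc]
    rw [this]
    exact hq

end Groth.Agent.H92.CEres
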