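import Mathlib

/-!
helper92: identification of the cycles and of the homology of a cochain complex in a given degree
from kernel and cokernel data.
-/

set_option autoImplicit false
universe v u

open CategoryTheory CategoryTheory.Limits HomologicalComplex

namespace Groth.Agent.H92.CEres

variable {A : Type u} [Category.{v} A] [Abelian A]

/-- Let `R` be a cochain complex, `iZ : Z ⟶ R.X (p+1)` a kernel of `d`, and assume that
`R.d p (p+1)` factors as `s ≫ ℓ ≫ iZ` with `s` an epimorphism, and `πH : Z ⟶ H` is a cokernel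
of `ℓ`. Then `Z` identifies with the cycles and `H` with the homology of `R` in degree `p+1`. -/
lemma exists_cycles_homology_iso (R : CochainComplex A ℤ) (p : ℤ)
    {Z H L : A} (iZ : Z ⟶ R.X (p + 1)) (wZ : iZ ≫ R.d (p + 1) (p + 1 + 1) = 0)
    (hk : IsLimit (KernelFork.ofι iZ wZ))
    (s : R.X p ⟶ L) (hs : Epi s) (ℓ : L ⟶ Z) (hsℓ : s ≫ ℓ ≫ iZ = R.d p (p + 1))
    (πH : Z ⟶ H) (wH : ℓ ≫ πH = 0) (hc : IsColimit (CokernelCofork.ofπ πH wH)) :
    ∃ (eZ : Z ≅ R.cycles (p + 1)) (eH : H ≅ R.homology (p + 1)),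
      eZ.hom ≫ R.iCycles (p + 1) = iZ ∧ πH ≫ eH.hom = eZ.hom ≫ R.homologyπ (p + 1) := by
  let eZ : Z ≅ R.cycles (p + 1) :=
    IsLimit.conePointUniqueUpToIso hk (R.cyclesIsKernel (p + 1) (p + 1 + 1) (by simp))
  have heZ : eZ.hom ≫ R.iCycles (p + 1) = iZ :=
    IsLimit.conePointUniqueUpToIso_hom_comp hk
      (R.cyclesIsKernel (p + 1) (p + 1 + 1) (by simp)) WalkingParallelPair.zero
  have heZ' : eZ.inv ≫ iZ = R.iCycles (p + 1) := by
    rw [← heZ, Iso.inv_hom_id_assoc]
  have htc : R.toCycles p (p + 1) = s ≫ ℓ ≫ eZ.hom := by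
    rw [← cancel_mono (R.iCycles (p + 1)), toCycles_i, Category.assoc, Category.assoc, heZ, hsℓ]
  have hcok := R.homologyIsCokernel p (p + 1) (by simp)
  have w1 : ℓ ≫ eZ.hom ≫ R.homologyπ (p + 1) = 0 := by
    rw [← cancel_epi s, comp_zero]
    have := R.toCycles_comp_homologyπ p (p + 1)
    rw [htc, Category.assoc, Category.assoc] at this
    exact this
  have w2 : R.toCycles p (p + 1) ≫ eZ.inv ≫ πH = 0 := by
    rw [htc, Category.assoc, Category.assoc, Iso.hom_inv_id_assoc, wH, comp_zero]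
  let f : H ⟶ R.homology (p + 1) :=
    hc.desc (CokernelCofork.ofπ (eZ.hom ≫ R.homologyπ (p + 1)) w1)
  let g : R.homology (p + 1) ⟶ H := hcok.desc (CokernelCofork.ofπ (eZ.inv ≫ πH) w2)
  have hf : πH ≫ f = eZ.hom ≫ R.homologyπ (p + 1) :=
    hc.fac (CokernelCofork.ofπ (eZ.hom ≫ R.homologyπ (p + 1)) w1) WalkingParallelPair.one
  have hg : R.homologyπ (p + 1) ≫ g = eZ.inv ≫ πH :=
    hcok.fac (CokernelCofork.ofπ (eZ.inv ≫ πH) w2) WalkingParallelPair.one
  have hπH : Epi πH := epi_of_isColimit_cofork hc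
  refine ⟨eZ, ⟨f, g, ?_, ?_⟩, heZ, hf⟩
  · rw [← cancel_epi πH, ← Category.assoc, hf, Category.assoc, hg, Iso.hom_inv_id_assoc,
      Category.comp_id]
  · rw [← cancel_epi (R.homologyπ (p + 1)), ← Category.assoc, hg, Category.assoc, hf,
      Iso.inv_hom_id_assoc, Category.comp_id]

end Groth.Agent.H92.CEres
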