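import Mathlib
import Groth.Prelude.Def_CE
import Groth.Agent.H92.CEBasic

/-!
helper92: the horseshoe lemma with both ends prescribed, for injective resolutions in the sense of
`CE.IsInjResolutionVia`: given a short exact sequence `0 → M₁ → M₂ → M₃ → 0` and resolutions
`I₁`, `I₃` of `M₁`, `M₃`, there is a resolution `I₂` of `M₂` with `I₂.X q = I₁.X q ⊞ I₃.X q` and a
short exact sequence of complexes `0 → I₁ → I₂ → I₃ → 0` compatible with the augmentations.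
-/

set_option autoImplicit false
universe v u

open CategoryTheory CategoryTheory.Limits HomologicalComplex ZeroObject

namespace Groth.Agent.H92.CEres

variable {A : Type u} [Category.{v} A] [Abelian A]

open CochainComplex.Plus.modelCategoryQuillen HomotopicalAlgebra in
/-- extension along a monomorphic quasi-isomorphism into a bounded below complex of injectives -/
lemma exists_lift {K B X : CochainComplex A ℤ} (i : K ⟶ B) (t : K ⟶ X)
    (nK nB nX : ℤ) [K.IsStrictlyGE nK] [B.IsStrictlyGE nB] [X.IsStrictlyGE nX]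
    [Mono i] [QuasiIso i] (hX : ∀ q, Injective (X.X q)) : ∃ l : B ⟶ X, i ≫ l = t := by
  let K' : CochainComplex.Plus A := ⟨K, nK, inferInstance⟩
  let B' : CochainComplex.Plus A := ⟨B, nB, inferInstance⟩
  let X' : CochainComplex.Plus A := ⟨X, nX, inferInstance⟩
  let i' : K' ⟶ B' := ObjectProperty.homMk i
  let t' : K' ⟶ X' := ObjectProperty.homMk t
  have : Mono i' := (CochainComplex.Plus.mono_iff i').2 (by assumption)
  have : WeakEquivalence i' :=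
    (CochainComplex.Plus.modelCategoryQuillen.weakEquivalence_iff i').2 (by assumption)
  have : IsFibrant X' := (CochainComplex.Plus.modelCategoryQuillen.isFibrant_iff X').2 hX
  have sq : CommSq t' i' (terminal.from X') (terminal.from B') := ⟨Subsingleton.elim _ _⟩
  refine ⟨sq.lift.hom, ?_⟩
  have := sq.fac_left
  exact congrArg (fun f => f.hom) this

/-- the complex `I⟦1⟧` with differential `-d`, made by hand -/
@[simps]
def negShift (I : CochainComplex A ℤ) : CochainComplex A ℤ where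
  X q := I.X (q + 1)
  d i j := - I.d (i + 1) (j + 1)
  shape i j hij := by
    rw [I.shape, neg_zero]
    intro h
    apply hij
    simp only [ComplexShape.up_Rel] at h ⊢
    omega
  d_comp_d' i j k _ _ := by simp

lemma negShift_isStrictlyGE (I : CochainComplex A ℤ) [I.IsStrictlyGE 0] :
    (negShift I).IsStrictlyGE (-1) := by
  rw [CochainComplex.isStrictlyGE_iff]
  intro i hi
  exact I.isZero_of_isStrictlyGE 0 (i + 1) (by omega)

section Twist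

variable (I₁ I₃ : CochainComplex A ℤ) (θ : ∀ q : ℤ, I₃.X q ⟶ I₁.X (q + 1))
  (hθ : ∀ q : ℤ, θ q ≫ I₁.d (q + 1) (q + 1 + 1) + I₃.d q (q + 1) ≫ θ (q + 1) = 0)

/-- the differential of the twisted direct sum -/
noncomputable def twistD (q : ℤ) : (I₁.X q ⊞ I₃.X q) ⟶ (I₁.X (q + 1) ⊞ I₃.X (q + 1)) :=
  biprod.desc (I₁.d q (q + 1) ≫ biprod.inl) (-(θ q ≫ biprod.inl) + I₃.d q (q + 1) ≫ biprod.inr)

@[reassoc (attr := simp)]
lemma inl_twistD (q : ℤ) : biprod.inl ≫ twistD I₁ I₃ θ q = I₁.d q (q + 1) ≫ biprod.inl := by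
  simp [twistD]

@[reassoc (attr := simp)]
lemma inr_twistD (q : ℤ) : biprod.inr ≫ twistD I₁ I₃ θ q =
    -(θ q ≫ biprod.inl) + I₃.d q (q + 1) ≫ biprod.inr := by
  simp [twistD]

@[reassoc (attr := simp)]
lemma twistD_snd (q : ℤ) : twistD I₁ I₃ θ q ≫ biprod.snd = biprod.snd ≫ I₃.d q (q + 1) := by
  apply biprod.hom_ext' <;> simp [twistD]

include hθ in
lemma twistD_comp (q : ℤ) : twistD I₁ I₃ θ q ≫ twistD I₁ I₃ θ (q + 1) = 0 := by
  apply biprod.hom_ext'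
  · simp
  · simp only [inr_twistD_assoc, Preadditive.add_comp, Preadditive.neg_comp, Category.assoc,
      inl_twistD, inr_twistD, Preadditive.comp_add, Preadditive.comp_neg, d_comp_d_assoc,
      zero_comp, add_zero, comp_zero]
    rw [← Category.assoc, ← Category.assoc, ← neg_add, ← Preadditive.add_comp, hθ q, zero_comp,
      neg_zero]

/-- the twisted direct sum of `I₁` and `I₃` -/
noncomputable def twist : CochainComplex A ℤ :=
  CochainComplex.of (fun q => I₁.X q ⊞ I₃.X q) (twistD I₁ I₃ θ) (twistD_comp I₁ I₃ θ hθ)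

lemma twist_d (q : ℤ) : (twist I₁ I₃ θ hθ).d q (q + 1) = twistD I₁ I₃ θ q :=
  CochainComplex.of_d (fun q => I₁.X q ⊞ I₃.X q) (twistD I₁ I₃ θ) q

/-- the inclusion of `I₁` -/
noncomputable def twistInl : I₁ ⟶ twist I₁ I₃ θ hθ :=
  CochainComplex.ofHom (fun q => (biprod.inl : I₁.X q ⟶ I₁.X q ⊞ I₃.X q)) (fun q => by
    rw [twist_d]
    exact inl_twistD I₁ I₃ θ q)

/-- the projection to `I₃` -/
noncomputable def twistSnd : twist I₁ I₃ θ hθ ⟶ I₃ :=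
  CochainComplex.ofHom (fun q => (biprod.snd : I₁.X q ⊞ I₃.X q ⟶ I₃.X q)) (fun q => by
    rw [twist_d]
    exact (twistD_snd I₁ I₃ θ q).symm)

lemma twistInl_f (q : ℤ) : (twistInl I₁ I₃ θ hθ).f q = biprod.inl := rfl
lemma twistSnd_f (q : ℤ) : (twistSnd I₁ I₃ θ hθ).f q = biprod.snd := rfl

lemma twistInl_twistSnd : twistInl I₁ I₃ θ hθ ≫ twistSnd I₁ I₃ θ hθ = 0 := by
  ext q
  exact (biprod.inl_snd : (biprod.inl : I₁.X q ⟶ I₁.X q ⊞ I₃.X q) ≫ biprod.snd = 0)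

lemma twist_shortExact : (ShortComplex.mk (twistInl I₁ I₃ θ hθ) (twistSnd I₁ I₃ θ hθ)
    (twistInl_twistSnd I₁ I₃ θ hθ)).ShortExact := by
  apply HomologicalComplex.shortExact_of_degreewise_shortExact
  intro q
  exact (ShortComplex.Splitting.ofHasBinaryBiproduct (I₁.X q) (I₃.X q)).shortExact

lemma isZero_twist_X (q : ℤ) (h1 : IsZero (I₁.X q)) (h3 : IsZero (I₃.X q)) :
    IsZero ((twist I₁ I₃ θ hθ).X q) := by
  change IsZero (I₁.X q ⊞ I₃.X q)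
  rw [IsZero.iff_id_eq_zero]
  apply biprod.hom_ext
  · exact h1.eq_of_tgt _ _
  · exact h3.eq_of_tgt _ _

/-- the twisted direct sum of two resolutions is a resolution of the middle term -/
theorem twist_isRes (S : ShortComplex A) (hS : S.ShortExact)
    (a₁ : S.X₁ ⟶ I₁.X 0) (a₃ : S.X₃ ⟶ I₃.X 0)
    (h₁ : CE.IsInjResolutionVia I₁ S.X₁ a₁) (h₃ : CE.IsInjResolutionVia I₃ S.X₃ a₃)
    (lam : S.X₂ ⟶ I₁.X 0) (hlam : S.f ≫ lam = a₁)
    (hτ : S.g ≫ a₃ ≫ θ 0 = lam ≫ I₁.d 0 (0 + 1)) :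
    CE.IsInjResolutionVia (twist I₁ I₃ θ hθ) S.X₂
      (biprod.lift lam (S.g ≫ a₃) : S.X₂ ⟶ I₁.X 0 ⊞ I₃.X 0) := by
  obtain ⟨w₁, hGE₁, hinj₁, hex₁, hm₁, he₁⟩ := h₁
  obtain ⟨w₃, hGE₃, hinj₃, hex₃, hm₃, he₃⟩ := h₃
  have := hS.mono_f
  have := hS.epi_g
  have hd0 : (twist I₁ I₃ θ hθ).d 0 1 = twistD I₁ I₃ θ 0 := twist_d I₁ I₃ θ hθ 0
  have w₃' : a₃ ≫ I₃.d 0 (0 + 1) = 0 := w₃
  have hw : (biprod.lift lam (S.g ≫ a₃) : S.X₂ ⟶ I₁.X 0 ⊞ I₃.X 0) ≫ twistD I₁ I₃ θ 0 = 0 := by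
    apply biprod.hom_ext
    · simp [twistD, hτ]
    · rw [Category.assoc, twistD_snd, biprod.lift_snd_assoc, Category.assoc, w₃', comp_zero,
        zero_comp]
  have hw' : (biprod.lift lam (S.g ≫ a₃) : S.X₂ ⟶ I₁.X 0 ⊞ I₃.X 0) ≫
      (twist I₁ I₃ θ hθ).d 0 1 = 0 := by
    rw [hd0]
    exact hw
  have hfa : S.f ≫ (biprod.lift lam (S.g ≫ a₃) : S.X₂ ⟶ I₁.X 0 ⊞ I₃.X 0) = a₁ ≫ biprod.inl := by
    apply biprod.hom_ext
    · simp [hlam]
    · simp
  refine ⟨hw', ?_, ?_, ?_, ?_, ?_⟩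
  · -- bounded below
    rw [CochainComplex.isStrictlyGE_iff]
    intro i hi
    exact isZero_twist_X I₁ I₃ θ hθ i (I₁.isZero_of_isStrictlyGE 0 i hi)
      (I₃.isZero_of_isStrictlyGE 0 i hi)
  · -- injective
    intro q
    have := hinj₁ q
    have := hinj₃ q
    change Injective (I₁.X q ⊞ I₃.X q)
    infer_instance
  · -- exactness
    intro q hq
    exact (twist_shortExact I₁ I₃ θ hθ).exactAt_X₂ q (hex₁ q hq) (hex₃ q hq)
  · -- mono
    apply Preadditive.mono_of_cancel_zero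
    intro T x hx
    replace hx : x ≫ (biprod.lift lam (S.g ≫ a₃) : S.X₂ ⟶ I₁.X 0 ⊞ I₃.X 0) = 0 := hx
    have h3 : (x ≫ S.g) ≫ a₃ = 0 := by
      have := hx =≫ biprod.snd
      simpa using this
    have h3' : x ≫ S.g = 0 := by
      rw [← cancel_mono a₃, h3, zero_comp]
    obtain ⟨y, rfl⟩ := hS.exact.lift' x h3'
    have h1 : y ≫ a₁ = 0 := by
      have := hx =≫ biprod.fst
      simpa [hlam] using this
    have h1' : y = 0 := by
      rw [← cancel_mono a₁, h1, zero_comp]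
    rw [h1', zero_comp]
  · -- exactness in degree 0
    rw [ShortComplex.exact_iff_exact_up_to_refinements]
    intro T x hx
    dsimp at x hx
    replace hx : x ≫ twistD I₁ I₃ θ 0 = 0 := by rw [← hd0]; exact hx
    let x' : T ⟶ I₁.X 0 ⊞ I₃.X 0 := x
    have hx' : x' ≫ twistD I₁ I₃ θ 0 = 0 := hx
    have hx3 : (x' ≫ biprod.snd) ≫ I₃.d 0 1 = 0 := by
      have := hx' =≫ biprod.snd
      rw [Category.assoc, twistD_snd, zero_comp, ← Category.assoc] at this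
      exact this
    obtain ⟨T₁, π₁, hπ₁, m₃, hm₃⟩ := he₃.exact_up_to_refinements (x' ≫ biprod.snd) hx3
    dsimp at m₃ hm₃
    obtain ⟨T₂, π₂, hπ₂, m₂, hm₂⟩ := surjective_up_to_refinements_of_epi S.g m₃
    let a₂ : S.X₂ ⟶ I₁.X 0 ⊞ I₃.X 0 := biprod.lift lam (S.g ≫ a₃)
    let y : T₂ ⟶ I₁.X 0 ⊞ I₃.X 0 := π₂ ≫ π₁ ≫ x' - m₂ ≫ a₂
    have hy3 : y ≫ biprod.snd = 0 := by
      simp only [y, a₂, Preadditive.sub_comp, Category.assoc, biprod.lift_snd]
      rw [hm₃, ← Category.assoc π₂, hm₂, Category.assoc, sub_self]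
    have hyd : y ≫ twistD I₁ I₃ θ 0 = 0 := by
      simp only [y, a₂, Preadditive.sub_comp, Category.assoc, hx', hw, comp_zero, sub_self]
    have hy : y = (y ≫ biprod.fst) ≫ biprod.inl := by
      apply biprod.hom_ext
      · simp
      · simp [hy3]
    have hy1 : (y ≫ biprod.fst) ≫ I₁.d 0 1 = 0 := by
      have h := hyd
      rw [hy, Category.assoc, inl_twistD, ← Category.assoc] at h
      have h' := h =≫ biprod.fst
      rw [Category.assoc, biprod.inl_fst, Category.comp_id, zero_comp] at h'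
      exact h'
    obtain ⟨T₃, π₃, hπ₃, m₁, hm₁⟩ := he₁.exact_up_to_refinements (y ≫ biprod.fst) hy1
    dsimp at m₁ hm₁
    refine ⟨T₃, π₃ ≫ π₂ ≫ π₁, inferInstance, π₃ ≫ m₂ + m₁ ≫ S.f, ?_⟩
    change (π₃ ≫ π₂ ≫ π₁) ≫ x' = (π₃ ≫ m₂ + m₁ ≫ S.f) ≫ a₂
    have e1 : π₃ ≫ y = m₁ ≫ S.f ≫ a₂ := by
      rw [hy, ← Category.assoc, hm₁, hfa, Category.assoc]
    have e2 : π₃ ≫ y = π₃ ≫ π₂ ≫ π₁ ≫ x' - π₃ ≫ m₂ ≫ a₂ := by
      simp only [y, Preadditive.comp_sub]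
    rw [Preadditive.add_comp, Category.assoc, Category.assoc, Category.assoc, Category.assoc,
      ← e1, e2]
    abel

end Twist

/-- The horseshoe lemma with both ends prescribed. -/
theorem horseshoe (S : ShortComplex A) (hS : S.ShortExact) (I₁ I₃ : CochainComplex A ℤ)
    (a₁ : S.X₁ ⟶ I₁.X 0) (a₃ : S.X₃ ⟶ I₃.X 0)
    (h₁ : CE.IsInjResolutionVia I₁ S.X₁ a₁) (h₃ : CE.IsInjResolutionVia I₃ S.X₃ a₃) :
    ∃ (I₂ : CochainComplex A ℤ) (a₂ : S.X₂ ⟶ I₂.X 0) (i : I₁ ⟶ I₂) (π : I₂ ⟶ I₃) (w : i ≫ π = 0),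
      CE.IsInjResolutionVia I₂ S.X₂ a₂ ∧ (ShortComplex.mk i π w).ShortExact ∧
      a₁ ≫ i.f 0 = S.f ≫ a₂ ∧ a₂ ≫ π.f 0 = S.g ≫ a₃ ∧
      (∀ q, IsZero (I₁.X q) → IsZero (I₃.X q) → IsZero (I₂.X q)) := by
  have h₁' := h₁
  have h₃' := h₃
  obtain ⟨w₁, hGE₁, hinj₁, hex₁, hm₁, he₁⟩ := h₁
  rw [isInjResolutionVia_iff] at h₃'
  obtain ⟨w₃, hGE₃, hinj₃, hq₃⟩ := h₃'
  have hm₃ : Mono a₃ := h₃.choose_spec.2.2.2.1
  have := hS.mono_f
  have := hS.epi_g
  have := hinj₁ 0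
  -- the lift of the augmentation of `S.X₁` to `S.X₂`
  let lam : S.X₂ ⟶ I₁.X 0 := Injective.factorThru a₁ S.f
  have hlam : S.f ≫ lam = a₁ := Injective.comp_factorThru a₁ S.f
  have hτ0 : S.f ≫ (lam ≫ I₁.d 0 (0 + 1)) = 0 := by
    rw [← Category.assoc, hlam]
    exact w₁
  let τ : S.X₃ ⟶ I₁.X (0 + 1) := hS.exact.desc _ hτ0
  have hτ : S.g ≫ τ = lam ≫ I₁.d 0 (0 + 1) := hS.exact.g_desc _ hτ0
  have hτd : τ ≫ I₁.d (0 + 1) (0 + 1 + 1) = 0 := by
    rw [← cancel_epi S.g, ← Category.assoc, hτ, Category.assoc, I₁.d_comp_d, comp_zero, comp_zero]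
  -- the morphism from the single complex to the shifted complex
  let t : (HomologicalComplex.single A (ComplexShape.up ℤ) 0).obj S.X₃ ⟶ negShift I₁ :=
    HomologicalComplex.mkHomFromSingle (τ : S.X₃ ⟶ (negShift I₁).X 0) (by
      intro k hk
      obtain rfl : (0 : ℤ) + 1 = k := hk
      change τ ≫ (- I₁.d (0 + 1) (0 + 1 + 1)) = 0
      rw [Preadditive.comp_neg, hτd, neg_zero])
  have : CochainComplex.IsStrictlyGE
      ((HomologicalComplex.single A (ComplexShape.up ℤ) 0).obj S.X₃) 0 := by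
    change ((CochainComplex.singleFunctor A 0).obj S.X₃).IsStrictlyGE 0
    infer_instance
  have := negShift_isStrictlyGE I₁
  have : Mono (augHom I₃ a₃ w₃) := by
    apply mono_from_single
    rw [augHom_f]
    infer_instance
  have hinjs : ∀ q, Injective ((negShift I₁).X q) := fun q => hinj₁ (q + 1)
  obtain ⟨φ, hφ⟩ := exists_lift (augHom I₃ a₃ w₃) t 0 0 (-1) hinjs
  let θ : ∀ q : ℤ, I₃.X q ⟶ I₁.X (q + 1) := fun q => φ.f q
  have hθ : ∀ q : ℤ, θ q ≫ I₁.d (q + 1) (q + 1 + 1) + I₃.d q (q + 1) ≫ θ (q + 1) = 0 := by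
    intro q
    have : θ q ≫ (- I₁.d (q + 1) (q + 1 + 1)) = I₃.d q (q + 1) ≫ θ (q + 1) := φ.comm q (q + 1)
    rw [Preadditive.comp_neg] at this
    rw [← this, add_neg_cancel]
  have hθ0 : a₃ ≫ θ 0 = τ := by
    have h0 : (augHom I₃ a₃ w₃).f 0 ≫ φ.f 0 = t.f 0 := by
      rw [← HomologicalComplex.comp_f, hφ]
    have h1 : t.f 0 = (singleObjXSelf (ComplexShape.up ℤ) 0 S.X₃).hom ≫ τ :=
      HomologicalComplex.mkHomFromSingle_f _ _
    rw [augHom_f, h1, Category.assoc] at h0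
    exact (cancel_epi _).1 h0
  refine ⟨twist I₁ I₃ θ hθ, (biprod.lift lam (S.g ≫ a₃) : S.X₂ ⟶ I₁.X 0 ⊞ I₃.X 0),
    twistInl I₁ I₃ θ hθ, twistSnd I₁ I₃ θ hθ, twistInl_twistSnd I₁ I₃ θ hθ, ?_,
    twist_shortExact I₁ I₃ θ hθ, ?_, ?_, isZero_twist_X I₁ I₃ θ hθ⟩
  · exact twist_isRes I₁ I₃ θ hθ S hS a₁ a₃ h₁' h₃ lam hlam (by rw [hθ0, hτ])
  · change a₁ ≫ (biprod.inl : I₁.X 0 ⟶ I₁.X 0 ⊞ I₃.X 0) = S.f ≫ biprod.lift lam (S.g ≫ a₃)
    apply biprod.hom_ext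
    · simp [hlam]
    · simp
  · change (biprod.lift lam (S.g ≫ a₃) : S.X₂ ⟶ I₁.X 0 ⊞ I₃.X 0) ≫ biprod.snd = S.g ≫ a₃
    simp

end Groth.Agent.H92.CEres
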