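import Mathlib
import Groth.Prelude.Def_CE
import Groth.Agent.H92.CEBasic
import Groth.Agent.H92.CEHorse
import Groth.Agent.H92.CECols

/-!
helper92: existence of Cartan–Eilenberg resolutions of bounded below complexes.
-/

set_option autoImplicit false
universe v u

open CategoryTheory CategoryTheory.Limits HomologicalComplex ZeroObject

namespace Groth.Agent.H92.CEres

variable {A : Type u} [Category.{v} A] [Abelian A]

section Abstract

variable (I IZ IB IH : ℤ → CochainComplex A ℤ)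
  (iZ : ∀ p, IZ p ⟶ I p) (πB : ∀ p, I p ⟶ IB (p + 1)) (wZ : ∀ p, iZ p ≫ πB p = 0)
  (hZ : ∀ p, (ShortComplex.mk (iZ p) (πB p) (wZ p)).ShortExact)
  (iBZ : ∀ p, IB p ⟶ IZ p) (πZH : ∀ p, IZ p ⟶ IH p) (wB : ∀ p, iBZ p ≫ πZH p = 0)
  (hB : ∀ p, (ShortComplex.mk (iBZ p) (πZH p) (wB p)).ShortExact)

/-- the horizontal differential -/
def ceD (p : ℤ) : I p ⟶ I (p + 1) := πB p ≫ iBZ (p + 1) ≫ iZ (p + 1)

include wZ in
lemma ceD_comp (p : ℤ) : ceD I IZ IB iZ πB iBZ p ≫ ceD I IZ IB iZ πB iBZ (p + 1) = 0 := by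
  simp only [ceD, Category.assoc]
  rw [reassoc_of% (wZ (p + 1)), zero_comp, comp_zero, comp_zero]

/-- the double complex, with the horizontal direction first -/
def ceJ : CochainComplex (CochainComplex A ℤ) ℤ :=
  CochainComplex.of I (ceD I IZ IB iZ πB iBZ) (ceD_comp I IZ IB iZ πB wZ iBZ)

/-- the double complex, with the vertical direction first -/
def ceII : CochainComplex (CochainComplex A ℤ) ℤ :=
  HomologicalComplex₂.flip (ceJ I IZ IB iZ πB wZ iBZ)

lemma ceII_X_d (q p : ℤ) : ((ceII I IZ IB iZ πB wZ iBZ).X q).d p (p + 1) =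
    (πB p).f q ≫ (iBZ (p + 1)).f q ≫ (iZ (p + 1)).f q := by
  change ((ceJ I IZ IB iZ πB wZ iBZ).d p (p + 1)).f q = _
  have : (ceJ I IZ IB iZ πB wZ iBZ).d p (p + 1) = ceD I IZ IB iZ πB iBZ p :=
    CochainComplex.of_d I (ceD I IZ IB iZ πB iBZ) p
  rw [this]
  rfl

lemma ceII_d_f (q q' p : ℤ) : ((ceII I IZ IB iZ πB wZ iBZ).d q q').f p = (I p).d q q' := rfl

include hZ hB in
lemma exists_isos (p q : ℤ) :
    ∃ (eZ : (IZ (p + 1)).X q ≅ ((ceII I IZ IB iZ πB wZ iBZ).X q).cycles (p + 1))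
      (eH : (IH (p + 1)).X q ≅ ((ceII I IZ IB iZ πB wZ iBZ).X q).homology (p + 1)),
      eZ.hom ≫ ((ceII I IZ IB iZ πB wZ iBZ).X q).iCycles (p + 1) = (iZ (p + 1)).f q ∧
      (πZH (p + 1)).f q ≫ eH.hom =
        eZ.hom ≫ ((ceII I IZ IB iZ πB wZ iBZ).X q).homologyπ (p + 1) := by
  have hZq : ∀ p', (ShortComplex.mk ((iZ p').f q) ((πB p').f q)
      (by rw [← HomologicalComplex.comp_f, wZ p', HomologicalComplex.zero_f])).ShortExact :=
    fun p' => ((HomologicalComplex.shortExact_iff_degreewise_shortExact _).1 (hZ p')) q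
  have hBq : ∀ p', (ShortComplex.mk ((iBZ p').f q) ((πZH p').f q)
      (by rw [← HomologicalComplex.comp_f, wB p', HomologicalComplex.zero_f])).ShortExact :=
    fun p' => ((HomologicalComplex.shortExact_iff_degreewise_shortExact _).1 (hB p')) q
  have m1 : Mono ((iZ (p + 1 + 1)).f q) := (hZq (p + 1 + 1)).mono_f
  have m2 : Mono ((iBZ (p + 1 + 1)).f q) := (hBq (p + 1 + 1)).mono_f
  have e1 : Epi ((πB p).f q) := (hZq p).epi_g
  have hk := isKernelCompMono (hZq (p + 1)).fIsKernel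
    ((iBZ (p + 1 + 1)).f q ≫ (iZ (p + 1 + 1)).f q)
    (ceII_X_d I IZ IB iZ πB wZ iBZ q (p + 1))
  exact exists_cycles_homology_iso ((ceII I IZ IB iZ πB wZ iBZ).X q) p
    ((iZ (p + 1)).f q) _ hk ((πB p).f q) e1 ((iBZ (p + 1)).f q)
    (ceII_X_d I IZ IB iZ πB wZ iBZ q p).symm ((πZH (p + 1)).f q) _ (hBq (p + 1)).gIsCokernel

include hZ hB in
theorem exists_complex_isos (p : ℤ) :
    ∃ (eZ : IZ (p + 1) ≅ ((cyclesFunctor A (ComplexShape.up ℤ) (p + 1)).mapHomologicalComplex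
        (ComplexShape.up ℤ)).obj (ceII I IZ IB iZ πB wZ iBZ))
      (eH : IH (p + 1) ≅ ((homologyFunctor A (ComplexShape.up ℤ) (p + 1)).mapHomologicalComplex
        (ComplexShape.up ℤ)).obj (ceII I IZ IB iZ πB wZ iBZ)),
      (∀ q, eZ.hom.f q ≫ ((ceII I IZ IB iZ πB wZ iBZ).X q).iCycles (p + 1) = (iZ (p + 1)).f q) ∧
      (∀ q, (πZH (p + 1)).f q ≫ eH.hom.f q =
        eZ.hom.f q ≫ ((ceII I IZ IB iZ πB wZ iBZ).X q).homologyπ (p + 1)) := by
  choose eZ eH h1 h2 using exists_isos I IZ IB IH iZ πB wZ hZ iBZ πZH wB hB p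
  have hπ : ∀ q, Epi ((πZH (p + 1)).f q) := fun q =>
    (((HomologicalComplex.shortExact_iff_degreewise_shortExact _).1 (hB (p + 1))) q).epi_g
  have c1 : ∀ q q', (eZ q).hom ≫ cyclesMap ((ceII I IZ IB iZ πB wZ iBZ).d q q') (p + 1) =
      (IZ (p + 1)).d q q' ≫ (eZ q').hom := by
    intro q q'
    rw [← cancel_mono (((ceII I IZ IB iZ πB wZ iBZ).X q').iCycles (p + 1)), Category.assoc,
      Category.assoc, cyclesMap_i, reassoc_of% (h1 q), h1 q', ceII_d_f]
    exact (iZ (p + 1)).comm q q'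
  have c2 : ∀ q q', (eH q).hom ≫ homologyMap ((ceII I IZ IB iZ πB wZ iBZ).d q q') (p + 1) =
      (IH (p + 1)).d q q' ≫ (eH q').hom := by
    intro q q'
    have := hπ q
    rw [← cancel_epi ((πZH (p + 1)).f q), reassoc_of% (h2 q), homologyπ_naturality,
      reassoc_of% (c1 q q'), ← h2 q', ← Category.assoc, ← Category.assoc]
    congr 1
    exact ((πZH (p + 1)).comm q q').symm
  refine ⟨Hom.isoOfComponents eZ (fun q q' _ => c1 q q'),
    Hom.isoOfComponents eH (fun q q' _ => c2 q q'), fun q => ?_, fun q => ?_⟩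
  · exact h1 q
  · exact h2 q

end Abstract

section Main

variable (K : CochainComplex A ℤ)

/-- the map from `K.X p` to the boundaries in degree `p + 1` -/
noncomputable def toBd (p : ℤ) : K.X p ⟶ kernel (K.homologyπ (p + 1)) :=
  kernel.lift _ (K.toCycles p (p + 1)) (K.toCycles_comp_homologyπ p (p + 1))

@[reassoc]
lemma toBd_ι (p : ℤ) : toBd K p ≫ kernel.ι (K.homologyπ (p + 1)) = K.toCycles p (p + 1) :=
  kernel.lift_ι _ _ _

lemma ses1 (p : ℤ) : (ShortComplex.mk (kernel.ι (K.homologyπ p)) (K.homologyπ p)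
    (kernel.condition _)).ShortExact :=
  ShortComplex.ShortExact.mk' (ShortComplex.exact_of_f_is_kernel _ (kernelIsKernel _))
    inferInstance inferInstance

lemma iCycles_toBd (p : ℤ) : K.iCycles p ≫ toBd K p = 0 := by
  rw [← cancel_mono (kernel.ι (K.homologyπ (p + 1))), Category.assoc, toBd_ι, zero_comp,
    ← cancel_mono (K.iCycles (p + 1)), Category.assoc, toCycles_i, iCycles_d, zero_comp]

lemma ses2 (p : ℤ) :
    (ShortComplex.mk (K.iCycles p) (toBd K p) (iCycles_toBd K p)).ShortExact := by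
  have hepi : Epi (toBd K p) := by
    have hex : (ShortComplex.mk (K.toCycles p (p + 1)) (K.homologyπ (p + 1))
        (K.toCycles_comp_homologyπ p (p + 1))).Exact :=
      ShortComplex.exact_of_g_is_cokernel _ (K.homologyIsCokernel p (p + 1) (by simp))
    exact (ShortComplex.exact_iff_epi_kernel_lift _).1 hex
  refine ShortComplex.ShortExact.mk' ?_ inferInstance hepi
  apply ShortComplex.exact_of_f_is_kernel
  exact isKernelOfComp (kernel.ι (K.homologyπ (p + 1)) ≫ K.iCycles (p + 1)) (K.d p (p + 1))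
    (K.cyclesIsKernel p (p + 1) (by simp)) (iCycles_toBd K p)
    (by rw [toBd_ι_assoc, toCycles_i])

/-- Existence of Cartan–Eilenberg resolutions. -/
theorem ce_exists [EnoughInjectives A] (n : ℤ) [K.IsStrictlyGE n] :
    ∃ (I : CochainComplex (CochainComplex A ℤ) ℤ) (ε : K ⟶ I.X 0) (_ : ε ≫ I.d 0 1 = 0),
      (∃ i : ℤ, ∀ p q : ℤ, p < i → IsZero ((I.X q).X p)) ∧
      (∀ p : ℤ, CE.IsInjResolutionVia (((HomologicalComplex.eval A (ComplexShape.up ℤ)
        p).mapHomologicalComplex (ComplexShape.up ℤ)).obj I) (K.X p) (ε.f p)) ∧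
      (∀ p : ℤ, CE.IsInjResolutionVia (((HomologicalComplex.cyclesFunctor A (ComplexShape.up ℤ)
        p).mapHomologicalComplex (ComplexShape.up ℤ)).obj I) (K.cycles p)
        (HomologicalComplex.cyclesMap ε p)) ∧
      (∀ p : ℤ, CE.IsInjResolutionVia (((HomologicalComplex.homologyFunctor A (ComplexShape.up ℤ)
        p).mapHomologicalComplex (ComplexShape.up ℤ)).obj I) (K.homology p)
        (HomologicalComplex.homologyMap ε p)) := by
  choose IB aB hBres hB0 using fun p : ℤ => exists_res (kernel (K.homologyπ p))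
  choose IH aH hHres hH0 using fun p : ℤ => exists_res (K.homology p)
  choose IZ aZ iBZ πZH wB hZres hBses hc1 hc2 hZ0 using fun p : ℤ =>
    horseshoe _ (ses1 K p) (IB p) (IH p) (aB p) (aH p) (hBres p) (hHres p)
  choose I aX iZ πB wZ hXres hZses hc3 hc4 hX0 using fun p : ℤ =>
    horseshoe _ (ses2 K p) (IZ p) (IB (p + 1)) (aZ p) (aB (p + 1)) (hZres p) (hBres (p + 1))
  dsimp only at aZ hZres hc1 hc2 aX hXres hc3 hc4
  have hcomm : ∀ p : ℤ, aX p ≫ ((ceII I IZ IB iZ πB wZ iBZ).X 0).d p (p + 1) =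
      K.d p (p + 1) ≫ aX (p + 1) := by
    intro p
    have e : aX p ≫ ((πB p).f 0 ≫ (iBZ (p + 1)).f 0 ≫ (iZ (p + 1)).f 0) =
        K.d p (p + 1) ≫ aX (p + 1) := by
      rw [reassoc_of% (hc4 p), reassoc_of% (hc1 (p + 1)), hc3 (p + 1),
        toBd_ι_assoc, toCycles_i_assoc]
    have e' : ((ceII I IZ IB iZ πB wZ iBZ).X 0).d p (p + 1) =
        (πB p).f 0 ≫ (iBZ (p + 1)).f 0 ≫ (iZ (p + 1)).f 0 := ceII_X_d I IZ IB iZ πB wZ iBZ 0 p
    exact (congrArg (fun f : (I p).X 0 ⟶ (I (p + 1)).X 0 => aX p ≫ f) e').trans e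
  let ε : K ⟶ (ceII I IZ IB iZ πB wZ iBZ).X 0 :=
    { f := fun p => aX p
      comm' := fun p p' h => by
        obtain rfl : p + 1 = p' := h
        exact hcomm p }
  have hε : ε ≫ (ceII I IZ IB iZ πB wZ iBZ).d 0 1 = 0 := by
    ext p
    exact (hXres p).choose
  have hcyc : ∀ (p' : ℤ) (e0 : (IZ (p' + 1)).X 0 ⟶
      ((ceII I IZ IB iZ πB wZ iBZ).X 0).cycles (p' + 1)),
      (e0 ≫ ((ceII I IZ IB iZ πB wZ iBZ).X 0).iCycles (p' + 1) = (iZ (p' + 1)).f 0) →
      aZ (p' + 1) ≫ e0 = cyclesMap ε (p' + 1) := by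
    intro p' e0 h1
    rw [← cancel_mono (((ceII I IZ IB iZ πB wZ iBZ).X 0).iCycles (p' + 1)), Category.assoc, h1,
      cyclesMap_i]
    exact hc3 (p' + 1)
  have hhom : ∀ (p' : ℤ) (e0 : (IZ (p' + 1)).X 0 ⟶
      ((ceII I IZ IB iZ πB wZ iBZ).X 0).cycles (p' + 1))
      (f0 : (IH (p' + 1)).X 0 ⟶ ((ceII I IZ IB iZ πB wZ iBZ).X 0).homology (p' + 1)),
      (e0 ≫ ((ceII I IZ IB iZ πB wZ iBZ).X 0).iCycles (p' + 1) = (iZ (p' + 1)).f 0) →
      ((πZH (p' + 1)).f 0 ≫ f0 =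
        e0 ≫ ((ceII I IZ IB iZ πB wZ iBZ).X 0).homologyπ (p' + 1)) →
      aH (p' + 1) ≫ f0 = homologyMap ε (p' + 1) := by
    intro p' e0 f0 h1 h2
    rw [← cancel_epi (K.homologyπ (p' + 1)), homologyπ_naturality, ← hcyc p' e0 h1,
      Category.assoc, ← h2, ← reassoc_of% (hc2 (p' + 1))]
  refine ⟨ceII I IZ IB iZ πB wZ iBZ, ε, hε, ⟨n - 1, ?_⟩, ?_, ?_, ?_⟩
  · -- vanishing
    intro p q hp
    have hz : ∀ p' : ℤ, p' < n → IsZero (K.cycles p') ∧ IsZero (K.homology p') ∧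
        IsZero (kernel (K.homologyπ p')) := by
      intro p' hp'
      have h1 : IsZero (K.cycles p') :=
        IsZero.of_mono (K.iCycles p') (K.isZero_of_isStrictlyGE n p' hp')
      exact ⟨h1, IsZero.of_epi (K.homologyπ p') h1, IsZero.of_mono (kernel.ι _) h1⟩
    have hB0' : ∀ p' : ℤ, p' < n → ∀ q, IsZero ((IB p').X q) := fun p' hp' =>
      hB0 p' (hz p' hp').2.2
    have hH0' : ∀ p' : ℤ, p' < n → ∀ q, IsZero ((IH p').X q) := fun p' hp' =>
      hH0 p' (hz p' hp').2.1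
    exact hX0 p q (hZ0 p q (hB0' p (by omega) q) (hH0' p (by omega) q)) (hB0' (p + 1) (by omega) q)
  · -- columns
    intro p
    exact hXres p
  · -- cycles
    intro p
    obtain ⟨p', rfl⟩ : ∃ p', p = p' + 1 := ⟨p - 1, by ring⟩
    obtain ⟨eZ, eH, h1, h2⟩ := exists_complex_isos I IZ IB IH iZ πB wZ hZses iBZ πZH wB hBses p'
    have := isInjResolutionVia_of_iso eZ (aZ (p' + 1)) (hZres (p' + 1))
    exact (congrArg (CE.IsInjResolutionVia _ (K.cycles (p' + 1)))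
      (hcyc p' (eZ.hom.f 0) (h1 0))).mp this
  · -- homology
    intro p
    obtain ⟨p', rfl⟩ : ∃ p', p = p' + 1 := ⟨p - 1, by ring⟩
    obtain ⟨eZ, eH, h1, h2⟩ := exists_complex_isos I IZ IB IH iZ πB wZ hZses iBZ πZH wB hBses p'
    have := isInjResolutionVia_of_iso eH (aH (p' + 1)) (hHres (p' + 1))
    exact (congrArg (CE.IsInjResolutionVia _ (K.homology (p' + 1)))
      (hhom p' (eZ.hom.f 0) (eH.hom.f 0) (h1 0) (h2 0))).mp this

end Main

end Groth.Agent.H92.CEres
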