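import Groth.Agent.H92.HopfInt
import Mathlib

/-!
# A finite projective faithful algebra has a linear retraction onto the base
-/

set_option autoImplicit false
universe u v
open TensorProduct

namespace Groth.Agent.H92.ProjRetract

/-- if `A` is a finite projective `S`-algebra with `S → A` injective, then `S` is an `S`-module
direct summand of `A` -/
theorem exists_retraction {S : Type u} [CommRing S] {A : Type v} [CommRing A] [Algebra S A]
    [Module.Finite S A] [Module.Projective S A] (hinj : Function.Injective (algebraMap S A)) :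
    ∃ r : A →ₗ[S] S, r 1 = 1 := by
  classical
  obtain ⟨n, e, es, he⟩ := HopfInt.exists_dual_basis S A
  let Φ : (Fin n → A) →ₗ[S] S := ∑ k : Fin n, es k ∘ₗ LinearMap.proj k
  have hΦ : ∀ v, Φ v = ∑ k : Fin n, es k (v k) := by
    intro v
    simp only [Φ, LinearMap.sum_apply, LinearMap.comp_apply, LinearMap.proj_apply]
  let 𝔗 : Ideal S := LinearMap.range Φ
  have hmem : ∀ (k : Fin n) (a : A), es k a ∈ 𝔗 := by
    intro k a
    refine ⟨Pi.single k a, ?_⟩
    rw [hΦ, Finset.sum_eq_single k]
    · rw [Pi.single_eq_same]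
    · intro k' _ hk'
      rw [Pi.single_eq_of_ne hk', map_zero]
    · intro hk
      exact absurd (Finset.mem_univ k) hk
  have hin : (⊤ : Submodule S A) ≤ 𝔗 • (⊤ : Submodule S A) := by
    intro a _
    rw [he a]
    exact Submodule.sum_mem _ (fun k _ => Submodule.smul_mem_smul (hmem k a) Submodule.mem_top)
  obtain ⟨r, hr, hr'⟩ := Submodule.exists_mem_and_smul_eq_self_of_fg_of_le_smul 𝔗 ⊤
    (Module.finite_def.mp inferInstance) hin
  have h1 : r = 1 := by
    apply hinj
    have := hr' 1 Submodule.mem_top
    rw [Algebra.smul_def, mul_one] at this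
    rw [this, map_one]
  rw [h1] at hr
  obtain ⟨v, hv⟩ := hr
  refine ⟨∑ k : Fin n, es k ∘ₗ LinearMap.mulLeft S (v k), ?_⟩
  rw [LinearMap.sum_apply, ← hv, hΦ]
  refine Finset.sum_congr rfl (fun k _ => ?_)
  rw [LinearMap.comp_apply, LinearMap.mulLeft_apply, mul_one]

end Groth.Agent.H92.ProjRetract
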