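import Groth.Agent.H92.KTKer
import Groth.Agent.H92.ProjRetract
import Groth.Prelude.Def_CartDual2
import Mathlib

/-!
# Cartier duality is exact on short exact sequences of finite flat commutative group schemes
-/

set_option autoImplicit false
universe u
open TensorProduct CartDual

namespace Groth.Agent.H92.CartExact

section split
variable {R : Type u} [CommRing R] [IsNoetherianRing R]
  {A A'' : Type u} [CommRing A] [HopfAlgebra R A] [Module.Finite R A]
  [CommRing A''] [HopfAlgebra R A''] [Module.Finite R A'']
  (f : A'' →ₐc[R] A) (hf : (f : A'' →ₐ[R] A).toRingHom.FaithfullyFlat)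

include hf in
/-- a faithfully flat map of finite Hopf algebras over a Noetherian ring has an `R`-linear
retraction -/
theorem exists_linear_retraction : ∃ r : A →ₗ[R] A'', ∀ x, r (f x) = x := by
  letI : Algebra A'' A := (f : A'' →ₐ[R] A).toRingHom.toAlgebra
  have hff : Module.FaithfullyFlat A'' A := hf
  haveI : IsScalarTower R A'' A := IsScalarTower.of_algebraMap_eq (fun r => by
    change algebraMap R A r = f (algebraMap R A'' r)
    exact ((f : A'' →ₐ[R] A).commutes r).symm)
  haveI : Module.Finite A'' A := Module.Finite.of_restrictScalars_finite R A'' A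
  haveI : IsNoetherianRing A'' := IsNoetherianRing.of_finite R A''
  haveI : Module.FinitePresentation A'' A := Module.finitePresentation_of_finite A'' A
  haveI : Module.Projective A'' A := Module.Flat.projective_of_finitePresentation
  have hinj : Function.Injective (algebraMap A'' A) := FaithfulSMul.algebraMap_injective A'' A
  obtain ⟨r, hr⟩ := ProjRetract.exists_retraction (S := A'') (A := A) hinj
  refine ⟨r.restrictScalars R, fun x => ?_⟩
  change r (algebraMap A'' A x) = x
  rw [Algebra.algebraMap_eq_smul_one, map_smul, hr, smul_eq_mul, mul_one]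

end split

section dual
variable {R : Type u} [CommRing R]
  {A' A A'' : Type u} [CommRing A'] [HopfAlgebra R A'] [Coalgebra.IsCocomm R A'] [Module.Finite R A']
  [Module.Projective R A'] [CommRing A] [HopfAlgebra R A] [Coalgebra.IsCocomm R A] [Module.Finite R A]
  [Module.Projective R A] [CommRing A''] [HopfAlgebra R A''] [Coalgebra.IsCocomm R A'']
  [Module.Finite R A''] [Module.Projective R A'']
  (f : A'' →ₐc[R] A) (g : A →ₐc[R] A')

theorem transpose_surjective (r : A →ₗ[R] A'') (hr : ∀ x, r (f x) = x) :
    Function.Surjective (transpose R f) := by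
  intro ψ
  refine ⟨WithConv.toConv (ψ.ofConv ∘ₗ r), ?_⟩
  apply WithConv.ext
  apply LinearMap.ext
  intro x
  change ψ.ofConv (r (f x)) = ψ.ofConv x
  rw [hr]

/-- membership in the range of the transpose of a surjection -/
theorem mem_range_transpose_iff (hg : Function.Surjective g) (κ : D R A) :
    κ ∈ Set.range (transpose R g) ↔ ∀ a, g a = 0 → κ a = 0 := by
  constructor
  · rintro ⟨χ, rfl⟩ a ha
    rw [transpose_apply, ha, map_zero]
  · intro h
    obtain ⟨s, hs⟩ := LinearMap.exists_rightInverse_of_surjective (g : A →ₗ[R] A')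
      (LinearMap.range_eq_top.mpr hg)
    have hs' : ∀ y, g (s y) = y := fun y => LinearMap.congr_fun hs y
    refine ⟨WithConv.toConv (κ.ofConv ∘ₗ s), ?_⟩
    apply WithConv.ext
    apply LinearMap.ext
    intro a
    change κ.ofConv (s (g a)) = κ.ofConv a
    have h1 : g (s (g a) - a) = 0 := by rw [map_sub, hs', sub_self]
    have h2 := h _ h1
    change κ.ofConv (s (g a) - a) = 0 at h2
    rw [map_sub, sub_eq_zero] at h2
    exact h2

/-- the pairing `D A ⊗ D A'' ≃ Dual (A ⊗ A'')` -/
noncomputable def Γ : D R A ⊗[R] D R A'' ≃ₗ[R] Module.Dual R (A ⊗[R] A'') :=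
  TensorProduct.congr (toDual R A) (toDual R A'') ≪≫ₗ dualTensorEquiv R A A''

@[simp] theorem Γ_tmul (κ : D R A) (η : D R A'') (a : A) (x : A'') :
    Γ (κ ⊗ₜ[R] η) (a ⊗ₜ[R] x) = κ a * η x := by
  simp [Γ, coe_apply]

theorem Γ_map (y : D R A ⊗[R] D R A) (a : A) (x : A'') :
    Γ (Algebra.TensorProduct.map (AlgHom.id R (D R A)) (transpose R f : D R A →ₐ[R] D R A'') y)
      (a ⊗ₜ[R] x) = ev₂ R A y (a ⊗ₜ[R] f x) := by
  induction y using TensorProduct.induction_on with
  | zero => simp
  | add z w hz hw => simp only [map_add, LinearMap.add_apply, hz, hw]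
  | tmul κ₁ κ₂ =>
    rw [Algebra.TensorProduct.map_tmul, Γ_tmul, ev₂_tmul]
    rfl

theorem Γ_rho (κ : D R A) (a : A) (x : A'') :
    Γ (KTSurj.rho (transpose R f) κ) (a ⊗ₜ[R] x) = κ (a * f x) := by
  rw [KTSurj.rho_apply, Γ_map, ev₂_coalgebra_comul_tmul]

theorem mem_coinv_iff (κ : D R A) :
    κ ∈ KT.coinv (KTSurj.rho (transpose R f)) ↔
      ∀ (a : A) (x : A''), κ (a * f x) = κ a * Coalgebra.counit (R := R) x := by
  rw [KT.mem_coinv]
  constructor
  · intro h a x
    have := congrArg (fun z => Γ z (a ⊗ₜ[R] x)) h
    simp only [Γ_rho, Γ_tmul] at this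
    rw [this]
    congr 1
  · intro h
    apply (Γ (R := R) (A := A) (A'' := A'')).injective
    apply TensorProduct.ext'
    intro a x
    rw [Γ_rho, Γ_tmul, h]
    congr 1

theorem mem_coinv_iff_range (hg : Function.Surjective g)
    (hker : RingHom.ker (g : A →ₐ[R] A') =
      Ideal.map (f : A'' →ₐ[R] A) (RingHom.ker (Bialgebra.counitAlgHom R A''))) (κ : D R A) :
    κ ∈ KT.coinv (KTSurj.rho (transpose R f)) ↔ κ ∈ Set.range (transpose R g) := by
  rw [mem_coinv_iff, mem_range_transpose_iff g hg]
  constructor
  · intro h a ha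
    have ha' : a ∈ RingHom.ker (g : A →ₐ[R] A') := ha
    rw [hker, Ideal.map] at ha'
    have key : ∀ a ∈ Ideal.span ((f : A'' →ₐ[R] A) ''
        (RingHom.ker (Bialgebra.counitAlgHom R A'') : Set A'')), ∀ b : A, κ (b * a) = 0 := by
      intro a ha
      induction ha using Submodule.span_induction with
      | mem a ha =>
        obtain ⟨x, hx, rfl⟩ := ha
        intro b
        have hx0 : Coalgebra.counit (R := R) x = 0 := hx
        change κ (b * f x) = 0
        rw [h, hx0, mul_zero]
      | zero => intro b; rw [mul_zero, map_zero]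
      | add a a' _ _ ha ha' => intro b; rw [mul_add, map_add, ha, ha', add_zero]
      | smul c a _ ha =>
        intro b
        rw [smul_eq_mul, ← mul_assoc]
        exact ha (b * c)
    have := key a ha' 1
    rwa [one_mul] at this
  · intro h a x
    have hx : x - algebraMap R A'' (Coalgebra.counit (R := R) x) ∈
        RingHom.ker (Bialgebra.counitAlgHom R A'') := by
      rw [RingHom.mem_ker, map_sub, AlgHom.commutes]
      change Coalgebra.counit (R := R) x - _ = 0
      simp
    have h1 : a * f (x - algebraMap R A'' (Coalgebra.counit (R := R) x)) ∈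
        RingHom.ker (g : A →ₐ[R] A') := by
      rw [hker]
      exact Ideal.mul_mem_left _ _ (Ideal.mem_map_of_mem _ hx)
    have h2 := h _ h1
    have h3 : f (algebraMap R A'' (Coalgebra.counit (R := R) x)) =
        algebraMap R A (Coalgebra.counit (R := R) x) := (f : A'' →ₐ[R] A).commutes _
    rw [map_sub, mul_sub, h3] at h2
    have h4 : κ (a * f x) - κ (a * algebraMap R A (Coalgebra.counit (R := R) x)) = 0 := by
      rw [← h2]
      exact (map_sub κ.ofConv _ _).symm
    rw [sub_eq_zero] at h4
    rw [h4, ← Algebra.commutes, ← Algebra.smul_def]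
    change κ.ofConv (_ • a) = _
    rw [map_smul, smul_eq_mul, mul_comm]

theorem transpose_injective (hg : Function.Surjective g) :
    Function.Injective (transpose R g) := by
  intro χ χ' h
  apply WithConv.ext
  apply LinearMap.ext
  intro y
  obtain ⟨a, rfl⟩ := hg y
  have := congrArg (fun κ : D R A => κ a) h
  exact this

theorem g_f (hker : RingHom.ker (g : A →ₐ[R] A') =
      Ideal.map (f : A'' →ₐ[R] A) (RingHom.ker (Bialgebra.counitAlgHom R A''))) (x : A'') :
    g (f x) = algebraMap R A' (Coalgebra.counit (R := R) x) := by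
  have hx : x - algebraMap R A'' (Coalgebra.counit (R := R) x) ∈
      RingHom.ker (Bialgebra.counitAlgHom R A'') := by
    rw [RingHom.mem_ker, map_sub, AlgHom.commutes]
    change Coalgebra.counit (R := R) x - _ = 0
    simp
  have h1 : f (x - algebraMap R A'' (Coalgebra.counit (R := R) x)) ∈
      RingHom.ker (g : A →ₐ[R] A') := by
    rw [hker]
    exact Ideal.mem_map_of_mem _ hx
  have h3 : f (algebraMap R A'' (Coalgebra.counit (R := R) x)) =
      algebraMap R A (Coalgebra.counit (R := R) x) := (f : A'' →ₐ[R] A).commutes _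
  have h4 : g (algebraMap R A (Coalgebra.counit (R := R) x)) =
      algebraMap R A' (Coalgebra.counit (R := R) x) := (g : A →ₐ[R] A').commutes _
  have h2 : g (f (x - algebraMap R A'' (Coalgebra.counit (R := R) x))) = 0 := h1
  rw [map_sub, map_sub, h3, h4, sub_eq_zero] at h2
  exact h2

theorem main [IsNoetherianRing R] (hf : (f : A'' →ₐ[R] A).toRingHom.FaithfullyFlat)
    (hg : Function.Surjective g)
    (hker : RingHom.ker (g : A →ₐ[R] A') =
      Ideal.map (f : A'' →ₐ[R] A) (RingHom.ker (Bialgebra.counitAlgHom R A''))) :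
    (CartDual.transpose R g : CartDual.D R A' →ₐ[R] CartDual.D R A).toRingHom.FaithfullyFlat ∧
      Function.Surjective (CartDual.transpose R f) ∧
      RingHom.ker (CartDual.transpose R f : CartDual.D R A →ₐ[R] CartDual.D R A'') =
        Ideal.map (CartDual.transpose R g : CartDual.D R A' →ₐ[R] CartDual.D R A)
          (RingHom.ker (Bialgebra.counitAlgHom R (CartDual.D R A'))) := by
  obtain ⟨r, hr⟩ := exists_linear_retraction f hf
  have hsurj := transpose_surjective f r hr
  obtain ⟨hfin, hproj, hbij, r2, hr2⟩ := KT.main (KTSurj.rho (transpose R f))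
    (KTSurj.hco _) (KTSurj.hcu _) (KTSurj.hsurj _ hsurj)
  refine ⟨?_, hsurj, ?_⟩
  · -- faithful flatness
    have hff : Module.FaithfullyFlat ↥(KT.coinv (KTSurj.rho (transpose R f))) (D R A) := by
      apply Module.FaithfullyFlat.of_comap_surjective
      exact (PrimeSpectrum.comap_surjective_iff_injective_of_finite).mpr Subtype.val_injective
    let e : D R A' →ₐ[R] ↥(KT.coinv (KTSurj.rho (transpose R f))) :=
      (transpose R g : D R A' →ₐ[R] D R A).codRestrict (KT.coinv (KTSurj.rho (transpose R f)))
        (fun χ => (mem_coinv_iff_range f g hg hker _).2 ⟨χ, rfl⟩)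
    have he : Function.Bijective e := by
      constructor
      · intro χ χ' h
        apply transpose_injective g hg
        exact congrArg Subtype.val h
      · intro c
        obtain ⟨χ, hχ⟩ := (mem_coinv_iff_range f g hg hker _).1 c.2
        exact ⟨χ, Subtype.ext hχ⟩
    have h1 : (transpose R g : D R A' →ₐ[R] D R A).toRingHom =
        (algebraMap ↥(KT.coinv (KTSurj.rho (transpose R f))) (D R A)).comp e.toRingHom := by
      ext χ
      rfl
    rw [h1]
    exact RingHom.FaithfullyFlat.stableUnderComposition _ _ (.of_bijective he)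
      (RingHom.faithfullyFlat_algebraMap_iff.mpr hff)
  · apply le_antisymm
    · intro κ hκ
      have h1 := KTKer.ker_le (transpose R f) hsurj κ hκ
      refine (Ideal.span_le.mpr ?_) h1
      rintro c ⟨hc, hc0⟩
      obtain ⟨χ, rfl⟩ := (mem_coinv_iff_range f g hg hker _).1 hc
      apply Ideal.mem_map_of_mem
      rw [RingHom.mem_ker]
      change χ 1 = 0
      have : (transpose R g χ) 1 = 0 := hc0
      rw [transpose_apply, map_one] at this
      exact this
    · rw [Ideal.map_le_iff_le_comap]
      intro χ hχ
      have hχ0 : χ 1 = 0 := hχ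
      rw [Ideal.mem_comap, RingHom.mem_ker]
      apply WithConv.ext
      apply LinearMap.ext
      intro x
      change χ.ofConv (g (f x)) = 0
      rw [g_f f g hker, Algebra.algebraMap_eq_smul_one, map_smul]
      change _ • χ 1 = 0
      rw [hχ0, smul_zero]

end dual

end Groth.Agent.H92.CartExact
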