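import Mathlib

/-!
# Universally injective ring maps: the split-coequalizer trick with character modules (helper92)

Pure algebra for descent along a universally injective ring map `R → S` (Stacks 08WE / 08XA):
* `exists_dual_eq`: character modules are exact;
* `lTensor_injective_of_split`, `lTensor_exact_of_split`: if `0 → M → N → P` is exact and the dual
  `C(d) : C(P) → C(N)` has a generalized inverse `t` (`C(d) t C(d) = C(d)`), then the sequence stays
  exact after `Q ⊗ -` for every module `Q`;
* `bijective_kappa`: for a coalgebra `(N, θ)` of the comonad `S ⊗[R] -` and `R → S` universally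
  injective, `S ⊗[R] ker(θ - η) → N` is bijective;
* `amitsur_exact`: `N → S ⊗ N ⇉ (S ⊗ S) ⊗ N` is an equalizer for universally injective `R → S`.
-/

set_option autoImplicit false
universe u
open TensorProduct

namespace Groth.Agent.H92.PureSplit

section dualExact

variable {R : Type*} [CommRing R] {M N P : Type*} [AddCommGroup M] [AddCommGroup N] [AddCommGroup P]
  [Module R M] [Module R N] [Module R P]

/-- character modules are exact (half we need): a character of `N` vanishing on `ker d` extends
along `d : N → P` -/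
theorem exists_dual_eq (d : N →ₗ[R] P) (ψ : CharacterModule N)
    (h : ∀ n, d n = 0 → ψ n = 0) : ∃ ψ' : CharacterModule P, CharacterModule.dual d ψ' = ψ := by
  -- define a character on the range
  let K := LinearMap.range d
  have hs : ∀ y : K, ∃ n, d n = y := fun y => y.2
  choose s hs using hs
  have hker : ∀ n n', d n = d n' → ψ n = ψ n' := by
    intro n n' hh
    have : ψ (n - n') = 0 := h _ (by rw [map_sub, hh, sub_self])
    rwa [map_sub, sub_eq_zero] at this
  let φ : CharacterModule K := AddMonoidHom.mk' (fun y => ψ (s y)) (fun y y' => by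
    rw [← map_add]
    apply hker
    rw [hs, map_add, hs, hs]
    rfl)
  obtain ⟨ψ', hψ'⟩ := CharacterModule.dual_surjective_of_injective (R := R) K.subtype
    (Submodule.injective_subtype K) φ
  refine ⟨ψ', ?_⟩
  ext n
  have := congrArg (fun c : CharacterModule K => c ⟨d n, n, rfl⟩) hψ'
  change ψ' (d n) = ψ (s ⟨d n, n, rfl⟩) at this
  change ψ' (d n) = ψ n
  rw [this]
  apply hker
  rw [hs]

end dualExact

section split

variable {R : Type*} [CommRing R] {M N P Q : Type*} [AddCommGroup M] [AddCommGroup N]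
  [AddCommGroup P] [AddCommGroup Q] [Module R M] [Module R N] [Module R P] [Module R Q]

theorem char_ext_tmul {c c' : CharacterModule (Q ⊗[R] N)}
    (h : ∀ q n, c (q ⊗ₜ[R] n) = c' (q ⊗ₜ[R] n)) : c = c' := by
  ext x
  induction x using TensorProduct.induction_on with
  | zero => rw [map_zero, map_zero]
  | tmul q n => exact h q n
  | add x y hx hy => rw [map_add, map_add, hx, hy]

variable (e : M →ₗ[R] N) (d : N →ₗ[R] P)
  (t : CharacterModule N →ₗ[R] CharacterModule P)

open CharacterModule in
theorem dual_dual_eq_zero (hex : Function.Exact e d) (c : CharacterModule P) :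
    dual e (dual d c) = 0 := by
  ext m
  change c (d (e m)) = 0
  rw [hex.apply_apply_eq_zero, map_zero]

open CharacterModule in
/-- a section of `dual e`, from a generalized inverse `t` of `dual d` -/
theorem exists_section (he : Function.Injective e) (hex : Function.Exact e d)
    (ht : ∀ ψ : CharacterModule P, dual d (t (dual d ψ)) = dual d ψ) :
    ∃ r : CharacterModule M →ₗ[R] CharacterModule N, ∀ χ, dual e (r χ) = χ := by
  let p : CharacterModule N →ₗ[R] CharacterModule N := LinearMap.id - (dual d) ∘ₗ t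
  have hp : LinearMap.ker (dual e) ≤ LinearMap.ker p := by
    intro ψ hψ
    rw [LinearMap.mem_ker] at hψ ⊢
    obtain ⟨ψ', rfl⟩ := exists_dual_eq d ψ (fun n hn => by
      obtain ⟨m, rfl⟩ := (hex n).mp hn
      exact congrArg (fun c : CharacterModule M => c m) hψ)
    change dual d ψ' - dual d (t (dual d ψ')) = 0
    rw [ht, sub_self]
  have hsurj : Function.Surjective (dual e) := dual_surjective_of_injective e he
  let E := (dual e).quotKerEquivOfSurjective hsurj
  refine ⟨((LinearMap.ker (dual e)).liftQ p hp) ∘ₗ E.symm.toLinearMap, fun χ => ?_⟩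
  obtain ⟨ψ, rfl⟩ := hsurj χ
  have h1 : E.symm (dual e ψ) = Submodule.Quotient.mk ψ := by
    rw [LinearEquiv.symm_apply_eq]
    rfl
  change dual e (((LinearMap.ker (dual e)).liftQ p hp) (E.symm (dual e ψ))) = dual e ψ
  rw [h1, Submodule.liftQ_apply]
  change dual e (ψ - dual d (t ψ)) = dual e ψ
  rw [map_sub, dual_dual_eq_zero e d hex, sub_zero]

open CharacterModule in
theorem lTensor_injective_of_split (he : Function.Injective e) (hex : Function.Exact e d)
    (ht : ∀ ψ : CharacterModule P, dual d (t (dual d ψ)) = dual d ψ) :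
    Function.Injective (e.lTensor Q) := by
  obtain ⟨r, hr⟩ := exists_section e d t he hex ht
  rw [← dual_surjective_iff_injective]
  intro χ
  refine ⟨uncurry (r ∘ₗ curry χ), ?_⟩
  apply char_ext_tmul
  intro q m
  change uncurry (r ∘ₗ curry χ) (q ⊗ₜ[R] e m) = χ (q ⊗ₜ[R] m)
  have := congrArg (fun c : CharacterModule M => c m) (hr (curry χ q))
  exact this

open CharacterModule in
theorem lTensor_exact_of_split (hex : Function.Exact e d)
    (ht : ∀ ψ : CharacterModule P, dual d (t (dual d ψ)) = dual d ψ)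
    (y : Q ⊗[R] N) (hy : d.lTensor Q y = 0) : ∃ z, e.lTensor Q z = y := by
  by_contra hcon
  set I := LinearMap.range (e.lTensor Q) with hI
  have hne : I.mkQ y ≠ 0 := by
    intro h0
    rw [Submodule.mkQ_apply, Submodule.Quotient.mk_eq_zero] at h0
    exact hcon h0
  obtain ⟨c, hc⟩ := exists_character_apply_ne_zero_of_ne_zero hne
  let χ : CharacterModule (Q ⊗[R] N) := dual I.mkQ c
  have hχ : ∀ q, dual d (t (curry χ q)) = curry χ q := by
    intro q
    obtain ⟨ψ', hψ'⟩ := exists_dual_eq d (curry χ q) (fun n hn => by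
      obtain ⟨m, rfl⟩ := (hex n).mp hn
      change c (I.mkQ (q ⊗ₜ[R] e m)) = 0
      have : q ⊗ₜ[R] e m ∈ I := ⟨q ⊗ₜ[R] m, rfl⟩
      rw [Submodule.mkQ_apply, (Submodule.Quotient.mk_eq_zero I).mpr this, map_zero])
    rw [← hψ', ht]
  have hfac : χ = dual (d.lTensor Q) (uncurry (t ∘ₗ curry χ)) := by
    apply char_ext_tmul
    intro q n
    change χ (q ⊗ₜ[R] n) = uncurry (t ∘ₗ curry χ) (q ⊗ₜ[R] d n)
    have := congrArg (fun c : CharacterModule N => c n) (hχ q)
    exact this.symm
  apply hc
  change χ y = 0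
  rw [hfac]
  change uncurry (t ∘ₗ curry χ) (d.lTensor Q y) = 0
  rw [hy, map_zero]

end split

section coalgebra

variable {R : Type*} [CommRing R] {Q : Type*} [AddCommGroup Q] [Module R Q]

open CharacterModule

/-- for a character `ψ` of `X`: `x ↦ (r ↦ ψ (r • x))` -/
noncomputable def chR {X : Type*} [AddCommGroup X] [Module R X] (ψ : CharacterModule X) :
    X →ₗ[R] CharacterModule R :=
  curry (dual (TensorProduct.rid R X).toLinearMap ψ)

theorem chR_apply {X : Type*} [AddCommGroup X] [Module R X] (ψ : CharacterModule X) (x : X)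
    (r : R) : chR ψ x r = ψ (r • x) := by
  change ψ ((TensorProduct.rid R X) (x ⊗ₜ[R] r)) = _
  rw [TensorProduct.rid_tmul]

variable (σ : CharacterModule R →ₗ[R] CharacterModule Q)

/-- the natural map `C(X) → C(Q ⊗ X)` induced by `σ : C(R) → C(Q)` -/
noncomputable def TT (X : Type*) [AddCommGroup X] [Module R X] :
    CharacterModule X →ₗ[R] CharacterModule (Q ⊗[R] X) where
  toFun ψ := dual (TensorProduct.comm R Q X).toLinearMap (uncurry (σ ∘ₗ chR ψ))
  map_add' ψ ψ' := by
    apply char_ext_tmul
    intro q x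
    change σ (chR (ψ + ψ') x) q = σ (chR ψ x) q + σ (chR ψ' x) q
    have : chR (R := R) (ψ + ψ') x = chR ψ x + chR ψ' x := by
      ext r
      rw [chR_apply]
      change _ = chR ψ x r + chR ψ' x r
      rw [chR_apply, chR_apply]
      rfl
    rw [this, map_add]
    rfl
  map_smul' a ψ := by
    apply char_ext_tmul
    intro q x
    change σ (chR (a • ψ) x) q = (a • dual (TensorProduct.comm R Q X).toLinearMap
      (uncurry (σ ∘ₗ chR ψ))) (q ⊗ₜ[R] x)
    rw [CharacterModule.smul_apply, TensorProduct.smul_tmul']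
    change _ = σ (chR ψ x) (a • q)
    rw [← CharacterModule.smul_apply, ← map_smul]
    congr 2
    ext r
    rw [chR_apply, CharacterModule.smul_apply, CharacterModule.smul_apply, chR_apply,
      smul_eq_mul, mul_smul]

theorem TT_tmul {X : Type*} [AddCommGroup X] [Module R X] (ψ : CharacterModule X) (q : Q)
    (x : X) : TT σ X ψ (q ⊗ₜ[R] x) = σ (chR ψ x) q := rfl

/-- naturality of `TT` -/
theorem TT_nat {X Y : Type*} [AddCommGroup X] [Module R X] [AddCommGroup Y] [Module R Y]
    (u : X →ₗ[R] Y) (ψ : CharacterModule Y) :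
    TT σ X (dual u ψ) = dual (u.lTensor Q) (TT σ Y ψ) := by
  apply char_ext_tmul
  intro q x
  change σ (chR (dual u ψ) x) q = σ (chR ψ (u x)) q
  congr 2
  ext r
  rw [chR_apply, chR_apply]
  change ψ (u (r • x)) = _
  rw [map_smul]

variable (q₀ : Q) (hσ : ∀ (c : CharacterModule R) (r : R), σ c (r • q₀) = c r)

include hσ in
/-- `TT` is a section of the dual of `x ↦ q₀ ⊗ x` -/
theorem dual_mk_TT {X : Type*} [AddCommGroup X] [Module R X] (ψ : CharacterModule X) :
    dual (TensorProduct.mk R Q X q₀) (TT σ X ψ) = ψ := by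
  ext x
  change σ (chR ψ x) q₀ = ψ x
  have := hσ (chR ψ x) 1
  rw [one_smul] at this
  rw [this, chR_apply, one_smul]

variable {N : Type*} [AddCommGroup N] [Module R N] (θ : N →ₗ[R] Q ⊗[R] N)
  (coassoc : ∀ n, θ.lTensor Q (θ n) = (TensorProduct.mk R Q N q₀).lTensor Q (θ n))

include coassoc in
/-- the key identity -/
theorem key_identity (ψ : CharacterModule (Q ⊗[R] N)) :
    dual θ (TT σ N (dual θ ψ)) = dual θ (TT σ N (dual (TensorProduct.mk R Q N q₀) ψ)) := by
  rw [TT_nat, TT_nat]
  ext n
  change TT σ (Q ⊗[R] N) ψ (θ.lTensor Q (θ n)) =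
    TT σ (Q ⊗[R] N) ψ ((TensorProduct.mk R Q N q₀).lTensor Q (θ n))
  rw [coassoc]

include hσ coassoc in
theorem gen_inverse (ψ : CharacterModule (Q ⊗[R] N)) :
    dual (TensorProduct.mk R Q N q₀ - θ) (TT σ N (dual (TensorProduct.mk R Q N q₀ - θ) ψ)) =
      dual (TensorProduct.mk R Q N q₀ - θ) ψ := by
  have hsub : ∀ c : CharacterModule (Q ⊗[R] N), dual (TensorProduct.mk R Q N q₀ - θ) c =
      dual (TensorProduct.mk R Q N q₀) c - dual θ c := by
    intro c
    ext n
    change c ((TensorProduct.mk R Q N q₀ - θ) n) = c (TensorProduct.mk R Q N q₀ n) - c (θ n)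
    rw [LinearMap.sub_apply, map_sub]
  rw [hsub, hsub ψ, dual_mk_TT σ q₀ hσ, map_sub, map_sub, key_identity σ q₀ θ coassoc ψ, sub_self,
    sub_zero]

include hσ coassoc in
/-- **Main splitting statement**: with `d = η - θ` and `e` the inclusion of `ker d`, the sequence
`0 → Q ⊗ ker d → Q ⊗ N → Q ⊗ (Q ⊗ N)` is exact. -/
theorem main_split :
    Function.Injective ((LinearMap.ker (TensorProduct.mk R Q N q₀ - θ)).subtype.lTensor Q) ∧
    ∀ y : Q ⊗[R] N, (TensorProduct.mk R Q N q₀ - θ).lTensor Q y = 0 →
      ∃ z, (LinearMap.ker (TensorProduct.mk R Q N q₀ - θ)).subtype.lTensor Q z = y := by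
  have hex : Function.Exact (LinearMap.ker (TensorProduct.mk R Q N q₀ - θ)).subtype
      (TensorProduct.mk R Q N q₀ - θ) := by
    intro n
    constructor
    · intro hn
      exact ⟨⟨n, hn⟩, rfl⟩
    · rintro ⟨m, rfl⟩
      exact m.2
  exact ⟨lTensor_injective_of_split _ _ (TT σ N) (Submodule.injective_subtype _) hex
      (gen_inverse σ q₀ hσ θ coassoc),
    lTensor_exact_of_split _ _ (TT σ N) hex (gen_inverse σ q₀ hσ θ coassoc)⟩

end coalgebra

section pure

variable (R : Type u) [CommRing R] {Q : Type u} [AddCommGroup Q] [Module R Q] (q₀ : Q)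

/-- `r ↦ r • q₀` -/
noncomputable abbrev iota : R →ₗ[R] Q := LinearMap.toSpanSingleton R Q q₀

/-- `r ↦ r • q₀` is universally injective -/
def UnivInj : Prop :=
  ∀ (P : Type u) [AddCommGroup P] [Module R P], Function.Injective (LinearMap.lTensor P (iota R q₀))

variable {R q₀}

open CharacterModule in
/-- the section `C(R) → C(Q)` of a universally injective `R → Q` -/
theorem exists_sigma (h : UnivInj R q₀) :
    ∃ σ : CharacterModule R →ₗ[R] CharacterModule Q,
      ∀ (c : CharacterModule R) (r : R), σ c (r • q₀) = c r := by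
  have hinj := h (CharacterModule R)
  let ev : CharacterModule (CharacterModule R ⊗[R] R) :=
    uncurry (LinearMap.id : CharacterModule R →ₗ[R] CharacterModule R)
  obtain ⟨E, hE⟩ := dual_surjective_of_injective _ hinj ev
  refine ⟨curry E, fun c r => ?_⟩
  have := congrArg (fun φ : CharacterModule (CharacterModule R ⊗[R] R) => φ (c ⊗ₜ[R] r)) hE
  exact this

theorem mk_injective (h : UnivInj R q₀) (N : Type u) [AddCommGroup N] [Module R N] :
    Function.Injective (TensorProduct.mk R Q N q₀) := by
  have h1 := h N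
  have : (TensorProduct.mk R Q N q₀ : N → Q ⊗[R] N) =
      (TensorProduct.comm R N Q) ∘ (LinearMap.lTensor N (iota R q₀)) ∘ (TensorProduct.rid R N).symm := by
    funext n
    simp [iota]
  rw [this]
  exact (TensorProduct.comm R N Q).injective.comp (h1.comp (TensorProduct.rid R N).symm.injective)

/-- the Amitsur sequence `N → Q ⊗ N ⇉ Q₂ ⊗ N` is exact, for universally injective `R → Q` -/
theorem amitsur (h : UnivInj R q₀) (N : Type u) [AddCommGroup N] [Module R N]
    {Q₂ : Type u} [AddCommGroup Q₂] [Module R Q₂] (j₁ j₂ : Q →ₗ[R] Q₂)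
    (Ξ : Q₂ →ₗ[R] (Q ⧸ LinearMap.range (iota R q₀)) ⊗[R] Q)
    (h₁ : ∀ q, Ξ (j₁ q) = (Submodule.mkQ _ q) ⊗ₜ[R] q₀) (h₂ : ∀ q, Ξ (j₂ q) = 0)
    (x : Q ⊗[R] N) (hx : j₁.rTensor N x = j₂.rTensor N x) : ∃ n, x = q₀ ⊗ₜ[R] n := by
  set π := (LinearMap.range (iota R q₀)).mkQ with hπ
  have e2 : Ξ ∘ₗ j₂ = 0 := by
    ext q
    exact h₂ q
  have e1 : Ξ ∘ₗ j₁ = ((TensorProduct.mk R (Q ⧸ LinearMap.range (iota R q₀)) Q).flip q₀) ∘ₗ π := by
    ext q
    exact h₁ q
  have s1 : (Ξ ∘ₗ j₁).rTensor N x = 0 := by
    rw [LinearMap.rTensor_comp, LinearMap.comp_apply, hx, ← LinearMap.comp_apply,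
      ← LinearMap.rTensor_comp, e2, LinearMap.rTensor_zero, LinearMap.zero_apply]
  rw [e1, LinearMap.rTensor_comp, LinearMap.comp_apply] at s1
  set xb := π.rTensor N x with hxb
  have key : ∀ w : (Q ⧸ LinearMap.range (iota R q₀)) ⊗[R] N,
      TensorProduct.rightComm R _ Q N
        (((TensorProduct.mk R (Q ⧸ LinearMap.range (iota R q₀)) Q).flip q₀).rTensor N w) =
      LinearMap.lTensor _ (iota R q₀) ((TensorProduct.rid R _).symm w) := by
    intro w
    induction w using TensorProduct.induction_on with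
    | zero => simp
    | tmul y n => simp [iota]
    | add a b ha hb => simp only [map_add, ha, hb]
  have hxb0 : xb = 0 := by
    have h2 := key xb
    rw [s1, map_zero] at h2
    have h3 := h _ (h2.symm.trans (map_zero _).symm)
    exact (TensorProduct.rid R _).symm.injective (h3.trans (map_zero _).symm)
  have hex : Function.Exact ((iota R q₀).rTensor N) (π.rTensor N) :=
    rTensor_exact N (LinearMap.exact_map_mkQ_range (iota R q₀)) (Submodule.mkQ_surjective _)
  have hw : ∀ w : R ⊗[R] N, (iota R q₀).rTensor N w = q₀ ⊗ₜ[R] (TensorProduct.lid R N w) := by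
    intro w
    induction w using TensorProduct.induction_on with
    | zero => simp
    | tmul r n =>
      simp only [LinearMap.rTensor_tmul, TensorProduct.lid_tmul, iota,
        LinearMap.toSpanSingleton_apply]
      rw [TensorProduct.smul_tmul]
    | add a b ha hb => rw [map_add, map_add, TensorProduct.tmul_add, ha, hb]
  obtain ⟨w, rfl⟩ := (hex x).mp hxb0
  exact ⟨TensorProduct.lid R N w, hw w⟩

end pure

end Groth.Agent.H92.PureSplit
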