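import Mathlib
import Groth.Agent.H92.PureSplit
import Groth.Agent.H82.WittDesc
import Groth.Agent.H97.FFDescent

/-!
# Faithfully flat descent for projective modules in matrix form (helper92)

Let `R → S` be faithfully flat.  A *matrix descent datum* is an idempotent matrix `e` over `S` together
with a matrix `γ` over `S ⊗[R] S` such that `c₂(e) γ = γ = γ c₁(e)`, `d₁₃(γ) = d₂₃(γ) d₁₂(γ)` and
`Δ(γ) = e` (i.e. a descent datum on the projective module `im e`).  We prove:

* `exists_tensor_eq`: every vector fixed by `e` is an `S`-linear combination of invariant vectors;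
* `kappa_injective`: `S ⊗[R] Inv → S^ι` is injective;
* `exists_cobound` (`H¹ = 0`): every twisted `1`-cocycle is a coboundary.
-/

set_option autoImplicit false
universe u
open TensorProduct Matrix

namespace Groth.Agent.H92.ClassMat

section maps

variable (R S : Type u) [CommRing R] [CommRing S] [Algebra R S]

/-- `s ↦ s ⊗ 1` -/
noncomputable def c1 : S →+* S ⊗[R] S := Algebra.TensorProduct.includeLeftRingHom
/-- `s ↦ 1 ⊗ s` -/
noncomputable def c2 : S →+* S ⊗[R] S :=
  (Algebra.TensorProduct.includeRight (R := R) (A := S) (B := S)).toRingHom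
/-- `a ⊗ b ↦ a ⊗ (b ⊗ 1)` -/
noncomputable def d12 : S ⊗[R] S →+* S ⊗[R] (S ⊗[R] S) :=
  (Algebra.TensorProduct.map (AlgHom.id R S)
    (Algebra.TensorProduct.includeLeft : S →ₐ[R] S ⊗[R] S)).toRingHom
/-- `a ⊗ b ↦ a ⊗ (1 ⊗ b)` -/
noncomputable def d13 : S ⊗[R] S →+* S ⊗[R] (S ⊗[R] S) :=
  (Algebra.TensorProduct.map (AlgHom.id R S)
    (Algebra.TensorProduct.includeRight : S →ₐ[R] S ⊗[R] S)).toRingHom
/-- `x ↦ 1 ⊗ x` -/
noncomputable def d23 : S ⊗[R] S →+* S ⊗[R] (S ⊗[R] S) :=
  (Algebra.TensorProduct.includeRight (R := R) (A := S) (B := S ⊗[R] S)).toRingHom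
/-- multiplication `S ⊗ S → S` -/
noncomputable def dΔ : S ⊗[R] S →+* S := (Algebra.TensorProduct.lmul' (S := S) R).toRingHom
/-- `a ⊗ (b ⊗ c) ↦ a ⊗ bc` -/
noncomputable def m23 : S ⊗[R] (S ⊗[R] S) →+* S ⊗[R] S :=
  (Algebra.TensorProduct.map (AlgHom.id R S) (Algebra.TensorProduct.lmul' (S := S) R)).toRingHom

variable {R S}

theorem c1_apply (s : S) : c1 R S s = s ⊗ₜ[R] 1 := rfl
theorem c2_apply (s : S) : c2 R S s = 1 ⊗ₜ[R] s := rfl
theorem d12_tmul (a b : S) : d12 R S (a ⊗ₜ[R] b) = a ⊗ₜ[R] (b ⊗ₜ[R] 1) := by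
  change Algebra.TensorProduct.map (AlgHom.id R S)
    (Algebra.TensorProduct.includeLeft : S →ₐ[R] S ⊗[R] S) (a ⊗ₜ[R] b) = _
  rw [Algebra.TensorProduct.map_tmul]
  rfl
theorem d13_tmul (a b : S) : d13 R S (a ⊗ₜ[R] b) = a ⊗ₜ[R] (1 ⊗ₜ[R] b) := by
  change Algebra.TensorProduct.map (AlgHom.id R S)
    (Algebra.TensorProduct.includeRight : S →ₐ[R] S ⊗[R] S) (a ⊗ₜ[R] b) = _
  rw [Algebra.TensorProduct.map_tmul]
  rfl
theorem d23_apply (x : S ⊗[R] S) : d23 R S x = 1 ⊗ₜ[R] x := rfl
theorem dΔ_tmul (a b : S) : dΔ R S (a ⊗ₜ[R] b) = a * b := by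
  change Algebra.TensorProduct.lmul' (S := S) R (a ⊗ₜ[R] b) = _
  rw [Algebra.TensorProduct.lmul'_apply_tmul]
theorem m23_tmul (a : S) (x : S ⊗[R] S) : m23 R S (a ⊗ₜ[R] x) = a ⊗ₜ[R] dΔ R S x := by
  change Algebra.TensorProduct.map (AlgHom.id R S) (Algebra.TensorProduct.lmul' (S := S) R)
    (a ⊗ₜ[R] x) = _
  rw [Algebra.TensorProduct.map_tmul]
  rfl

theorem d12_c1 (s : S) : d12 R S (c1 R S s) = d13 R S (c1 R S s) := by
  rw [c1_apply, d12_tmul, d13_tmul]
theorem d23_c1 (s : S) : d23 R S (c1 R S s) = d12 R S (c2 R S s) := by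
  rw [c1_apply, c2_apply, d23_apply, d12_tmul]
theorem d23_c2 (s : S) : d23 R S (c2 R S s) = d13 R S (c2 R S s) := by
  rw [c2_apply, d23_apply, d13_tmul]
theorem dΔ_c1 (s : S) : dΔ R S (c1 R S s) = s := by rw [c1_apply, dΔ_tmul, mul_one]
theorem dΔ_c2 (s : S) : dΔ R S (c2 R S s) = s := by rw [c2_apply, dΔ_tmul, one_mul]
theorem m23_d12 (x : S ⊗[R] S) : m23 R S (d12 R S x) = x := by
  induction x using TensorProduct.induction_on with
  | zero => simp
  | tmul a b => rw [d12_tmul, m23_tmul, dΔ_tmul, mul_one]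
  | add x y hx hy => rw [map_add, map_add, hx, hy]
theorem m23_d13 (x : S ⊗[R] S) : m23 R S (d13 R S x) = x := by
  induction x using TensorProduct.induction_on with
  | zero => simp
  | tmul a b => rw [d13_tmul, m23_tmul, dΔ_tmul, one_mul]
  | add x y hx hy => rw [map_add, map_add, hx, hy]
theorem m23_d23 (x : S ⊗[R] S) : m23 R S (d23 R S x) = c2 R S (dΔ R S x) := by
  rw [d23_apply, m23_tmul, c2_apply]
theorem c1_algebraMap (r : R) : c1 R S (algebraMap R S r) = c2 R S (algebraMap R S r) := by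
  rw [c1_apply, c2_apply, Algebra.algebraMap_eq_smul_one, TensorProduct.smul_tmul]

end maps

theorem comp_mulVec {α β : Type*} [NonAssocSemiring α] [NonAssocSemiring β] {m n : Type*} [Fintype n]
    (f : α →+* β) (M : Matrix m n α) (v : n → α) : f ∘ (M *ᵥ v) = M.map f *ᵥ (f ∘ v) := by
  funext i
  exact RingHom.map_mulVec f M v i

section datum

variable {R S : Type u} [CommRing R] [CommRing S] [Algebra R S]
  {ι : Type} [Fintype ι] [DecidableEq ι]

/-- a matrix descent datum relative to `R → S` -/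
structure IsDatum (e : Matrix ι ι S) (γ : Matrix ι ι (S ⊗[R] S)) : Prop where
  idem : e * e = e
  left : e.map (c2 R S) * γ = γ
  right : γ * e.map (c1 R S) = γ
  cocycle : γ.map (d13 R S) = γ.map (d23 R S) * γ.map (d12 R S)
  unit : γ.map (dΔ R S) = e

variable (R) in
/-- `π₂ : S ⊗ S^ι ≃ (S ⊗ S)^ι` -/
noncomputable def pi2 : S ⊗[R] (ι → S) ≃ₗ[R] (ι → S ⊗[R] S) :=
  TensorProduct.piRight R R S (fun _ : ι => S)

theorem pi2_tmul (a : S) (v : ι → S) : pi2 R (a ⊗ₜ[R] v) = fun j => a ⊗ₜ[R] v j := by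
  rw [pi2, TensorProduct.piRight_apply, TensorProduct.piRightHom_tmul]

theorem pi2_symm_tmul (a : S) (v : ι → S) :
    (pi2 R).symm (fun j => a ⊗ₜ[R] v j) = a ⊗ₜ[R] v := by
  rw [← pi2_tmul, LinearEquiv.symm_apply_apply]

variable (R) in
/-- `π₃ : S ⊗ (S ⊗ S^ι) ≃ (S ⊗ (S ⊗ S))^ι` -/
noncomputable def pi3 : S ⊗[R] (S ⊗[R] (ι → S)) ≃ₗ[R] (ι → S ⊗[R] (S ⊗[R] S)) :=
  (TensorProduct.congr (LinearEquiv.refl R S) (pi2 R)) ≪≫ₗ
    TensorProduct.piRight R R S (fun _ : ι => S ⊗[R] S)

theorem pi3_tmul (a : S) (z : S ⊗[R] (ι → S)) :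
    pi3 R (a ⊗ₜ[R] z) = fun j => a ⊗ₜ[R] (pi2 R z j) := by
  rw [pi3, LinearEquiv.trans_apply, TensorProduct.congr_tmul, LinearEquiv.refl_apply,
    TensorProduct.piRight_apply, TensorProduct.piRightHom_tmul]

variable (γ : Matrix ι ι (S ⊗[R] S))

theorem c1_smul (r : R) (s : S) : c1 R S (r • s) = r • c1 R S s := by
  rw [c1_apply, c1_apply, TensorProduct.smul_tmul']

/-- `v ↦ γ · c₁(v)` as an `R`-linear map -/
noncomputable def gam : (ι → S) →ₗ[R] (ι → S ⊗[R] S) where
  toFun v := γ *ᵥ (c1 R S ∘ v)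
  map_add' v w := by
    rw [← Matrix.mulVec_add]
    congr 1
    funext j
    exact map_add (c1 R S) (v j) (w j)
  map_smul' r v := by
    have : c1 R S ∘ (r • v) = r • (c1 R S ∘ v) := by
      funext j
      exact c1_smul r (v j)
    rw [this, Matrix.mulVec_smul]
    rfl

theorem gam_apply (v : ι → S) : gam γ v = γ *ᵥ (c1 R S ∘ v) := rfl

/-- the coaction `S^ι → S ⊗ S^ι` -/
noncomputable def theta : (ι → S) →ₗ[R] S ⊗[R] (ι → S) :=
  (pi2 R).symm.toLinearMap ∘ₗ gam γ

theorem pi2_theta (v : ι → S) : pi2 R (theta γ v) = γ *ᵥ (c1 R S ∘ v) := by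
  rw [theta, LinearMap.comp_apply, LinearEquiv.coe_coe, LinearEquiv.apply_symm_apply, gam_apply]

theorem claimA (z : S ⊗[R] (ι → S)) :
    pi3 R ((TensorProduct.mk R S (ι → S) 1).lTensor S z) = fun j => d13 R S (pi2 R z j) := by
  induction z using TensorProduct.induction_on with
  | zero =>
    simp only [map_zero]
    funext j
    simp
  | tmul a v =>
    rw [LinearMap.lTensor_tmul, pi3_tmul, pi2_tmul]
    funext j
    rw [TensorProduct.mk_apply, pi2_tmul, d13_tmul]
  | add x y hx hy =>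
    rw [map_add, map_add, hx, hy]
    funext j
    simp

theorem claimB (z : S ⊗[R] (ι → S)) :
    pi3 R ((theta γ).lTensor S z) =
      γ.map (d23 R S) *ᵥ (fun j => d12 R S (pi2 R z j)) := by
  induction z using TensorProduct.induction_on with
  | zero =>
    simp only [map_zero]
    funext j
    simp [Matrix.mulVec, dotProduct]
  | tmul a v =>
    rw [LinearMap.lTensor_tmul, pi3_tmul, pi2_tmul, pi2_theta]
    funext j
    simp only [Matrix.mulVec, dotProduct, Matrix.map_apply, Function.comp_apply, d12_tmul,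
      d23_apply, c1_apply, Algebra.TensorProduct.tmul_mul_tmul, one_mul, TensorProduct.tmul_sum]
  | add x y hx hy =>
    rw [map_add, map_add, hx, hy, ← Matrix.mulVec_add]
    congr 1
    funext j
    simp

theorem coassoc {e : Matrix ι ι S} (hd : IsDatum e γ) (v : ι → S) :
    (theta γ).lTensor S (theta γ v) =
      (TensorProduct.mk R S (ι → S) 1).lTensor S (theta γ v) := by
  apply (pi3 R).injective
  rw [claimA, claimB, pi2_theta]
  have h1 : (fun j => d12 R S ((γ *ᵥ (c1 R S ∘ v)) j)) =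
      γ.map (d12 R S) *ᵥ (d12 R S ∘ (c1 R S ∘ v)) := comp_mulVec (d12 R S) γ _
  have h2 : (fun j => d13 R S ((γ *ᵥ (c1 R S ∘ v)) j)) =
      γ.map (d13 R S) *ᵥ (d13 R S ∘ (c1 R S ∘ v)) := comp_mulVec (d13 R S) γ _
  have h3 : d12 R S ∘ (c1 R S ∘ v) = d13 R S ∘ (c1 R S ∘ v) := by
    funext j
    exact d12_c1 (v j)
  rw [h1, h2, Matrix.mulVec_mulVec, ← hd.cocycle, h3]

/-- the `R`-module of invariant vectors -/
noncomputable def Inv : Submodule R (ι → S) :=
  LinearMap.ker (TensorProduct.mk R S (ι → S) 1 - theta γ)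

theorem mem_Inv {v : ι → S} : v ∈ Inv γ ↔ γ *ᵥ (c1 R S ∘ v) = c2 R S ∘ v := by
  rw [Inv, LinearMap.mem_ker, LinearMap.sub_apply, sub_eq_zero, TensorProduct.mk_apply,
    ← (pi2 R).injective.eq_iff, pi2_theta, pi2_tmul]
  constructor
  · intro h
    rw [← h]
    rfl
  · intro h
    rw [h]
    rfl

/-- `S ⊗ S^ι → S^ι` -/
noncomputable def mu : S ⊗[R] (ι → S) →ₗ[S] (ι → S) :=
  LinearMap.liftBaseChange S (LinearMap.id : (ι → S) →ₗ[R] (ι → S))

theorem claimC (z : S ⊗[R] (ι → S)) : dΔ R S ∘ (pi2 R z) = mu z := by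
  induction z using TensorProduct.induction_on with
  | zero =>
    simp only [map_zero]
    funext j
    simp
  | tmul a v =>
    rw [pi2_tmul, mu, LinearMap.liftBaseChange_tmul]
    funext j
    simp only [Function.comp_apply, dΔ_tmul, LinearMap.id_apply, Pi.smul_apply, smul_eq_mul]
  | add x y hx hy =>
    rw [map_add, map_add, ← hx, ← hy]
    funext j
    simp

/-- `S ⊗ Inv → S^ι` -/
noncomputable def kappa : S ⊗[R] Inv γ →ₗ[S] (ι → S) :=
  LinearMap.liftBaseChange S (Inv γ).subtype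

theorem kappa_tmul (a : S) (k : Inv γ) : kappa γ (a ⊗ₜ[R] k) = a • (k : ι → S) := rfl

theorem kappa_eq_mu (z : S ⊗[R] Inv γ) : kappa γ z = mu ((Inv γ).subtype.lTensor S z) := by
  induction z using TensorProduct.induction_on with
  | zero => simp
  | tmul a k => rfl
  | add x y hx hy => rw [map_add, map_add, map_add, hx, hy]

theorem theta_kappa (z : S ⊗[R] Inv γ) :
    theta γ (kappa γ z) = (Inv γ).subtype.lTensor S z := by
  induction z using TensorProduct.induction_on with
  | zero => simp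
  | tmul a k =>
    rw [kappa_tmul, LinearMap.lTensor_tmul, Submodule.subtype_apply, ← pi2_symm_tmul,
      ← (pi2 R).injective.eq_iff, pi2_theta, LinearEquiv.apply_symm_apply]
    have h1 : c1 R S ∘ (a • (k : ι → S)) = c1 R S a • (c1 R S ∘ (k : ι → S)) := by
      funext j
      simp only [Function.comp_apply, Pi.smul_apply, smul_eq_mul, map_mul]
    rw [h1, Matrix.mulVec_smul, (mem_Inv γ).mp k.2]
    funext j
    simp only [Pi.smul_apply, Function.comp_apply, smul_eq_mul, c1_apply, c2_apply,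
      Algebra.TensorProduct.tmul_mul_tmul, one_mul, mul_one]
  | add x y hx hy => rw [map_add, map_add, map_add, hx, hy]

end datum

section ff

variable {R S : Type u} [CommRing R] [CommRing S] [Algebra R S] [Module.FaithfullyFlat R S]
  {ι : Type} [Fintype ι] [DecidableEq ι]

theorem univInj : PureSplit.UnivInj R (1 : S) := by
  intro P _ _
  have h1 : Function.Injective (TensorProduct.mk R S P 1) :=
    Module.FaithfullyFlat.tensorProduct_mk_injective (A := R) (B := S) P
  have : (LinearMap.lTensor P (PureSplit.iota R (1 : S)) : P ⊗[R] R → P ⊗[R] S) =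
      (TensorProduct.comm R S P) ∘ (TensorProduct.mk R S P 1) ∘ (TensorProduct.rid R P) := by
    funext z
    induction z using TensorProduct.induction_on with
    | zero => simp
    | tmul q r =>
      simp [PureSplit.iota]
    | add x y hx hy =>
      simp only [map_add, Function.comp_apply] at hx hy ⊢
      rw [hx, hy]
  rw [this]
  exact (TensorProduct.comm R S P).injective.comp (h1.comp (TensorProduct.rid R P).injective)

variable {e : Matrix ι ι S} {γ : Matrix ι ι (S ⊗[R] S)}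

theorem split (hd : IsDatum e γ) :
    Function.Injective ((Inv γ).subtype.lTensor S) ∧
      ∀ y : S ⊗[R] (ι → S), (TensorProduct.mk R S (ι → S) 1 - theta γ).lTensor S y = 0 →
        ∃ z, (Inv γ).subtype.lTensor S z = y := by
  obtain ⟨σ, hσ⟩ := PureSplit.exists_sigma (univInj (R := R) (S := S))
  exact PureSplit.main_split σ 1 hσ (theta γ) (coassoc γ hd)

theorem exists_kappa_eq (hd : IsDatum e γ) (w : ι → S) (hw : e *ᵥ w = w) :
    ∃ z : S ⊗[R] Inv γ, kappa γ z = w := by
  have h0 : (TensorProduct.mk R S (ι → S) 1 - theta γ).lTensor S (theta γ w) = 0 := by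
    rw [LinearMap.lTensor_sub, LinearMap.sub_apply, coassoc γ hd, sub_self]
  obtain ⟨z, hz⟩ := (split hd).2 _ h0
  refine ⟨z, ?_⟩
  rw [kappa_eq_mu, hz, ← claimC, pi2_theta, comp_mulVec, hd.unit]
  have : dΔ R S ∘ (c1 R S ∘ w) = w := by
    funext j
    exact dΔ_c1 (w j)
  rw [this, hw]

theorem kappa_injective (hd : IsDatum e γ) : Function.Injective (kappa γ) := by
  intro z z' h
  apply (split hd).1
  rw [← theta_kappa, ← theta_kappa, h]

omit [Module.FaithfullyFlat R S] in
theorem mulVec_of_mem_Inv (hd : IsDatum e γ) {v : ι → S} (hv : v ∈ Inv γ) : e *ᵥ v = v := by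
  have h : dΔ R S ∘ (γ *ᵥ (c1 R S ∘ v)) = dΔ R S ∘ (c2 R S ∘ v) :=
    congrArg (fun y => dΔ R S ∘ y) ((mem_Inv γ).mp hv)
  rw [comp_mulVec, hd.unit] at h
  have h1 : dΔ R S ∘ (c1 R S ∘ v) = v := by
    funext j
    exact dΔ_c1 (v j)
  have h2 : dΔ R S ∘ (c2 R S ∘ v) = v := by
    funext j
    exact dΔ_c2 (v j)
  rw [h1, h2] at h
  exact h

theorem exists_inv_coord_one (hd : IsDatum e γ) (j₀ : ι) (w : ι → S) (hw : e *ᵥ w = w)
    (hw1 : w j₀ = 1) (hR : ∀ k ∈ Inv γ, ∃ r : R, algebraMap R S r = k j₀) :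
    ∃ k ∈ Inv γ, k j₀ = 1 := by
  let J : Ideal R := ((Inv γ).map (LinearMap.proj j₀ : (ι → S) →ₗ[R] S)).comap
    (Algebra.linearMap R S)
  have hJ : ∀ r : R, r ∈ J ↔ ∃ k ∈ Inv γ, k j₀ = algebraMap R S r := by
    intro r
    change algebraMap R S r ∈ (Inv γ).map (LinearMap.proj j₀ : (ι → S) →ₗ[R] S) ↔ _
    rw [Submodule.mem_map]
    rfl
  have key : ∀ z : S ⊗[R] Inv γ, (kappa γ z) j₀ ∈ J.map (algebraMap R S) := by
    intro z
    induction z using TensorProduct.induction_on with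
    | zero => simp
    | tmul a k =>
      obtain ⟨r, hr⟩ := hR k k.2
      rw [kappa_tmul, Pi.smul_apply, smul_eq_mul, ← hr]
      exact Ideal.mul_mem_left _ _ (Ideal.mem_map_of_mem _ ((hJ r).mpr ⟨k, k.2, hr.symm⟩))
    | add x y hx hy =>
      rw [map_add, Pi.add_apply]
      exact Ideal.add_mem _ hx hy
  obtain ⟨z, hz⟩ := exists_kappa_eq hd w hw
  have h1 : (1 : S) ∈ J.map (algebraMap R S) := by
    have := key z
    rwa [hz, hw1] at this
  have h2 : J.map (algebraMap R S) = ⊤ := (Ideal.eq_top_iff_one _).mpr h1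
  have h3 : J = ⊤ := by
    rw [← Ideal.comap_map_eq_self_of_faithfullyFlat (B := S) J, h2, Ideal.comap_top]
  have h4 : (1 : R) ∈ J := by
    rw [h3]
    exact Submodule.mem_top
  obtain ⟨k, hk, hk1⟩ := (hJ 1).mp h4
  exact ⟨k, hk, by rw [hk1, map_one]⟩

/-! ### `H¹ = 0`, by the extension trick -/

omit [Module.FaithfullyFlat R S] in
/-- a twisted cocycle is killed by the multiplication map -/
theorem dΔ_cocycle (hd : IsDatum e γ) (y : ι → S ⊗[R] S) (hy : e.map (c2 R S) *ᵥ y = y)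
    (hcoc : d23 R S ∘ y - d13 R S ∘ y + γ.map (d23 R S) *ᵥ (d12 R S ∘ y) = 0) :
    dΔ R S ∘ y = 0 := by
  have h : m23 R S ∘ (d23 R S ∘ y - d13 R S ∘ y + γ.map (d23 R S) *ᵥ (d12 R S ∘ y)) =
      m23 R S ∘ (0 : ι → S ⊗[R] (S ⊗[R] S)) := congrArg (fun z => m23 R S ∘ z) hcoc
  have h0 : m23 R S ∘ (0 : ι → S ⊗[R] (S ⊗[R] S)) = 0 := by
    funext j
    simp
  rw [h0] at h
  have e1 : m23 R S ∘ (d23 R S ∘ y - d13 R S ∘ y + γ.map (d23 R S) *ᵥ (d12 R S ∘ y)) =
      m23 R S ∘ (d23 R S ∘ y) - m23 R S ∘ (d13 R S ∘ y) +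
        m23 R S ∘ (γ.map (d23 R S) *ᵥ (d12 R S ∘ y)) := by
    funext j
    simp only [Function.comp_apply, Pi.add_apply, Pi.sub_apply, map_add, map_sub]
  have e2 : m23 R S ∘ (d23 R S ∘ y) = c2 R S ∘ (dΔ R S ∘ y) := by
    funext j
    exact m23_d23 (y j)
  have e3 : m23 R S ∘ (d13 R S ∘ y) = y := by
    funext j
    exact m23_d13 (y j)
  have e4 : m23 R S ∘ (d12 R S ∘ y) = y := by
    funext j
    exact m23_d12 (y j)
  have e5 : (γ.map (d23 R S)).map (m23 R S) = e.map (c2 R S) := by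
    rw [← hd.unit]
    ext i j
    simp only [Matrix.map_apply]
    exact m23_d23 (γ i j)
  rw [e1, comp_mulVec, e2, e3, e4, e5, hy] at h
  have h' : c2 R S ∘ (dΔ R S ∘ y) = 0 := by
    have : c2 R S ∘ (dΔ R S ∘ y) - y + y = c2 R S ∘ (dΔ R S ∘ y) := sub_add_cancel _ _
    rw [← this]
    exact h
  funext j
  have := congrFun h' j
  simp only [Function.comp_apply, Pi.zero_apply] at this ⊢
  rw [← dΔ_c2 (R := R) (dΔ R S (y j)), this, map_zero]

/-- the column matrix of a vector -/
def colM {α : Type*} (y : ι → α) : Matrix ι Unit α := Matrix.of fun j _ => y j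

omit [DecidableEq ι] in
theorem colM_map {α β : Type*} (y : ι → α) (f : α → β) : (colM y).map f = colM (f ∘ y) := rfl

omit [DecidableEq ι] in
theorem mul_colM {α : Type*} [NonUnitalNonAssocSemiring α] {κ : Type*} [Fintype κ]
    (M : Matrix ι κ α) (y : κ → α) :
    M * (Matrix.of fun j (_ : Unit) => y j) = colM (M *ᵥ y) := by
  ext i u
  rfl

omit [Module.FaithfullyFlat R S] in
/-- the augmented datum of a twisted cocycle -/
theorem isDatum_aug (hd : IsDatum e γ) (y : ι → S ⊗[R] S) (hy : e.map (c2 R S) *ᵥ y = y)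
    (hcoc : d23 R S ∘ y - d13 R S ∘ y + γ.map (d23 R S) *ᵥ (d12 R S ∘ y) = 0) :
    IsDatum (Matrix.fromBlocks e 0 0 (1 : Matrix Unit Unit S))
      (Matrix.fromBlocks γ (colM y) 0 (1 : Matrix Unit Unit (S ⊗[R] S))) := by
  have hΔ := dΔ_cocycle hd y hy hcoc
  have one_map : ∀ {α β : Type u} [CommRing α] [CommRing β] (f : α →+* β),
      (1 : Matrix Unit Unit α).map f = 1 := fun f => Matrix.map_one f (map_zero f) (map_one f)
  have zero_map : ∀ {α β : Type u} [CommRing α] [CommRing β] {m n : Type} (f : α →+* β),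
      (0 : Matrix m n α).map f = 0 := fun f => Matrix.map_zero f (map_zero f)
  refine ⟨?_, ?_, ?_, ?_, ?_⟩
  · rw [Matrix.fromBlocks_multiply]
    simp only [Matrix.mul_zero, Matrix.zero_mul, add_zero, zero_add, Matrix.mul_one, hd.idem]
  · rw [Matrix.fromBlocks_map, zero_map, zero_map, one_map, Matrix.fromBlocks_multiply]
    have : e.map (c2 R S) * colM y = colM y := by
      change e.map (c2 R S) * (Matrix.of fun j (_ : Unit) => y j) = _
      rw [mul_colM, hy]
    simp only [Matrix.mul_zero, Matrix.zero_mul, add_zero, zero_add, Matrix.mul_one,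
      Matrix.one_mul, hd.left, this]
  · rw [Matrix.fromBlocks_map, zero_map, zero_map, one_map, Matrix.fromBlocks_multiply]
    simp only [Matrix.mul_zero, Matrix.zero_mul, add_zero, zero_add, Matrix.mul_one,
      Matrix.one_mul, hd.right]
  · rw [Matrix.fromBlocks_map, Matrix.fromBlocks_map, Matrix.fromBlocks_map,
      Matrix.fromBlocks_multiply, zero_map, zero_map, zero_map, one_map, one_map, one_map]
    have h1 : γ.map (d23 R S) * (colM y).map (d12 R S) =
        colM (γ.map (d23 R S) *ᵥ (d12 R S ∘ y)) := by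
      rw [colM_map]
      exact mul_colM _ _
    have h2 : (colM y).map (d13 R S) =
        γ.map (d23 R S) * (colM y).map (d12 R S) + (colM y).map (d23 R S) := by
      rw [h1, colM_map, colM_map]
      have : d13 R S ∘ y = γ.map (d23 R S) *ᵥ (d12 R S ∘ y) + d23 R S ∘ y := by
        have := hcoc
        rw [sub_add_eq_add_sub, sub_eq_zero] at this
        rw [← this, add_comm]
      rw [this]
      rfl
    simp only [Matrix.mul_zero, Matrix.zero_mul, add_zero, zero_add, Matrix.mul_one,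
      ← hd.cocycle]
    rw [← h2]
  · rw [Matrix.fromBlocks_map, zero_map, one_map]
    have : (colM y).map (dΔ R S) = 0 := by
      rw [colM_map, hΔ]
      rfl
    rw [hd.unit, this]

/-- **`H¹ = 0`**: every twisted `1`-cocycle is a coboundary. -/
theorem exists_cobound (hd : IsDatum e γ) (y : ι → S ⊗[R] S) (hy : e.map (c2 R S) *ᵥ y = y)
    (hcoc : d23 R S ∘ y - d13 R S ∘ y + γ.map (d23 R S) *ᵥ (d12 R S ∘ y) = 0) :
    ∃ x : ι → S, e *ᵥ x = x ∧ γ *ᵥ (c1 R S ∘ x) - c2 R S ∘ x = y := by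
  have hd' := isDatum_aug hd y hy hcoc
  set e' := Matrix.fromBlocks e 0 0 (1 : Matrix Unit Unit S) with he'
  set γ' := Matrix.fromBlocks γ (colM y) 0 (1 : Matrix Unit Unit (S ⊗[R] S)) with hγ'
  let w : ι ⊕ Unit → S := Sum.elim 0 (fun _ => 1)
  have hw : e' *ᵥ w = w := by
    rw [he', Matrix.fromBlocks_mulVec]
    have h1 : w ∘ Sum.inl = 0 := rfl
    have h2 : w ∘ Sum.inr = fun _ => 1 := rfl
    rw [h1, h2, Matrix.mulVec_zero, Matrix.zero_mulVec, Matrix.zero_mulVec, Matrix.one_mulVec,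
      add_zero, zero_add]
  have hR : ∀ k ∈ Inv γ', ∃ r : R, algebraMap R S r = k (Sum.inr ()) := by
    intro k hk
    apply Groth.Agent.H82.WittDesc.exists_of_include_eq
    have h := congrFun ((mem_Inv γ').mp hk) (Sum.inr ())
    rw [hγ', Matrix.fromBlocks_mulVec] at h
    simp only [Sum.elim_inr, Pi.add_apply, Matrix.zero_mulVec, Pi.zero_apply, zero_add,
      Matrix.one_mulVec, Function.comp_apply] at h
    exact h
  obtain ⟨k, hk, hk1⟩ := exists_inv_coord_one hd' (Sum.inr ()) w hw rfl hR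
  refine ⟨-(k ∘ Sum.inl), ?_, ?_⟩
  · have h := mulVec_of_mem_Inv hd' hk
    rw [he', Matrix.fromBlocks_mulVec] at h
    have h1 : e *ᵥ (k ∘ Sum.inl) = k ∘ Sum.inl := by
      funext j
      have := congrFun h (Sum.inl j)
      simpa using this
    rw [Matrix.mulVec_neg, h1]
  · have h := (mem_Inv γ').mp hk
    rw [hγ', Matrix.fromBlocks_mulVec] at h
    funext j
    have hj := congrFun h (Sum.inl j)
    simp only [Sum.elim_inl, Pi.add_apply, Function.comp_apply] at hj
    have h2 : (colM y *ᵥ ((c1 R S ∘ k) ∘ Sum.inr)) j = y j := by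
      simp only [colM, Matrix.mulVec, dotProduct, Matrix.of_apply, Function.comp_apply,
        Finset.univ_unique, Finset.sum_singleton]
      rw [show k (Sum.inr default) = 1 from hk1, map_one, mul_one]
    rw [h2] at hj
    have h3 : c1 R S ∘ (-(k ∘ Sum.inl)) = -((c1 R S ∘ k) ∘ Sum.inl) := by
      funext i
      simp
    have h4 : c2 R S ∘ (-(k ∘ Sum.inl)) = -((c2 R S ∘ k) ∘ Sum.inl) := by
      funext i
      simp
    rw [h3, h4, Matrix.mulVec_neg]
    simp only [Pi.sub_apply, Pi.neg_apply, Function.comp_apply]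
    rw [← hj]
    ring

/-! ### the module of invariants is finite projective, and a matrix presentation -/

theorem range_kappa (hd : IsDatum e γ) :
    LinearMap.range (kappa γ) = LinearMap.range (Matrix.mulVecLin e) := by
  apply le_antisymm
  · rintro _ ⟨z, rfl⟩
    refine ⟨kappa γ z, ?_⟩
    rw [Matrix.mulVecLin_apply]
    induction z using TensorProduct.induction_on with
    | zero => rw [map_zero, Matrix.mulVec_zero]
    | tmul a k => rw [kappa_tmul, Matrix.mulVec_smul, mulVec_of_mem_Inv hd k.2]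
    | add x y hx hy => rw [map_add, Matrix.mulVec_add, hx, hy]
  · rintro _ ⟨w, rfl⟩
    rw [Matrix.mulVecLin_apply]
    obtain ⟨z, hz⟩ := exists_kappa_eq hd (e *ᵥ w) (by rw [Matrix.mulVec_mulVec, hd.idem])
    exact ⟨z, hz⟩

/-- `S ⊗ Inv ≃ im e` -/
noncomputable def kappaEquiv (hd : IsDatum e γ) :
    S ⊗[R] Inv γ ≃ₗ[S] LinearMap.range (Matrix.mulVecLin e) :=
  LinearEquiv.ofInjective (kappa γ) (kappa_injective hd) ≪≫ₗ LinearEquiv.ofEq _ _ (range_kappa hd)

theorem kappaEquiv_apply (hd : IsDatum e γ) (z : S ⊗[R] Inv γ) :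
    (kappaEquiv hd z : ι → S) = kappa γ z := rfl

theorem finite_projective_Inv (hd : IsDatum e γ) :
    Module.Finite R (Inv γ) ∧ Module.Projective R (Inv γ) := by
  set E := Matrix.mulVecLin e with hE
  have hEE : ∀ w, E (E w) = E w := by
    intro w
    rw [hE, Matrix.mulVecLin_apply, Matrix.mulVecLin_apply, Matrix.mulVec_mulVec, hd.idem]
  have : Module.Finite S (LinearMap.range E) := Module.Finite.range E
  have : Module.Projective S (LinearMap.range E) :=
    Module.Projective.of_split (LinearMap.range E).subtype E.rangeRestrict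
      (LinearMap.ext fun ⟨_, w, hw⟩ => Subtype.ext (by
        subst hw
        exact hEE w))
  have : Module.Finite S (S ⊗[R] Inv γ) := Module.Finite.equiv (kappaEquiv hd).symm
  have : Module.Projective S (S ⊗[R] Inv γ) := Module.Projective.of_equiv (kappaEquiv hd).symm
  exact Groth.Agent.H97.FFDescent.projective_of_tensorProduct R S (Inv γ)

omit [Module.FaithfullyFlat R S] [DecidableEq ι] in
theorem sum_smul_single {s : ℕ} {K : Type*} [AddCommGroup K] [Module R K]
    (π : (Fin s → R) →ₗ[R] K) (a : Fin s → R) :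
    π a = ∑ m, a m • π (Pi.single m 1) := by
  conv_lhs => rw [pi_eq_sum_univ' a]
  rw [map_sum]
  refine Finset.sum_congr rfl fun m _ => ?_
  rw [map_smul]

/-- **Matrix presentation of the descended module.** -/
theorem exists_presentation (hd : IsDatum e γ) :
    ∃ (s : ℕ) (f₀ : Matrix (Fin s) (Fin s) R) (B : Matrix ι (Fin s) S) (C : Matrix (Fin s) ι S),
      f₀ * f₀ = f₀ ∧
      (∀ l, γ *ᵥ (c1 R S ∘ fun j => B j l) = c2 R S ∘ fun j => B j l) ∧
      B * f₀.map (algebraMap R S) = B ∧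
      C * B = f₀.map (algebraMap R S) ∧
      B * C = e := by
  obtain ⟨hfin, hproj⟩ := finite_projective_Inv hd
  obtain ⟨s, π, hπ⟩ := Module.Finite.exists_fin' R (Inv γ)
  obtain ⟨σ, hσ⟩ := Module.projective_lifting_property π LinearMap.id hπ
  have hπσ : ∀ k, π (σ k) = k := fun k => LinearMap.congr_fun hσ k
  -- the vectors
  let bvec : Fin s → ι → S := fun l => ((π (Pi.single l 1) : Inv γ) : ι → S)
  let B : Matrix ι (Fin s) S := Matrix.of fun j l => bvec l j
  let f₀ : Matrix (Fin s) (Fin s) R := LinearMap.toMatrix' (σ ∘ₗ π)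
  have hf₀ : ∀ m l, f₀ m l = σ (π (Pi.single l 1)) m := fun m l =>
    LinearMap.toMatrix'_apply _ _ _
  -- `π a` as a combination of the `bvec`
  have hcomb : ∀ a : Fin s → R, ((π a : Inv γ) : ι → S) = ∑ m, a m • bvec m := by
    intro a
    rw [sum_smul_single π a]
    simp only [Submodule.coe_sum, Submodule.coe_smul, bvec]
  have hBt : ∀ a : Fin s → R, B *ᵥ (algebraMap R S ∘ a) = ((π a : Inv γ) : ι → S) := by
    intro a
    rw [hcomb]
    funext j
    simp only [Matrix.mulVec, dotProduct, B, Matrix.of_apply, Function.comp_apply,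
      Finset.sum_apply, Pi.smul_apply, Algebra.smul_def]
    exact Finset.sum_congr rfl fun m _ => mul_comm _ _
  -- the map `c`
  let post : (Fin s → R) →ₗ[R] (Fin s → S) := (Algebra.linearMap R S).compLeft (Fin s)
  let σS : S ⊗[R] Inv γ →ₗ[S] (Fin s → S) := LinearMap.liftBaseChange S (post ∘ₗ σ)
  set E := Matrix.mulVecLin e with hE
  let c : (ι → S) →ₗ[S] (Fin s → S) :=
    σS ∘ₗ (kappaEquiv hd).symm.toLinearMap ∘ₗ E.rangeRestrict
  let C : Matrix (Fin s) ι S := LinearMap.toMatrix' c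
  have hC : ∀ w, C *ᵥ w = c w := fun w => LinearMap.toMatrix'_mulVec c w
  have hσS : ∀ z : S ⊗[R] Inv γ, B *ᵥ (σS z) = kappa γ z := by
    intro z
    induction z using TensorProduct.induction_on with
    | zero => rw [map_zero, map_zero, Matrix.mulVec_zero]
    | tmul a k =>
      have h1 : σS (a ⊗ₜ[R] k) = a • (algebraMap R S ∘ σ k) := rfl
      rw [h1, Matrix.mulVec_smul, hBt, hπσ, kappa_tmul]
    | add x y hx hy => rw [map_add, map_add, Matrix.mulVec_add, hx, hy]
  have hc_inv : ∀ k : Inv γ, c (k : ι → S) = algebraMap R S ∘ σ k := by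
    intro k
    have hk : E (k : ι → S) = k := by
      rw [hE, Matrix.mulVecLin_apply, mulVec_of_mem_Inv hd k.2]
    have h1 : E.rangeRestrict (k : ι → S) = kappaEquiv hd ((1 : S) ⊗ₜ[R] k) := by
      apply Subtype.ext
      rw [kappaEquiv_apply, kappa_tmul, one_smul]
      exact hk
    change σS ((kappaEquiv hd).symm (E.rangeRestrict (k : ι → S))) = _
    rw [h1, LinearEquiv.symm_apply_apply]
    change (1 : S) • (algebraMap R S ∘ σ k) = _
    rw [one_smul]
  refine ⟨s, f₀, B, C, ?_, ?_, ?_, ?_, ?_⟩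
  · change LinearMap.toMatrix' (σ ∘ₗ π) * LinearMap.toMatrix' (σ ∘ₗ π) = _
    have : (σ ∘ₗ π) * (σ ∘ₗ π) = σ ∘ₗ π := by
      apply LinearMap.ext
      intro a
      change σ (π (σ (π a))) = σ (π a)
      rw [hπσ]
    rw [← LinearMap.toMatrix'_mul, this]
  · intro l
    exact (mem_Inv γ).mp (π (Pi.single l 1)).2
  · ext j l
    have h1 : (B * f₀.map (algebraMap R S)) j l =
        (B *ᵥ (algebraMap R S ∘ σ (π (Pi.single l 1)))) j := by
      simp only [Matrix.mul_apply, Matrix.mulVec, dotProduct, Matrix.map_apply,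
        Function.comp_apply, hf₀]
    rw [h1, hBt, hπσ]
    rfl
  · ext m l
    have h1 : (C * B) m l = (C *ᵥ bvec l) m := by
      simp only [Matrix.mul_apply, Matrix.mulVec, dotProduct, B, Matrix.of_apply]
    rw [h1, hC]
    have h2 := hc_inv (π (Pi.single l 1))
    change c (bvec l) = _ at h2
    rw [h2, Matrix.map_apply, hf₀]
    rfl
  · apply Matrix.toLin'.injective
    apply LinearMap.ext
    intro w
    rw [Matrix.toLin'_apply, Matrix.toLin'_apply, ← Matrix.mulVec_mulVec, hC]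
    change B *ᵥ σS ((kappaEquiv hd).symm (E.rangeRestrict w)) = _
    rw [hσS, ← kappaEquiv_apply hd, LinearEquiv.apply_symm_apply]
    rfl

end ff

end Groth.Agent.H92.ClassMat
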