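import Mathlib

/-!
# Two lifting lemmas over a local ring

* two algebra maps out of a finite unramified algebra which agree modulo the maximal ideal agree;
* a finite algebra generated, modulo the maximal ideal, by the powers of one element is commutative.
-/

set_option autoImplicit false

namespace Groth.Agent.H92.CocommAlg
open TensorProduct IsLocalRing

section unram
variable {R : Type*} [CommRing R] [IsLocalRing R] {A : Type*} [CommRing A] [Algebra R A]
  [Module.Finite R A] [Algebra.FormallyUnramified R A]
  {C : Type*} [CommRing C] [Algebra R C] [Module.Finite R C]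

omit [IsLocalRing R] [Module.Finite R C] in
theorem mul_mem_smul_top (I : Ideal R) (c x : C) (hx : x ∈ I • (⊤ : Submodule R C)) :
    c * x ∈ I • (⊤ : Submodule R C) := by
  refine Submodule.smul_induction_on hx (fun r hr y _ => ?_) (fun y z hy hz => ?_)
  · rw [mul_smul_comm]
    exact Submodule.smul_mem_smul hr Submodule.mem_top
  · rw [mul_add]; exact Submodule.add_mem _ hy hz

theorem eq_of_unramified (φ ψ : A →ₐ[R] C)
    (h : ∀ s : A, ψ s - φ s ∈ (maximalIdeal R) • (⊤ : Submodule R C)) : φ = ψ := by
  haveI : Algebra.FiniteType R A := inferInstance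
  obtain ⟨t, ht1, ht2⟩ := Algebra.FormallyUnramified.iff_exists_tensorProduct.mp
    (inferInstance : Algebra.FormallyUnramified R A)
  set Θ : A ⊗[R] A →ₐ[R] C := Algebra.TensorProduct.productMap φ ψ with hΘ
  set e := Θ t with he
  have hΘs : ∀ s : A, Θ ((1 : A) ⊗ₜ[R] s - s ⊗ₜ[R] (1 : A)) = ψ s - φ s := by
    intro s
    rw [map_sub, hΘ, Algebra.TensorProduct.productMap_apply_tmul,
      Algebra.TensorProduct.productMap_apply_tmul, map_one, map_one, one_mul, mul_one]
  have key1 : ∀ s : A, (ψ s - φ s) * e = 0 := by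
    intro s
    rw [← hΘs, he, ← map_mul, ht1, map_zero]
  have key2 : 1 - e ∈ (maximalIdeal R) • (⊤ : Submodule R C) := by
    have h1 : 1 - t ∈ KaehlerDifferential.ideal R A := by
      rw [KaehlerDifferential.ideal, RingHom.mem_ker, map_sub, map_one]
      have : (Algebra.TensorProduct.lmul' R : A ⊗[R] A →ₐ[R] A) t = 1 := ht2
      rw [this, sub_self]
    rw [← KaehlerDifferential.span_range_eq_ideal] at h1
    have h2 : ∀ y ∈ Ideal.span (Set.range fun s : A => (1 : A) ⊗ₜ[R] s - s ⊗ₜ[R] (1 : A)),
        Θ y ∈ (maximalIdeal R) • (⊤ : Submodule R C) := by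
      intro y hy
      induction hy using Submodule.span_induction with
      | mem y hy =>
        obtain ⟨s, rfl⟩ := hy
        rw [hΘs]
        exact h s
      | zero => rw [map_zero]; exact Submodule.zero_mem _
      | add y z _ _ hy hz => rw [map_add]; exact Submodule.add_mem _ hy hz
      | smul c y _ hy =>
        rw [smul_eq_mul, map_mul]
        exact mul_mem_smul_top _ _ _ hy
    have := h2 _ h1
    rwa [map_sub, map_one] at this
  -- the module generated by the differences
  let δ : A →ₗ[R] C := ψ.toLinearMap - φ.toLinearMap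
  have hδ : ∀ s, δ s = ψ s - φ s := fun s => rfl
  let Λ : C ⊗[R] A →ₗ[R] C := LinearMap.mul' R C ∘ₗ TensorProduct.map LinearMap.id δ
  have hΛ : ∀ c s, Λ (c ⊗ₜ[R] s) = c * (ψ s - φ s) := fun c s => rfl
  have hFG : (LinearMap.range Λ).FG := by
    rw [LinearMap.range_eq_map]
    exact (Module.Finite.fg_top (R := R) (M := C ⊗[R] A)).map Λ
  have hle : LinearMap.range Λ ≤ (maximalIdeal R) • LinearMap.range Λ := by
    rintro _ ⟨y, rfl⟩
    induction y using TensorProduct.induction_on with
    | zero => rw [map_zero]; exact Submodule.zero_mem _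
    | add y z hy hz => rw [map_add]; exact Submodule.add_mem _ hy hz
    | tmul c s =>
      rw [hΛ]
      have h3 : c * (ψ s - φ s) = c * (ψ s - φ s) * (1 - e) := by
        rw [mul_sub (c * (ψ s - φ s)), mul_one, mul_assoc, key1, mul_zero, sub_zero]
      rw [h3]
      refine Submodule.smul_induction_on key2 (fun r hr x _ => ?_) (fun x z hx hz => ?_)
      · have : c * (ψ s - φ s) * (r • x) = r • Λ ((c * x) ⊗ₜ[R] s) := by
          rw [hΛ, mul_smul_comm]
          congr 1
          ring
        rw [this]
        exact Submodule.smul_mem_smul hr ⟨_, rfl⟩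
      · rw [mul_add]; exact Submodule.add_mem _ hx hz
  have hbot := Submodule.eq_bot_of_le_smul_of_le_jacobson_bot (maximalIdeal R) _ hFG hle
    (by rw [IsLocalRing.jacobson_eq_maximalIdeal ⊥ bot_ne_top])
  apply AlgHom.ext
  intro s
  have h4 : ψ s - φ s ∈ LinearMap.range Λ := ⟨1 ⊗ₜ[R] s, by rw [hΛ, one_mul]⟩
  rw [hbot, Submodule.mem_bot, sub_eq_zero] at h4
  exact h4.symm

end unram

section gen
variable {R : Type*} [CommRing R]

/-- an algebra spanned by pairwise commuting elements is commutative -/
theorem comm_of_span {D : Type*} [Ring D] [Algebra R D] (S : Set D)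
    (hS : ⊤ ≤ Submodule.span R S) (hc : ∀ a ∈ S, ∀ b ∈ S, a * b = b * a) (f g : D) :
    f * g = g * f := by
  have h1 : ∀ b ∈ S, ∀ f : D, f * b = b * f := by
    intro b hb f
    have hf : f ∈ Submodule.span R S := hS Submodule.mem_top
    induction hf using Submodule.span_induction with
    | mem x hx => exact hc x hx b hb
    | zero => simp
    | add x y _ _ hx hy => rw [add_mul, mul_add, hx, hy]
    | smul c x _ hx => rw [smul_mul_assoc, mul_smul_comm, hx]
  have hg : g ∈ Submodule.span R S := hS Submodule.mem_top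
  induction hg using Submodule.span_induction with
  | mem x hx => exact h1 x hx f
  | zero => simp
  | add x y _ _ hx hy => rw [add_mul, mul_add, hx, hy]
  | smul c x _ hx => rw [smul_mul_assoc, mul_smul_comm, hx]

theorem comm_of_gen [IsLocalRing R] {D : Type*} [Ring D] [Algebra R D] [Module.Finite R D]
    (b : D) (n : ℕ)
    (h : ⊤ ≤ Submodule.span R (Set.range fun j : Fin n => b ^ (j : ℕ)) ⊔
      (maximalIdeal R) • (⊤ : Submodule R D)) (x y : D) : x * y = y * x := by
  have h1 : (⊤ : Submodule R D) ≤ Submodule.span R (Set.range fun j : Fin n => b ^ (j : ℕ)) :=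
    Submodule.le_of_le_smul_of_le_jacobson_bot Module.Finite.fg_top
      (by rw [IsLocalRing.jacobson_eq_maximalIdeal ⊥ bot_ne_top]) h
  apply comm_of_span _ h1
  rintro _ ⟨i, rfl⟩ _ ⟨j, rfl⟩
  exact pow_mul_comm _ _ _

end gen

end Groth.Agent.H92.CocommAlg
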