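import Groth.Agent.H83.Deligne

/-!
# Base change of the dual (convolution) algebra of a Hopf algebra, and descent of commutativity
-/

set_option autoImplicit false
universe u v

namespace Groth.Agent.H92.CocommBC
open TensorProduct WithConv Coalgebra Groth.Agent.H83.Deligne

variable {R : Type u} [CommRing R] {A : Type v} [CommRing A] [HopfAlgebra R A]
  (T : Type*) [CommRing T] [Algebra R T]

/-- base change of linear forms, as a map of convolution algebras -/
noncomputable def beta (ξ : WithConv (A →ₗ[R] R)) : WithConv (T ⊗[R] A →ₗ[T] T) :=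
  toConv (LinearMap.liftBaseChange T (Algebra.linearMap R T ∘ₗ ξ.ofConv))

theorem beta_apply (ξ : WithConv (A →ₗ[R] R)) (t : T) (a : A) :
    (beta T ξ).ofConv (t ⊗ₜ[R] a) = t * algebraMap R T (ξ.ofConv a) := by
  unfold beta
  rw [WithConv.ofConv_toConv, LinearMap.liftBaseChange_tmul]
  rfl

theorem beta_one_tmul (ξ : WithConv (A →ₗ[R] R)) (a : A) :
    (beta T ξ).ofConv ((1 : T) ⊗ₜ[R] a) = algebraMap R T (ξ.ofConv a) := by
  rw [beta_apply, one_mul]

/-- two `T`-linear forms on `T ⊗ A` agreeing on `1 ⊗ a` are equal -/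
theorem ext_one {f g : WithConv (T ⊗[R] A →ₗ[T] T)}
    (h : ∀ a : A, f.ofConv ((1 : T) ⊗ₜ[R] a) = g.ofConv ((1 : T) ⊗ₜ[R] a)) : f = g := by
  apply WithConv.ofConv_injective
  apply LinearMap.ext
  intro y
  induction y using TensorProduct.induction_on with
  | zero => rw [map_zero, map_zero]
  | add y z hy hz => rw [map_add, map_add, hy, hz]
  | tmul t a =>
    have : t ⊗ₜ[R] a = t • ((1 : T) ⊗ₜ[R] a) := by rw [TensorProduct.smul_tmul', smul_eq_mul, mul_one]
    rw [this, map_smul, map_smul, h]

theorem beta_mul (ξ ζ : WithConv (A →ₗ[R] R)) : beta T (ξ * ζ) = beta T ξ * beta T ζ := by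
  apply ext_one
  intro a
  rw [beta_one_tmul, (reprOne a).convMul_apply, (ℛ R a).convMul_apply, map_sum]
  refine Finset.sum_congr rfl fun i _ => ?_
  change _ = (beta T ξ).ofConv ((1 : T) ⊗ₜ[R] (ℛ R a).left i) *
    (beta T ζ).ofConv ((1 : T) ⊗ₜ[R] (ℛ R a).right i)
  rw [beta_one_tmul, beta_one_tmul, map_mul]

theorem beta_one : beta T (1 : WithConv (A →ₗ[R] R)) = 1 := by
  apply ext_one
  intro a
  rw [beta_one_tmul]
  change algebraMap R T (algebraMap R R (Coalgebra.counit (R := R) a)) =
    algebraMap T T (Coalgebra.counit (R := T) ((1 : T) ⊗ₜ[R] a))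
  rw [TensorProduct.counit_tmul]
  simp [Algebra.algebraMap_eq_smul_one]

theorem beta_pow (ξ : WithConv (A →ₗ[R] R)) (n : ℕ) : beta T (ξ ^ n) = beta T ξ ^ n := by
  induction n with
  | zero => rw [pow_zero, pow_zero, beta_one]
  | succ n ih => rw [pow_succ, pow_succ, beta_mul, ih]

theorem beta_add (ξ ζ : WithConv (A →ₗ[R] R)) : beta T (ξ + ζ) = beta T ξ + beta T ζ := by
  apply ext_one
  intro a
  rw [beta_one_tmul, WithConv.ofConv_add, LinearMap.add_apply, map_add, WithConv.ofConv_add,
    LinearMap.add_apply, beta_one_tmul, beta_one_tmul]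

theorem beta_smul (r : R) (ξ : WithConv (A →ₗ[R] R)) :
    beta T (r • ξ) = algebraMap R T r • beta T ξ := by
  apply ext_one
  intro a
  rw [beta_one_tmul, WithConv.ofConv_smul, LinearMap.smul_apply, smul_eq_mul, map_mul,
    WithConv.ofConv_smul, LinearMap.smul_apply, beta_one_tmul, smul_eq_mul]

theorem beta_zero : beta T (0 : WithConv (A →ₗ[R] R)) = 0 := by
  apply ext_one
  intro a
  rw [beta_one_tmul]
  simp

theorem beta_sum {ι : Type*} (s : Finset ι) (f : ι → WithConv (A →ₗ[R] R)) :
    beta T (∑ i ∈ s, f i) = ∑ i ∈ s, beta T (f i) := by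
  classical
  induction s using Finset.induction_on with
  | empty => rw [Finset.sum_empty, Finset.sum_empty, beta_zero]
  | insert i s hi ih => rw [Finset.sum_insert hi, Finset.sum_insert hi, beta_add, ih]

/-- the values of the commutator of two linear forms die in `T` when the dual of the base change is
commutative -/
theorem commutator_apply
    (h : ∀ f g : WithConv (T ⊗[R] A →ₗ[T] T), f * g = g * f)
    (ξ ζ : WithConv (A →ₗ[R] R)) (a : A) :
    algebraMap R T ((ξ * ζ).ofConv a) = algebraMap R T ((ζ * ξ).ofConv a) := by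
  rw [← beta_one_tmul, ← beta_one_tmul, beta_mul, beta_mul, h]

/-- descent along an injective map of rings -/
theorem comm_of_injective (hinj : Function.Injective (algebraMap R T))
    (h : ∀ f g : WithConv (T ⊗[R] A →ₗ[T] T), f * g = g * f)
    (ξ ζ : WithConv (A →ₗ[R] R)) : ξ * ζ = ζ * ξ := by
  apply WithConv.ofConv_injective
  apply LinearMap.ext
  intro a
  exact hinj (commutator_apply T h ξ ζ a)

end Groth.Agent.H92.CocommBC
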