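import Groth.Agent.H92.CocommBC
import Groth.Prelude.Def_CartDual

/-!
# Cocommutativity and commutativity of the dual algebra, over a ring; descent along localizations
-/

set_option autoImplicit false
universe u v

namespace Groth.Agent.H92.CocommDual
open TensorProduct WithConv Coalgebra Groth.Agent.H92.CocommBC

section sep
variable {R : Type u} [CommRing R] {A : Type v} [AddCommGroup A] [Module R A]
  [Module.Finite R A] [Module.Projective R A]

theorem dualTensorEquiv_tmul_apply (f g : A →ₗ[R] R) (t : A ⊗[R] A) :
    CartDual.dualTensorEquiv R A A (f ⊗ₜ g) t = LinearMap.mul' R R (TensorProduct.map f g t) := by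
  induction t using TensorProduct.induction_on with
  | zero => simp
  | add s s' hs hs' => rw [map_add, hs, hs', map_add, map_add]
  | tmul a b => rw [CartDual.dualTensorEquiv_tmul]; rfl

/-- pairs of linear forms separate the elements of `A ⊗ A` -/
theorem tensor_sep (t : A ⊗[R] A)
    (h : ∀ f g : A →ₗ[R] R, LinearMap.mul' R R (TensorProduct.map f g t) = 0) : t = 0 := by
  rw [← Module.forall_dual_apply_eq_zero_iff R]
  intro φ
  obtain ⟨y, rfl⟩ := (CartDual.dualTensorEquiv R A A).surjective φ
  induction y using TensorProduct.induction_on with
  | zero => simp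
  | add y z hy hz => rw [map_add, LinearMap.add_apply, hy, hz, add_zero]
  | tmul f g =>
    rw [← h f g]
    generalize t = s
    induction s using TensorProduct.induction_on with
    | zero => simp
    | add s s' hs hs' => rw [map_add, hs, hs', map_add, map_add]
    | tmul a b => rw [CartDual.dualTensorEquiv_tmul]; rfl

end sep

section cocomm
variable {R : Type u} [CommRing R] {A : Type v} [AddCommGroup A] [Module R A] [Coalgebra R A]
  [Module.Finite R A] [Module.Projective R A]

/-- if the dual algebra is commutative then the coalgebra is cocommutative -/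
theorem isCocomm_of_comm (h : ∀ f g : WithConv (A →ₗ[R] R), f * g = g * f) :
    Coalgebra.IsCocomm R A := by
  refine ⟨?_⟩
  ext a
  rw [LinearMap.comp_apply, ← sub_eq_zero]
  apply tensor_sep
  intro f g
  have h1 : ∀ t : A ⊗[R] A, LinearMap.mul' R R (TensorProduct.map f g
      ((TensorProduct.comm R A A) t)) = LinearMap.mul' R R (TensorProduct.map g f t) := by
    intro t
    induction t using TensorProduct.induction_on with
    | zero => simp
    | tmul x y => simp [mul_comm]
    | add x y hx hy => simp only [map_add, hx, hy]
  have h2 := congrArg (fun F : WithConv (A →ₗ[R] R) => F.ofConv a) (h (toConv g) (toConv f))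
  simp only [LinearMap.convMul_apply] at h2
  rw [map_sub, map_sub, sub_eq_zero]
  exact (h1 _).trans h2

omit [Module.Finite R A] [Module.Projective R A] in
theorem comm_of_isCocomm [Coalgebra.IsCocomm R A] (f g : WithConv (A →ₗ[R] R)) : f * g = g * f :=
  mul_comm f g

end cocomm

section loc
variable {R : Type u} [CommRing R] {A : Type v} [CommRing A] [HopfAlgebra R A]

/-- commutativity of the dual algebra descends along the localizations at the maximal ideals -/
theorem comm_of_localization
    (h : ∀ (J : Ideal R) (_ : J.IsMaximal),
      ∀ f g : WithConv (Localization.AtPrime J ⊗[R] A →ₗ[Localization.AtPrime J]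
        Localization.AtPrime J), f * g = g * f)
    (ξ ζ : WithConv (A →ₗ[R] R)) : ξ * ζ = ζ * ξ := by
  apply WithConv.ofConv_injective
  apply LinearMap.ext
  intro a
  rw [← sub_eq_zero]
  apply eq_zero_of_localization
  intro J hJ
  rw [map_sub, sub_eq_zero]
  exact commutator_apply (Localization.AtPrime J) (h J hJ) ξ ζ a

end loc

end Groth.Agent.H92.CocommDual
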