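import Groth.Agent.H83.PrimeOrder

/-!
# A group scheme of prime order `p` over an algebraically closed field with a nonzero point
derivation at the origin lives in characteristic `p`
-/

set_option autoImplicit false
universe u v

namespace Groth.Agent.H92.CocommField
open TensorProduct WithConv Coalgebra Groth.Agent.H83 Groth.Agent.H83.PrimeOrder

variable {k : Type u} [Field k] {A : Type v} [CommRing A] [HopfAlgebra k A] [Module.Finite k A]

omit [Module.Finite k A] in
/-- a point derivation kills the square of the augmentation ideal -/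
theorem pointDer_sq (d : A →ₗ[k] k)
    (hd : ∀ a b : A, d (a * b) = counit (R := k) a * d b + d a * counit (R := k) b)
    (y : A) (hy : y ∈ RingHom.ker (Bialgebra.counitAlgHom k A) *
      RingHom.ker (Bialgebra.counitAlgHom k A)) : d y = 0 := by
  refine Submodule.mul_induction_on hy (fun a ha b hb => ?_) (fun a b ha hb => ?_)
  · have ha' : counit (R := k) a = 0 := ha
    have hb' : counit (R := k) b = 0 := hb
    rw [hd, ha', hb', zero_mul, mul_zero, add_zero]
  · rw [map_add, ha, hb, add_zero]

theorem charP_of_pointDer [IsAlgClosed k] (p : ℕ) (hp : p.Prime) (hA : Module.finrank k A = p)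
    (d : A →ₗ[k] k)
    (hd : ∀ a b : A, d (a * b) = counit (R := k) a * d b + d a * counit (R := k) b)
    (x : A) (hx : counit (R := k) x = 0) (hdx : d x = 1) : CharP k p := by
  have : IsArtinianRing A := IsArtinianRing.of_finite k A
  obtain ⟨N, hN, hst⟩ := KillOrder.exists_stable (RingHom.ker (Bialgebra.counitAlgHom k A))
  have hbot := KillOrder.iInf_ker_pow_eq_bot N hst
  have hn := KillOrder.finrank_eq_card_mul N hbot
  have hdvd : Nat.card (A →ₐ[k] k) ∣ p := ⟨_, by rw [← hA]; exact hn⟩
  rcases (Nat.dvd_prime hp).1 hdvd with h1 | hpcard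
  · have hall : ∀ f : A →ₐ[k] k, f = Bialgebra.counitAlgHom k A := by
      have hsub : Subsingleton (A →ₐ[k] k) := (Nat.card_eq_one_iff_unique.1 h1).1
      intro f
      exact Subsingleton.elim _ _
    have hnil : ∀ a : A, counit (R := k) a = 0 → IsNilpotent a := by
      intro a ha
      rw [← mem_nilradical, ← Groth.Agent.H86.forall_algHom_eq_zero_iff k A]
      intro f
      rw [hall f]
      exact ha
    have hnt : Nontrivial A := by
      refine ⟨⟨1, 0, fun h => ?_⟩⟩
      have := congrArg (counit (R := k)) h
      simp at this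
    have hloc : IsLocalRing A := HeightOneDim.isLocalRing_of_nil hnil
    obtain ⟨r, hr⟩ := Groth.Agent.S7950.result k A
    have hE : ExpChar k (ringExpChar k) := inferInstance
    obtain ⟨q, hq⟩ : ∃ q, q = ringExpChar k := ⟨_, rfl⟩
    rw [← hq] at hE hr
    rw [hA] at hr
    cases hE with
    | zero =>
      rw [one_pow] at hr
      exact absurd hr hp.one_lt.ne'
    | prime hq' =>
      have hr0 : r ≠ 0 := by
        rintro rfl
        rw [pow_zero] at hr
        exact absurd hr hp.one_lt.ne'
      have hqp : q = p := by
        have : q ∣ p := hr ▸ dvd_pow_self q hr0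
        exact (Nat.prime_dvd_prime_iff_eq hq' hp).1 this
      subst hqp
      infer_instance
  · exfalso
    set I := RingHom.ker (Bialgebra.counitAlgHom k A) with hI
    have hfr : Module.finrank k (A ⧸ I ^ N) = 1 := by
      rw [hpcard, hA] at hn
      have hp0 : 0 < p := hp.pos
      have : p * 1 = p * Module.finrank k (A ⧸ I ^ N) := by rw [mul_one]; exact hn
      exact (Nat.eq_of_mul_eq_mul_left hp0 this).symm
    have h1I : (1 : A) ∉ I := by
      intro h
      have : counit (R := k) (1 : A) = 0 := h
      simp at this
    have h1N : (Ideal.Quotient.mk (I ^ N) (1 : A)) ≠ 0 := by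
      intro h
      exact h1I (Ideal.pow_le_self hN (Ideal.Quotient.eq_zero_iff_mem.mp h))
    obtain ⟨c, hc⟩ := (finrank_eq_one_iff_of_nonzero' _ h1N).mp hfr (Ideal.Quotient.mk (I ^ N) x)
    have hxc : x - c • (1 : A) ∈ I ^ N := by
      rw [← Ideal.Quotient.eq_zero_iff_mem, map_sub, ← hc]
      have : Ideal.Quotient.mk (I ^ N) (c • (1 : A)) = c • Ideal.Quotient.mk (I ^ N) (1 : A) := rfl
      rw [this, sub_self]
    have hc0 : c = 0 := by
      have h2 : counit (R := k) (x - c • (1 : A)) = 0 := Ideal.pow_le_self hN hxc
      rw [map_sub, hx, map_smul, Bialgebra.counit_one, smul_eq_mul, mul_one, zero_sub,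
        neg_eq_zero] at h2
      exact h2
    rw [hc0, zero_smul, sub_zero] at hxc
    have h2N : I ^ N = I ^ N * I ^ N := by
      rw [← pow_add]
      exact (hst (N + N) (by omega)).symm
    rw [h2N] at hxc
    have hle : I ^ N * I ^ N ≤ I * I :=
      Ideal.mul_mono (Ideal.pow_le_self hN) (Ideal.pow_le_self hN)
    have := pointDer_sq d hd x (hle hxc)
    rw [hdx] at this
    exact one_ne_zero this

end Groth.Agent.H92.CocommField
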