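import Groth.Agent.H92.CocommAlg
import Groth.Agent.H92.CocommDual
import Groth.Agent.H92.CocommField
import Groth.Agent.H27.HopfEtale

/-!
# A finite free Hopf algebra of prime rank over a local ring is cocommutative
-/

set_option autoImplicit false
universe u v

namespace Groth.Agent.H92.CocommLocal
open TensorProduct WithConv Coalgebra IsLocalRing
open Groth.Agent.H92.CocommBC Groth.Agent.H92.CocommDual Groth.Agent.H92.CocommAlg
open Groth.Agent.H92.CocommField Groth.Agent.H83.PrimeOrder

section pd
variable {R : Type u} [CommRing R] {A : Type v} [CommRing A] [HopfAlgebra R A]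
  (T : Type*) [CommRing T] [Algebra R T]

/-- base change of a point derivation with values in an `R`-algebra `T` -/
theorem pointDer_baseChange (d : A →ₗ[R] T)
    (hd : ∀ a b : A, d (a * b) = counit (R := R) a • d b + counit (R := R) b • d a)
    (y z : T ⊗[R] A) :
    d.liftBaseChange T (y * z) =
      counit (R := T) y * d.liftBaseChange T z + d.liftBaseChange T y * counit (R := T) z := by
  induction y using TensorProduct.induction_on with
  | zero => simp
  | add y y' hy hy' => rw [add_mul, map_add, hy, hy', map_add, map_add]; ring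
  | tmul s a =>
    induction z using TensorProduct.induction_on with
    | zero => simp
    | add z z' hz hz' => rw [mul_add, map_add, hz, hz', map_add, map_add]; ring
    | tmul t b =>
      rw [Algebra.TensorProduct.tmul_mul_tmul, LinearMap.liftBaseChange_tmul,
        LinearMap.liftBaseChange_tmul, LinearMap.liftBaseChange_tmul, TensorProduct.counit_tmul,
        TensorProduct.counit_tmul, hd]
      simp only [CommSemiring.counit_apply, smul_eq_mul, Algebra.smul_def]
      ring

end pd

section caseB
variable {R : Type u} [CommRing R] [IsLocalRing R] {A : Type v} [CommRing A] [HopfAlgebra R A]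
  [Module.Finite R A] [Module.Projective R A]

attribute [local instance] Module.free_of_flat_of_isLocalRing

/-- a linear form with values in the maximal ideal lies in `𝔪 • ⊤` -/
theorem mem_smul_top_of_forall (η : WithConv (A →ₗ[R] R))
    (h : ∀ a, η.ofConv a ∈ maximalIdeal R) :
    η ∈ (maximalIdeal R) • (⊤ : Submodule R (WithConv (A →ₗ[R] R))) := by
  let b := Module.Free.chooseBasis R A
  have h1 : η = ∑ i, η.ofConv (b i) • toConv (b.coord i) := by
    apply WithConv.ofConv_injective
    rw [WithConv.ofConv_sum]
    simp only [WithConv.ofConv_smul, WithConv.ofConv_toConv]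
    exact (b.sum_dual_apply_smul_coord η.ofConv).symm
  rw [h1]
  exact Submodule.sum_mem _ fun i _ => Submodule.smul_mem_smul (h _) Submodule.mem_top

theorem comm_of_pointDer (p : ℕ) (hp : p.Prime) (hfr : Module.finrank R A = p)
    (d : A →ₗ[R] ResidueField R) (x : A) (hx : counit (R := R) x = 0) (hdx : d x = 1)
    (hd : ∀ a b : A, d (a * b) = counit (R := R) a • d b + counit (R := R) b • d a)
    (ξ ζ : WithConv (A →ₗ[R] R)) : ξ * ζ = ζ * ξ := by
  -- over the residue field
  have hdk_mul := pointDer_baseChange (ResidueField R) d hd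
  have hxk : counit (R := ResidueField R) ((1 : ResidueField R) ⊗ₜ[R] x) = 0 := by
    rw [TensorProduct.counit_tmul, hx, zero_smul]
  have hdxk : d.liftBaseChange (ResidueField R) ((1 : ResidueField R) ⊗ₜ[R] x) = 1 := by
    rw [LinearMap.liftBaseChange_tmul, one_smul, hdx]
  have hAk : Module.finrank (ResidueField R) (ResidueField R ⊗[R] A) = p := by
    rw [Module.finrank_baseChange, hfr]
  -- over the algebraic closure
  have hchar : CharP (ResidueField R) p := by
    let K := AlgebraicClosure (ResidueField R)
    let dK0 : ResidueField R ⊗[R] A →ₗ[ResidueField R] K :=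
      Algebra.linearMap (ResidueField R) K ∘ₗ d.liftBaseChange (ResidueField R)
    have hdK0 : ∀ a b : ResidueField R ⊗[R] A, dK0 (a * b) =
        counit (R := ResidueField R) a • dK0 b + counit (R := ResidueField R) b • dK0 a := by
      intro a b
      simp only [dK0, LinearMap.comp_apply, Algebra.linearMap_apply, hdk_mul, map_add, map_mul,
        Algebra.smul_def]
      ring
    have hAK : Module.finrank K (K ⊗[ResidueField R] (ResidueField R ⊗[R] A)) = p := by
      rw [Module.finrank_baseChange, hAk]
    have hcK : CharP K p := charP_of_pointDer p hp hAK (dK0.liftBaseChange K)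
      (fun a b => pointDer_baseChange K dK0 hdK0 a b)
      ((1 : K) ⊗ₜ[ResidueField R] ((1 : ResidueField R) ⊗ₜ[R] x))
      (by rw [TensorProduct.counit_tmul, hxk, zero_smul])
      (by
        rw [LinearMap.liftBaseChange_tmul, one_smul]
        simp only [dK0, LinearMap.comp_apply, Algebra.linearMap_apply, hdxk, map_one])
    haveI := hcK
    exact RingHom.charP (algebraMap (ResidueField R) K) (algebraMap (ResidueField R) K).injective p
  have hfac : ∀ j < p, (j.factorial : ResidueField R) ≠ 0 := by
    haveI := hchar
    intro j hj h0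
    rw [CharP.cast_eq_zero_iff (ResidueField R) p, hp.dvd_factorial] at h0
    omega
  have hli := linearIndependent_pow p hfac (d.liftBaseChange (ResidueField R))
    (fun a b => hdk_mul a b) ((1 : ResidueField R) ⊗ₜ[R] x) hxk hdxk
  have hspan := hli.span_eq_top_of_card_eq_finrank' (by rw [finrank_dual, hAk, Fintype.card_fin])
  -- lift the generator
  obtain ⟨b₀, hb₀⟩ := Module.projective_lifting_property
    (Algebra.linearMap R (ResidueField R)) d IsLocalRing.residue_surjective
  have hβb : beta (ResidueField R) (toConv b₀) = toConv (d.liftBaseChange (ResidueField R)) := by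
    apply ext_one
    intro a
    rw [beta_one_tmul, WithConv.ofConv_toConv, WithConv.ofConv_toConv,
      LinearMap.liftBaseChange_tmul, one_smul, ← hb₀]
    rfl
  haveI : @Module.Finite R (WithConv (A →ₗ[R] R)) _ _ Algebra.toModule :=
    CartDual.instModuleFinite R A
  apply comm_of_gen (R := R) (toConv b₀ : WithConv (A →ₗ[R] R)) p
  intro ξ _
  have hξ : beta (ResidueField R) ξ ∈ Submodule.span (ResidueField R) (Set.range fun j : Fin p =>
      (toConv (d.liftBaseChange (ResidueField R)) :
        WithConv (ResidueField R ⊗[R] A →ₗ[ResidueField R] ResidueField R)) ^ (j : ℕ)) := by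
    rw [hspan]; trivial
  obtain ⟨c, hc⟩ := (Submodule.mem_span_range_iff_exists_fun _).mp hξ
  choose r hr using fun j => IsLocalRing.residue_surjective (c j)
  set η := ξ - ∑ j : Fin p, r j • (toConv b₀ : WithConv (A →ₗ[R] R)) ^ (j : ℕ) with hη
  have hξη : ξ = ∑ j : Fin p, r j • (toConv b₀ : WithConv (A →ₗ[R] R)) ^ (j : ℕ) + η := by
    rw [hη]; abel
  have hβη : beta (ResidueField R) η = 0 := by
    have h1 := congrArg (beta (ResidueField R)) hξη
    rw [beta_add, beta_sum] at h1
    have h2 : ∀ j : Fin p, beta (ResidueField R) (r j • (toConv b₀ : WithConv (A →ₗ[R] R)) ^ (j : ℕ)) =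
        c j • (toConv (d.liftBaseChange (ResidueField R)) :
          WithConv (ResidueField R ⊗[R] A →ₗ[ResidueField R] ResidueField R)) ^ (j : ℕ) := by
      intro j
      rw [beta_smul, beta_pow, hβb, ← hr j]
      rfl
    rw [Finset.sum_congr rfl (fun j _ => h2 j), hc] at h1
    exact (add_eq_left.mp h1.symm)
  rw [hξη]
  refine Submodule.add_mem_sup ?_ ?_
  · exact Submodule.sum_mem _ fun j _ => Submodule.smul_mem _ _ (Submodule.subset_span ⟨j, rfl⟩)
  · apply mem_smul_top_of_forall
    intro a
    rw [← IsLocalRing.residue_eq_zero_iff]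
    have := congrArg (fun F : WithConv (ResidueField R ⊗[R] A →ₗ[ResidueField R] ResidueField R) =>
      F.ofConv ((1 : ResidueField R) ⊗ₜ[R] a)) hβη
    simp only [beta_one_tmul, WithConv.ofConv_zero, LinearMap.zero_apply] at this
    exact this

end caseB

section caseA
variable {R : Type u} [CommRing R] [IsLocalRing R] {A : Type v} [CommRing A] [HopfAlgebra R A]
  [Module.Finite R A] [Module.Projective R A]

attribute [local instance] Module.free_of_flat_of_isLocalRing

theorem mem_smul_top_of_dual {M : Type*} [AddCommGroup M] [Module R M] [Module.Finite R M]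
    [Module.Free R M] (z : M) (h : ∀ φ : Module.Dual R M, φ z ∈ maximalIdeal R) :
    z ∈ (maximalIdeal R) • (⊤ : Submodule R M) := by
  let b := Module.Free.chooseBasis R M
  rw [← b.sum_repr z]
  exact Submodule.sum_mem _ fun i _ => Submodule.smul_mem_smul (h (b.coord i)) Submodule.mem_top

theorem isCocomm_of_sq
    (hI : RingHom.ker (Bialgebra.counitAlgHom R A) ^ 2 = RingHom.ker (Bialgebra.counitAlgHom R A))
    (hmod : ∀ (ξ ζ : WithConv (A →ₗ[R] R)) (a : A),
      (ξ * ζ).ofConv a - (ζ * ξ).ofConv a ∈ maximalIdeal R) :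
    Coalgebra.IsCocomm R A := by
  haveI : Algebra.Etale R A := (Groth.Agent.H27.HopfEtale.etale_iff R A).mpr hI
  haveI : Algebra.FormallyUnramified R A := inferInstance
  let φ : A →ₐ[R] A ⊗[R] A := Bialgebra.comulAlgHom R A
  let ψ : A →ₐ[R] A ⊗[R] A :=
    ((Algebra.TensorProduct.comm R A A : A ⊗[R] A ≃ₐ[R] A ⊗[R] A) : A ⊗[R] A →ₐ[R] A ⊗[R] A).comp φ
  have h : ∀ s : A, ψ s - φ s ∈ (maximalIdeal R) • (⊤ : Submodule R (A ⊗[R] A)) := by
    intro s
    apply mem_smul_top_of_dual
    intro θ
    obtain ⟨y, rfl⟩ := (CartDual.dualTensorEquiv R A A).surjective θ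
    induction y using TensorProduct.induction_on with
    | zero => simp
    | add y z hy hz => rw [map_add, LinearMap.add_apply]; exact Ideal.add_mem _ hy hz
    | tmul f g =>
      rw [dualTensorEquiv_tmul_apply]
      have h1 : ∀ t : A ⊗[R] A, LinearMap.mul' R R (TensorProduct.map f g
          ((TensorProduct.comm R A A) t)) = LinearMap.mul' R R (TensorProduct.map g f t) := by
        intro t
        induction t using TensorProduct.induction_on with
        | zero => simp
        | tmul x y => simp [mul_comm]
        | add x y hx hy => simp only [map_add, hx, hy]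
      have h2 := hmod (toConv g) (toConv f) s
      rw [LinearMap.convMul_apply, LinearMap.convMul_apply] at h2
      rw [map_sub, map_sub]
      have h3 : ψ s = (TensorProduct.comm R A A) (comul (R := R) s) := rfl
      have h4 : φ s = comul (R := R) s := rfl
      rw [h3, h4, h1]
      exact h2
  have heq := eq_of_unramified φ ψ h
  refine ⟨?_⟩
  ext a
  exact (congrArg (fun F : A →ₐ[R] A ⊗[R] A => F a) heq).symm

/-- when the augmentation ideal is not idempotent there is a point derivation with values in the
residue field -/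
theorem exists_pointDer
    (hI : RingHom.ker (Bialgebra.counitAlgHom R A) ^ 2 ≠ RingHom.ker (Bialgebra.counitAlgHom R A)) :
    ∃ (d : A →ₗ[R] ResidueField R) (x : A), counit (R := R) x = 0 ∧ d x = 1 ∧
      ∀ a b : A, d (a * b) = counit (R := R) a • d b + counit (R := R) b • d a := by
  set I := RingHom.ker (Bialgebra.counitAlgHom R A) with hIdef
  -- the projection onto the augmentation ideal
  let P : A →ₗ[R] A := LinearMap.id - (Algebra.linearMap R A ∘ₗ (counit (R := R) : A →ₗ[R] R))
  have hP : ∀ a, P a = a - algebraMap R A (counit (R := R) a) := fun a => rfl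
  have hImem : ∀ a : A, a ∈ I ↔ counit (R := R) a = 0 := fun a => by
    rw [hIdef, RingHom.mem_ker]; rfl
  have hPmem : ∀ a, P a ∈ I := fun a => by
    rw [hImem, hP, map_sub, Bialgebra.counit_algebraMap, sub_self]
  have hPI : ∀ a ∈ I, P a = a := fun a ha => by
    rw [hP, (hImem a).mp ha, map_zero, sub_zero]
  have hrange : LinearMap.range P = I.restrictScalars R := by
    ext a
    constructor
    · rintro ⟨b, rfl⟩; exact hPmem b
    · intro ha; exact ⟨a, hPI a ha⟩
  have hFG : (I.restrictScalars R).FG := by
    rw [← hrange, LinearMap.range_eq_map]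
    exact (Module.Finite.fg_top (R := R) (M := A)).map P
  -- an element of `I` outside `I² + 𝔪 I`
  obtain ⟨x, hxI, hx⟩ : ∃ x ∈ I, x ∉ (I ^ 2).restrictScalars R ⊔
      (maximalIdeal R) • I.restrictScalars R := by
    by_contra hcon
    push_neg at hcon
    apply hI
    apply le_antisymm (Ideal.pow_le_self two_ne_zero)
    have hle : I.restrictScalars R ≤ (I ^ 2).restrictScalars R :=
      Submodule.le_of_le_smul_of_le_jacobson_bot hFG
        (by rw [IsLocalRing.jacobson_eq_maximalIdeal ⊥ bot_ne_top]) (fun a ha => hcon a ha)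
    exact fun a ha => hle ha
  -- `x` is not in `W + 𝔪 A`
  set W₀ : Submodule R A := Submodule.span R {(1 : A)} ⊔ (I ^ 2).restrictScalars R with hW₀
  have hxW : x ∉ W₀ ⊔ (maximalIdeal R) • (⊤ : Submodule R A) := by
    intro hmem
    apply hx
    have h1 : P x ∈ Submodule.map P (W₀ ⊔ (maximalIdeal R) • (⊤ : Submodule R A)) := ⟨x, hmem, rfl⟩
    rw [hPI x hxI, Submodule.map_sup, hW₀, Submodule.map_sup, Submodule.map_span, Set.image_singleton,
      Submodule.map_smul''] at h1
    have hP1 : P 1 = 0 := by rw [hP, Bialgebra.counit_one, map_one, sub_self]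
    rw [hP1, Submodule.span_singleton_eq_bot.mpr rfl, bot_sup_eq] at h1
    refine SetLike.le_def.mp (sup_le_sup ?_ ?_) h1
    · rintro _ ⟨y, hy, rfl⟩
      have : y ∈ I := Ideal.pow_le_self two_ne_zero hy
      rw [hPI y this]; exact hy
    · apply Submodule.smul_mono le_rfl
      rintro _ ⟨y, -, rfl⟩
      exact hPmem y
  -- the functional
  let q : A →ₗ[R] A ⧸ W₀ := W₀.mkQ
  let ι : (A ⧸ W₀) →ₗ[R] ResidueField R ⊗[R] (A ⧸ W₀) := TensorProduct.mk R (ResidueField R) (A ⧸ W₀) 1
  have hne' : ((1 : R ⧸ maximalIdeal R) ⊗ₜ[R] (q x) : (R ⧸ maximalIdeal R) ⊗[R] (A ⧸ W₀)) ≠ 0 := by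
    intro h0
    apply hxW
    have h1 : TensorProduct.quotTensorEquivQuotSMul (A ⧸ W₀) (maximalIdeal R)
        ((1 : R ⧸ maximalIdeal R) ⊗ₜ[R] (q x)) = 0 := by
      rw [h0, map_zero]
    rw [TensorProduct.quotTensorEquivQuotSMul_mk_one_tmul, Submodule.Quotient.mk_eq_zero] at h1
    have h3 : (maximalIdeal R) • (⊤ : Submodule R (A ⧸ W₀)) =
        Submodule.map q ((maximalIdeal R) • (⊤ : Submodule R A)) := by
      rw [Submodule.map_smul'', Submodule.map_top, Submodule.range_mkQ]
    rw [h3] at h1
    obtain ⟨y, hy, hyq⟩ := h1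
    have h4 : x - y ∈ W₀ := by
      rw [← Submodule.Quotient.mk_eq_zero, Submodule.Quotient.mk_sub, sub_eq_zero]
      exact hyq.symm
    have : x = (x - y) + y := by abel
    rw [this]
    exact Submodule.add_mem_sup h4 hy
  have hne : ι (q x) ≠ 0 := hne'
  obtain ⟨φ, hφ⟩ := Module.Projective.exists_dual_eq_one (ResidueField R) hne
  let d : A →ₗ[R] ResidueField R := (φ.restrictScalars R) ∘ₗ ι ∘ₗ q
  have hdW : ∀ w ∈ W₀, d w = 0 := by
    intro w hw
    have : q w = 0 := (Submodule.Quotient.mk_eq_zero _).mpr hw
    change φ (ι (q w)) = 0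
    rw [this, map_zero, map_zero]
  have hd1 : d 1 = 0 := hdW 1 (Submodule.mem_sup_left (Submodule.mem_span_singleton_self 1))
  have hdsq : ∀ a ∈ I, ∀ b ∈ I, d (a * b) = 0 := by
    intro a ha b hb
    apply hdW
    apply Submodule.mem_sup_right
    change a * b ∈ I ^ 2
    rw [pow_two]
    exact Ideal.mul_mem_mul ha hb
  refine ⟨d, x, (hImem x).mp hxI, hφ, ?_⟩
  intro a b
  have ha : a = algebraMap R A (counit (R := R) a) + P a := by rw [hP]; ring
  have hb : b = algebraMap R A (counit (R := R) b) + P b := by rw [hP]; ring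
  have hdP : ∀ c : A, d (P c) = d c := by
    intro c
    rw [hP, map_sub, Algebra.algebraMap_eq_smul_one, map_smul, hd1, smul_zero, sub_zero]
  have hab : a * b = (counit (R := R) a * counit (R := R) b) • (1 : A) + counit (R := R) a • P b +
      counit (R := R) b • P a + P a * P b := by
    rw [Algebra.smul_def, Algebra.smul_def, Algebra.smul_def, map_mul, hP, hP]
    ring
  rw [hab, map_add, map_add, map_add, map_smul, map_smul, map_smul, hd1, smul_zero, zero_add,
    hdsq _ (hPmem a) _ (hPmem b), add_zero, hdP, hdP]

end caseA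

section main
variable {R : Type u} [CommRing R] [IsLocalRing R] {A : Type v} [CommRing A] [HopfAlgebra R A]
  [Module.Finite R A] [Module.Projective R A]

/-- **local case**: the dual algebra of a free Hopf algebra of prime rank over a local ring is
commutative -/
theorem comm_dual_local (p : ℕ) (hp : p.Prime) (hfr : Module.finrank R A = p)
    (ξ ζ : WithConv (A →ₗ[R] R)) : ξ * ζ = ζ * ξ := by
  haveI : Module.Free R A := Module.free_of_flat_of_isLocalRing
  by_cases hI : RingHom.ker (Bialgebra.counitAlgHom R A) ^ 2 =
      RingHom.ker (Bialgebra.counitAlgHom R A)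
  · have hAk : Module.finrank (ResidueField R) (ResidueField R ⊗[R] A) = p := by
      rw [Module.finrank_baseChange, hfr]
    have hAK : Module.finrank (AlgebraicClosure (ResidueField R))
        (AlgebraicClosure (ResidueField R) ⊗[ResidueField R] (ResidueField R ⊗[R] A)) = p := by
      rw [Module.finrank_baseChange, hAk]
    haveI : Coalgebra.IsCocomm (AlgebraicClosure (ResidueField R))
        (AlgebraicClosure (ResidueField R) ⊗[ResidueField R] (ResidueField R ⊗[R] A)) :=
      isCocomm_of_prime p hp hAK
    have hk := comm_of_injective (A := ResidueField R ⊗[R] A) (AlgebraicClosure (ResidueField R))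
      (algebraMap (ResidueField R) (AlgebraicClosure (ResidueField R))).injective
      (fun f g => comm_of_isCocomm f g)
    have hmod : ∀ (ξ ζ : WithConv (A →ₗ[R] R)) (a : A),
        (ξ * ζ).ofConv a - (ζ * ξ).ofConv a ∈ maximalIdeal R := by
      intro ξ ζ a
      rw [← IsLocalRing.residue_eq_zero_iff, map_sub, sub_eq_zero]
      exact commutator_apply (ResidueField R) hk ξ ζ a
    haveI := isCocomm_of_sq hI hmod
    exact comm_of_isCocomm ξ ζ
  · obtain ⟨d, x, hx, hdx, hd⟩ := exists_pointDer hI
    exact comm_of_pointDer p hp hfr d x hx hdx hd ξ ζ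

end main

section global
variable (R : Type u) [CommRing R] (p : ℕ) [Fact p.Prime] (A : Type v) [CommRing A]
  [HopfAlgebra R A] [Module.Finite R A] [Module.Projective R A]

/-- a finite locally free group scheme of prime order is commutative -/
theorem isCocomm_of_rank_prime (hp : ∀ q : PrimeSpectrum R, Module.rankAtStalk A q = p) :
    Coalgebra.IsCocomm R A := by
  apply Groth.Agent.H92.CocommDual.isCocomm_of_comm
  apply comm_of_localization
  intro J hJ
  haveI := hJ.isPrime
  have hfr : Module.finrank (Localization.AtPrime J) (Localization.AtPrime J ⊗[R] A) = p := by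
    rw [← hp ⟨J, hJ.isPrime⟩, Module.rankAtStalk_eq_finrank_tensorProduct]
  exact comm_dual_local p (Fact.out) hfr

end global

end Groth.Agent.H92.CocommLocal
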