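import Mathlib
import Groth.Agent.H92.Conil

/-!
# The one-sided coradical filtration and base change (helper92)
-/

set_option autoImplicit false

universe u

open TensorProduct HopfRep

namespace Groth.Agent.H92.Conil

section BaseChange

variable (A : Type u) [CommRing A] (S : Type u) [CommRing S] [Algebra A S]
  (H : Type u) [CommRing H] [Bialgebra A H]

/-- `h ↦ 1 ⊗ h` -/
noncomputable def iota : H →ₗ[A] S ⊗[A] H := (TensorProduct.mk A S H) 1

theorem iota_apply (h : H) : iota A S H h = (1 : S) ⊗ₜ[A] h := rfl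

/-- `H ⊗ H → (S ⊗ H) ⊗_S (S ⊗ H)` -/
noncomputable def JJ : H ⊗[A] H →ₗ[A] (S ⊗[A] H) ⊗[S] (S ⊗[A] H) :=
  ((TensorProduct.AlgebraTensorModule.distribBaseChange A S H H).toLinearMap.restrictScalars A) ∘ₗ
    (TensorProduct.mk A S (H ⊗[A] H) 1)

theorem JJ_tmul (a b : H) :
    JJ A S H (a ⊗ₜ[A] b) = ((1 : S) ⊗ₜ[A] a) ⊗ₜ[S] ((1 : S) ⊗ₜ[A] b) := rfl

theorem comul_iota (a : H) :
    CoalgebraStruct.comul (R := S) (iota A S H a) = JJ A S H (CoalgebraStruct.comul (R := A) a) := by
  change TensorProduct.AlgebraTensorModule.tensorTensorTensorComm A S A S S S H H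
    (CoalgebraStruct.comul (R := S) (1 : S) ⊗ₜ[A] CoalgebraStruct.comul (R := A) a) = _
  rw [CommSemiring.comul_apply]
  generalize CoalgebraStruct.comul (R := A) a = t
  induction t using TensorProduct.induction_on with
  | zero => simp only [TensorProduct.tmul_zero, map_zero]
  | tmul x y => rfl
  | add x y hx hy => simp only [TensorProduct.tmul_add, map_add, hx, hy]

theorem delta_iota (a : H) :
    delta S (S ⊗[A] H) (iota A S H a) = JJ A S H (delta A H a) := by
  rw [delta_apply, delta_apply, map_sub, comul_iota, JJ_tmul, Algebra.TensorProduct.one_def]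
  rfl

theorem JJ_rTensor_mem (n : ℕ)
    (ih : ∀ a ∈ D A H n, iota A S H a ∈ D S (S ⊗[A] H) n) (w : ↥(D A H n) ⊗[A] H) :
    JJ A S H ((D A H n).subtype.rTensor H w) ∈
      LinearMap.range ((D S (S ⊗[A] H) n).subtype.rTensor (S ⊗[A] H)) := by
  induction w using TensorProduct.induction_on with
  | zero => simp only [map_zero]; exact zero_mem _
  | tmul d h =>
    exact ⟨(⟨iota A S H d.1, ih d.1 d.2⟩ : ↥(D S (S ⊗[A] H) n)) ⊗ₜ[S] (iota A S H h), rfl⟩
  | add x y hx hy => simp only [map_add]; exact add_mem hx hy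

/-- the filtration maps into the filtration of the base change -/
theorem iota_mem_D (n : ℕ) : ∀ a ∈ D A H n, iota A S H a ∈ D S (S ⊗[A] H) n := by
  induction n with
  | zero =>
    intro a ha
    rw [D_zero, Submodule.mem_bot] at ha
    rw [ha, map_zero]
    exact zero_mem _
  | succ n ih =>
    intro a ha
    rw [D_succ, mem_next] at ha ⊢
    obtain ⟨w, hw⟩ := ha
    rw [delta_iota, ← hw]
    exact JJ_rTensor_mem A S H n ih w

end BaseChange

end Groth.Agent.H92.Conil
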