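import Mathlib
import Groth.Agent.H92.ConilBC

/-!
# Specialization of unipotence over a Dedekind domain (helper92)

`H` a flat bialgebra over a Dedekind domain `A` with fraction field `K`.  The filtration `D A H n`
consists of saturated submodules and every element of `D K (K ⊗ H) n` is a `K`-multiple of an
element of `D A H n`.  Hence if `K ⊗ H` is conilpotent then so is `H`, and so is every base
change of `H`.
-/

set_option autoImplicit false

universe u

open TensorProduct HopfRep

namespace Groth.Agent.H92.Conil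

section Sat

variable (A : Type u) [CommRing A] [IsDomain A] [IsDedekindDomain A]
  (H : Type u) [CommRing H] [Bialgebra A H] [Module.Flat A H]

/-- a saturated submodule -/
def IsSat (D' : Submodule A H) : Prop := ∀ (s : A) (a : H), s ≠ 0 → s • a ∈ D' → a ∈ D'

variable {A H}

theorem smul_eq_zero_of_flat {M : Type u} [AddCommGroup M] [Module A M] [Module.Flat A M]
    {s : A} (hs : s ≠ 0) {m : M} (h : s • m = 0) : m = 0 := by
  have hreg : IsRegular s := isRegular_of_ne_zero hs
  have := hreg.isSMulRegular (M := M)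
  apply this
  simp only [h, smul_zero]

theorem isSat_bot : IsSat A H (⊥ : Submodule A H) := by
  intro s a hs h
  rw [Submodule.mem_bot] at h ⊢
  exact smul_eq_zero_of_flat hs h

theorem flat_quotient (D' : Submodule A H) (hD : IsSat A H D') : Module.Flat A (H ⧸ D') := by
  haveI : Module.IsTorsionFree A (H ⧸ D') := by
    refine ⟨fun r hr x y hxy => ?_⟩
    have hr0 : r ≠ 0 := hr.ne_zero
    obtain ⟨a, rfl⟩ := Submodule.Quotient.mk_surjective D' x
    obtain ⟨b, rfl⟩ := Submodule.Quotient.mk_surjective D' y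
    have h1 : r • (a - b) ∈ D' := by
      have : Submodule.Quotient.mk (p := D') (r • a) = Submodule.Quotient.mk (p := D') (r • b) := hxy
      rw [Submodule.Quotient.eq] at this
      rwa [smul_sub]
    have h2 := hD r (a - b) hr0 h1
    exact (Submodule.Quotient.eq D').mpr h2
  infer_instance

/-- the key saturation lemma -/
theorem mem_range_of_smul_mem (D' : Submodule A H) (hD : IsSat A H D') (s : A) (hs : s ≠ 0)
    (x : H ⊗[A] H) (hx : s • x ∈ LinearMap.range (D'.subtype.rTensor H)) :
    x ∈ LinearMap.range (D'.subtype.rTensor H) := by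
  haveI := flat_quotient D' hD
  rw [← rTensor_mkQ, LinearMap.mem_ker] at hx ⊢
  rw [map_smul] at hx
  exact smul_eq_zero_of_flat hs hx

theorem isSat_next (D' : Submodule A H) (hD : IsSat A H D') : IsSat A H (next A H D') := by
  intro s a hs h
  rw [mem_next, map_smul] at h
  rw [mem_next]
  exact mem_range_of_smul_mem D' hD s hs _ h

theorem isSat_D (n : ℕ) : IsSat A H (D A H n) := by
  induction n with
  | zero => exact isSat_bot
  | succ n ih => exact isSat_next _ ih

end Sat

section Generic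

variable (A : Type u) [CommRing A] [IsDomain A] [IsDedekindDomain A]
  (K : Type u) [Field K] [Algebra A K] [IsFractionRing A K]
  (H : Type u) [CommRing H] [Bialgebra A H] [Module.Flat A H]

theorem mk_one_injective (M : Type u) [AddCommGroup M] [Module A M] [Module.Flat A M] :
    Function.Injective (TensorProduct.mk A K M 1) := by
  have h1 : Function.Injective ((Algebra.linearMap A K).rTensor M) :=
    Module.Flat.rTensor_preserves_injective_linearMap _ (IsFractionRing.injective A K)
  have h2 : (TensorProduct.mk A K M 1 : M →ₗ[A] K ⊗[A] M) =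
      (Algebra.linearMap A K).rTensor M ∘ₗ (TensorProduct.lid A M).symm.toLinearMap := by
    ext m
    simp
  rw [h2]
  exact h1.comp (TensorProduct.lid A M).symm.injective

theorem iota_injective : Function.Injective (iota A K H) := mk_one_injective A K H

theorem JJ_injective : Function.Injective (JJ A K H) := by
  unfold JJ
  exact (TensorProduct.AlgebraTensorModule.distribBaseChange A K H H).injective.comp
    (mk_one_injective A K (H ⊗[A] H))

/-- clearing denominators -/
theorem exists_smul_eq_iota (y : K ⊗[A] H) :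
    ∃ (s : A) (a : H), s ≠ 0 ∧ s • y = iota A K H a := by
  induction y using TensorProduct.induction_on with
  | zero => exact ⟨1, 0, one_ne_zero, by simp⟩
  | tmul c h =>
    obtain ⟨p, q, hq, rfl⟩ := IsFractionRing.div_surjective A c
    have hq0 : q ≠ 0 := nonZeroDivisors.ne_zero hq
    have hqK : algebraMap A K q ≠ 0 := by
      rw [Ne, map_eq_zero_iff _ (IsFractionRing.injective A K)]
      exact hq0
    refine ⟨q, p • h, hq0, ?_⟩
    rw [iota_apply, TensorProduct.smul_tmul', Algebra.smul_def, mul_div_cancel₀ _ hqK,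
      TensorProduct.tmul_smul, TensorProduct.smul_tmul', Algebra.smul_def, mul_one]
  | add x y hx hy =>
    obtain ⟨s₁, a₁, hs₁, e₁⟩ := hx
    obtain ⟨s₂, a₂, hs₂, e₂⟩ := hy
    refine ⟨s₁ * s₂, s₂ • a₁ + s₁ • a₂, mul_ne_zero hs₁ hs₂, ?_⟩
    rw [smul_add, map_add, map_smul, map_smul, ← e₁, ← e₂, smul_smul, smul_smul, mul_comm s₂ s₁]

theorem key_descend (n : ℕ)
    (ih : ∀ y ∈ D K (K ⊗[A] H) n, ∃ (s : A) (a : H), s ≠ 0 ∧ a ∈ D A H n ∧ s • y = iota A K H a)
    (z : ↥(D K (K ⊗[A] H) n) ⊗[K] (K ⊗[A] H)) :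
    ∃ (t : A) (w : ↥(D A H n) ⊗[A] H), t ≠ 0 ∧
      t • ((D K (K ⊗[A] H) n).subtype.rTensor (K ⊗[A] H) z) =
        JJ A K H ((D A H n).subtype.rTensor H w) := by
  induction z using TensorProduct.induction_on with
  | zero => exact ⟨1, 0, one_ne_zero, by simp⟩
  | tmul d' y' =>
    obtain ⟨s₁, d, hs₁, hd, e₁⟩ := ih d'.1 d'.2
    obtain ⟨s₂, h, hs₂, e₂⟩ := exists_smul_eq_iota A K H y'
    refine ⟨s₁ * s₂, (⟨d, hd⟩ : ↥(D A H n)) ⊗ₜ[A] h, mul_ne_zero hs₁ hs₂, ?_⟩
    rw [LinearMap.rTensor_tmul, LinearMap.rTensor_tmul, Submodule.subtype_apply,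
      Submodule.subtype_apply, JJ_tmul]
    change (s₁ * s₂) • ((d' : K ⊗[A] H) ⊗ₜ[K] y') = iota A K H d ⊗ₜ[K] iota A K H h
    rw [← e₁, ← e₂, ← algebraMap_smul K s₁ (d' : K ⊗[A] H), ← algebraMap_smul K s₂ y',
      TensorProduct.smul_tmul_smul, ← map_mul, algebraMap_smul]
  | add x y hx hy =>
    obtain ⟨t₁, w₁, ht₁, e₁⟩ := hx
    obtain ⟨t₂, w₂, ht₂, e₂⟩ := hy
    refine ⟨t₁ * t₂, t₂ • w₁ + t₁ • w₂, mul_ne_zero ht₁ ht₂, ?_⟩
    rw [map_add, smul_add, map_add, map_add, map_smul, map_smul, map_smul, map_smul, ← e₁, ← e₂,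
      smul_smul, smul_smul, mul_comm t₂ t₁]

/-- every element of `D K (K ⊗ H) n` is a `K`-multiple of an element of `D A H n` -/
theorem exists_of_mem_D (n : ℕ) : ∀ y ∈ D K (K ⊗[A] H) n,
    ∃ (s : A) (a : H), s ≠ 0 ∧ a ∈ D A H n ∧ s • y = iota A K H a := by
  induction n with
  | zero =>
    intro y hy
    rw [D_zero, Submodule.mem_bot] at hy
    exact ⟨1, 0, one_ne_zero, zero_mem _, by rw [hy, smul_zero, map_zero]⟩
  | succ n ih =>
    intro y hy
    obtain ⟨s, a₀, hs, hsa⟩ := exists_smul_eq_iota A K H y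
    have h1 : iota A K H a₀ ∈ D K (K ⊗[A] H) (n + 1) := by
      rw [← hsa, ← algebraMap_smul K s y]
      exact Submodule.smul_mem _ _ hy
    rw [D_succ, mem_next, delta_iota] at h1
    obtain ⟨z, hz⟩ := h1
    obtain ⟨t, w, ht, e⟩ := key_descend A K H n ih z
    rw [hz, ← map_smul] at e
    have h2 : t • delta A H a₀ = (D A H n).subtype.rTensor H w := JJ_injective A K H e
    have h3 : delta A H a₀ ∈ LinearMap.range ((D A H n).subtype.rTensor H) :=
      mem_range_of_smul_mem _ (isSat_D n) t ht _ ⟨w, h2.symm⟩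
    exact ⟨s, a₀, hs, h3, hsa⟩

/-- **descent of conilpotency from the generic fibre** -/
theorem conil_of_generic (hK : ∀ y : K ⊗[A] H, ∃ n, y ∈ D K (K ⊗[A] H) n) (h : H) :
    ∃ n, h ∈ D A H n := by
  obtain ⟨n, hn⟩ := hK (iota A K H h)
  obtain ⟨s, a, hs, ha, e⟩ := exists_of_mem_D A K H n _ hn
  refine ⟨n, isSat_D n s h hs ?_⟩
  rw [← map_smul] at e
  rw [iota_injective A K H e]
  exact ha

end Generic

end Groth.Agent.H92.Conil
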