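import Groth.Agent.H92.KTNormal
import Groth.Agent.H92.HopfSubRing
import Groth.Agent.H67.UnitComp
import Groth.Agent.H27.HopfEtale
import Mathlib

/-!
# The connected–étale sequence of a finite flat group scheme over a henselian local ring
-/

set_option autoImplicit false
universe u
open TensorProduct WithConv

namespace Groth.Agent.H92.ConnEt

/-- idempotents congruent modulo the Jacobson radical are equal -/
theorem idem_eq_of_sub_mem_jacobson {S : Type*} [CommRing S] {x y : S}
    (hx : IsIdempotentElem x) (hy : IsIdempotentElem y)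
    (h : x - y ∈ Ideal.jacobson (⊥ : Ideal S)) : x = y := by
  have hu := (Ideal.mem_jacobson_bot.mp h) (-(x - y))
  have h3 : (x - y) * ((x - y) * -(x - y) + 1) = 0 := by
    have hx' := hx.eq
    have hy' := hy.eq
    linear_combination (-x + 3 * y - 1 : S) * hx' + (-3 * x + y + 1 : S) * hy'
  exact sub_eq_zero.mp (hu.mul_left_eq_zero.mp h3)

section general
variable {R : Type u} [CommRing R] {A : Type u} [CommRing A] [HopfAlgebra R A]
  (K : Ideal A) [K.IsHopfIdeal R]

/-- `a ⊗ c ↦ ε(a) c` -/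
noncomputable def E : A ⊗[R] (A ⧸ K) →ₐ[R] (A ⧸ K) :=
  Algebra.TensorProduct.lift ((Algebra.ofId R (A ⧸ K)).comp (Bialgebra.counitAlgHom R A))
    (AlgHom.id R (A ⧸ K)) (fun _ _ => Commute.all _ _)

theorem E_rho (a : A) : E (R := R) K (KTQuot.rhoQ (R := R) K a) = Ideal.Quotient.mk K a := by
  have h1 := Groth.Agent.H78.HopfExt.comp_mul (E (R := R) K) (toConv (KTNormal.gu (R := R) K))
    (toConv (KTNormal.hu (R := R) K))
  rw [KTNormal.gu_mul_hu, ofConv_toConv, ofConv_toConv, ofConv_toConv] at h1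
  have h2 : (E (R := R) K).comp (KTNormal.gu (R := R) K) =
      (1 : WithConv (A →ₐ[R] (A ⧸ K))).ofConv := by
    ext x
    change E (R := R) K (x ⊗ₜ[R] (1 : A ⧸ K)) = _
    unfold E
    rw [Algebra.TensorProduct.lift_tmul, map_one, mul_one]
    rfl
  have h3 : (E (R := R) K).comp (KTNormal.hu (R := R) K) = Ideal.Quotient.mkₐ R K := by
    ext x
    change E (R := R) K ((1 : A) ⊗ₜ[R] (Ideal.Quotient.mk K x)) = _
    unfold E
    rw [Algebra.TensorProduct.lift_tmul, map_one, one_mul]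
    rfl
  rw [h2, h3, toConv_ofConv, one_mul] at h1
  have := congrArg (fun f : WithConv (A →ₐ[R] (A ⧸ K)) => f.ofConv a) h1
  exact this

/-- on the invariants, `π = ε` -/
theorem mk_eq_of_mem {b : A} (hb : b ∈ KT.coinv (KTQuot.rhoQ (R := R) K)) :
    Ideal.Quotient.mk K b = algebraMap R (A ⧸ K) (Coalgebra.counit (R := R) b) := by
  rw [← E_rho (R := R), (KT.mem_coinv _).1 hb]
  unfold E
  rw [Algebra.TensorProduct.lift_tmul, map_one, mul_one]
  rfl

theorem mem_of_counit_eq_zero {b : A} (hb : b ∈ KT.coinv (KTQuot.rhoQ (R := R) K))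
    (h0 : Coalgebra.counit (R := R) b = 0) : b ∈ K := by
  rw [← Ideal.Quotient.eq_zero_iff_mem, mk_eq_of_mem (R := R) K hb, h0, map_zero]

end general

section unitcomp
variable {R : Type u} [CommRing R] [Nontrivial R] {A : Type u} [CommRing A] [HopfAlgebra R A]
  [Module.Finite R A]
  (e : A) (he : IsIdempotentElem e) (hε : Bialgebra.counitAlgHom R A e = 1)
  [IsLocalRing (A ⧸ Ideal.span ({1 - e} : Set A))] [(Ideal.span ({1 - e} : Set A)).IsHopfIdeal R]

local notation "K" => Ideal.span ({1 - e} : Set A)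

include hε in
/-- a point of `G × G⁰` with values in a ring where `1 ⊗ 𝔪` dies has trivial `G⁰`-component -/
theorem hu_trivial {X : Type u} [CommRing X] [Algebra R X] (q : A ⊗[R] (A ⧸ K) →ₐ[R] X)
    (hq : ∀ b ∈ IsLocalRing.maximalIdeal (A ⧸ K), q ((1 : A) ⊗ₜ[R] b) = 0) :
    toConv (q.comp (KTNormal.hu (R := R) K)) = (1 : WithConv (A →ₐ[R] X)) := by
  apply WithConv.ofConv_injective
  ext a
  rw [ofConv_toConv, AlgHom.convOne_apply]
  have h1 := Groth.Agent.H67.UnitComp.sub_algebraMap_mem (R := R) e hε (Ideal.Quotient.mk K a)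
  have h2 := hq _ h1
  rw [tmul_sub, map_sub, sub_eq_zero] at h2
  change q ((1 : A) ⊗ₜ[R] Ideal.Quotient.mk K a) = _
  rw [h2, Groth.Agent.H67.UnitComp.epsBar_mk, Algebra.algebraMap_eq_smul_one,
    TensorProduct.tmul_smul, map_smul,
    ← Algebra.TensorProduct.one_def, map_one, ← Algebra.algebraMap_eq_smul_one]
  rfl

include he hε in
theorem e_mem : e ∈ KT.coinv (KTQuot.rhoQ (R := R) K) := by
  rw [KT.mem_coinv]
  apply idem_eq_of_sub_mem_jacobson
  · change _ * _ = _
    rw [← map_mul, he.eq]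
  · change _ * _ = _
    rw [Algebra.TensorProduct.tmul_mul_tmul, he.eq, mul_one]
  · rw [Ideal.jacobson, Ideal.mem_sInf]
    rintro M ⟨-, hM⟩
    have hMc : (M.comap ((Algebra.TensorProduct.includeRight :
        (A ⧸ K) →ₐ[R] A ⊗[R] (A ⧸ K)) : (A ⧸ K) →+* A ⊗[R] (A ⧸ K))).IsMaximal :=
      Ideal.isMaximal_comap_of_isIntegral_of_isMaximal' _
        (Groth.Agent.H78.HopfExt.includeRight_isIntegral R A e) M
    have hMc' := IsLocalRing.eq_maximalIdeal hMc
    let q : A ⊗[R] (A ⧸ K) →ₐ[R] (A ⊗[R] (A ⧸ K)) ⧸ M := Ideal.Quotient.mkₐ R M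
    have hq : ∀ b ∈ IsLocalRing.maximalIdeal (A ⧸ K), q ((1 : A) ⊗ₜ[R] b) = 0 := by
      intro b hb
      rw [← hMc', Ideal.mem_comap] at hb
      exact Ideal.Quotient.eq_zero_iff_mem.mpr hb
    have htriv := hu_trivial e hε q hq
    have h1 := Groth.Agent.H78.HopfExt.comp_mul q (toConv (KTNormal.gu (R := R) K))
      (toConv (KTNormal.hu (R := R) K))
    rw [KTNormal.gu_mul_hu, ofConv_toConv, ofConv_toConv, ofConv_toConv, htriv, mul_one] at h1
    have h2 := congrArg (fun f : WithConv (A →ₐ[R] (A ⊗[R] (A ⧸ K)) ⧸ M) => f.ofConv e) h1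
    change q (KTQuot.rhoQ (R := R) K e) = q (e ⊗ₜ[R] (1 : A ⧸ K)) at h2
    rw [← Ideal.Quotient.eq_zero_iff_mem]
    change q (_ - _) = 0
    rw [map_sub, h2, sub_self]

include he hε in
/-- invariants killed by the counit are multiples of `1 - e` -/
theorem eq_mul_of_counit_eq_zero {b : A} (hb : b ∈ KT.coinv (KTQuot.rhoQ (R := R) K))
    (h0 : Coalgebra.counit (R := R) b = 0) : b = (1 - e) * b := by
  have hbK := mem_of_counit_eq_zero (R := R) K hb h0
  obtain ⟨c, rfl⟩ := Ideal.mem_span_singleton'.mp hbK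
  have := he.eq
  linear_combination (-c) * this

include he hε in
theorem augIdealSpan_eq :
    SGA3.augIdealSpan R A (KT.coinv (KTQuot.rhoQ (R := R) K)) = K := by
  apply le_antisymm
  · unfold SGA3.augIdealSpan
    rw [Ideal.span_le]
    rintro a ⟨haB, ha0⟩
    exact mem_of_counit_eq_zero (R := R) K haB ha0
  · rw [Ideal.span_le, Set.singleton_subset_iff]
    unfold SGA3.augIdealSpan
    apply Ideal.subset_span
    refine ⟨Subalgebra.sub_mem _ (Subalgebra.one_mem _) (e_mem e he hε), ?_⟩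
    have : Coalgebra.counit (R := R) e = 1 := hε
    rw [map_sub, this]
    have h1 : Coalgebra.counit (R := R) (1 : A) = 1 := Bialgebra.counit_one
    rw [h1, sub_self]

include he hε in
theorem etale [Module.Flat R A]
    [Module.Finite R ↥(KT.coinv (KTQuot.rhoQ (R := R) K))]
    [Module.Projective R ↥(KT.coinv (KTQuot.rhoQ (R := R) K))]
    (hsub : HopfSubRing.IsHopfSub (KT.coinv (KTQuot.rhoQ (R := R) K))) :
    Algebra.Etale R ↥(KT.coinv (KTQuot.rhoQ (R := R) K)) := by
  letI := HopfSubRing.hopfAlgebra hsub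
  rw [Groth.Agent.H27.HopfEtale.etale_iff]
  apply le_antisymm (Ideal.pow_le_self two_ne_zero)
  intro b hb
  have hb0 : Coalgebra.counit (R := R) (b : A) = 0 := hb
  have h1 := eq_mul_of_counit_eq_zero e he hε b.2 hb0
  have hmem : (1 - e) ∈ KT.coinv (KTQuot.rhoQ (R := R) K) :=
    Subalgebra.sub_mem _ (Subalgebra.one_mem _) (e_mem e he hε)
  have h2 : b = (⟨1 - e, hmem⟩ : ↥(KT.coinv (KTQuot.rhoQ (R := R) K))) * b := Subtype.ext h1
  rw [h2, pow_two]
  refine Ideal.mul_mem_mul ?_ hb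
  change Coalgebra.counit (R := R) ((1 : A) - e) = 0
  have h3 : Coalgebra.counit (R := R) e = 1 := hε
  have h4 : Coalgebra.counit (R := R) (1 : A) = 1 := Bialgebra.counit_one
  rw [map_sub, h3, h4, sub_self]

end unitcomp

end Groth.Agent.H92.ConnEt
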