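import Mathlib.Algebra.Homology.DerivedCategory.TStructure
import Mathlib.Algebra.Homology.DerivedCategory.FullyFaithful
import Mathlib.Algebra.Homology.DerivedCategory.HomologySequence
import Mathlib.CategoryTheory.Triangulated.TStructure.TruncLEGT

set_option autoImplicit false

namespace Groth.Agent.H92.DerivedNilp

open CategoryTheory Limits Pretriangulated DerivedCategory

universe w v u

variable {A : Type u} [Category.{v} A] [Abelian A] [HasDerivedCategory.{w} A]

/-- An endomorphism of an object concentrated in one degree which is zero on cohomology is zero. -/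
theorem eq_zero_of_single_degree (X : DerivedCategory A) (a : ℤ) [X.IsGE a] [X.IsLE a]
    (f : X ⟶ X) (hf : (homologyFunctor A a).map f = 0) : f = 0 := by
  obtain ⟨Y, ⟨e⟩⟩ := exists_iso_singleFunctor_obj_of_isGE_of_isLE X a
  obtain ⟨g, hg⟩ := (singleFunctor A a).map_surjective (e.inv ≫ f ≫ e.hom)
  have h1 : (homologyFunctor A a).map ((singleFunctor A a).map g) = 0 := by
    rw [hg, Functor.map_comp, Functor.map_comp, hf, zero_comp, comp_zero]
  have h2 : g = 0 := by
    have eq := NatIso.naturality_1 (singleFunctorCompHomologyFunctorIso A a) g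
    dsimp at eq
    rw [← eq, h1, zero_comp, comp_zero]
  rw [h2, Functor.map_zero] at hg
  have : f = e.hom ≫ (e.inv ≫ f ≫ e.hom) ≫ e.inv := by simp
  rw [this, ← hg, zero_comp, comp_zero]

theorem pow_comm_of_comm {C : Type*} [Category C] {X Y : C} (φ : X ⟶ Y) (f : End X) (g : End Y)
    (h : (f : X ⟶ X) ≫ φ = φ ≫ (g : Y ⟶ Y)) (k : ℕ) :
    (f ^ k : X ⟶ X) ≫ φ = φ ≫ (g ^ k : Y ⟶ Y) := by
  induction k with
  | zero =>
    change 𝟙 X ≫ φ = φ ≫ 𝟙 Y
    simp
  | succ k ih =>
    rw [pow_succ', pow_succ']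
    change ((f ^ k : X ⟶ X) ≫ (f : X ⟶ X)) ≫ φ =
      φ ≫ ((g ^ k : Y ⟶ Y) ≫ (g : Y ⟶ Y))
    rw [Category.assoc, h, ← Category.assoc, ih, Category.assoc]

theorem pow_eq_zero (n : ℕ) : ∀ (a : ℤ) (X : DerivedCategory A) [X.IsGE a] [X.IsLE (a + n)]
    (f : End X) (_ : ∀ i : ℤ, (homologyFunctor A i).map (f : X ⟶ X) = 0),
    f ^ (n + 1) = 0 := by
  induction n with
  | zero =>
    intro a X _ hLE f hf
    have : X.IsLE a := by simpa using hLE
    rw [zero_add, pow_one]
    exact eq_zero_of_single_degree X a f (hf a)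
  | succ n ih =>
    intro a X hGE hLE f hf
    let t : Triangulated.TStructure (DerivedCategory A) := DerivedCategory.TStructure.t
    let T := (t.triangleLEGT a).obj X
    have hT : T ∈ distTriang _ := t.triangleLEGT_distinguished a X
    let X' := (t.truncLE a).obj X
    let X'' := (t.truncGT a).obj X
    let ι : X' ⟶ X := (t.truncLEι a).app X
    let π : X ⟶ X'' := (t.truncGTπ a).app X
    let f' : X' ⟶ X' := (t.truncLE a).map f
    let f'' : X'' ⟶ X'' := (t.truncGT a).map f
    have hι : f' ≫ ι = ι ≫ f := (t.truncLEι a).naturality f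
    have hπ : (f : X ⟶ X) ≫ π = π ≫ f'' := (t.truncGTπ a).naturality f
    have i1 : X'.IsGE a := inferInstanceAs (t.IsGE ((t.truncLE a).obj X) a)
    have i2 : X'.IsLE a := inferInstanceAs (t.IsLE ((t.truncLE a).obj X) a)
    have i3 : X''.IsGE (a + 1) := inferInstanceAs (t.IsGE ((t.truncGT a).obj X) (a + 1))
    have i4 : X''.IsLE (a + 1 + n) := by
      have : t.IsLE X (a + 1 + n) := by
        have e : a + 1 + (n : ℤ) = a + ((n + 1 : ℕ) : ℤ) := by lia
        rw [e]; exact hLE
      exact inferInstanceAs (t.IsLE ((t.truncGT a).obj X) (a + 1 + n))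
    have hf' : f' = 0 := by
      apply eq_zero_of_single_degree X' a
      have hmono : Mono ((homologyFunctor A a).map ι) :=
        (HomologySequence.mono_homologyMap_mor₁_iff T hT (a - 1) a (by lia)).mpr
          (IsZero.eq_of_src (isZero_of_isGE X'' (a + 1) (a - 1) (by lia)) _ _)
      rw [← cancel_mono ((homologyFunctor A a).map ι), zero_comp, ← Functor.map_comp, hι,
        Functor.map_comp, hf a, comp_zero]
    have hf'' : ∀ i : ℤ, (homologyFunctor A i).map f'' = 0 := by
      intro i
      by_cases hi : i ≤ a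
      · exact IsZero.eq_of_src (isZero_of_isGE X'' (a + 1) i (by lia)) _ _
      · have hepi : Epi ((homologyFunctor A i).map π) :=
          (HomologySequence.epi_homologyMap_mor₂_iff T hT i (i + 1) rfl).mpr
            (IsZero.eq_of_tgt (isZero_of_isLE X' a (i + 1) (by lia)) _ _)
        rw [← cancel_epi ((homologyFunctor A i).map π), comp_zero, ← Functor.map_comp, ← hπ,
          Functor.map_comp, hf i, zero_comp]
    have h2 := ih (a + 1) X'' f'' hf''
    have h3 : ((f ^ (n + 1) : End X) : X ⟶ X) ≫ π = 0 := by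
      rw [pow_comm_of_comm π f f'' hπ, h2]
      exact comp_zero
    obtain ⟨g, hg⟩ : ∃ g : X ⟶ X', ((f ^ (n + 1) : End X) : X ⟶ X) = g ≫ ι :=
      Triangle.coyoneda_exact₂ T hT _ h3
    rw [pow_succ']
    change ((f ^ (n + 1) : End X) : X ⟶ X) ≫ (f : X ⟶ X) = 0
    rw [hg]
    have hι' : ι ≫ (f : X ⟶ X) = f' ≫ ι := hι.symm
    rw [Category.assoc, hι', hf', zero_comp, comp_zero]

end Groth.Agent.H92.DerivedNilp
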