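import Mathlib
import Groth.Prelude.Def_WittGrp
import Groth.Agent.H82.WittDesc

/-!
# Descent for flat modules over truncated Witt vectors (helper92)

For `R → R'` faithfully flat, `0 → W_n(R) → W_n(R') ⇉ W_n(R' ⊗_R R')` is exact (componentwise
faithfully flat descent of elements), hence stays exact after tensoring with a flat
`W_n(R)`-module.
-/

set_option autoImplicit false

universe u v

open TensorProduct

namespace Groth.Agent.H92.WittTruncDesc

variable (p : ℕ) [Fact p.Prime] (n : ℕ)
  (R R' : Type u) [CommRing R] [CommRing R'] [Algebra R R'] [Module.FaithfullyFlat R R']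

theorem main
    [Algebra (TruncatedWittVector p n R) (TruncatedWittVector p n R')]
    (h₁ : algebraMap (TruncatedWittVector p n R) (TruncatedWittVector p n R') =
      WittGrp.truncMap p n (algebraMap R R'))
    [Algebra (TruncatedWittVector p n R) (TruncatedWittVector p n (TensorProduct R R' R'))]
    (ψ₁ ψ₂ : TruncatedWittVector p n R' →ₐ[TruncatedWittVector p n R]
      TruncatedWittVector p n (TensorProduct R R' R'))
    (hψ₁ : (ψ₁ : TruncatedWittVector p n R' →+* TruncatedWittVector p n (TensorProduct R R' R')) =
      WittGrp.truncMap p n (Algebra.TensorProduct.includeLeftRingHom : R' →+* TensorProduct R R' R'))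
    (hψ₂ : (ψ₂ : TruncatedWittVector p n R' →+* TruncatedWittVector p n (TensorProduct R R' R')) =
      WittGrp.truncMap p n ((Algebra.TensorProduct.includeRight : R' →ₐ[R] TensorProduct R R' R') :
        R' →+* TensorProduct R R' R'))
    (M : Type v) [AddCommGroup M] [Module (TruncatedWittVector p n R) M]
    [Module.Flat (TruncatedWittVector p n R) M] :
    Function.Injective (fun m : M => m ⊗ₜ[TruncatedWittVector p n R]
        (1 : TruncatedWittVector p n R')) ∧
      ∀ x : M ⊗[TruncatedWittVector p n R] TruncatedWittVector p n R',
        LinearMap.lTensor M ψ₁.toLinearMap x = LinearMap.lTensor M ψ₂.toLinearMap x →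
          x ∈ Set.range (fun m : M => m ⊗ₜ[TruncatedWittVector p n R]
            (1 : TruncatedWittVector p n R')) := by
  set g : TruncatedWittVector p n R →ₗ[TruncatedWittVector p n R] TruncatedWittVector p n R' :=
    Algebra.linearMap _ _ with hgdef
  set d : TruncatedWittVector p n R' →ₗ[TruncatedWittVector p n R]
      TruncatedWittVector p n (TensorProduct R R' R') := ψ₁.toLinearMap - ψ₂.toLinearMap with hddef
  have hg_apply : ∀ x, g x = WittGrp.truncMap p n (algebraMap R R') x := by
    intro x
    change algebraMap _ _ x = _
    rw [h₁]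
  have hψ₁a : ∀ x, ψ₁ x = WittGrp.truncMap p n
      (Algebra.TensorProduct.includeLeftRingHom : R' →+* TensorProduct R R' R') x := by
    intro x
    rw [← hψ₁]; rfl
  have hψ₂a : ∀ x, ψ₂ x = WittGrp.truncMap p n
      ((Algebra.TensorProduct.includeRight : R' →ₐ[R] TensorProduct R R' R') :
        R' →+* TensorProduct R R' R') x := by
    intro x
    rw [← hψ₂]; rfl
  have hg : Function.Injective g := by
    intro x y hxy
    rw [hg_apply, hg_apply] at hxy
    ext i
    have := congrArg (fun w => w.coeff i) hxy
    simp only [WittGrp.coeff_truncMap] at this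
    exact FaithfulSMul.algebraMap_injective R R' this
  have hex : Function.Exact g d := by
    intro x
    constructor
    · intro hx
      have hx' : ψ₁ x = ψ₂ x := by
        have : ψ₁ x - ψ₂ x = 0 := hx
        exact sub_eq_zero.mp this
      rw [hψ₁a, hψ₂a] at hx'
      have hcoef : ∀ i : Fin n, ∃ s : R, algebraMap R R' s = x.coeff i := by
        intro i
        apply Groth.Agent.H82.WittDesc.exists_of_include_eq
        have := congrArg (fun w => w.coeff i) hx'
        simpa only [WittGrp.coeff_truncMap] using this
      choose s hs using hcoef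
      refine ⟨TruncatedWittVector.mk p s, ?_⟩
      rw [hg_apply]
      ext i
      rw [WittGrp.coeff_truncMap, TruncatedWittVector.coeff_mk, hs]
    · rintro ⟨y, rfl⟩
      change ψ₁ (g y) - ψ₂ (g y) = 0
      have e1 : g y = algebraMap _ _ y := rfl
      rw [e1, AlgHom.commutes, AlgHom.commutes, sub_self]
  have hinj := Module.Flat.lTensor_preserves_injective_linearMap (M := M) g hg
  have hexM := Module.Flat.lTensor_exact M hex
  have hone : ∀ m : M, m ⊗ₜ[TruncatedWittVector p n R] (1 : TruncatedWittVector p n R') =
      LinearMap.lTensor M g ((TensorProduct.rid (TruncatedWittVector p n R) M).symm m) := by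
    intro m
    rw [TensorProduct.rid_symm_apply, LinearMap.lTensor_tmul]
    congr 1
    exact (map_one (algebraMap _ _)).symm
  constructor
  · intro m m' hmm
    simp only at hmm
    rw [hone, hone] at hmm
    exact (TensorProduct.rid _ M).symm.injective (hinj hmm)
  · intro x hx
    have hdx : LinearMap.lTensor M d x = 0 := by
      rw [hddef, LinearMap.lTensor_sub, LinearMap.sub_apply, hx, sub_self]
    obtain ⟨y, rfl⟩ := (hexM x).mp hdx
    refine ⟨TensorProduct.rid _ M y, ?_⟩
    simp only
    rw [hone, LinearEquiv.symm_apply_apply]

end Groth.Agent.H92.WittTruncDesc
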