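import Mathlib
import Groth.Prelude.Def_W4c3truncdispsmoothDesc
import Groth.Agent.H92.WittTruncDesc

/-!
# Descent data of `W_n`-modules: the canonical datum functor is fully faithful on flat modules
(helper92)

Unwinds Mathlib's `Pseudofunctor.DescentData` for the prelude pseudofunctor
`W4c3truncdispsmooth.wittModPF` on elements, and combines it with the equalizer statement
`Groth.Agent.H92.WittTruncDesc.main`.
-/

set_option autoImplicit false

universe u

open CategoryTheory Opposite TensorProduct ChangeOfRings W4c3truncdispsmooth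

namespace Groth.Agent.H92.WittDescFF

-- make every `⟶` in this file elaborate through `CategoryStruct.toQuiver` (as in the statements
-- of Mathlib's `CommRingCat.ofHom`), so that instance paths agree syntactically
attribute [-instance] CategoryTheory.catToReflQuiver

section abstract

universe t v' v u' u₁

variable {C : Type u₁} [Category.{v} C] (F : Pseudofunctor (LocallyDiscrete Cᵒᵖ) Cat.{v', u'})
  {S X Y : C}

/-- the pullback functor along `t` -/
def pull (t : X ⟶ S) : F.obj (.mk (op S)) ⥤ F.obj (.mk (op X)) :=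
  (F.map t.op.toLoc).toFunctor

/-- compatibility of three maps, in the form needed by `mapComp'` -/
abbrev CompCond (t : X ⟶ S) (f : Y ⟶ X) (q : Y ⟶ S) : Prop :=
  t.op.toLoc ≫ f.op.toLoc = q.op.toLoc

/-- the comparison isomorphism `mapComp'`, on an object -/
def mcIso (t : X ⟶ S) (f : Y ⟶ X) (q : Y ⟶ S) (h : CompCond t f q) (M : F.obj (.mk (op S))) :
    (pull F q).obj M ≅ (pull F f).obj ((pull F t).obj M) :=
  (Cat.Hom.toNatIso (F.mapComp' t.op.toLoc f.op.toLoc q.op.toLoc h)).app M

variable (t : X ⟶ S) (f₁ f₂ : Y ⟶ X) (q : Y ⟶ S) (hf₁ : f₁ ≫ t = q) (hf₂ : f₂ ≫ t = q)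

/-- The compatibility condition for a morphism between the pullbacks of two objects to be a
morphism of the canonical descent data (for one pair of maps `f₁ f₂`). -/
def CommCond (M N : F.obj (.mk (op S))) (h1 : CompCond t f₁ q) (h2 : CompCond t f₂ q)
    (G : (pull F t).obj M ⟶ (pull F t).obj N) : Prop :=
  (pull F f₁).map G ≫ (mcIso F t f₁ q h1 N).inv ≫ (mcIso F t f₂ q h2 N).hom =
    ((mcIso F t f₁ q h1 M).inv ≫ (mcIso F t f₂ q h2 M).hom) ≫ (pull F f₂).map G

include hf₁ hf₂ in
/-- Fullness of `toDescentData` for a one-member family, reduced to a statement that only involves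
the pseudofunctor (generic in `F`, so that the kernel never has to unfold a concrete one). -/
theorem surj_of (M N : F.obj (.mk (op S))) (h1 : CompCond t f₁ q) (h2 : CompCond t f₂ q)
    (H : ∀ G : (pull F t).obj M ⟶ (pull F t).obj N, CommCond F t f₁ f₂ q M N h1 h2 G →
      ∃ φ : M ⟶ N, (pull F t).map φ = G) :
    Function.Surjective
      (fun φ : M ⟶ N => (F.toDescentData (fun _ : PUnit.{t + 1} => t)).map φ) := by
  intro g
  have comm := g.comm q (i₁ := PUnit.unit) (i₂ := PUnit.unit) f₁ f₂ hf₁ hf₂
  erw [Pseudofunctor.DescentData.ofObj_hom, Pseudofunctor.DescentData.ofObj_hom] at comm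
  obtain ⟨φ, hφ⟩ := H (g.hom PUnit.unit) comm
  refine ⟨φ, ?_⟩
  ext ⟨⟩
  exact hφ

/-- Faithfulness of `toDescentData` for a one-member family, generic in `F`. -/
theorem inj_of (M N : F.obj (.mk (op S)))
    (H : ∀ φ ψ : M ⟶ N, (pull F t).map φ = (pull F t).map ψ → φ = ψ) :
    Function.Injective
      (fun φ : M ⟶ N => (F.toDescentData (fun _ : PUnit.{t + 1} => t)).map φ) := by
  intro φ ψ h
  exact H φ ψ (congrArg (fun k => Pseudofunctor.DescentData.Hom.hom k PUnit.unit) h)

end abstract


section general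

variable {A B : Type u} [CommRing A] [CommRing B] (f : A →+* B)

set_option backward.isDefEq.respectTransparency false in
/-- `m ↦ 1 ⊗ m`, as a function into the extension of scalars -/
noncomputable def oneT (M : ModuleCat.{u} A) (m : M) : (ModuleCat.extendScalars f).obj M :=
  (1 : B) ⊗ₜ[A, f] m

set_option backward.isDefEq.respectTransparency false in
theorem hom_ext_oneT {M : ModuleCat.{u} A} {N : ModuleCat.{u} B}
    {α β : (ModuleCat.extendScalars f).obj M ⟶ N}
    (h : ∀ m : M, α (oneT f M m) = β (oneT f M m)) : α = β :=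
  ModuleCat.ExtendScalars.hom_ext h

set_option backward.isDefEq.respectTransparency false in
theorem map_oneT {M M' : ModuleCat.{u} A} (g : M ⟶ M') (m : M) :
    (ModuleCat.extendScalars f).map g (oneT f M m) = oneT f M' (g m) := rfl

set_option backward.isDefEq.respectTransparency false in
theorem oneT_add (M : ModuleCat.{u} A) (m m' : M) :
    oneT f M (m + m') = oneT f M m + oneT f M m' := by
  simp only [oneT]
  exact TensorProduct.tmul_add _ _ _

set_option backward.isDefEq.respectTransparency false in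
theorem oneT_smul (M : ModuleCat.{u} A) (a : A) (m : M) :
    oneT f M (a • m) = f a • oneT f M m := by
  simp only [oneT]
  rw [ModuleCat.ExtendScalars.smul_tmul, mul_one]
  letI := Module.compHom B f
  rw [TensorProduct.tmul_smul, TensorProduct.smul_tmul']
  congr 1
  change f a * 1 = f a
  rw [mul_one]


set_option backward.isDefEq.respectTransparency false in
theorem oneT_zero (M : ModuleCat.{u} A) : oneT f M 0 = 0 := by
  simp only [oneT]
  exact TensorProduct.tmul_zero _ _

set_option backward.isDefEq.respectTransparency false in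
theorem ext_induction {M : ModuleCat.{u} A} {motive : (ModuleCat.extendScalars f).obj M → Prop}
    (zero : motive 0) (tmul : ∀ (b : B) (m : M), motive (b • oneT f M m))
    (add : ∀ x y, motive x → motive y → motive (x + y)) (x : (ModuleCat.extendScalars f).obj M) :
    motive x := by
  letI := Module.compHom B f
  refine TensorProduct.induction_on (R := A) (M := B) (N := M) x zero (fun b m => ?_) add
  have := tmul b m
  simp only [oneT] at this
  rw [ModuleCat.ExtendScalars.smul_tmul, mul_one] at this
  exact this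

variable {C : Type u} [CommRing C] (i : B →+* C) (c : A →+* C) (hc : i.comp f = c)

/-- `i : B → C` as an `A`-linear map (for the module structures through `f` and `c`) -/
noncomputable def linOf :
    letI := Module.compHom B f
    letI := Module.compHom C c
    B →ₗ[A] C :=
  letI := Module.compHom B f
  letI := Module.compHom C c
  { toFun := i
    map_add' := map_add i
    map_smul' := fun a b => by
      change i (f a * b) = c a * i b
      rw [map_mul, ← hc]; rfl }

set_option backward.isDefEq.respectTransparency false in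
/-- base change map `B ⊗[A] N → C ⊗[A] N` on extensions of scalars -/
noncomputable def bc (N : ModuleCat.{u} A) :
    (ModuleCat.extendScalars f).obj N →+ (ModuleCat.extendScalars c).obj N :=
  letI := Module.compHom B f
  letI := Module.compHom C c
  (TensorProduct.map (linOf f i c hc) (LinearMap.id : N →ₗ[A] N)).toAddMonoidHom

set_option backward.isDefEq.respectTransparency false in
theorem bc_smul_oneT (N : ModuleCat.{u} A) (b : B) (m : N) :
    bc f i c hc N (b • oneT f N m) = i b • oneT c N m := by
  simp only [oneT]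
  rw [ModuleCat.ExtendScalars.smul_tmul, mul_one, ModuleCat.ExtendScalars.smul_tmul, mul_one]
  rfl


set_option backward.isDefEq.respectTransparency false in
theorem lemG (i₁ i₂ : B →+* C) (hc₁ : i₁.comp f = c) (hc₂ : i₂.comp f = c)
    (hinj : Function.Injective f) (hex : ∀ b : B, i₁ b = i₂ b → ∃ a, f a = b)
    (N : ModuleCat.{u} A) [Module.Flat A N] :
    Function.Injective (oneT f N) ∧
      ∀ x : (ModuleCat.extendScalars f).obj N,
        bc f i₁ c hc₁ N x = bc f i₂ c hc₂ N x → ∃ m : N, x = oneT f N m := by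
  letI := Module.compHom B f
  letI := Module.compHom C c
  let g : A →ₗ[A] B :=
    { toFun := f
      map_add' := map_add f
      map_smul' := fun a a' => by
        change f (a * a') = f a * f a'
        exact map_mul f a a' }
  let d : B →ₗ[A] C := linOf f i₁ c hc₁ - linOf f i₂ c hc₂
  have hgd : Function.Exact g d := by
    intro b
    constructor
    · intro hb
      have hb' : i₁ b - i₂ b = 0 := hb
      obtain ⟨a, ha⟩ := hex b (sub_eq_zero.mp hb')
      exact ⟨a, ha⟩
    · rintro ⟨a, rfl⟩
      change i₁ (f a) - i₂ (f a) = 0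
      have h1 : i₁ (f a) = c a := by rw [← hc₁]; rfl
      have h2 : i₂ (f a) = c a := by rw [← hc₂]; rfl
      rw [h1, h2, sub_self]
  have hg : Function.Injective g := hinj
  have hgN : Function.Injective (g.rTensor N) :=
    Module.Flat.rTensor_preserves_injective_linearMap g hg
  have hexN : Function.Exact (g.rTensor N) (d.rTensor N) := Module.Flat.rTensor_exact N hgd
  have hone : ∀ m : N, oneT f N m = g.rTensor N ((TensorProduct.lid A N).symm m) := by
    intro m
    simp only [oneT, TensorProduct.lid_symm_apply, LinearMap.rTensor_tmul]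
    change _ = f 1 ⊗ₜ[A] m
    rw [map_one]
  constructor
  · intro m m' h
    rw [hone, hone] at h
    exact (TensorProduct.lid A N).symm.injective (hgN h)
  · intro x hx
    have hx' : d.rTensor N x = 0 := by
      rw [LinearMap.rTensor_sub, LinearMap.sub_apply, sub_eq_zero]
      exact hx
    obtain ⟨y, hy⟩ := (hexN x).mp hx'
    refine ⟨TensorProduct.lid A N y, ?_⟩
    rw [hone, LinearEquiv.symm_apply_apply, hy]

end general

variable (p : ℕ) [Fact p.Prime] (n : ℕ)

/-- extension of scalars along `W_n(f)` -/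
noncomputable abbrev ext {A B : CommRingCat.{u}} (f : A ⟶ B)
    (M : ModuleCat.{u} (TruncatedWittVector p n A)) : ModuleCat.{u} (TruncatedWittVector p n B) :=
  (ModuleCat.extendScalars (WittGrp.truncMap p n f.hom)).obj M

/-- The comparison isomorphism `mapComp'` of `wittModPF`, with readable source and target. -/
noncomputable def compIso' {A B T : CommRingCat.{u}} (a : A ⟶ B) (b : B ⟶ T) (c : A ⟶ T)
    (h' : CompCond a.op b.op c.op)
    (M : ModuleCat.{u} (TruncatedWittVector p n A)) :
    ext p n c M ≅ ext p n b (ext p n a M) :=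
  mcIso (wittModPF.{u} p n) a.op b.op c.op h' M

set_option backward.isDefEq.respectTransparency false in
theorem compIso'_hom_oneT {A B T : CommRingCat.{u}} (a : A ⟶ B) (b : B ⟶ T) (c : A ⟶ T)
    (h : a ≫ b = c) (h' : CompCond a.op b.op c.op)
    (M : ModuleCat.{u} (TruncatedWittVector p n A)) (m : M) :
    (compIso' p n a b c h' M).hom (oneT (WittGrp.truncMap p n c.hom) M m) =
      oneT (WittGrp.truncMap p n b.hom) _ (oneT (WittGrp.truncMap p n a.hom) M m) := by
  subst h
  simp only [compIso', mcIso, Pseudofunctor.mapComp', wittModPF, oneT]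
  simp
  exact ModuleCat.extendScalarsComp_hom_app_one_tmul _ _ M m

theorem exists_compIso {A B T : CommRingCat.{u}} (a : A ⟶ B) (b : B ⟶ T) (c : A ⟶ T)
    (h' : CompCond a.op b.op c.op)
    (M : ModuleCat.{u} (TruncatedWittVector p n A)) :
    ∃ e : ext p n c M ≅ ext p n b (ext p n a M), e = compIso' p n a b c h' M := ⟨_, rfl⟩

/-- The comparison isomorphism, made opaque (so that the kernel never unfolds the pseudofunctor). -/
noncomputable def compIso {A B T : CommRingCat.{u}} (a : A ⟶ B) (b : B ⟶ T) (c : A ⟶ T)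
    (h' : CompCond a.op b.op c.op)
    (M : ModuleCat.{u} (TruncatedWittVector p n A)) :
    ext p n c M ≅ ext p n b (ext p n a M) :=
  (exists_compIso p n a b c h' M).choose

theorem compIso_eq {A B T : CommRingCat.{u}} (a : A ⟶ B) (b : B ⟶ T) (c : A ⟶ T)
    (h' : CompCond a.op b.op c.op)
    (M : ModuleCat.{u} (TruncatedWittVector p n A)) :
    compIso p n a b c h' M = compIso' p n a b c h' M :=
  (exists_compIso p n a b c h' M).choose_spec

theorem compIso_hom_oneT {A B T : CommRingCat.{u}} (a : A ⟶ B) (b : B ⟶ T) (c : A ⟶ T)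
    (h : a ≫ b = c) (h' : CompCond a.op b.op c.op)
    (M : ModuleCat.{u} (TruncatedWittVector p n A)) (m : M) :
    (compIso p n a b c h' M).hom (oneT (WittGrp.truncMap p n c.hom) M m) =
      oneT (WittGrp.truncMap p n b.hom) _ (oneT (WittGrp.truncMap p n a.hom) M m) := by
  rw [compIso_eq]
  exact compIso'_hom_oneT p n a b c h h' M m

theorem compIso_inv_oneT {A B T : CommRingCat.{u}} (a : A ⟶ B) (b : B ⟶ T) (c : A ⟶ T)
    (h : a ≫ b = c) (h' : CompCond a.op b.op c.op)
    (M : ModuleCat.{u} (TruncatedWittVector p n A)) (m : M) :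
    (compIso p n a b c h' M).inv
      (oneT (WittGrp.truncMap p n b.hom) _ (oneT (WittGrp.truncMap p n a.hom) M m)) =
      oneT (WittGrp.truncMap p n c.hom) M m := by
  rw [← compIso_hom_oneT p n a b c h h' M m]
  exact Iso.hom_inv_id_apply (compIso p n a b c h' M) _

/-- the generic comparison isomorphism for `wittModPF` is `compIso` -/
theorem mcIso_eq {A B T : CommRingCat.{u}} (a : A ⟶ B) (b : B ⟶ T) (c : A ⟶ T)
    (h' : CompCond a.op b.op c.op)
    (M : ModuleCat.{u} (TruncatedWittVector p n A)) :
    mcIso (wittModPF.{u} p n) a.op b.op c.op h' M = compIso p n a b c h' M :=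
  (compIso_eq p n a b c h' M).symm

theorem pull_map_eq {A B : CommRingCat.{u}} (f : A ⟶ B)
    {X Y : ModuleCat.{u} (TruncatedWittVector p n A)} (k : X ⟶ Y) :
    (pull (wittModPF.{u} p n) f.op).map k =
      (ModuleCat.extendScalars (WittGrp.truncMap p n f.hom)).map k := rfl

theorem hcW {A B T : CommRingCat.{u}} (a : A ⟶ B) (b : B ⟶ T) (c : A ⟶ T) (h : a ≫ b = c) :
    (WittGrp.truncMap p n b.hom).comp (WittGrp.truncMap p n a.hom) = WittGrp.truncMap p n c.hom := by
  subst h
  rw [← WittGrp.truncMap_comp]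
  rfl

/-- `x ↦ (compIso).inv (1 ⊗ x)` is the base change map -/
theorem L_eq_bc {A B T : CommRingCat.{u}} (a : A ⟶ B) (b : B ⟶ T) (c : A ⟶ T)
    (h : a ≫ b = c) (h' : CompCond a.op b.op c.op)
    (N : ModuleCat.{u} (TruncatedWittVector p n A)) (x : ext p n a N) :
    (compIso p n a b c h' N).inv (oneT (WittGrp.truncMap p n b.hom) (ext p n a N) x) =
      bc (WittGrp.truncMap p n a.hom) (WittGrp.truncMap p n b.hom) (WittGrp.truncMap p n c.hom)
        (hcW p n a b c h) N x := by
  induction x using ext_induction with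
  | zero =>
    rw [oneT_zero, map_zero, map_zero]
  | tmul w m =>
    rw [oneT_smul, map_smul, compIso_inv_oneT p n a b c h h' N m, bc_smul_oneT]
  | add x y hx hy =>
    rw [oneT_add, map_add, map_add, hx, hy]


theorem ptwise {A B T : CommRingCat.{u}} (t : A ⟶ B) (i₁ i₂ : B ⟶ T) (q : A ⟶ T)
    (hq₁ : t ≫ i₁ = q) (hq₂ : t ≫ i₂ = q)
    (h1' : CompCond t.op i₁.op q.op) (h2' : CompCond t.op i₂.op q.op)
    (M N : ModuleCat.{u} (TruncatedWittVector p n A))
    (G : ext p n t M ⟶ ext p n t N)
    (comm : (ModuleCat.extendScalars (WittGrp.truncMap p n i₁.hom)).map G ≫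
      (compIso p n t i₁ q h1' N).inv ≫ (compIso p n t i₂ q h2' N).hom =
      (compIso p n t i₁ q h1' M).inv ≫ (compIso p n t i₂ q h2' M).hom ≫
        (ModuleCat.extendScalars (WittGrp.truncMap p n i₂.hom)).map G) (m : M) :
    bc (WittGrp.truncMap p n t.hom) (WittGrp.truncMap p n i₁.hom) (WittGrp.truncMap p n q.hom)
        (hcW p n t i₁ q hq₁) N (G (oneT (WittGrp.truncMap p n t.hom) M m)) =
      bc (WittGrp.truncMap p n t.hom) (WittGrp.truncMap p n i₂.hom) (WittGrp.truncMap p n q.hom)
        (hcW p n t i₂ q hq₂) N (G (oneT (WittGrp.truncMap p n t.hom) M m)) := by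
  rw [← L_eq_bc p n t i₁ q hq₁ h1' N, ← L_eq_bc p n t i₂ q hq₂ h2' N]
  have e := congrArg (fun (k : ext p n i₁ (ext p n t M) ⟶ ext p n i₂ (ext p n t N)) =>
      k (oneT (WittGrp.truncMap p n i₁.hom) _ (oneT (WittGrp.truncMap p n t.hom) M m))) comm
  have e' : (compIso p n t i₂ q h2' N).hom
        ((compIso p n t i₁ q h1' N).inv
          ((ModuleCat.extendScalars (WittGrp.truncMap p n i₁.hom)).map G
            (oneT (WittGrp.truncMap p n i₁.hom) _
              (oneT (WittGrp.truncMap p n t.hom) M m)))) =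
        (ModuleCat.extendScalars (WittGrp.truncMap p n i₂.hom)).map G
          ((compIso p n t i₂ q h2' M).hom
            ((compIso p n t i₁ q h1' M).inv
              (oneT (WittGrp.truncMap p n i₁.hom) _
                (oneT (WittGrp.truncMap p n t.hom) M m)))) := e
  rw [compIso_inv_oneT p n t i₁ q hq₁ h1' M m,
      compIso_hom_oneT p n t i₂ q hq₂ h2' M m, map_oneT, map_oneT] at e'
  have e'' := congrArg (fun y => (compIso p n t i₂ q h2' N).inv y) e'
  simp only [Iso.hom_inv_id_apply] at e''
  exact e''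

theorem ptwiseF {A B T : CommRingCat.{u}} (t : A ⟶ B) (i₁ i₂ : B ⟶ T) (q : A ⟶ T)
    (hq₁ : t ≫ i₁ = q) (hq₂ : t ≫ i₂ = q)
    (h1' : CompCond t.op i₁.op q.op) (h2' : CompCond t.op i₂.op q.op)
    (M N : ModuleCat.{u} (TruncatedWittVector p n A))
    (G : (pull (wittModPF.{u} p n) t.op).obj M ⟶ (pull (wittModPF.{u} p n) t.op).obj N)
    (comm : CommCond (wittModPF.{u} p n) t.op i₁.op i₂.op q.op M N h1' h2' G) (m : M) :
    ∃ G' : ext p n t M ⟶ ext p n t N, G' = G ∧
    bc (WittGrp.truncMap p n t.hom) (WittGrp.truncMap p n i₁.hom) (WittGrp.truncMap p n q.hom)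
        (hcW p n t i₁ q hq₁) N (G' (oneT (WittGrp.truncMap p n t.hom) M m)) =
      bc (WittGrp.truncMap p n t.hom) (WittGrp.truncMap p n i₂.hom) (WittGrp.truncMap p n q.hom)
        (hcW p n t i₂ q hq₂) N (G' (oneT (WittGrp.truncMap p n t.hom) M m)) := by
  unfold CommCond at comm
  rw [mcIso_eq p n t i₁ q h1' N, mcIso_eq p n t i₂ q h2' N,
    mcIso_eq p n t i₁ q h1' M, mcIso_eq p n t i₂ q h2' M] at comm
  rw [pull_map_eq p n i₁ G, pull_map_eq p n i₂ G] at comm
  erw [Category.assoc] at comm
  exact ⟨G, rfl, ptwise p n t i₁ i₂ q hq₁ hq₂ h1' h2' M N G comm m⟩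

section abs

variable {A B T : CommRingCat.{u}} (t : A ⟶ B) (i₁ i₂ : B ⟶ T) (hq : t ≫ i₂ = t ≫ i₁)
  (hinj : Function.Injective (WittGrp.truncMap p n t.hom))
  (hex : ∀ b, WittGrp.truncMap p n i₁.hom b = WittGrp.truncMap p n i₂.hom b →
    ∃ a, WittGrp.truncMap p n t.hom a = b)

include hinj hex in
theorem lemGW (N : ModuleCat.{u} (TruncatedWittVector p n A))
    [Module.Flat (TruncatedWittVector p n A) N] :
    Function.Injective (oneT (WittGrp.truncMap p n t.hom) N) ∧
      ∀ x : ext p n t N,
        bc (WittGrp.truncMap p n t.hom) (WittGrp.truncMap p n i₁.hom)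
          (WittGrp.truncMap p n (t ≫ i₁).hom) (hcW p n _ _ _ rfl) N x =
        bc (WittGrp.truncMap p n t.hom) (WittGrp.truncMap p n i₂.hom)
          (WittGrp.truncMap p n (t ≫ i₁).hom) (hcW p n _ _ _ hq) N x →
        ∃ m : N, x = oneT (WittGrp.truncMap p n t.hom) N m :=
  lemG (WittGrp.truncMap p n t.hom) (WittGrp.truncMap p n (t ≫ i₁).hom)
    (WittGrp.truncMap p n i₁.hom) (WittGrp.truncMap p n i₂.hom)
    (hcW p n _ _ _ rfl) (hcW p n _ _ _ hq) hinj hex N

include hinj hex hq in
theorem inj_abs (M N : ModuleCat.{u} (TruncatedWittVector p n A))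
    [Module.Flat (TruncatedWittVector p n A) N] :
    Function.Injective (fun φ : M ⟶ N =>
      ((wittModPF.{u} p n).toDescentData (fun _ : PUnit.{u + 1} => t.op)).map φ) := by
  intro φ ψ h
  have key : (ModuleCat.extendScalars (WittGrp.truncMap p n t.hom)).map φ =
      (ModuleCat.extendScalars (WittGrp.truncMap p n t.hom)).map ψ :=
    congrArg (fun k => Pseudofunctor.DescentData.Hom.hom k PUnit.unit) h
  ext m
  apply (lemGW p n t i₁ i₂ hq hinj hex N).1
  have := congrArg (fun (k : ext p n t M ⟶ ext p n t N) =>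
    k (oneT (WittGrp.truncMap p n t.hom) M m)) key
  simp only [map_oneT] at this
  exact this

include hinj hex hq in
theorem surj_abs (M N : ModuleCat.{u} (TruncatedWittVector p n A))
    [Module.Flat (TruncatedWittVector p n A) N] :
    Function.Surjective (fun φ : M ⟶ N =>
      ((wittModPF.{u} p n).toDescentData (fun _ : PUnit.{u + 1} => t.op)).map φ) := by
  have hf₁ : i₁.op ≫ t.op = (t ≫ i₁).op := rfl
  have hf₂ : i₂.op ≫ t.op = (t ≫ i₁).op := by
    rw [← op_comp, hq]
  have h1' : CompCond t.op i₁.op (t ≫ i₁).op := rfl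
  have h2' : CompCond t.op i₂.op (t ≫ i₁).op := by
    rw [← hq]; rfl
  refine surj_of (wittModPF.{u} p n) t.op i₁.op i₂.op (t ≫ i₁).op hf₁ hf₂ M N h1' h2' ?_
  intro G comm
  obtain ⟨G', hG'⟩ : ∃ G' : ext p n t M ⟶ ext p n t N, G' = G := ⟨G, rfl⟩
  have key : ∀ m : M, ∃ m' : N, G' (oneT (WittGrp.truncMap p n t.hom) M m) =
      oneT (WittGrp.truncMap p n t.hom) N m' := by
    intro m
    obtain ⟨G'', hG'', hbc⟩ := ptwiseF p n t i₁ i₂ (t ≫ i₁) rfl hq h1' h2' M N G comm m
    obtain rfl : G'' = G' := hG''.trans hG'.symm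
    exact (lemGW p n t i₁ i₂ hq hinj hex N).2 _ hbc
  choose φ₀ hφ₀ using key
  have hinjN := (lemGW p n t i₁ i₂ hq hinj hex N).1
  have hadd : ∀ m m', φ₀ (m + m') = φ₀ m + φ₀ m' := by
    intro m m'
    apply hinjN
    rw [← hφ₀, oneT_add, oneT_add, map_add, hφ₀, hφ₀]
  have hsmul : ∀ (a : TruncatedWittVector p n A) (m : M), φ₀ (a • m) = a • φ₀ m := by
    intro a m
    apply hinjN
    rw [← hφ₀, oneT_smul, oneT_smul, map_smul, hφ₀]
  let φ : M ⟶ N := ModuleCat.ofHom { toFun := φ₀, map_add' := hadd, map_smul' := hsmul }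
  refine ⟨φ, ?_⟩
  rw [← hG']
  rw [pull_map_eq]
  apply hom_ext_oneT
  intro m
  rw [map_oneT, hφ₀]
  rfl

end abs

section main

variable (R R' : Type u) [CommRing R] [CommRing R'] [Algebra R R'] [Module.FaithfullyFlat R R']

theorem truncMap_injective :
    Function.Injective (WittGrp.truncMap p n (algebraMap R R')) := by
  intro x y hxy
  ext i
  have := congrArg (fun w => w.coeff i) hxy
  simp only [WittGrp.coeff_truncMap] at this
  exact FaithfulSMul.algebraMap_injective R R' this

theorem truncMap_equalizer (b : TruncatedWittVector p n R')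
    (hb : WittGrp.truncMap p n
        (Algebra.TensorProduct.includeLeftRingHom : R' →+* TensorProduct R R' R') b =
      WittGrp.truncMap p n ((Algebra.TensorProduct.includeRight : R' →ₐ[R] TensorProduct R R' R') :
        R' →+* TensorProduct R R' R') b) :
    ∃ a, WittGrp.truncMap p n (algebraMap R R') a = b := by
  have hcoef : ∀ i : Fin n, ∃ s : R, algebraMap R R' s = b.coeff i := by
    intro i
    apply Groth.Agent.H82.WittDesc.exists_of_include_eq
    have := congrArg (fun w => w.coeff i) hb
    simpa only [WittGrp.coeff_truncMap] using this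
  choose s hs using hcoef
  refine ⟨TruncatedWittVector.mk p s, ?_⟩
  ext i
  rw [WittGrp.coeff_truncMap, TruncatedWittVector.coeff_mk, hs]

/-- the three ring maps -/
noncomputable abbrev tt : CommRingCat.of R ⟶ CommRingCat.of R' :=
  CommRingCat.ofHom (algebraMap R R')

/-- first inclusion `R' → R' ⊗[R] R'` -/
noncomputable abbrev i1 : CommRingCat.of R' ⟶ CommRingCat.of (R' ⊗[R] R') :=
  CommRingCat.ofHom (Algebra.TensorProduct.includeLeftRingHom : R' →+* R' ⊗[R] R')

/-- second inclusion `R' → R' ⊗[R] R'` -/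
noncomputable abbrev i2 : CommRingCat.of R' ⟶ CommRingCat.of (R' ⊗[R] R') :=
  CommRingCat.ofHom
    ((Algebra.TensorProduct.includeRight : R' →ₐ[R] R' ⊗[R] R') : R' →+* R' ⊗[R] R')

omit [Module.FaithfullyFlat R R'] in
theorem hq2 : tt R R' ≫ i2 R R' = tt R R' ≫ i1 R R' := by
  ext r
  change (Algebra.TensorProduct.includeRight : R' →ₐ[R] R' ⊗[R] R') (algebraMap R R' r) =
    (Algebra.TensorProduct.includeLeftRingHom : R' →+* R' ⊗[R] R') (algebraMap R R' r)
  rw [AlgHom.commutes]
  change _ = (Algebra.TensorProduct.includeLeft : R' →ₐ[R] R' ⊗[R] R') (algebraMap R R' r)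
  rw [AlgHom.commutes]

end main

end Groth.Agent.H92.WittDescFF
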