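import Mathlib
import Groth.Agent.H92.WittDescFF

/-!
# Descent data for a one-member family, generic lemmas (helper92)

For an arbitrary pseudofunctor `F : Pseudofunctor (LocallyDiscrete Cᵒᵖ) Cat` and a single morphism
`t : X ⟶ S`, we restate the axioms of a descent datum `D : F.DescentData (fun _ : PUnit => t)` in the
vocabulary `pull` / `mcIso` of `Groth.Agent.H92.WittDescFF`, and give a criterion for two descent data
to be isomorphic that only involves one chosen pullback of `t` with itself.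

Everything here is generic in `F`, so that the kernel never has to unfold a concrete pseudofunctor;
concrete statements should be obtained by instantiating these (see the kernel performance note in
`Groth.Agent.H92.WittDescFFMain`).
-/

set_option autoImplicit false

universe w v' v u' u₁

open CategoryTheory Opposite Limits

namespace Groth.Agent.H92.DescGen

attribute [-instance] CategoryTheory.catToReflQuiver

open Groth.Agent.H92.WittDescFF

variable {C : Type u₁} [Category.{v} C] (F : Pseudofunctor (LocallyDiscrete Cᵒᵖ) Cat.{v', u'})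
  {S X : C} (t : X ⟶ S)

/-- the object over `X` of a descent datum relative to `t : X ⟶ S` -/
def dobj (D : F.DescentData (fun _ : PUnit.{w + 1} => t)) : F.obj (.mk (op X)) :=
  D.obj PUnit.unit

/-- the comparison morphism of a descent datum, for a pair of maps `f₁ f₂ : Y ⟶ X` over `S` -/
def dhom (D : F.DescentData (fun _ : PUnit.{w + 1} => t)) {Y : C} (q : Y ⟶ S) (f₁ f₂ : Y ⟶ X)
    (h₁ : f₁ ≫ t = q) (h₂ : f₂ ≫ t = q) :
    (pull F f₁).obj (dobj F t D) ⟶ (pull F f₂).obj (dobj F t D) :=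
  D.hom q (i₁ := PUnit.unit) (i₂ := PUnit.unit) f₁ f₂ h₁ h₂

variable {F t}

theorem dhom_self (D : F.DescentData (fun _ : PUnit.{w + 1} => t)) {Y : C} (q : Y ⟶ S)
    (g : Y ⟶ X) (h : g ≫ t = q) : dhom F t D q g g h h = 𝟙 _ :=
  D.hom_self q (i := PUnit.unit) g h

theorem dhom_comp (D : F.DescentData (fun _ : PUnit.{w + 1} => t)) {Y : C} (q : Y ⟶ S)
    (f₁ f₂ f₃ : Y ⟶ X) (h₁ : f₁ ≫ t = q) (h₂ : f₂ ≫ t = q) (h₃ : f₃ ≫ t = q) :
    dhom F t D q f₁ f₂ h₁ h₂ ≫ dhom F t D q f₂ f₃ h₂ h₃ = dhom F t D q f₁ f₃ h₁ h₃ :=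
  D.hom_comp q (i₁ := PUnit.unit) (i₂ := PUnit.unit) (i₃ := PUnit.unit) f₁ f₂ f₃ h₁ h₂ h₃

/-- compatibility of the comparison morphisms with base change along `g : Y' ⟶ Y` -/
theorem dhom_pull (D : F.DescentData (fun _ : PUnit.{w + 1} => t)) {Y Y' : C} (g : Y' ⟶ Y)
    (q : Y ⟶ S) (q' : Y' ⟶ S) (hq : g ≫ q = q') (f₁ f₂ : Y ⟶ X) (h₁ : f₁ ≫ t = q) (h₂ : f₂ ≫ t = q)
    (gf₁ gf₂ : Y' ⟶ X) (hg₁ : g ≫ f₁ = gf₁) (hg₂ : g ≫ f₂ = gf₂)
    (c₁ : CompCond f₁ g gf₁) (c₂ : CompCond f₂ g gf₂)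
    (h₁' : gf₁ ≫ t = q') (h₂' : gf₂ ≫ t = q') :
    dhom F t D q' gf₁ gf₂ h₁' h₂' =
      (mcIso F f₁ g gf₁ c₁ (dobj F t D)).hom ≫ (pull F g).map (dhom F t D q f₁ f₂ h₁ h₂) ≫
        (mcIso F f₂ g gf₂ c₂ (dobj F t D)).inv :=
  (D.pullHom_hom g q q' hq (i₁ := PUnit.unit) (i₂ := PUnit.unit) f₁ f₂ h₁ h₂ gf₁ gf₂ hg₁ hg₂).symm

/-- the comparison morphisms of the canonical descent datum -/
theorem dhom_toDescentData (M : F.obj (.mk (op S))) {Y : C} (q : Y ⟶ S) (f₁ f₂ : Y ⟶ X)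
    (h₁ : f₁ ≫ t = q) (h₂ : f₂ ≫ t = q) (c₁ : CompCond t f₁ q) (c₂ : CompCond t f₂ q) :
    dhom F t ((F.toDescentData (fun _ : PUnit.{w + 1} => t)).obj M) q f₁ f₂ h₁ h₂ =
      (mcIso F t f₁ q c₁ M).inv ≫ (mcIso F t f₂ q c₂ M).hom :=
  Pseudofunctor.DescentData.ofObj_hom (F := F) (f := fun _ : PUnit.{w + 1} => t) M Y q
    PUnit.unit PUnit.unit f₁ f₂ h₁ h₂

section iso

/-- a chosen pullback from `HasPullback` -/
noncomputable def chosenOfHasPullback {X₁ X₂ S' : C} (a : X₁ ⟶ S') (b : X₂ ⟶ S') [HasPullback a b] :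
    ChosenPullback a b where
  pullback := pullback a b
  p₁ := pullback.fst a b
  p₂ := pullback.snd a b
  condition := pullback.condition
  isLimit := (IsPullback.of_hasPullback a b).isLimit

/-- a chosen triple pullback, from chosen pullbacks and `HasPullback` -/
noncomputable def chosen₃ {X₁ X₂ X₃ S' : C} {f₁ : X₁ ⟶ S'} {f₂ : X₂ ⟶ S'} {f₃ : X₃ ⟶ S'}
    (h₁₂ : ChosenPullback f₁ f₂) (h₂₃ : ChosenPullback f₂ f₃) (h₁₃ : ChosenPullback f₁ f₃)
    [HasPullback h₁₂.p₂ h₂₃.p₁] : ChosenPullback₃ h₁₂ h₂₃ h₁₃ where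
  chosenPullback := chosenOfHasPullback h₁₂.p₂ h₂₃.p₁
  l := Classical.choice (ChosenPullback.LiftStruct.nonempty
    (by
      have e1 := (chosenOfHasPullback h₁₂.p₂ h₂₃.p₁).condition
      simp only [Category.assoc]
      rw [h₁₂.hp₁, h₂₃.hp₂, ← h₂₃.hp₁, ← Category.assoc, ← e1, Category.assoc, h₁₂.hp₂])
    (by simp only [Category.assoc, h₁₂.hp₁]))

variable [HasPullbacks C]

/-- Two descent data relative to `t` are isomorphic as soon as their objects are isomorphic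
compatibly with the comparison morphisms over one chosen pullback of `t` with itself. -/
theorem nonempty_iso_of_comm (sq : ChosenPullback t t)
    (D₁ D₂ : F.DescentData (fun _ : PUnit.{w + 1} => t)) (e : dobj F t D₁ ≅ dobj F t D₂)
    (comm : (pull F sq.p₁).map e.hom ≫ dhom F t D₂ sq.p sq.p₁ sq.p₂ sq.hp₁ sq.hp₂ =
      dhom F t D₁ sq.p sq.p₁ sq.p₂ sq.hp₁ sq.hp₂ ≫ (pull F sq.p₂).map e.hom) :
    Nonempty (D₁ ≅ D₂) := by
  let sqf : ∀ i j : PUnit.{w + 1}, ChosenPullback ((fun _ : PUnit.{w + 1} => t) i)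
    ((fun _ : PUnit.{w + 1} => t) j) := fun _ _ => sq
  let sq₃ : ∀ i₁ i₂ i₃ : PUnit.{w + 1}, ChosenPullback₃ (sqf i₁ i₂) (sqf i₂ i₃) (sqf i₁ i₃) :=
    fun _ _ _ => chosen₃ sq sq sq
  let E := Pseudofunctor.DescentData'.descentDataEquivalence F sqf sq₃
  have i' : E.inverse.obj D₁ ≅ E.inverse.obj D₂ :=
    Pseudofunctor.DescentData'.isoMk (fun _ => e) (fun _ _ => comm)
  exact ⟨(E.counitIso.app D₁).symm ≪≫ E.functor.mapIso i' ≪≫ E.counitIso.app D₂⟩

/-- Variant of `nonempty_iso_of_comm` with the pullback given by an `IsPullback`. -/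
theorem nonempty_iso_of_comm' {P : C} (p₁ p₂ : P ⟶ X) (q : P ⟶ S) (h₁ : p₁ ≫ t = q)
    (h₂ : p₂ ≫ t = q) (hpb : IsPullback p₁ p₂ t t)
    (D₁ D₂ : F.DescentData (fun _ : PUnit.{w + 1} => t)) (e : dobj F t D₁ ≅ dobj F t D₂)
    (comm : (pull F p₁).map e.hom ≫ dhom F t D₂ q p₁ p₂ h₁ h₂ =
      dhom F t D₁ q p₁ p₂ h₁ h₂ ≫ (pull F p₂).map e.hom) :
    Nonempty (D₁ ≅ D₂) :=
  nonempty_iso_of_comm
    { pullback := P
      p₁ := p₁
      p₂ := p₂
      condition := h₁.trans h₂.symm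
      isLimit := hpb.isLimit
      p := q
      hp₁ := h₁ } D₁ D₂ e comm

end iso

end Groth.Agent.H92.DescGen
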