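import Mathlib
import Groth.Agent.H78.HopfExt.Torsor
import Groth.Agent.H93.HopfFaithful
import Groth.Agent.H82.Cartier

/-!
# Lifting an étale quotient with radicial kernel over a perfect field (helper92)

`k` a perfect field, `C → A` an injective map of commutative Hopf algebras with `C` étale,
`A` finitely generated and `A ⧸ C⁺A` local.  Then `A = C + nilradical A`.
-/

set_option autoImplicit false

namespace Groth.Agent.H92.EtaleLift

open TensorProduct

universe u

section perfect

variable (k : Type u) [Field k] [PerfectField k] (C : Type u) [CommRing C] [Algebra k C]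
  [Algebra.Etale k C]

theorem frobenius_surjective (q : ℕ) [ExpChar k q] [ExpChar C q] :
    Function.Surjective (frobenius C q) := by
  obtain ⟨I, _, Ai, _, _, e, h⟩ :=
    (Algebra.Etale.iff_exists_algEquiv_prod (K := k) (A := C)).mp inferInstance
  intro c
  have : ∀ i, ∃ y : Ai i, y ^ q = e c i := by
    intro i
    haveI := (h i).1
    haveI : Algebra.IsAlgebraic k (Ai i) := Algebra.IsAlgebraic.of_finite k (Ai i)
    haveI : PerfectField (Ai i) := Algebra.IsAlgebraic.perfectField k
    haveI : ExpChar (Ai i) q := expChar_of_injective_algebraMap (algebraMap k (Ai i)).injective q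
    haveI : PerfectRing (Ai i) q := PerfectField.toPerfectRing q
    exact surjective_frobenius (Ai i) q (e c i)
  choose y hy using this
  refine ⟨e.symm y, ?_⟩
  apply e.injective
  rw [frobenius_def, map_pow, e.apply_symm_apply]
  ext i
  exact hy i

theorem exists_pow_eq (q : ℕ) [ExpChar k q] [ExpChar C q] (n : ℕ) (c : C) :
    ∃ d : C, d ^ q ^ n = c := by
  induction n generalizing c with
  | zero => exact ⟨c, by simp⟩
  | succ n ih =>
    obtain ⟨d, hd⟩ := frobenius_surjective k C q c
    obtain ⟨d', hd'⟩ := ih d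
    refine ⟨d', ?_⟩
    rw [pow_succ, pow_mul, hd', ← hd, frobenius_def]

end perfect

section local_

variable {k : Type u} [Field k] {Q : Type u} [CommRing Q] [HopfAlgebra k Q]
  [Algebra.FiniteType k Q] [IsLocalRing Q]

/-- In a local finitely generated Hopf algebra, the augmentation ideal is the nilradical. -/
theorem ker_counit_le_nilradical :
    RingHom.ker (Bialgebra.counitAlgHom k Q) ≤ nilradical Q := by
  haveI : IsJacobsonRing Q := isJacobsonRing_of_finiteType (A := k)
  have hsurj : Function.Surjective (Bialgebra.counitAlgHom k Q) := fun x =>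
    ⟨algebraMap k Q x, by simp⟩
  haveI : (RingHom.ker (Bialgebra.counitAlgHom k Q)).IsMaximal :=
    RingHom.ker_isMaximal_of_surjective _ hsurj
  rw [IsLocalRing.eq_maximalIdeal (I := RingHom.ker (Bialgebra.counitAlgHom k Q)) inferInstance,
    nilradical, Ideal.radical_eq_jacobson,
    IsLocalRing.jacobson_eq_maximalIdeal (0 : Ideal Q) (by
      rw [Ideal.zero_eq_bot]; exact bot_ne_top)]

theorem ker_counit_le_pNilradical (q : ℕ) [ExpChar k q] :
    RingHom.ker (Bialgebra.counitAlgHom k Q) ≤ pNilradical Q q := by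
  cases ‹ExpChar k q› with
  | zero =>
    haveI : IsReduced Q := Groth.Agent.H82.Cartier.isReduced (k := k) (A := Q)
    intro x hx
    have := ker_counit_le_nilradical (k := k) hx
    rw [nilradical_eq_zero, Ideal.zero_eq_bot, Ideal.mem_bot] at this
    rw [this]
    exact Ideal.zero_mem _
  | prime hq =>
    rw [pNilradical_eq_nilradical hq.one_lt]
    exact ker_counit_le_nilradical

end local_

section core

open Groth.Agent.H78.HopfExt WithConv

variable {k : Type u} [Field k] {A C : Type u} [CommRing A] [HopfAlgebra k A]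
  [CommRing C] [HopfAlgebra k C] [Algebra C A] [IsScalarTower k C A]
  (hΔ : (Bialgebra.comulAlgHom k A).comp (IsScalarTower.toAlgHom k C A) =
      (Algebra.TensorProduct.map (IsScalarTower.toAlgHom k C A)
        (IsScalarTower.toAlgHom k C A)).comp (Bialgebra.comulAlgHom k C))
  (hε : (Bialgebra.counitAlgHom k A).comp (IsScalarTower.toAlgHom k C A) =
      Bialgebra.counitAlgHom k C)

include hε in
theorem counit_kills : ∀ a ∈ JJ k A C, Bialgebra.counitAlgHom k A a = 0 := by
  have hle : JJ k A C ≤ RingHom.ker (Bialgebra.counitAlgHom k A) := by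
    rw [JJ, Ideal.map_le_iff_le_comap]
    intro c hc
    rw [Ideal.mem_comap, RingHom.mem_ker]
    have := congrArg (fun φ : C →ₐ[k] k => φ c) hε
    simp only [AlgHom.comp_apply] at this
    rw [IsScalarTower.coe_toAlgHom'] at this
    rw [this]
    exact hc
  intro a ha
  exact hle ha

/-- the counit of the kernel `A ⧸ C⁺A` -/
noncomputable def epsBar : (A ⧸ JJ k A C) →ₐ[k] k :=
  Ideal.Quotient.liftₐ (JJ k A C) (Bialgebra.counitAlgHom k A) (counit_kills hε)

theorem epsBar_mk (a : A) :
    epsBar hε (Ideal.Quotient.mk (JJ k A C) a) = Coalgebra.counit (R := k) a := rfl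

theorem epsBar_surjective : Function.Surjective (epsBar (A := A) (C := C) hε) := fun x =>
  ⟨algebraMap k _ x, by simp⟩

/-- `id ⊗ ε̄ : A ⊗ (A ⧸ C⁺A) → A ⊗ k` -/
noncomputable def GG : T2 k A C →ₐ[k] A ⊗[k] k :=
  Algebra.TensorProduct.map (AlgHom.id k A) (epsBar hε)

theorem ker_GG_le (q : ℕ) (hQ : RingHom.ker (epsBar (A := A) (C := C) hε) ≤
    pNilradical (A ⧸ JJ k A C) q) :
    RingHom.ker (GG (A := A) (C := C) hε) ≤ pNilradical (T2 k A C) q := by
  rw [GG, Algebra.TensorProduct.lTensor_ker _ (epsBar_surjective hε), Ideal.map_le_iff_le_comap]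
  intro x hx
  obtain ⟨n, hn⟩ := mem_pNilradical.mp (hQ hx)
  rw [Ideal.mem_comap, mem_pNilradical]
  refine ⟨n, ?_⟩
  rw [← map_pow, hn, map_zero]

theorem GG_comp_p₂ : (GG (A := A) (C := C) hε).comp p₂ = Algebra.TensorProduct.includeLeft := by
  have h := comp_mul (GG (A := A) (C := C) hε) (toConv (g₂ (R := k) (A := A) (A'' := C)))
    (toConv h₂)
  have h1 : (GG (A := A) (C := C) hε).comp (g₂ (R := k) (A := A) (A'' := C)) =
      Algebra.TensorProduct.includeLeft := by
    ext a
    change Algebra.TensorProduct.map (AlgHom.id k A) (epsBar hε) (a ⊗ₜ[k] 1) = a ⊗ₜ[k] 1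
    rw [Algebra.TensorProduct.map_tmul, map_one, AlgHom.id_apply]
  have h2 : toConv ((GG (A := A) (C := C) hε).comp (h₂ (R := k) (A := A) (A'' := C))) = 1 := by
    apply WithConv.ofConv_injective
    ext a
    rw [ofConv_toConv, AlgHom.convOne_apply]
    change Algebra.TensorProduct.map (AlgHom.id k A) (epsBar hε)
      ((1 : A) ⊗ₜ[k] (Ideal.Quotient.mk (JJ k A C) a)) = _
    rw [Algebra.TensorProduct.map_tmul, map_one, epsBar_mk, Algebra.TensorProduct.algebraMap_apply,
      Algebra.TensorProduct.tmul_one_eq_one_tmul]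
    rfl
  change toConv ((GG (A := A) (C := C) hε).comp p₂) =
    toConv ((GG (A := A) (C := C) hε).comp g₂) * toConv ((GG (A := A) (C := C) hε).comp h₂) at h
  rw [h1, h2] at h
  exact WithConv.toConv_injective (h.trans (pmul_one _))

include hΔ in
/-- `a ⊗ 1 - 1 ⊗ a` is `q`-nilpotent in `A ⊗[C] A` when the augmentation ideal of the kernel is. -/
theorem sub_mem_pNilradical (q : ℕ) (hQ : RingHom.ker (epsBar (A := A) (C := C) hε) ≤
    pNilradical (A ⧸ JJ k A C) q) (a : A) :
    a ⊗ₜ[C] (1 : A) - (1 : A) ⊗ₜ[C] a ∈ pNilradical (A ⊗[C] A) q := by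
  have h1 : torsorEquiv hΔ hε (a ⊗ₜ[C] (1 : A) - (1 : A) ⊗ₜ[C] a) ∈
      RingHom.ker (GG (A := A) (C := C) hε) := by
    rw [RingHom.mem_ker, map_sub, map_sub]
    change GG hε (Φ hΔ hε (a ⊗ₜ[C] (1 : A))) - GG hε (Φ hΔ hε ((1 : A) ⊗ₜ[C] a)) = 0
    rw [Φ_tmul, Φ_tmul, map_one, mul_one, ← Algebra.TensorProduct.one_def, one_mul]
    have := congrArg (fun φ : A →ₐ[k] A ⊗[k] k => φ a) (GG_comp_p₂ (A := A) (C := C) hε)
    simp only [AlgHom.comp_apply] at this
    rw [this]
    change Algebra.TensorProduct.map (AlgHom.id k A) (epsBar hε) (a ⊗ₜ[k] 1) - a ⊗ₜ[k] 1 = 0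
    rw [Algebra.TensorProduct.map_tmul, map_one, AlgHom.id_apply, sub_self]
  obtain ⟨n, hn⟩ := mem_pNilradical.mp (ker_GG_le hε q hQ h1)
  rw [mem_pNilradical]
  refine ⟨n, ?_⟩
  apply (torsorEquiv hΔ hε).injective
  rw [map_pow, hn, map_zero]

include hΔ in
/-- **Key decomposition**: `A = C + nilradical A`. -/
theorem exists_sub_mem_nilradical [PerfectField k] [Algebra.Etale k C] [Module.FaithfullyFlat C A]
    (q : ℕ) [ExpChar k q]
    (hQ : RingHom.ker (epsBar (A := A) (C := C) hε) ≤ pNilradical (A ⧸ JJ k A C) q) (a : A) :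
    ∃ c : C, a - algebraMap C A c ∈ nilradical A := by
  haveI : Nontrivial A := (Bialgebra.counitAlgHom k A).toRingHom.domain_nontrivial
  haveI : Nontrivial C := (Bialgebra.counitAlgHom k C).toRingHom.domain_nontrivial
  haveI : Nontrivial (A ⊗[C] A) :=
    (Algebra.TensorProduct.lmul' C (S := A)).toRingHom.domain_nontrivial
  haveI : ExpChar A q := expChar_of_injective_algebraMap (algebraMap k A).injective q
  haveI : ExpChar C q := expChar_of_injective_algebraMap (algebraMap k C).injective q
  haveI : ExpChar (A ⊗[C] A) q :=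
    expChar_of_injective_algebraMap (algebraMap k (A ⊗[C] A)).injective q
  obtain ⟨n, hn⟩ :=
    sub_mem_pNilradical_iff_pow_expChar_pow_eq.mp (sub_mem_pNilradical hΔ hε q hQ a)
  rw [Algebra.TensorProduct.tmul_pow, Algebra.TensorProduct.tmul_pow, one_pow] at hn
  have heff := Algebra.IsEffective.of_faithfullyFlat C A
  obtain ⟨c, hc⟩ := (heff (a ^ q ^ n)).mp (by
    rw [Algebra.TensorProduct.includeLeftSubRight_apply, hn, sub_self])
  obtain ⟨d, hd⟩ := exists_pow_eq k C q n c
  refine ⟨d, pNilradical_le_nilradical (p := q) ?_⟩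
  rw [sub_mem_pNilradical_iff_pow_expChar_pow_eq]
  refine ⟨n, ?_⟩
  rw [← map_pow, hd]
  exact hc.symm

end core

section main

open Groth.Agent.H78.HopfExt

variable (k : Type u) [Field k] [PerfectField k] (A C : Type u) [CommRing A] [HopfAlgebra k A]
  [Algebra.FiniteType k A] [CommRing C] [HopfAlgebra k C] [Algebra.Etale k C]

/-- **Decomposition** `A = ψ(C) + nilradical A`. -/
theorem decomposition (ψ : C →ₐc[k] A) (hψ : Function.Injective ψ)
    (J : Ideal A) [J.IsHopfIdeal k]
    (hJ : J = Ideal.map (ψ : C →+* A) (RingHom.ker (Bialgebra.counitAlgHom k C)))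
    [IsLocalRing (A ⧸ J)] (a : A) : ∃ c : C, a - ψ c ∈ nilradical A := by
  letI : Algebra C A := (ψ : C →+* A).toAlgebra
  haveI : IsScalarTower k C A := IsScalarTower.of_algebraMap_eq fun x => ((ψ : C →ₐ[k] A).commutes x).symm
  have hJ' : J = JJ k A C := hJ
  subst hJ'
  have hΔ : (Bialgebra.comulAlgHom k A).comp (IsScalarTower.toAlgHom k C A) =
      (Algebra.TensorProduct.map (IsScalarTower.toAlgHom k C A)
        (IsScalarTower.toAlgHom k C A)).comp (Bialgebra.comulAlgHom k C) := by
    ext c
    exact (CoalgHomClass.map_comp_comul_apply ψ c).symm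
  have hε : (Bialgebra.counitAlgHom k A).comp (IsScalarTower.toAlgHom k C A) =
      Bialgebra.counitAlgHom k C := by
    ext c
    exact CoalgHomClass.counit_comp_apply ψ c
  haveI : Module.FaithfullyFlat C A :=
    Groth.Agent.H93.HopfFaithful.faithfullyFlat ψ (fun b => rfl) hψ
  obtain ⟨q, hq⟩ := ExpChar.exists k
  haveI : Algebra.FiniteType k (A ⧸ JJ k A C) :=
    Algebra.FiniteType.of_surjective (Ideal.Quotient.mkₐ k (JJ k A C))
      Ideal.Quotient.mk_surjective
  have hQ : RingHom.ker (epsBar (A := A) (C := C) hε) ≤ pNilradical (A ⧸ JJ k A C) q := by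
    intro x hx
    apply ker_counit_le_pNilradical (k := k) (Q := A ⧸ JJ k A C) q
    obtain ⟨a, rfl⟩ := Ideal.Quotient.mk_surjective x
    exact hx
  exact exists_sub_mem_nilradical hΔ hε q hQ a

end main

section assembly

variable {k : Type u} [Field k] {A C : Type u} [CommRing A] [HopfAlgebra k A]
  [CommRing C] [HopfAlgebra k C] (ψ : C →ₐc[k] A)
  (hdec : ∀ a : A, ∃ c : C, a - ψ c ∈ nilradical A)

include hdec in
theorem algHom_ext_of_reduced {X : Type*} [CommRing X] [Algebra k X] [IsReduced X]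
    (f g : A →ₐ[k] X) (h : ∀ c, f (ψ c) = g (ψ c)) : f = g := by
  ext a
  obtain ⟨c, hc⟩ := hdec a
  have hf : f (a - ψ c) = 0 := (IsNilpotent.map hc f).eq_zero
  have hg : g (a - ψ c) = 0 := (IsNilpotent.map hc g).eq_zero
  rw [map_sub, sub_eq_zero] at hf hg
  rw [hf, hg, h]

/-- `C → A ⧸ nilradical A` -/
noncomputable def phi : C →ₐ[k] A ⧸ nilradical A :=
  (Ideal.Quotient.mkₐ k (nilradical A)).comp (ψ : C →ₐ[k] A)

theorem phi_injective [IsReduced C] (hψ : Function.Injective ψ) :
    Function.Injective (phi ψ) := by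
  rw [injective_iff_map_eq_zero]
  intro c hc
  have h1 : ψ c ∈ nilradical A := Ideal.Quotient.eq_zero_iff_mem.mp hc
  obtain ⟨n, hn⟩ := mem_nilradical.mp h1
  rw [← map_pow, ← map_zero ψ] at hn
  exact IsNilpotent.eq_zero (⟨n, hψ hn⟩ : IsNilpotent c)

include hdec in
theorem phi_surjective : Function.Surjective (phi ψ) := by
  intro x
  obtain ⟨a, rfl⟩ := Ideal.Quotient.mk_surjective x
  obtain ⟨c, hc⟩ := hdec a
  exact ⟨c, (Ideal.Quotient.eq.mpr hc).symm⟩

/-- the retraction as an algebra map -/
noncomputable def retr [IsReduced C] (hψ : Function.Injective ψ) : A →ₐ[k] C :=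
  ((AlgEquiv.ofBijective (phi ψ) ⟨phi_injective ψ hψ, phi_surjective ψ hdec⟩).symm :
    (A ⧸ nilradical A) →ₐ[k] C).comp (Ideal.Quotient.mkₐ k (nilradical A))

theorem retr_psi [IsReduced C] (hψ : Function.Injective ψ) (c : C) :
    retr ψ hdec hψ (ψ c) = c := by
  change (AlgEquiv.ofBijective (phi ψ) ⟨phi_injective ψ hψ, phi_surjective ψ hdec⟩).symm
    (phi ψ c) = c
  exact (AlgEquiv.ofBijective (phi ψ) ⟨phi_injective ψ hψ, phi_surjective ψ hdec⟩).symm_apply_apply c

/-- the retraction as a bialgebra map -/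
noncomputable def retrBialg [IsReduced C] [IsReduced (C ⊗[k] C)] (hψ : Function.Injective ψ) :
    A →ₐc[k] C :=
  BialgHom.ofAlgHom (retr ψ hdec hψ)
    (by
      apply algHom_ext_of_reduced ψ hdec
      intro c
      rw [AlgHom.comp_apply, retr_psi]
      exact (CoalgHomClass.counit_comp_apply ψ c).symm)
    (by
      apply algHom_ext_of_reduced ψ hdec
      intro c
      rw [AlgHom.comp_apply, AlgHom.comp_apply, retr_psi]
      change Algebra.TensorProduct.map (retr ψ hdec hψ) (retr ψ hdec hψ)
        (CoalgebraStruct.comul (R := k) (ψ c)) = CoalgebraStruct.comul (R := k) c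
      rw [← CoalgHomClass.map_comp_comul_apply ψ c]
      generalize CoalgebraStruct.comul (R := k) c = t
      induction t using TensorProduct.induction_on with
      | zero => simp only [map_zero]
      | add s t hs ht => simp only [map_add, hs, ht]
      | tmul x y =>
        rw [TensorProduct.map_tmul, Algebra.TensorProduct.map_tmul]
        change retr ψ hdec hψ (ψ x) ⊗ₜ[k] retr ψ hdec hψ (ψ y) = _
        rw [retr_psi, retr_psi])

theorem retrBialg_psi [IsReduced C] [IsReduced (C ⊗[k] C)] (hψ : Function.Injective ψ) (c : C) :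
    retrBialg ψ hdec hψ (ψ c) = c := retr_psi ψ hdec hψ c

include hdec in
theorem ker_eq_nilradical [IsReduced C] (r : A →ₐc[k] C) (hr : ∀ c, r (ψ c) = c) :
    RingHom.ker (r : A →+* C) = nilradical A := by
  apply le_antisymm
  · intro a ha
    obtain ⟨c, hc⟩ := hdec a
    have h1 : r (a - ψ c) = 0 := (IsNilpotent.map hc r).eq_zero
    have h2 : r a = 0 := ha
    rw [map_sub, h2, hr, zero_sub, neg_eq_zero] at h1
    rw [h1, map_zero, sub_zero] at hc
    exact hc
  · intro a ha
    exact (IsNilpotent.map ha (r : A →+* C)).eq_zero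

end assembly

end Groth.Agent.H92.EtaleLift
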