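import Groth.Agent.H92.ParHilb
import Groth.Agent.H38.EulerAdd
import Groth.Agent.S0002

/-!
# Euler additivity on a proper scheme over a field (from `S0002` finiteness)
-/

set_option autoImplicit false
universe u
open CategoryTheory CategoryTheory.Limits AlgebraicGeometry

namespace Groth.Agent.H92.ParHilb

/-- the Euler characteristic is additive on short exact sequences of coherent modules on a scheme
proper over a field -/
theorem eulerAdd_of_proper (k : Type u) [Field k] (X : Scheme.{u})
    [X.Over (Spec (CommRingCat.of k))] [IsProper (X ↘ Spec (CommRingCat.of k))] :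
    EulerAdd k X := by
  intro S hS h₁ h₂ h₃
  haveI : CompactSpace X :=
    (quasiCompact_iff_compactSpace (X ↘ Spec (CommRingCat.of k))).1 inferInstance
  haveI : QuasiSeparatedSpace X :=
    (quasiSeparated_iff_quasiSeparatedSpace (X ↘ Spec (CommRingCat.of k))).1 inferInstance
  exact Groth.Agent.H38.EulerAdd.euler_additive_of_finite_qcqs (k := k) (X := X) S hS h₁.1 h₂.1 h₃.1
    (fun n => Groth.Agent.S0002.result k X _ h₁ n)
    (fun n => Groth.Agent.S0002.result k X _ h₂ n)
    (fun n => Groth.Agent.S0002.result k X _ h₃ n)

end Groth.Agent.H92.ParHilb
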