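import Mathlib

/-!
# Splitting of `S²V → Λ²V` over `𝔽₂` for permutation modules
-/

set_option autoImplicit false
open scoped TensorProduct
universe u v w

namespace Groth.Agent.H92.F2Sym

variable {V : Type v} [AddCommGroup V] [Module (ZMod 2) V]

/-- span of squares -/
def Na (V : Type v) [AddCommGroup V] [Module (ZMod 2) V] : Submodule (ZMod 2) (V ⊗[ZMod 2] V) :=
  Submodule.span (ZMod 2) (Set.range fun v : V => v ⊗ₜ[ZMod 2] v)

/-- span of symmetrised tensors -/
def Ns (V : Type v) [AddCommGroup V] [Module (ZMod 2) V] : Submodule (ZMod 2) (V ⊗[ZMod 2] V) :=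
  Submodule.span (ZMod 2) (Set.range fun p : V × V => p.1 ⊗ₜ[ZMod 2] p.2 + p.2 ⊗ₜ[ZMod 2] p.1)

theorem two_smul_zero (x : V ⊗[ZMod 2] V) : x + x = 0 := by
  rw [← two_smul (ZMod 2) x]
  have : (2 : ZMod 2) = 0 := by decide
  rw [this, zero_smul]

theorem Ns_le_Na : Ns V ≤ Na V := by
  unfold Ns Na
  rw [Submodule.span_le]
  rintro _ ⟨⟨x, y⟩, rfl⟩
  have h : x ⊗ₜ[ZMod 2] y + y ⊗ₜ[ZMod 2] x =
      (x + y) ⊗ₜ[ZMod 2] (x + y) - x ⊗ₜ[ZMod 2] x - y ⊗ₜ[ZMod 2] y := by
    rw [TensorProduct.add_tmul, TensorProduct.tmul_add, TensorProduct.tmul_add]; abel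
  simp only
  rw [h]
  refine Submodule.sub_mem _ (Submodule.sub_mem _ ?_ ?_) ?_ <;>
    exact Submodule.subset_span ⟨_, rfl⟩

theorem comm_of_mem_Na {x : V ⊗[ZMod 2] V} (hx : x ∈ Na V) :
    TensorProduct.comm (ZMod 2) V V x = x := by
  unfold Na at hx
  induction hx using Submodule.span_induction with
  | mem x hx => obtain ⟨v, rfl⟩ := hx; simp
  | zero => simp
  | add x y _ _ hx hy => rw [map_add, hx, hy]
  | smul a x _ hx => rw [map_smul, hx]

theorem add_comm_mem_Ns (y : V ⊗[ZMod 2] V) : y + TensorProduct.comm (ZMod 2) V V y ∈ Ns V := by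
  induction y using TensorProduct.induction_on with
  | zero => simp
  | tmul a b =>
    rw [TensorProduct.comm_tmul]
    exact Submodule.subset_span ⟨(a, b), rfl⟩
  | add y z hy hz =>
    rw [map_add]
    have : y + z + (TensorProduct.comm (ZMod 2) V V y + TensorProduct.comm (ZMod 2) V V z) =
        (y + TensorProduct.comm (ZMod 2) V V y) + (z + TensorProduct.comm (ZMod 2) V V z) := by abel
    rw [this]
    exact Submodule.add_mem _ hy hz

section basis
variable {ι : Type w} (b : Module.Basis ι (ZMod 2) V)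

theorem repr_comm (y : V ⊗[ZMod 2] V) (i j : ι) :
    (b.tensorProduct b).repr (TensorProduct.comm (ZMod 2) V V y) (i, j) =
      (b.tensorProduct b).repr y (j, i) := by
  induction y using TensorProduct.induction_on with
  | zero => simp
  | tmul m n =>
    rw [TensorProduct.comm_tmul, Module.Basis.tensorProduct_repr_tmul_apply,
      Module.Basis.tensorProduct_repr_tmul_apply, smul_eq_mul, smul_eq_mul, mul_comm]
  | add y z hy hz => simp only [map_add, Finsupp.add_apply, hy, hz]

/-- the off-diagonal subspace -/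
def Wof : Submodule (ZMod 2) (V ⊗[ZMod 2] V) :=
  Submodule.span (ZMod 2) ((b.tensorProduct b) '' {p : ι × ι | p.1 ≠ p.2})

theorem mem_Wof_iff (x : V ⊗[ZMod 2] V) : x ∈ Wof b ↔ ∀ i, (b.tensorProduct b).repr x (i, i) = 0 := by
  unfold Wof
  rw [Module.Basis.mem_span_image]
  constructor
  · intro h i
    by_contra hne
    have := h (Finsupp.mem_support_iff.mpr hne)
    exact this rfl
  · intro h p hp
    intro heq
    have hp' := Finsupp.mem_support_iff.mp hp
    apply hp'
    obtain ⟨i, j⟩ := p
    simp only at heq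
    subst heq
    exact h i

theorem Ns_le_Wof : Ns V ≤ Wof b := by
  unfold Ns
  rw [Submodule.span_le]
  rintro _ ⟨⟨x, y⟩, rfl⟩
  rw [SetLike.mem_coe, mem_Wof_iff]
  intro i
  simp only [map_add, Finsupp.add_apply, Module.Basis.tensorProduct_repr_tmul_apply, smul_eq_mul]
  rw [mul_comm]
  have : ∀ z : ZMod 2, z + z = 0 := by decide
  exact this _

theorem inf_eq : Wof b ⊓ Na V = Ns V := by
  classical
  apply le_antisymm
  · rintro x ⟨hxW, hxN⟩
    have hW := (mem_Wof_iff b x).mp hxW
    have hsym := comm_of_mem_Na hxN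
    letI : LinearOrder ι := IsWellOrder.linearOrder WellOrderingRel
    let B := b.tensorProduct b
    let c := (B.repr x).filter (fun p => p.1 < p.2)
    let y := B.repr.symm c
    have hy : ∀ i j, B.repr y (i, j) = if i < j then B.repr x (i, j) else 0 := by
      intro i j
      simp only [y, LinearEquiv.apply_symm_apply, c, Finsupp.filter_apply]
    have hxy : x = y + TensorProduct.comm (ZMod 2) V V y := by
      apply B.repr.injective
      ext ⟨i, j⟩
      rw [map_add, Finsupp.add_apply, repr_comm, hy, hy]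
      rcases lt_trichotomy i j with hij | hij | hij
      · rw [if_pos hij, if_neg (not_lt.mpr hij.le), add_zero]
      · subst hij
        rw [if_neg (lt_irrefl _), add_zero]
        exact hW i
      · rw [if_neg (not_lt.mpr hij.le), if_pos hij, zero_add]
        have := repr_comm b x i j
        rw [hsym] at this
        exact this
    rw [hxy]
    exact add_comm_mem_Ns y
  · exact le_inf (Ns_le_Wof b) Ns_le_Na

theorem sup_eq : Wof b ⊔ Na V = ⊤ := by
  rw [eq_top_iff, ← (b.tensorProduct b).span_eq, Submodule.span_le]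
  rintro _ ⟨⟨i, j⟩, rfl⟩
  by_cases hij : i = j
  · subst hij
    apply (le_sup_right : Na V ≤ Wof b ⊔ Na V)
    rw [Module.Basis.tensorProduct_apply]
    exact Submodule.subset_span ⟨b i, rfl⟩
  · apply (le_sup_left : Wof b ≤ Wof b ⊔ Na V)
    exact Submodule.subset_span ⟨(i, j), hij, rfl⟩

theorem Wof_stable (T : V →ₗ[ZMod 2] V) (hT : Function.Injective T) (hb : ∀ i, ∃ j, T (b i) = b j)
    (w : V ⊗[ZMod 2] V) (hw : w ∈ Wof b) : TensorProduct.map T T w ∈ Wof b := by
  have : (Wof b).map (TensorProduct.map T T) ≤ Wof b := by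
    unfold Wof
    rw [Submodule.map_span_le]
    rintro _ ⟨⟨i, j⟩, hij, rfl⟩
    rw [Module.Basis.tensorProduct_apply, TensorProduct.map_tmul]
    obtain ⟨i', hi'⟩ := hb i
    obtain ⟨j', hj'⟩ := hb j
    rw [hi', hj']
    refine Submodule.subset_span ⟨(i', j'), ?_, by rw [Module.Basis.tensorProduct_apply]⟩
    intro h
    simp only at h
    apply hij
    apply b.injective
    apply hT
    rw [hi', hj', h]
  exact this ⟨w, hw, rfl⟩

end basis


section more
variable {ι : Type w} (b : Module.Basis ι (ZMod 2) V)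

theorem comm_eq_self_of_repr (x : V ⊗[ZMod 2] V)
    (h : ∀ i j, (b.tensorProduct b).repr x (i, j) = (b.tensorProduct b).repr x (j, i)) :
    TensorProduct.comm (ZMod 2) V V x = x := by
  apply (b.tensorProduct b).repr.injective
  ext ⟨i, j⟩
  rw [repr_comm, h]

include b in
theorem mem_Ns_of_symm_diag (x : V ⊗[ZMod 2] V) (hsym : TensorProduct.comm (ZMod 2) V V x = x)
    (hdiag : ∀ i, (b.tensorProduct b).repr x (i, i) = 0) : x ∈ Ns V := by
  have h1 : x ∈ Wof b := (mem_Wof_iff b x).mpr hdiag
  classical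
  letI : LinearOrder ι := IsWellOrder.linearOrder WellOrderingRel
  let B := b.tensorProduct b
  let c := (B.repr x).filter (fun p => p.1 < p.2)
  let y := B.repr.symm c
  have hy : ∀ i j, B.repr y (i, j) = if i < j then B.repr x (i, j) else 0 := by
    intro i j
    simp only [y, LinearEquiv.apply_symm_apply, c, Finsupp.filter_apply]
  have hxy : x = y + TensorProduct.comm (ZMod 2) V V y := by
    apply B.repr.injective
    ext ⟨i, j⟩
    rw [map_add, Finsupp.add_apply, repr_comm, hy, hy]
    rcases lt_trichotomy i j with hij | hij | hij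
    · rw [if_pos hij, if_neg (not_lt.mpr hij.le), add_zero]
    · subst hij
      rw [if_neg (lt_irrefl _), add_zero]
      exact hdiag i
    · rw [if_neg (not_lt.mpr hij.le), if_pos hij, zero_add]
      have := repr_comm b x i j
      rw [hsym] at this
      exact this
  rw [hxy]
  exact add_comm_mem_Ns y

include b in
theorem mem_Na_of_symm [Fintype ι] (x : V ⊗[ZMod 2] V)
    (hsym : TensorProduct.comm (ZMod 2) V V x = x) : x ∈ Na V := by
  classical
  let d : V ⊗[ZMod 2] V := ∑ i, (b.tensorProduct b).repr x (i, i) • (b i ⊗ₜ[ZMod 2] b i)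
  have hd : d ∈ Na V := by
    refine Submodule.sum_mem _ fun i _ => Submodule.smul_mem _ _ ?_
    exact Submodule.subset_span ⟨b i, rfl⟩
  have hdc : TensorProduct.comm (ZMod 2) V V d = d := comm_of_mem_Na hd
  have hdr : ∀ i j, (b.tensorProduct b).repr d (i, j) =
      if i = j then (b.tensorProduct b).repr x (i, i) else 0 := by
    intro i j
    simp only [d, map_sum, map_smul, Finsupp.coe_finset_sum, Finsupp.coe_smul, Finset.sum_apply,
      Pi.smul_apply, Module.Basis.tensorProduct_repr_tmul_apply, Module.Basis.repr_self, smul_eq_mul,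
      Finsupp.single_apply]
    split_ifs with hij
    · subst hij
      rw [Finset.sum_eq_single i]
      · simp
      · intro k _ hk; simp [hk]
      · intro h; exact absurd (Finset.mem_univ _) h
    · apply Finset.sum_eq_zero
      intro k _
      by_cases hki : k = i
      · subst hki; simp [hij]
      · simp [hki]
  have h2 : x - d ∈ Ns V := by
    apply mem_Ns_of_symm_diag b
    · rw [map_sub, hsym, hdc]
    · intro i
      rw [map_sub, Finsupp.sub_apply, hdr, if_pos rfl, sub_self]
  have : x = (x - d) + d := by abel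
  rw [this]
  exact Submodule.add_mem _ (Ns_le_Na h2) hd

theorem repr_map [Fintype ι] (T : V →ₗ[ZMod 2] V) (x : V ⊗[ZMod 2] V) (i j : ι) :
    (b.tensorProduct b).repr (TensorProduct.map T T x) (i, j) =
      ∑ k : ι, ∑ l : ι, b.repr (T (b k)) i * b.repr (T (b l)) j *
        (b.tensorProduct b).repr x (k, l) := by
  induction x using TensorProduct.induction_on with
  | zero => simp
  | tmul m n =>
    rw [TensorProduct.map_tmul, Module.Basis.tensorProduct_repr_tmul_apply]
    simp only [Module.Basis.tensorProduct_repr_tmul_apply, smul_eq_mul]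
    conv_lhs => rw [← b.sum_repr m, ← b.sum_repr n]
    simp only [map_sum, map_smul, Finsupp.coe_finset_sum, Finsupp.coe_smul, Finset.sum_apply,
      Pi.smul_apply, smul_eq_mul]
    rw [Finset.sum_mul_sum, Finset.sum_comm]
    refine Finset.sum_congr rfl fun k _ => Finset.sum_congr rfl fun l _ => ?_
    ring
  | add y z hy hz =>
    simp only [map_add, Finsupp.add_apply, hy, hz, mul_add, Finset.sum_add_distrib]

end more

/-- main statement for permutation modules -/
theorem perm_split {G : Type u} [Group G] (ρ : Representation (ZMod 2) G V)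
    {ι : Type w} (b : Module.Basis ι (ZMod 2) V) (hb : ∀ g : G, ∀ i : ι, ∃ j : ι, ρ g (b i) = b j) :
    ∃ W : Submodule (ZMod 2) (V ⊗[ZMod 2] V),
      (∀ g : G, ∀ w ∈ W, ρ.tprod ρ g w ∈ W) ∧
      W ⊓ Submodule.span (ZMod 2) (Set.range fun v : V => v ⊗ₜ[ZMod 2] v) =
        Submodule.span (ZMod 2) (Set.range fun p : V × V => p.1 ⊗ₜ[ZMod 2] p.2 + p.2 ⊗ₜ[ZMod 2] p.1) ∧
      W ⊔ Submodule.span (ZMod 2) (Set.range fun v : V => v ⊗ₜ[ZMod 2] v) = ⊤ := by
  refine ⟨Wof b, ?_, inf_eq b, sup_eq b⟩
  intro g w hw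
  rw [Representation.tprod_apply]
  refine Wof_stable b (ρ g) ?_ (hb g) w hw
  intro x y hxy
  have := congrArg (ρ g⁻¹) hxy
  simpa [← Module.End.mul_apply, ← map_mul] using this

theorem neg_eq_self_zmod2 (x : V) : -x = x := by
  have h : x + x = 0 := by
    rw [← two_smul (ZMod 2) x]
    have : (2 : ZMod 2) = 0 := by decide
    rw [this, zero_smul]
  exact neg_eq_of_add_eq_zero_left h

/-- an involution of a finite-dimensional `𝔽₂`-space permutes some basis -/
theorem exists_perm_basis [Module.Finite (ZMod 2) V] (σ : V →ₗ[ZMod 2] V) (hσ : ∀ x, σ (σ x) = x) :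
    ∃ (ι : Type) (_ : Fintype ι) (B : Module.Basis ι (ZMod 2) V), ∀ i, ∃ j, σ (B i) = B j := by
  classical
  let N : V →ₗ[ZMod 2] V := σ + LinearMap.id
  have hN : ∀ x, N x = σ x + x := fun x => rfl
  have hNN : ∀ x, N (N x) = 0 := by
    intro x
    rw [hN, hN, map_add, hσ]
    have h2 : ∀ z : V, z + z = 0 := fun z => by
      have := neg_eq_self_zmod2 z
      rw [neg_eq_iff_add_eq_zero] at this
      exact this
    have : x + σ x + (σ x + x) = (x + x) + (σ x + σ x) := by abel
    rw [this, h2, h2, add_zero]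
  have hNσ : ∀ x, N (σ x) = N x := by
    intro x
    rw [hN, hN, hσ, add_comm]
  let I := LinearMap.range N
  let K := LinearMap.ker N
  have hIK : I ≤ K := by
    rintro _ ⟨x, rfl⟩
    exact hNN x
  obtain ⟨K'', hK''⟩ := Submodule.exists_isCompl I
  let K' := K ⊓ K''
  have hsup : I ⊔ K' = K := by
    change I ⊔ (K ⊓ K'') = K
    rw [inf_comm, ← sup_inf_assoc_of_le K'' hIK, hK''.sup_eq_top, top_inf_eq]
  have hinf : I ⊓ K' = ⊥ := by
    apply le_bot_iff.mp
    calc I ⊓ K' ≤ I ⊓ K'' := inf_le_inf_left _ inf_le_right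
      _ = ⊥ := hK''.inf_eq_bot
  let r := Module.finrank (ZMod 2) I
  let s := Module.finrank (ZMod 2) K'
  let c : Module.Basis (Fin r) (ZMod 2) I := Module.finBasis (ZMod 2) I
  let wb : Module.Basis (Fin s) (ZMod 2) K' := Module.finBasis (ZMod 2) K'
  have hv : ∀ k : Fin r, ∃ v : V, N v = (c k : V) := fun k => (c k).2
  choose v hv using hv
  let F : Fin r ⊕ (Fin r ⊕ Fin s) → V := Sum.elim v (Sum.elim (fun k => σ (v k)) (fun j => (wb j : V)))
  have hwK : ∀ j, N (wb j : V) = 0 := fun j => (wb j).2.1
  have hspan : ⊤ ≤ Submodule.span (ZMod 2) (Set.range F) := by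
    intro x _
    -- N x ∈ I
    have hNx : N x ∈ I := ⟨x, rfl⟩
    have h1 := c.sum_repr ⟨N x, hNx⟩
    have h1' : N x = ∑ k, (c.repr ⟨N x, hNx⟩ k) • (c k : V) := by
      have := congrArg (Submodule.subtype I) h1
      rw [map_sum] at this
      simp only [map_smul, Submodule.subtype_apply] at this
      exact this.symm
    let x0 : V := ∑ k, (c.repr ⟨N x, hNx⟩ k) • v k
    have hx0 : N x0 = N x := by
      rw [h1']
      simp only [x0, map_sum, map_smul, hv]
    have hx0mem : x0 ∈ Submodule.span (ZMod 2) (Set.range F) := by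
      refine Submodule.sum_mem _ fun k _ => Submodule.smul_mem _ _ ?_
      exact Submodule.subset_span ⟨Sum.inl k, rfl⟩
    have hdiff : x - x0 ∈ K := by
      change N (x - x0) = 0
      rw [map_sub, hx0, sub_self]
    have hKle : K ≤ Submodule.span (ZMod 2) (Set.range F) := by
      rw [← hsup]
      apply sup_le
      · rintro _ ⟨y, rfl⟩
        -- N y ∈ span: N y = Σ a_k c_k, c_k = σ v_k + v_k
        have hNy : N y ∈ I := ⟨y, rfl⟩
        have h2 := c.sum_repr ⟨N y, hNy⟩
        have h2' : N y = ∑ k, (c.repr ⟨N y, hNy⟩ k) • (c k : V) := by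
          have := congrArg (Submodule.subtype I) h2
          rw [map_sum] at this
          simp only [map_smul, Submodule.subtype_apply] at this
          exact this.symm
        rw [h2']
        refine Submodule.sum_mem _ fun k _ => Submodule.smul_mem _ _ ?_
        rw [← hv k, hN]
        exact Submodule.add_mem _ (Submodule.subset_span ⟨Sum.inr (Sum.inl k), rfl⟩)
          (Submodule.subset_span ⟨Sum.inl k, rfl⟩)
      · intro y hy
        have h3 := wb.sum_repr ⟨y, hy⟩
        have h3' : y = ∑ j, (wb.repr ⟨y, hy⟩ j) • (wb j : V) := by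
          have := congrArg (Submodule.subtype K') h3
          rw [map_sum] at this
          simp only [map_smul, Submodule.subtype_apply] at this
          exact this.symm
        rw [h3']
        refine Submodule.sum_mem _ fun j _ => Submodule.smul_mem _ _ ?_
        exact Submodule.subset_span ⟨Sum.inr (Sum.inr j), rfl⟩
    have : x = x0 + (x - x0) := by abel
    rw [this]
    exact Submodule.add_mem _ hx0mem (hKle hdiff)
  have hcard : Fintype.card (Fin r ⊕ (Fin r ⊕ Fin s)) = Module.finrank (ZMod 2) V := by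
    simp only [Fintype.card_sum, Fintype.card_fin]
    have h1 := LinearMap.finrank_range_add_finrank_ker N
    have h2 := Submodule.finrank_sup_add_finrank_inf_eq I K'
    rw [hsup, hinf, finrank_bot, add_zero] at h2
    change r + Module.finrank (ZMod 2) K = _ at h1
    change Module.finrank (ZMod 2) K = r + s at h2
    omega
  let B := basisOfTopLeSpanOfCardEqFinrank F hspan hcard
  have hB : ∀ i, B i = F i := fun i => by
    simp only [B, coe_basisOfTopLeSpanOfCardEqFinrank]
  refine ⟨_, inferInstance, B, ?_⟩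
  rintro (k | k | j)
  · exact ⟨Sum.inr (Sum.inl k), by rw [hB, hB]; rfl⟩
  · refine ⟨Sum.inl k, ?_⟩
    rw [hB, hB]
    change σ (σ (v k)) = v k
    exact hσ _
  · refine ⟨Sum.inr (Sum.inr j), ?_⟩
    rw [hB]
    change σ (wb j : V) = (wb j : V)
    have := hwK j
    rw [hN] at this
    have h4 : σ (wb j : V) = -(wb j : V) := eq_neg_of_add_eq_zero_left this
    rw [h4, neg_eq_self_zmod2]

end Groth.Agent.H92.F2Sym
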