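import Mathlib

/-!
helper92: for a morphism of short exact sequences of cochain complexes, if the outer maps are
quasi-isomorphisms then so is the middle one.
-/

set_option autoImplicit false
universe v u

open CategoryTheory CategoryTheory.Limits HomologicalComplex ComposableArrows Abelian

namespace Groth.Agent.H92

variable {C : Type u} [Category.{v} C] [Abelian C]

lemma quasiIso_τ₂_of_shortExact {S₁ S₂ : ShortComplex (CochainComplex C ℤ)} (φ : S₁ ⟶ S₂)
    (hS₁ : S₁.ShortExact) (hS₂ : S₂.ShortExact) (h₁ : QuasiIso φ.τ₁) (h₃ : QuasiIso φ.τ₃) :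
    QuasiIso φ.τ₂ := by
  rw [quasiIso_iff]
  intro j
  rw [quasiIsoAt_iff_isIso_homologyMap]
  have hij : (ComplexShape.up ℤ).Rel (j - 1) j := by simp
  have hjk : (ComplexShape.up ℤ).Rel j (j + 1) := by simp
  have hm : Mono (homologyMap φ.τ₂ j) := by
    have e2 : Epi (homologyMap φ.τ₃ (j - 1)) := inferInstance
    have e3 : Mono (homologyMap φ.τ₁ j) := inferInstance
    have e5 : Mono (homologyMap φ.τ₃ j) := inferInstance
    exact mono_of_epi_of_mono_of_mono
      ((δ₀Functor ⋙ δ₀Functor).map
        (HomologySequence.mapComposableArrows₅ φ hS₁ hS₂ (j - 1) j hij))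
      (HomologySequence.composableArrows₅_exact hS₁ (j - 1) j hij).δ₀.δ₀
      (HomologySequence.composableArrows₅_exact hS₂ (j - 1) j hij).δ₀.δ₀ e2 e3 e5
  have he : Epi (homologyMap φ.τ₂ j) := by
    have e0 : Epi (homologyMap φ.τ₁ j) := inferInstance
    have e2 : Epi (homologyMap φ.τ₃ j) := inferInstance
    have e3 : Mono (homologyMap φ.τ₁ (j + 1)) := inferInstance
    exact epi_of_epi_of_epi_of_mono
      ((δlastFunctor ⋙ δlastFunctor).map
        (HomologySequence.mapComposableArrows₅ φ hS₁ hS₂ j (j + 1) hjk))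
      (HomologySequence.composableArrows₅_exact hS₁ j (j + 1) hjk).δlast.δlast
      (HomologySequence.composableArrows₅_exact hS₂ j (j + 1) hjk).δlast.δlast e0 e2 e3
  exact isIso_of_mono_of_epi _

end Groth.Agent.H92
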