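import Mathlib

/-!
helper92: coproducts of families with finite support in a preadditive category with finite
biproducts, and their preservation by additive functors.
-/

set_option autoImplicit false

open CategoryTheory CategoryTheory.Limits

namespace Groth.Agent.H92.FinSupp

variable {C : Type*} [Category C] [Preadditive C] [HasFiniteBiproducts C]
  {D : Type*} [Category D] [Preadditive D]
  {ι : Type*} (f : ι → C) (s : Finset ι)

/-- the finite biproduct over the support -/
noncomputable abbrev pt : C := ⨁ (fun i : s => f i)

open Classical in
/-- the injections (zero outside the support) -/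
noncomputable def inj (i : ι) : f i ⟶ pt f s :=
  if h : i ∈ s then biproduct.ι (fun i : s => f i) ⟨i, h⟩ else 0

lemma inj_of_mem (i : ι) (h : i ∈ s) : inj f s i = biproduct.ι (fun i : s => f i) ⟨i, h⟩ := by
  simp [inj, h]

lemma inj_of_not_mem (i : ι) (h : i ∉ s) : inj f s i = 0 := by
  simp [inj, h]

variable (hf : ∀ i, i ∉ s → IsZero (f i))

include hf in
/-- the image under an additive functor of the cofan is a colimit -/
noncomputable def isColimitMap (G : C ⥤ D) [G.Additive] :
    IsColimit (Cofan.mk (G.obj (pt f s)) (fun i => G.map (inj f s i))) :=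
  Cofan.IsColimit.mk _ (fun t => ∑ i : s, G.map (biproduct.π (fun i : s => f i) i) ≫ t.inj i)
    (fun t j => by
      by_cases h : j ∈ s
      · change G.map (inj f s j) ≫ _ = _
        rw [inj_of_mem f s j h, Preadditive.comp_sum, Finset.sum_eq_single (⟨j, h⟩ : s)]
        · rw [← Category.assoc, ← G.map_comp, biproduct.ι_π_self, G.map_id, Category.id_comp]
        · intro b _ hb
          rw [← Category.assoc, ← G.map_comp, biproduct.ι_π_ne _ (Ne.symm hb), G.map_zero,
            zero_comp]
        · intro h'
          exact absurd (Finset.mem_univ _) h'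
      · exact (G.map_isZero (hf j h)).eq_of_src _ _)
    (fun t m hm => by
      have h1 : m = G.map (𝟙 (pt f s)) ≫ m := by rw [G.map_id, Category.id_comp]
      have ht : ∑ j : s, biproduct.π (fun i : s => f i) j ≫ biproduct.ι (fun i : s => f i) j =
          𝟙 (pt f s) := Limits.IsBilimit.total (biproduct.isBilimit (fun i : s => f i))
      rw [h1, ← ht, G.map_sum, Preadditive.sum_comp]
      refine Finset.sum_congr rfl (fun i _ => ?_)
      rw [G.map_comp, Category.assoc]
      congr 1
      have := hm i.1
      change G.map (inj f s i.1) ≫ m = _ at this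
      rw [inj_of_mem f s i.1 i.2] at this
      exact this)

include hf in
lemma hasCoproduct : HasCoproduct f :=
  HasColimit.mk ⟨_, isColimitMap f s hf (𝟭 C)⟩

include hf in
lemma preservesColimit (G : C ⥤ D) [G.Additive] : PreservesColimit (Discrete.functor f) G :=
  preservesColimit_of_preserves_colimit_cocone (isColimitMap f s hf (𝟭 C))
    ((isColimitMapCoconeCofanMkEquiv G _ _).symm (isColimitMap f s hf G))

/-- version with a finite set of nonzero objects -/
lemma hasCoproduct_of_finite (hfin : {i | ¬ IsZero (f i)}.Finite) : HasCoproduct f :=
  hasCoproduct f hfin.toFinset (fun i hi => by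
    by_contra h
    exact hi (hfin.mem_toFinset.2 h))

lemma preservesColimit_of_finite (hfin : {i | ¬ IsZero (f i)}.Finite) (G : C ⥤ D) [G.Additive] :
    PreservesColimit (Discrete.functor f) G :=
  preservesColimit f hfin.toFinset (fun i hi => by
    by_contra h
    exact hi (hfin.mem_toFinset.2 h)) G

end Groth.Agent.H92.FinSupp
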