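import Mathlib
import Groth.Agent.H34.TotQis
import Groth.Agent.H92.CEBasic
import Groth.Agent.H92.FinSupp

/-!
helper92: total complexes of bounded double complexes: existence, the augmentation morphism
`X ⟶ Tot L` attached to `e : X ⟶ L.X 0` killed by the outer differential, and the fact that it is
a quasi-isomorphism when `L` resolves `X` in the outer direction.
-/

set_option autoImplicit false
universe v u

open CategoryTheory CategoryTheory.Limits HomologicalComplex ComplexShape

namespace Groth.Agent.H92.TotAug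

section Preadd

variable {C : Type u} [Category.{v} C] [Preadditive C]

lemma mem_fiber_iff (n : ℤ) (i : ℤ × ℤ) :
    i ∈ (ComplexShape.π (up ℤ) (up ℤ) (up ℤ)) ⁻¹' {n} ↔ i.1 + i.2 = n := by
  obtain ⟨p, q⟩ := i
  simp

lemma finite_supp (L : HomologicalComplex₂ C (up ℤ) (up ℤ))
    (a b : ℤ) (hL : ∀ p q : ℤ, p < a ∨ q < b → IsZero ((L.X p).X q)) (n : ℤ) :
    {i | ¬ IsZero (L.toGradedObject.mapObjFun (ComplexShape.π (up ℤ) (up ℤ) (up ℤ)) n i)}.Finite := by
  refine Set.Finite.of_injOn (f := fun i => i.1.1) (t := Set.Icc a (n - b)) ?_ ?_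
    (Set.finite_Icc a (n - b))
  · intro i hi
    have h : i.1.1 + i.1.2 = n := (mem_fiber_iff n i.1).1 i.2
    have hi' : ¬ IsZero ((L.X i.1.1).X i.1.2) := hi
    simp only [Set.mem_Icc]
    by_contra hcon
    apply hi'
    apply hL
    omega
  · intro i _ j _ hij
    have h1 : i.1.1 + i.1.2 = n := (mem_fiber_iff n i.1).1 i.2
    have h2 : j.1.1 + j.1.2 = n := (mem_fiber_iff n j.1).1 j.2
    have hij' : i.1.1 = j.1.1 := hij
    apply Subtype.ext
    apply Prod.ext
    · exact hij'
    · omega

/-- a double complex vanishing for `p < a` or `q < b` has a total complex -/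
lemma hasTotal_of_bounds [HasFiniteBiproducts C] (L : HomologicalComplex₂ C (up ℤ) (up ℤ))
    (a b : ℤ) (hL : ∀ p q : ℤ, p < a ∨ q < b → IsZero ((L.X p).X q)) : L.HasTotal (up ℤ) :=
  fun n => FinSupp.hasCoproduct_of_finite _ (finite_supp L a b hL n)

/-- an additive functor preserves the coproducts defining the total complex of a bounded double
complex -/
lemma preservesColimit_of_bounds [HasFiniteBiproducts C] {D : Type*} [Category D] [Preadditive D]
    (L : HomologicalComplex₂ C (up ℤ) (up ℤ))
    (a b : ℤ) (hL : ∀ p q : ℤ, p < a ∨ q < b → IsZero ((L.X p).X q)) (G : C ⥤ D) [G.Additive]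
    (n : ℤ) : PreservesColimit
      (Discrete.functor (L.toGradedObject.mapObjFun (ComplexShape.π (up ℤ) (up ℤ) (up ℤ)) n)) G :=
  FinSupp.preservesColimit_of_finite _ (finite_supp L a b hL n) G

variable (L : HomologicalComplex₂ C (up ℤ) (up ℤ)) [L.HasTotal (up ℤ)]

/-- inclusion of a summand, with arithmetic hypothesis -/
noncomputable abbrev ι (p q n : ℤ) (h : p + q = n) : (L.X p).X q ⟶ (L.total (up ℤ)).X n :=
  L.ιTotal (up ℤ) p q n h

@[reassoc]
lemma ι_d (p q n p' q' n' : ℤ) (h : p + q = n) (hp : p + 1 = p') (hq : q + 1 = q')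
    (hn : n + 1 = n') :
    ι L p q n h ≫ (L.total (up ℤ)).d n n' =
      (L.d p p').f q ≫ ι L p' q n' (by omega) +
        p.negOnePow • ((L.X p).d q q' ≫ ι L p q' n' (by omega)) := by
  rw [HomologicalComplex₂.total_d, Preadditive.comp_add, HomologicalComplex₂.ι_D₁,
    HomologicalComplex₂.ι_D₂, L.d₁_eq (up ℤ) (show (up ℤ).Rel p p' from hp) q n' (by simp; omega),
    L.d₂_eq (up ℤ) p (show (up ℤ).Rel q q' from hq) n' (by simp; omega)]
  simp

/-- projection onto a summand of the total complex -/
noncomputable def π (p q n : ℤ) (_ : p + q = n) : (L.total (up ℤ)).X n ⟶ (L.X p).X q :=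
  L.totalDesc (fun p' q' _ => if hp : p' = p ∧ q' = q then eqToHom (by rw [hp.1, hp.2]) else 0)

@[reassoc (attr := simp)]
lemma ι_π_self (p q n : ℤ) (h : p + q = n) : ι L p q n h ≫ π L p q n h = 𝟙 _ := by
  simp [ι, π]

variable (X : CochainComplex C ℤ) (e : X ⟶ L.X 0) (he : e ≫ L.d 0 1 = 0)

/-- the augmentation `X ⟶ Tot L` -/
noncomputable def totAug : X ⟶ L.total (up ℤ) where
  f n := e.f n ≫ ι L 0 n n (by omega)
  comm' n n' h := by
    obtain rfl : n + 1 = n' := h
    have h0 : e.f n ≫ (L.d 0 1).f n = 0 := by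
      rw [← HomologicalComplex.comp_f, he, HomologicalComplex.zero_f]
    rw [Category.assoc, ι_d L 0 n n 1 (n + 1) (n + 1) (by omega) (by omega) rfl rfl,
      Preadditive.comp_add, reassoc_of% h0, zero_comp, zero_add, Int.negOnePow_zero, one_smul,
      ← Category.assoc, ← Category.assoc, e.comm n (n + 1)]

lemma totAug_f (n : ℤ) : (totAug L X e he).f n = e.f n ≫ ι L 0 n n (by omega) := rfl

lemma ι_π_ne (p q n : ℤ) (h : p + q = n) (p' q' : ℤ) (h' : p' + q' = n) (hne : p' ≠ p) :
    ι L p' q' n h' ≫ π L p q n h = 0 := by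
  simp only [ι, π, HomologicalComplex₂.ι_totalDesc]
  rw [dif_neg]
  rintro ⟨h1, -⟩
  exact hne h1

end Preadd

section Abelian

variable {A : Type u} [Category.{v} A] [Abelian A]
  (L : HomologicalComplex₂ A (up ℤ) (up ℤ)) [L.HasTotal (up ℤ)]
  (X : CochainComplex A ℤ) (e : X ⟶ L.X 0) (he : e ≫ L.d 0 1 = 0)

/-- the single row double complex -/
noncomputable abbrev rowCx : HomologicalComplex₂ A (up ℤ) (up ℤ) :=
  (HomologicalComplex.single (CochainComplex A ℤ) (up ℤ) 0).obj X

lemma isZero_rowCx (a : ℤ) (hX : ∀ q : ℤ, q < a → IsZero (X.X q)) (p q : ℤ)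
    (h : p < 0 ∨ q < a) : IsZero (((rowCx X).X p).X q) := by
  by_cases hp : p = 0
  · subst hp
    have hq : q < a := by omega
    exact IsZero.of_iso (hX q hq) ((HomologicalComplex.eval A (up ℤ) q).mapIso
      (singleObjXSelf (up ℤ) 0 X))
  · exact Functor.map_isZero (HomologicalComplex.eval A (up ℤ) q)
      (isZero_single_obj_X (up ℤ) 0 X p hp)

include he in
/-- If `L` resolves `X` in the outer direction, then `X ⟶ Tot L` is a quasi-isomorphism. -/
theorem quasiIso_totAug (a : ℤ) (hL : ∀ p q : ℤ, p < 0 ∨ q < a → IsZero ((L.X p).X q))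
    (hX : ∀ q : ℤ, q < a → IsZero (X.X q))
    (hq : QuasiIso (CEres.augHom L e he)) : QuasiIso (totAug L X e he) := by
  have hK := isZero_rowCx X a hX
  have : HasFiniteBiproducts A := Abelian.hasFiniteBiproducts
  have : (rowCx X).HasTotal (up ℤ) := hasTotal_of_bounds _ 0 a hK
  have h1 : QuasiIso (HomologicalComplex₂.total.map (CEres.augHom L e he) (up ℤ)) :=
    Groth.Agent.H34.TotQis.quasiIso_total_map (CEres.augHom L e he) 0 a hK hL
  -- the isomorphism `X ≅ Tot (rowCx X)`
  let κ : X ⟶ (rowCx X).total (up ℤ) :=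
    totAug (rowCx X) X (singleObjXSelf (up ℤ) 0 X).inv (by
      rw [HomologicalComplex.single_obj_d, comp_zero])
  have hκ : ∀ n, IsIso (κ.f n) := by
    intro n
    refine ⟨π (rowCx X) 0 n n (by omega) ≫ (singleObjXSelf (up ℤ) 0 X).hom.f n, ?_, ?_⟩
    · rw [totAug_f, Category.assoc, ι_π_self_assoc, ← HomologicalComplex.comp_f,
        Iso.inv_hom_id, HomologicalComplex.id_f]
    · rw [totAug_f, Category.assoc, ← Category.assoc _ _ (ι (rowCx X) 0 n n _),
        ← HomologicalComplex.comp_f, Iso.hom_inv_id, HomologicalComplex.id_f, Category.id_comp]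
      apply HomologicalComplex₂.total.hom_ext
      intro p q hpq
      have hpq' : p + q = n := by simpa using hpq
      by_cases hp : p = 0
      · subst hp
        obtain rfl : q = n := by omega
        change ι (rowCx X) 0 q q _ ≫ _ = ι (rowCx X) 0 q q _ ≫ _
        rw [ι_π_self_assoc, Category.comp_id]
      · apply IsZero.eq_of_src
        exact Functor.map_isZero (HomologicalComplex.eval A (up ℤ) q)
          (isZero_single_obj_X (up ℤ) 0 X p hp)
  have : IsIso κ := HomologicalComplex.Hom.isIso_of_components κ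
  have hfac : totAug L X e he = κ ≫ HomologicalComplex₂.total.map (CEres.augHom L e he) (up ℤ) := by
    ext n
    rw [HomologicalComplex.comp_f, totAug_f, totAug_f, Category.assoc]
    erw [HomologicalComplex₂.ιTotal_map]
    rw [CEres.augHom_f, HomologicalComplex.comp_f, ← Category.assoc, ← Category.assoc,
      ← HomologicalComplex.comp_f, Iso.inv_hom_id, HomologicalComplex.id_f, Category.id_comp]
  rw [hfac]
  infer_instance

end Abelian

end Groth.Agent.H92.TotAug
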