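import Mathlib
import Groth.Agent.H6.FilDHorseshoe
import Groth.Agent.H6.FilDResMap
import Groth.Agent.H6.FilDResolution
import Groth.Agent.H6.FilDCut
import Groth.Agent.H6.FilDBiprod
import Groth.Agent.H6.FilDShift
import Groth.Agent.H35.TotalMap
import Groth.Agent.H92.TotAug
import Groth.Agent.H92.QisTau2
import Groth.Agent.H92.CEBasic

/-!
helper92: filtered injective resolutions of bounded below complexes of finite filtered objects
(Cartan–Eilenberg type construction in `Fil^f(A)`, then total complex).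
-/

set_option autoImplicit false
set_option linter.unusedSectionVars false
universe v u

open CategoryTheory CategoryTheory.Limits Opposite HomologicalComplex ZeroObject

namespace Groth.Agent.H92.FilCE

open FilD Groth.Agent.H6.FilDLib

variable {A : Type u} [Category.{v} A] [Abelian A]

section KerCoim

variable (K : CochainComplex (FilF A) ℤ)

/-- the cycles -/
noncomputable abbrev Zo (a : ℤ) : FilF A := kerObj (K.d a (a + 1))

/-- the inclusion of the cycles -/
noncomputable abbrev iZo (a : ℤ) : Zo K a ⟶ K.X a := kerι (K.d a (a + 1))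

/-- the coimage of the differential -/
noncomputable abbrev Co (a : ℤ) : FilF A := cokerObj (iZo K a) (isStrict_kerι _)

/-- the projection to the coimage -/
noncomputable abbrev pC (a : ℤ) : K.X a ⟶ Co K a := cokerProj (iZo K a) (isStrict_kerι _)

/-- the map to the next cycles -/
noncomputable def toZ (a : ℤ) : K.X a ⟶ Zo K (a + 1) :=
  ObjectProperty.homMk (kernel.lift (K.d (a + 1) (a + 1 + 1)).hom (K.d a (a + 1)).hom (by
    have := K.d_comp_d a (a + 1) (a + 1 + 1)
    exact congrArg (fun f => f.hom) this))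

@[reassoc]
lemma toZ_iZo (a : ℤ) : toZ K a ≫ iZo K (a + 1) = K.d a (a + 1) := by
  apply ObjectProperty.hom_ext
  exact kernel.lift_ι _ _ _

lemma iZo_toZ (a : ℤ) : iZo K a ≫ toZ K a = 0 := by
  rw [← cancel_mono (iZo K (a + 1)), Category.assoc, toZ_iZo, zero_comp]
  exact kerι_comp _

/-- the map from the coimage to the next cycles -/
noncomputable def uC (a : ℤ) : Co K a ⟶ Zo K (a + 1) :=
  ObjectProperty.homMk (cokernel.desc (iZo K a).hom (toZ K a).hom (by
    have := iZo_toZ K a
    exact congrArg (fun f => f.hom) this))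

@[reassoc]
lemma pC_uC (a : ℤ) : pC K a ≫ uC K a = toZ K a := by
  apply ObjectProperty.hom_ext
  exact cokernel.π_desc _ _ _

@[reassoc]
lemma pC_uC_iZo (a : ℤ) : pC K a ≫ uC K a ≫ iZo K (a + 1) = K.d a (a + 1) := by
  rw [← Category.assoc, pC_uC, toZ_iZo]

/-- the short complex `Z ⟶ K ⟶ Coim` -/
noncomputable abbrev sesZ (a : ℤ) : ShortComplex (FilF A) :=
  ShortComplex.mk (iZo K a) (pC K a) (comp_cokerProj _ _)

lemma sesZ_levelwise (a : ℤ) (p : ℤ) :
    ((sesZ K a).map ((IsFinFil A).ι ⋙ (evaluation ℤᵒᵖ A).obj (op p))).ShortExact := by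
  have hm : Mono (app (iZo K a) p) := mono_app_of_mono _ p
  have he : Epi (app (pC K a) p) := epi_app_cokerProj _ _ p
  refine ShortComplex.ShortExact.mk' ?_ hm he
  rw [ShortComplex.exact_iff_exact_up_to_refinements]
  intro T y hy
  exact (app_cokerProj_eq_zero_iff (iZo K a) (isStrict_kerι _) p y).1 hy

lemma sesZ_gr (a : ℤ) (p : ℤ) : ((sesZ K a).map (grF A p)).ShortExact := by
  have hm : Mono ((grF A p).map (iZo K a)) :=
    mono_gr_of_mono_of_isStrict (iZo K a) (isStrict_kerι _) p
  have he : Epi ((grF A p).map (pC K a)) := epi_gr_cokerProj _ _ p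
  exact ShortComplex.ShortExact.mk' (gr_exact_cokerProj (iZo K a) (isStrict_kerι _) p) hm he

lemma isZero_FilF_of_lev (X : FilF A) (h : ∀ p : ℤ, IsZero (lev X p)) : IsZero X := by
  have h1 : IsZero X.obj := (Functor.isZero_iff _).2 (fun q => h q.unop)
  rw [IsZero.iff_id_eq_zero]
  apply ObjectProperty.hom_ext
  exact h1.eq_of_src _ _

lemma isZero_lev_of_isZero {X : FilF A} (h : IsZero X) (p : ℤ) : IsZero (lev X p) :=
  Functor.map_isZero ((IsFinFil A).ι ⋙ (evaluation ℤᵒᵖ A).obj (op p)) h

lemma isZero_Zo (a : ℤ) (h : IsZero (K.X a)) : IsZero (Zo K a) :=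
  IsZero.of_mono (iZo K a) h

lemma isZero_Co (a : ℤ) (h : IsZero (K.X a)) : IsZero (Co K a) := by
  apply isZero_FilF_of_lev
  intro p
  have : Epi (app (pC K a) p) := epi_app_cokerProj _ _ p
  exact IsZero.of_epi (app (pC K a) p) (isZero_lev_of_isZero h p)

end KerCoim

section Res

lemma quasiIso_of_isZero_X {C : Type*} [Category C] [Abelian C] {K L : CochainComplex C ℤ}
    (f : K ⟶ L) (hK : ∀ i, IsZero (K.X i)) (hL : ∀ i, IsZero (L.X i)) : QuasiIso f := by
  rw [quasiIso_iff]
  intro i
  rw [quasiIsoAt_iff_exactAt f i (ExactAt.of_isZero (hK i))]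
  exact ExactAt.of_isZero (hL i)

/-- filtered injective resolutions of objects, zero for zero objects -/
theorem exists_res_fil [EnoughInjectives A] (Z : FilF A) :
    ∃ (I : CochainComplex (FilF A) ℤ)
      (c : (CochainComplex.singleFunctor (FilF A) 0).obj Z ⟶ I), I.IsStrictlyGE 0 ∧
      (∀ n, IsFilteredInjective (I.X n)) ∧ IsFilteredQuasiIso c ∧
      (IsZero Z → ∀ n, IsZero (I.X n)) := by
  by_cases hZ : IsZero Z
  · have hz : ∀ n : ℤ, IsZero ((0 : CochainComplex (FilF A) ℤ).X n) := fun n =>
      Functor.map_isZero (HomologicalComplex.eval (FilF A) (ComplexShape.up ℤ) n) (isZero_zero _)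
    refine ⟨0, 0, ?_, fun n p => ?_, fun p => ?_, fun _ => hz⟩
    · rw [CochainComplex.isStrictlyGE_iff]
      intro i _
      exact hz i
    · exact (Functor.map_isZero (grF A p) (hz n)).injective
    · apply quasiIso_of_isZero_X
      · intro i
        refine Functor.map_isZero (grF A p) ?_
        by_cases hi : i = 0
        · subst hi
          exact IsZero.of_iso hZ (single0Iso Z)
        · exact HomologicalComplex.isZero_single_obj_X _ _ _ _ hi
      · intro i
        exact Functor.map_isZero (grF A p) (hz i)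
  · obtain ⟨I, c, h1, h2, h3⟩ := exists_filteredInjective_resolution_single Z
    exact ⟨I, c, h1, h2, h3, fun h => absurd h hZ⟩

/-- the horseshoe lemma in `Fil^f(A)`, with the middle augmentation a filtered quasi-isomorphism -/
theorem horseshoe_fqis [EnoughInjectives A] (S : ShortComplex (FilF A))
    (hS : ∀ p : ℤ, (S.map ((IsFinFil A).ι ⋙ (evaluation ℤᵒᵖ A).obj (op p))).ShortExact)
    (hSgr : ∀ p : ℤ, (S.map (grF A p)).ShortExact)
    (I : CochainComplex (FilF A) ℤ) [I.IsStrictlyGE 0] (hI : ∀ n, IsFilteredInjective (I.X n))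
    (a : (CochainComplex.singleFunctor (FilF A) 0).obj S.X₁ ⟶ I) (ha : IsFilteredQuasiIso a)
    (J : CochainComplex (FilF A) ℤ) [J.IsStrictlyGE 0] (hJ : ∀ n, IsFilteredInjective (J.X n))
    (c : (CochainComplex.singleFunctor (FilF A) 0).obj S.X₃ ⟶ J) (hc : IsFilteredQuasiIso c) :
    ∃ (M : CochainComplex (FilF A) ℤ) (α : I ⟶ M) (β : M ⟶ J)
      (b : (CochainComplex.singleFunctor (FilF A) 0).obj S.X₂ ⟶ M),
      α ≫ β = 0 ∧
      a ≫ α = (CochainComplex.singleFunctor (FilF A) 0).map S.f ≫ b ∧
      b ≫ β = (CochainComplex.singleFunctor (FilF A) 0).map S.g ≫ c ∧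
      M.IsStrictlyGE 0 ∧ (∀ n, IsFilteredInjective (M.X n)) ∧ IsFilteredQuasiIso b ∧
      (∀ n, IsZero (I.X n) → IsZero (J.X n) → IsZero (M.X n)) := by
  obtain ⟨M, α, β, b, hsplit, h1, h2⟩ := horseshoe S hS I hI a J c hc
  have hαβ : α ≫ β = 0 := by
    refine HomologicalComplex.hom_ext _ _ (fun n => ?_)
    obtain ⟨r, s, _, _, h, _⟩ := hsplit n
    exact h
  have hzero : ∀ n, IsZero (I.X n) → IsZero (J.X n) → IsZero (M.X n) := by
    intro n hIn hJn
    obtain ⟨r, s, _, _, _, h⟩ := hsplit n
    rw [IsZero.iff_id_eq_zero, ← h, hIn.eq_of_tgt r 0, hJn.eq_of_src s 0, zero_comp, comp_zero,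
      add_zero]
  have hGE : M.IsStrictlyGE 0 := by
    rw [CochainComplex.isStrictlyGE_iff]
    intro i hi
    exact hzero i (I.isZero_of_isStrictlyGE 0 i hi) (J.isZero_of_isStrictlyGE 0 i hi)
  have hinj : ∀ n, IsFilteredInjective (M.X n) := by
    intro n p
    obtain ⟨r, s, h3, h4, h5, h6⟩ := hsplit n
    have := hI n p
    have := hJ n p
    let R : Retract ((grF A p).obj (M.X n)) ((grF A p).obj (I.X n) ⊞ (grF A p).obj (J.X n)) :=
      { i := biprod.lift ((grF A p).map r) ((grF A p).map (β.f n))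
        r := biprod.desc ((grF A p).map (α.f n)) ((grF A p).map s)
        retract := by
          rw [biprod.lift_desc, ← Functor.map_comp, ← Functor.map_comp, ← Functor.map_add, h6,
            CategoryTheory.Functor.map_id] }
    exact R.injective
  refine ⟨M, α, β, b, hαβ, h1, h2, hGE, hinj, ?_, hzero⟩
  -- `b` is a filtered quasi-isomorphism
  intro p
  let G := grF A p
  let Gc := grCx (A := A) p
  -- the short exact sequence of resolutions
  let S₂ : ShortComplex (CochainComplex A ℤ) :=
    ShortComplex.mk (Gc.map α) (Gc.map β) (by rw [← Functor.map_comp, hαβ, Functor.map_zero])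
  have hS₂ : S₂.ShortExact := by
    apply HomologicalComplex.shortExact_of_degreewise_shortExact
    intro n
    obtain ⟨r, s, h3, h4, h5, h6⟩ := hsplit n
    let sp : (S₂.map (HomologicalComplex.eval A (ComplexShape.up ℤ) n)).Splitting :=
      { r := G.map r
        s := G.map s
        f_r := by
          change G.map (α.f n) ≫ G.map r = 𝟙 _
          rw [← Functor.map_comp, h3, CategoryTheory.Functor.map_id]
        s_g := by
          change G.map s ≫ G.map (β.f n) = 𝟙 _
          rw [← Functor.map_comp, h4, CategoryTheory.Functor.map_id]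
        id := by
          change G.map r ≫ G.map (α.f n) + G.map (β.f n) ≫ G.map s = 𝟙 _
          rw [← Functor.map_comp, ← Functor.map_comp, ← Functor.map_add, h6, CategoryTheory.Functor.map_id] }
    exact sp.shortExact
  -- the short exact sequence of single complexes
  let S₁ : ShortComplex (CochainComplex A ℤ) :=
    ShortComplex.mk (Gc.map ((CochainComplex.singleFunctor (FilF A) 0).map S.f))
      (Gc.map ((CochainComplex.singleFunctor (FilF A) 0).map S.g))
      (by rw [← Functor.map_comp, ← Functor.map_comp, S.zero, Functor.map_zero, Functor.map_zero])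
  have hS₁ : S₁.ShortExact := by
    let e := HomologicalComplex.singleMapHomologicalComplex G (ComplexShape.up ℤ) 0
    have hT : ((S.map G).map (HomologicalComplex.single A (ComplexShape.up ℤ) 0)).ShortExact :=
      (hSgr p).map_of_exact _
    refine ShortComplex.shortExact_of_iso (ShortComplex.isoMk (e.app S.X₁) (e.app S.X₂)
      (e.app S.X₃) ?_ ?_).symm hT
    · exact (e.hom.naturality S.f).symm
    · exact (e.hom.naturality S.g).symm
  let φ : S₁ ⟶ S₂ :=
    { τ₁ := Gc.map a
      τ₂ := Gc.map b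
      τ₃ := Gc.map c
      comm₁₂ := by
        change Gc.map a ≫ Gc.map α = Gc.map _ ≫ Gc.map b
        rw [← Functor.map_comp, ← Functor.map_comp, h1]
      comm₂₃ := by
        change Gc.map b ≫ Gc.map β = Gc.map _ ≫ Gc.map c
        rw [← Functor.map_comp, ← Functor.map_comp, h2] }
  exact quasiIso_τ₂_of_shortExact φ hS₁ hS₂ (ha p) (hc p)

end Res


section Total

lemma isZero_of_isZero_X {C : Type*} [Category C] [HasZeroMorphisms C] {ι : Type*}
    {c : ComplexShape ι} (K : HomologicalComplex C c) (h : ∀ i, IsZero (K.X i)) : IsZero K := by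
  rw [IsZero.iff_id_eq_zero]
  ext i
  exact (h i).eq_of_src _ _

/-- the components of the total complex of a bounded double complex with injective entries are
injective -/
lemma injective_total_X {C : Type u} [Category.{v} C] [Abelian C]
    (L : HomologicalComplex₂ C (ComplexShape.up ℤ) (ComplexShape.up ℤ))
    [L.HasTotal (ComplexShape.up ℤ)] (a b : ℤ)
    (hL : ∀ p q : ℤ, p < a ∨ q < b → IsZero ((L.X p).X q))
    (hinj : ∀ p q : ℤ, Injective ((L.X p).X q)) (n : ℤ) :
    Injective ((L.total (ComplexShape.up ℤ)).X n) := by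
  constructor
  intro Y Z g f hf
  have hid := Groth.Agent.H34.TotQis.id_eq_sum L a b hL n
  have : ∀ q : ℤ, ∃ h : Z ⟶ (L.X (n - q)).X q,
      f ≫ h = g ≫ Groth.Agent.H34.TotQis.π L (n - q) q n (by omega) := by
    intro q
    have := hinj (n - q) q
    exact ⟨Injective.factorThru (g ≫ Groth.Agent.H34.TotQis.π L (n - q) q n (by omega)) f,
      Injective.comp_factorThru _ _⟩
  choose h hh using this
  refine ⟨∑ q ∈ Finset.Icc b (n - a), h q ≫ Groth.Agent.H34.TotQis.ι L (n - q) q n (by omega), ?_⟩
  rw [Preadditive.comp_sum]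
  conv_rhs => rw [← Category.comp_id g, hid, Preadditive.comp_sum]
  refine Finset.sum_congr rfl (fun q _ => ?_)
  rw [← Category.assoc, hh q, Category.assoc]

variable (M : ℤ → CochainComplex (FilF A) ℤ) (D : ∀ a, M a ⟶ M (a + 1))
  (hD : ∀ a, D a ≫ D (a + 1) = 0)

/-- the double complex, first index = position in `K` -/
noncomputable def dblJ : CochainComplex (CochainComplex (FilF A) ℤ) ℤ := CochainComplex.of M D hD

/-- the double complex, first index = resolution degree -/
noncomputable def dblL : HomologicalComplex₂ (FilF A) (ComplexShape.up ℤ) (ComplexShape.up ℤ) :=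
  HomologicalComplex₂.flip (dblJ M D hD)

lemma dblL_X_d (n a : ℤ) : ((dblL M D hD).X n).d a (a + 1) = (D a).f n := by
  change ((dblJ M D hD).d a (a + 1)).f n = _
  have : (dblJ M D hD).d a (a + 1) = D a := CochainComplex.of_d M D a
  rw [this]

lemma dblL_d_f (n n' a : ℤ) : ((dblL M D hD).d n n').f a = (M a).d n n' := rfl

variable (K : CochainComplex (FilF A) ℤ)
  (b : ∀ a, (CochainComplex.singleFunctor (FilF A) 0).obj (K.X a) ⟶ M a)
  (hcomm : ∀ a, b a ≫ D a =
    (CochainComplex.singleFunctor (FilF A) 0).map (K.d a (a + 1)) ≫ b (a + 1))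

lemma single0_map_f {X Y : FilF A} (f : X ⟶ Y) :
    ((CochainComplex.singleFunctor (FilF A) 0).map f).f 0 =
      (single0Iso X).hom ≫ f ≫ (single0Iso Y).inv :=
  HomologicalComplex.single_map_f_self (c := ComplexShape.up ℤ) 0 f

/-- the augmentation into the zeroth row -/
noncomputable def dblE : K ⟶ (dblL M D hD).X 0 where
  f a := single0Comp (b a)
  comm' a a' h := by
    obtain rfl : a + 1 = a' := h
    rw [dblL_X_d]
    have h0 : (b a).f 0 ≫ (D a).f 0 =
        ((CochainComplex.singleFunctor (FilF A) 0).map (K.d a (a + 1))).f 0 ≫ (b (a + 1)).f 0 := by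
      rw [← HomologicalComplex.comp_f, hcomm a, HomologicalComplex.comp_f]
    change ((single0Iso _).inv ≫ (b a).f 0) ≫ (D a).f 0 =
      K.d a (a + 1) ≫ ((single0Iso _).inv ≫ (b (a + 1)).f 0)
    rw [Category.assoc, h0, single0_map_f, Category.assoc, Category.assoc, Iso.inv_hom_id_assoc]

lemma dblE_f (a : ℤ) : (dblE M D hD K b hcomm).f a = single0Comp (b a) := rfl

lemma dblE_d : dblE M D hD K b hcomm ≫ (dblL M D hD).d 0 1 = 0 := by
  refine HomologicalComplex.hom_ext _ _ (fun a => ?_)
  rw [HomologicalComplex.comp_f, dblL_d_f, dblE_f, HomologicalComplex.zero_f]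
  exact single0Comp_d (b a)


section Gr

variable (hGE : ∀ a, (M a).IsStrictlyGE 0) (hb : ∀ a, IsFilteredQuasiIso (b a)) (p : ℤ)

/-- the graded double complex -/
noncomputable abbrev grL : HomologicalComplex₂ A (ComplexShape.up ℤ) (ComplexShape.up ℤ) :=
  Groth.Agent.H35.TotalMap.mapBicomplex (dblL M D hD) (grF A p)

/-- the graded augmentation -/
noncomputable abbrev grE : (grCx p).obj K ⟶ (grL M D hD p).X 0 :=
  (grCx p).map (dblE M D hD K b hcomm)

lemma grE_d : grE M D hD K b hcomm p ≫ (grL M D hD p).d 0 1 = 0 := by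
  change (grCx p).map (dblE M D hD K b hcomm) ≫ (grCx p).map ((dblL M D hD).d 0 1) = 0
  rw [← Functor.map_comp, dblE_d, Functor.map_zero]

include hGE in
lemma isZero_grL_X (n : ℤ) (hn : n < 0) : IsZero ((grL M D hD p).X n) := by
  apply isZero_of_isZero_X
  intro a
  have := hGE a
  exact Functor.map_isZero (grF A p) ((M a).isZero_of_isStrictlyGE 0 n hn)

include hGE hb in
lemma quasiIso_augHom_gr :
    QuasiIso (CEres.augHom (grL M D hD p) (grE M D hD K b hcomm p) (grE_d M D hD K b hcomm p)) := by
  have hge : CochainComplex.IsStrictlyGE (grL M D hD p) 0 := by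
    rw [CochainComplex.isStrictlyGE_iff]
    intro n hn
    exact isZero_grL_X M D hD hGE p n hn
  rw [CEres.quasiIso_from_single_iff]
  refine ⟨fun n hn => ?_, ?_⟩
  · by_cases hn0 : n < 0
    · exact HomologicalComplex.ExactAt.of_isZero (isZero_grL_X M D hD hGE p n hn0)
    · obtain ⟨m, rfl⟩ : ∃ m, n = m + 1 := ⟨n - 1, by ring⟩
      have hm : 0 ≤ m := by omega
      rw [HomologicalComplex.exactAt_iff' _ m (m + 1) (m + 1 + 1) (by simp) (by simp)]
      apply HomologicalComplex.exact_of_degreewise_exact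
      intro a
      exact gr_exact_of_resolution (b a) (hb a) m hm p
  · have key := (CEres.exact_mono_comp_iso_iff
      (HomologicalComplex.singleObjXSelf (ComplexShape.up ℤ) 0 ((grCx p).obj K))
      (grE M D hD K b hcomm p) ((grL M D hD p).d 0 1) (grE_d M D hD K b hcomm p)).2 ?_
    · simp only [CEres.augHom_f]
      exact key
    · constructor
      · refine HomologicalComplex.mono_of_mono_f _ (fun a => ?_)
        have := hGE a
        exact mono_gr_single0Comp (b a) (hb a) p
      · apply HomologicalComplex.exact_of_degreewise_exact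
        intro a
        have := hGE a
        exact gr_exact_single0Comp (b a) (hb a) p

end Gr


section Main

variable (a₀ : ℤ) (hK : ∀ a, a < a₀ → IsZero (K.X a))
  (hGE : ∀ a, (M a).IsStrictlyGE 0) (hb : ∀ a, IsFilteredQuasiIso (b a))
  (hinj : ∀ a n, IsFilteredInjective ((M a).X n))
  (hzero : ∀ a, a < a₀ → ∀ n, IsZero ((M a).X n))

include hGE hzero in
lemma isZero_dblL (n a : ℤ) (h : n < 0 ∨ a < a₀) : IsZero (((dblL M D hD).X n).X a) := by
  rcases h with h | h
  · have := hGE a
    exact (M a).isZero_of_isStrictlyGE 0 n h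
  · exact hzero a h n

include hD hcomm hK hGE hb hinj hzero in
theorem total_resolution :
    ∃ (I : CochainComplex (FilF A) ℤ) (φ : K ⟶ I), I.IsStrictlyGE a₀ ∧
      (∀ n, IsFilteredInjective (I.X n)) ∧ IsFilteredQuasiIso φ ∧
      ∀ n, Mono (φ.f n) ∧ IsStrict (φ.f n) := by
  let L := dblL M D hD
  have hL : ∀ n a : ℤ, n < 0 ∨ a < a₀ → IsZero ((L.X n).X a) :=
    isZero_dblL M D hD a₀ hGE hzero
  have hT : L.HasTotal (ComplexShape.up ℤ) := TotAug.hasTotal_of_bounds L 0 a₀ hL
  let e := dblE M D hD K b hcomm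
  have he : e ≫ L.d 0 1 = 0 := dblE_d M D hD K b hcomm
  let φ := TotAug.totAug L K e he
  have hpres : ∀ (p n : ℤ), PreservesColimit (Discrete.functor
      (L.toGradedObject.mapObjFun (ComplexShape.π (ComplexShape.up ℤ) (ComplexShape.up ℤ)
        (ComplexShape.up ℤ)) n)) (grF A p) :=
    fun p n => TotAug.preservesColimit_of_bounds L 0 a₀ hL (grF A p) n
  have hTp : ∀ p, (grL M D hD p).HasTotal (ComplexShape.up ℤ) := fun p => by
    have := hpres p
    exact Groth.Agent.H35.TotalMap.hasTotal L (ComplexShape.up ℤ) (grF A p)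
  have hLp : ∀ p (n a : ℤ), n < 0 ∨ a < a₀ → IsZero (((grL M D hD p).X n).X a) :=
    fun p n a h => Functor.map_isZero (grF A p) (hL n a h)
  refine ⟨L.total (ComplexShape.up ℤ), φ, ?_, ?_, ?_, ?_⟩
  · -- bounded below
    rw [CochainComplex.isStrictlyGE_iff]
    intro n hn
    rw [IsZero.iff_id_eq_zero]
    apply HomologicalComplex₂.total.hom_ext
    intro i j hij
    apply (hL i j _).eq_of_src
    have : i + j = n := hij
    omega
  · -- filtered injective
    intro n p
    have := hpres p
    have := hTp p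
    have e1 : (grF A p).obj ((L.total (ComplexShape.up ℤ)).X n) ≅
        ((grL M D hD p).total (ComplexShape.up ℤ)).X n :=
      Groth.Agent.H35.TotalMap.xIso L (ComplexShape.up ℤ) (grF A p) n
    have : Injective (((grL M D hD p).total (ComplexShape.up ℤ)).X n) :=
      injective_total_X (grL M D hD p) 0 a₀ (hLp p) (fun i j => hinj j i p) n
    exact Injective.of_iso e1.symm this
  · -- filtered quasi-isomorphism
    intro p
    have := hpres p
    have := hTp p
    have hq : QuasiIso (TotAug.totAug (grL M D hD p) ((grCx p).obj K)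
        (grE M D hD K b hcomm p) (grE_d M D hD K b hcomm p)) :=
      TotAug.quasiIso_totAug _ _ _ _ a₀ (hLp p)
        (fun q hq => Functor.map_isZero (grF A p) (hK q hq))
        (quasiIso_augHom_gr M D hD K b hcomm hGE hb p)
    have hfac : (grCx p).map φ ≫
        (Groth.Agent.H35.TotalMap.totalMapIso L (ComplexShape.up ℤ) (grF A p)).hom =
        TotAug.totAug (grL M D hD p) ((grCx p).obj K)
          (grE M D hD K b hcomm p) (grE_d M D hD K b hcomm p) := by
      refine HomologicalComplex.hom_ext _ _ (fun n => ?_)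
      rw [HomologicalComplex.comp_f, TotAug.totAug_f]
      change (grF A p).map (e.f n ≫ TotAug.ι L 0 n n _) ≫
        (Groth.Agent.H35.TotalMap.xIso L (ComplexShape.up ℤ) (grF A p) n).hom = _
      rw [Functor.map_comp, Category.assoc, Groth.Agent.H35.TotalMap.map_ιTotal_xIso_hom]
      rfl
    rw [← hfac] at hq
    exact quasiIso_of_comp_right _
      (Groth.Agent.H35.TotalMap.totalMapIso L (ComplexShape.up ℤ) (grF A p)).hom
  · -- strict monomorphisms
    intro n
    apply mono_and_isStrict_of_gr_mono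
    intro q
    have := hGE n
    have h1 : Mono ((grF A q).map (e.f n)) := mono_gr_single0Comp (b n) (hb n) q
    have h2 : (grF A q).map (TotAug.ι L 0 n n (by omega)) ≫
        (grF A q).map (TotAug.π L 0 n n (by omega)) = 𝟙 _ := by
      rw [← Functor.map_comp, TotAug.ι_π_self, CategoryTheory.Functor.map_id]
    have h3 : Mono ((grF A q).map (TotAug.ι L 0 n n (by omega))) := (SplitMono.mk _ h2).mono
    change Mono ((grF A q).map (e.f n ≫ TotAug.ι L 0 n n _))
    rw [Functor.map_comp]
    exact mono_comp _ _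

end Main

end Total

section Construct

variable [EnoughInjectives A] (K : CochainComplex (FilF A) ℤ)

/-- **Filtered injective resolutions of bounded below filtered complexes**, with strict
monomorphic components. -/
theorem exists_resolution (a₀ : ℤ) [K.IsStrictlyGE a₀] :
    ∃ (I : CochainComplex (FilF A) ℤ) (φ : K ⟶ I), I.IsStrictlyGE a₀ ∧
      (∀ n, IsFilteredInjective (I.X n)) ∧ IsFilteredQuasiIso φ ∧
      ∀ n, Mono (φ.f n) ∧ IsStrict (φ.f n) := by
  have hK : ∀ a, a < a₀ → IsZero (K.X a) := fun a ha => K.isZero_of_isStrictlyGE a₀ a ha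
  choose IZ ζ hZ1 hZ2 hZ3 hZ4 using fun a : ℤ => exists_res_fil (Zo K a)
  choose IC γ hC1 hC2 hC3 hC4 using fun a : ℤ => exists_res_fil (Co K a)
  have hU : ∀ a : ℤ, ∃ U : IC a ⟶ IZ (a + 1),
      γ a ≫ U = (CochainComplex.singleFunctor (FilF A) 0).map (uC K a) ≫ ζ (a + 1) := fun a => by
    have := hZ1 (a + 1)
    exact exists_map_of_resolutions (uC K a) (IC a) (γ a) (hC3 a) (IZ (a + 1)) (hZ2 (a + 1))
      (ζ (a + 1))
  choose U hU using hU
  have hH : ∀ a : ℤ, ∃ (M : CochainComplex (FilF A) ℤ) (α : IZ a ⟶ M) (β : M ⟶ IC a)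
      (b : (CochainComplex.singleFunctor (FilF A) 0).obj (K.X a) ⟶ M),
      α ≫ β = 0 ∧
      ζ a ≫ α = (CochainComplex.singleFunctor (FilF A) 0).map (iZo K a) ≫ b ∧
      b ≫ β = (CochainComplex.singleFunctor (FilF A) 0).map (pC K a) ≫ γ a ∧
      M.IsStrictlyGE 0 ∧ (∀ n, IsFilteredInjective (M.X n)) ∧ IsFilteredQuasiIso b ∧
      (∀ n, IsZero ((IZ a).X n) → IsZero ((IC a).X n) → IsZero (M.X n)) := fun a => by
    have := hZ1 a
    have := hC1 a
    exact horseshoe_fqis (sesZ K a) (sesZ_levelwise K a) (sesZ_gr K a) (IZ a) (hZ2 a) (ζ a)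
      (hZ3 a) (IC a) (hC2 a) (γ a) (hC3 a)
  choose M α β b h0 h1 h2 hGE hinj hb hzero using hH
  let D : ∀ a, M a ⟶ M (a + 1) := fun a => β a ≫ U a ≫ α (a + 1)
  have hD : ∀ a, D a ≫ D (a + 1) = 0 := by
    intro a
    simp only [D, Category.assoc]
    rw [reassoc_of% (h0 (a + 1)), zero_comp, comp_zero, comp_zero]
  have hcomm : ∀ a, b a ≫ D a =
      (CochainComplex.singleFunctor (FilF A) 0).map (K.d a (a + 1)) ≫ b (a + 1) := by
    intro a
    simp only [D]
    rw [reassoc_of% (h2 a), reassoc_of% (hU a), h1 (a + 1), ← Category.assoc, ← Category.assoc,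
      ← Functor.map_comp, ← Functor.map_comp, Category.assoc, pC_uC_iZo]
  exact total_resolution M D hD K b hcomm a₀ hK hGE hb hinj (fun a ha n =>
    hzero a n (hZ4 a (isZero_Zo K a (hK a ha)) n) (hC4 a (isZero_Co K a (hK a ha)) n))

end Construct

end Groth.Agent.H92.FilCE
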