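import Mathlib
import Groth.Prelude.Def_SpSeq
import Groth.Agent.H16.RFKInj
import Groth.Agent.H16.RlimInjC
import Groth.Agent.H5.AcyclicCoprod

/-!
helper92: a filtered complex representing an inverse system `… → E^{i+1} → E^i → … → E` of the
derived category of a Grothendieck abelian category.
-/

set_option autoImplicit false
set_option linter.unusedSectionVars false
universe w v u

open CategoryTheory CategoryTheory.Limits CochainComplex HomComplex DerivedCategory ZeroObject

namespace Groth.Agent.H92.FilRep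

variable {A : Type u} [Category.{v} A] [Abelian A]

section Cone

variable (X : CochainComplex A ℤ)

lemma mono_inr : Mono (mappingCone.inr (𝟙 X)) := by
  refine HomologicalComplex.mono_of_mono_f _ (fun n => ?_)
  exact (SplitMono.mk _ (mappingCone.inr_f_snd_v (𝟙 X) n)).mono

lemma exactAt_cone (n : ℤ) : (mappingCone (𝟙 X)).ExactAt n := by
  rw [HomologicalComplex.exactAt_iff_isZero_homology, IsZero.iff_id_eq_zero]
  have h := (mappingCone.homotopyToZeroOfId X).homologyMap_eq n
  rw [HomologicalComplex.homologyMap_id, HomologicalComplex.homologyMap_zero] at h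
  exact h

end Cone

section Derived

variable [HasDerivedCategory.{w} A]

lemma isZero_Q_obj (W : CochainComplex A ℤ) (hW : ∀ n, W.ExactAt n) : IsZero (Q.obj W) := by
  have hq : QuasiIso (0 : W ⟶ 0) := by
    rw [quasiIso_iff]
    intro n
    rw [quasiIsoAt_iff_exactAt _ _ (hW n)]
    exact HomologicalComplex.ExactAt.of_isZero (Functor.map_isZero
      (HomologicalComplex.eval A (ComplexShape.up ℤ) n) (isZero_zero _))
  have : IsIso (Q.map (0 : W ⟶ 0)) := by
    rw [isIso_Q_map_iff_quasiIso]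
    exact hq
  exact IsZero.of_iso (Functor.map_isZero Q (isZero_zero _)) (asIso (Q.map (0 : W ⟶ 0)))

lemma Q_map_comp_eq_zero {X W Y : CochainComplex A ℤ} (hW : ∀ n, W.ExactAt n)
    (f : X ⟶ W) (g : W ⟶ Y) : Q.map (f ≫ g) = 0 := by
  rw [Functor.map_comp, (isZero_Q_obj W hW).eq_of_tgt (Q.map f) 0, zero_comp]

/-- the projection `X ⊞ W ⟶ X` is an isomorphism in the derived category if `W` is acyclic -/
noncomputable def fstIso (X W : CochainComplex A ℤ) (hW : ∀ n, W.ExactAt n) :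
    Q.obj (X ⊞ W) ≅ Q.obj X where
  hom := Q.map biprod.fst
  inv := Q.map biprod.inl
  hom_inv_id := by
    rw [← Q.map_comp, ← Q.map_id]
    have : (biprod.fst ≫ biprod.inl : X ⊞ W ⟶ X ⊞ W) = 𝟙 _ - biprod.snd ≫ biprod.inr := by
      rw [← biprod.total]
      abel
    rw [this, Functor.map_sub, Q_map_comp_eq_zero hW, sub_zero]
  inv_hom_id := by rw [← Q.map_comp, biprod.inl_fst, Q.map_id]

/-- a morphism to a K-injective complex which vanishes in the derived category extends to the cone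
of the identity -/
lemma exists_desc_cone (X I : CochainComplex A ℤ) [I.IsKInjective] (δ₀ : X ⟶ I)
    (h : Q.map δ₀ = 0) : ∃ γ : mappingCone (𝟙 X) ⟶ I, mappingCone.inr (𝟙 X) ≫ γ = δ₀ := by
  have hb := (CochainComplex.IsKInjective.Qh_map_bijective
    ((HomotopyCategory.quotient _ _).obj X) I).injective
  have h1 : ∀ f : X ⟶ I, Qh.map ((HomotopyCategory.quotient A (ComplexShape.up ℤ)).map f) =
      (quotientCompQhIso A).hom.app X ≫ Q.map f ≫ (quotientCompQhIso A).inv.app I := by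
    intro f
    have := (quotientCompQhIso A).hom.naturality f
    dsimp only [Functor.comp_map] at this
    rw [← reassoc_of% this, Iso.hom_inv_id_app]
    exact (Category.comp_id _).symm
  have h2 : (HomotopyCategory.quotient A (ComplexShape.up ℤ)).map δ₀ =
      (HomotopyCategory.quotient A (ComplexShape.up ℤ)).map 0 := by
    apply hb
    rw [h1, h1, h, Functor.map_zero]
  have ho : Homotopy δ₀ 0 := HomotopyCategory.homotopyOfEq _ _ h2
  obtain ⟨z, hz⟩ := Cochain.equivHomotopy δ₀ 0 ho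
  rw [Cochain.ofHom_zero, add_zero] at hz
  exact ⟨mappingCone.desc (𝟙 X) z δ₀ (by rw [Category.id_comp]; exact hz.symm),
    mappingCone.inr_desc _ _ _ _⟩

end Derived

section Union

variable [IsGrothendieckAbelian.{v} A]

/-- the union of an increasing sequence of complexes -/
theorem exists_union (Y : ℕ → CochainComplex A ℤ) (j : ∀ m, Y m ⟶ Y (m + 1))
    (hj : ∀ m, Mono (j m)) :
    ∃ (U : CochainComplex A ℤ) (u : ∀ m, Y m ⟶ U), (∀ m, Mono (u m)) ∧
      ∀ m, j m ≫ u (m + 1) = u m := by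
  let F : ℕ ⥤ CochainComplex A ℤ := Functor.ofSequence j
  have hmono : ∀ (a b : ℕ) (φ : a ⟶ b), Mono (F.map φ) := by
    intro a b φ
    have hab : a ≤ b := leOfHom φ
    obtain rfl : φ = homOfLE hab := Subsingleton.elim _ _
    induction b, hab using Nat.le_induction with
    | base =>
      rw [show homOfLE (le_refl a) = 𝟙 a from rfl, F.map_id]
      infer_instance
    | succ b hab ih =>
      have : homOfLE (hab.trans (Nat.le_succ b)) = homOfLE hab ≫ homOfLE (Nat.le_succ b) := rfl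
      rw [this, F.map_comp, Functor.ofSequence_map_homOfLE_succ]
      have h1 := ih
      have h2 : Mono (j b) := hj b
      exact @mono_comp _ _ _ _ _ _ h1 _ h2
  have h0 : HasFilteredColimitsOfSize.{0, 0} (CochainComplex A ℤ) :=
    hasFilteredColimitsOfSize_of_univLE.{0, 0, v, v}
  have h1 : AB5OfSize.{0, 0} (CochainComplex A ℤ) := AB5OfSize_of_univLE.{0, 0, v, v} _
  refine ⟨colimit F, fun m => colimit.ι F m, fun m => ?_, fun m => ?_⟩
  · exact (colimit.isColimit F).mono_ι_app_of_isFiltered m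
  · have := colimit.w F (homOfLE (Nat.le_succ m))
    rw [Functor.ofSequence_map_homOfLE_succ] at this
    exact this

end Union

section Core

variable [IsGrothendieckAbelian.{v} A]
variable (I : CochainComplex A ℤ) (X : ℤ → CochainComplex A ℤ) (α : ∀ j, X j ⟶ I)
  (τ : ∀ i j : ℤ, i + 1 = j → (X j ⟶ X i))
  (γ : ∀ j, mappingCone (𝟙 (X j)) ⟶ I)
  (hγ : ∀ (i j : ℤ) (h : i + 1 = j),
    mappingCone.inr (𝟙 (X j)) ≫ γ j = α j - τ i j h ≫ α i)

/-- the cone at position `j` -/
noncomputable abbrev Cn (j : ℤ) : CochainComplex A ℤ := mappingCone (𝟙 (X j))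

/-- the family of cones at positions `> i` -/
noncomputable abbrev fam (i : ℤ) : {j : ℤ // i < j} → CochainComplex A ℤ := fun j => Cn X j.1

/-- the coproduct of the cones at positions `> i` -/
noncomputable abbrev Wgt (i : ℤ) : CochainComplex A ℤ := ∐ (fam X i)

lemma exactAt_Wgt (i n : ℤ) : (Wgt X i).ExactAt n :=
  Groth.Agent.H5.AcyclicCoprod.exactAt_sigma _ (fun _ n => exactAt_cone _ n) n

/-- the model of the `i`-th step -/
noncomputable abbrev T (i : ℤ) : CochainComplex A ℤ := X i ⊞ Wgt X i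

/-- the maps out of the cones -/
noncomputable def Γ (i : ℤ) : Wgt X i ⟶ I := Sigma.desc (fun j => γ j.1)

/-- the map to the K-injective complex -/
noncomputable def αT (i : ℤ) : T X i ⟶ I := biprod.desc (α i) (Γ I X γ i)

/-- inclusion of sub-coproducts -/
noncomputable def shrink (i j : ℤ) (h : i + 1 = j) : Wgt X j ⟶ Wgt X i :=
  Sigma.desc (fun k => Sigma.ι (fam X i) ⟨k.1, by have := k.2; omega⟩)

/-- retraction of the inclusion of sub-coproducts -/
noncomputable def retr (i j : ℤ) : Wgt X i ⟶ Wgt X j :=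
  Sigma.desc (fun l => if h' : j < l.1 then Sigma.ι (fam X j) ⟨l.1, h'⟩ else 0)

/-- projection to one summand -/
noncomputable def proj (i k : ℤ) : Wgt X i ⟶ Cn X k :=
  Sigma.desc (fun l => if h : l.1 = k then eqToHom (congrArg (Cn X) h) else 0)

lemma shrink_retr (i j : ℤ) (h : i + 1 = j) : shrink X i j h ≫ retr X i j = 𝟙 _ := by
  apply Sigma.hom_ext
  intro l
  rw [shrink, retr, Sigma.ι_desc_assoc, Sigma.ι_desc, Category.comp_id, dif_pos l.2]

lemma shrink_proj (i j : ℤ) (h : i + 1 = j) : shrink X i j h ≫ proj X i j = 0 := by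
  apply Sigma.hom_ext
  intro l
  rw [shrink, proj, Sigma.ι_desc_assoc, Sigma.ι_desc, comp_zero, dif_neg]
  have := l.2
  change ¬ (l.1 = j)
  omega

lemma ι_proj (i k : ℤ) (hk : i < k) : Sigma.ι (fam X i) ⟨k, hk⟩ ≫ proj X i k = 𝟙 _ := by
  rw [proj, Sigma.ι_desc, dif_pos rfl, eqToHom_refl]

/-- the inclusion of the `j`-th model into the `i`-th model for `j = i + 1` -/
noncomputable def ι (i j : ℤ) (h : i + 1 = j) : T X j ⟶ T X i :=
  biprod.desc
    (biprod.lift (τ i j h) (mappingCone.inr (𝟙 (X j)) ≫ Sigma.ι (fam X i) ⟨j, by omega⟩))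
    (shrink X i j h ≫ biprod.inr)

lemma ι_fst (i j : ℤ) (h : i + 1 = j) :
    ι X τ i j h ≫ biprod.fst = biprod.fst ≫ τ i j h := by
  apply biprod.hom_ext'
  · rw [ι, biprod.inl_desc_assoc, biprod.lift_fst, biprod.inl_fst_assoc]
  · rw [ι, biprod.inr_desc_assoc, Category.assoc, biprod.inr_fst, comp_zero,
      biprod.inr_fst_assoc, zero_comp]

include hγ in
lemma ι_αT (i j : ℤ) (h : i + 1 = j) :
    ι X τ i j h ≫ αT I X α γ i = αT I X α γ j := by
  apply biprod.hom_ext'
  · rw [ι, αT, αT, biprod.inl_desc_assoc, biprod.lift_desc, biprod.inl_desc, Category.assoc, Γ,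
      Sigma.ι_desc, hγ i j h]
    abel
  · rw [ι, αT, αT, biprod.inr_desc_assoc, Category.assoc, biprod.inr_desc, biprod.inr_desc]
    apply Sigma.hom_ext
    intro l
    rw [shrink, Γ, Γ, Sigma.ι_desc_assoc, Sigma.ι_desc, Sigma.ι_desc]

lemma mono_ι (i j : ℤ) (h : i + 1 = j) : Mono (ι X τ i j h) := by
  apply Preadditive.mono_of_cancel_zero
  intro Z g hg
  have h2 : (g ≫ biprod.fst) ≫ mappingCone.inr (𝟙 (X j)) ≫ Sigma.ι (fam X i) ⟨j, by omega⟩ +
      (g ≫ biprod.snd) ≫ shrink X i j h = 0 := by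
    have := congrArg (fun f => f ≫ (biprod.snd : T X i ⟶ Wgt X i)) hg
    simp only [zero_comp, Category.assoc] at this
    rw [← this]
    conv_rhs => rw [← Category.comp_id g, ← biprod.total, Preadditive.comp_add,
      Preadditive.add_comp]
    simp only [Category.assoc, ι, biprod.inl_desc_assoc, biprod.inr_desc_assoc, biprod.lift_snd,
      biprod.inr_snd, Category.comp_id]
  have h3 : g ≫ biprod.fst = 0 := by
    have := congrArg (fun f => f ≫ proj X i j) h2
    simp only [Preadditive.add_comp, Category.assoc, zero_comp, shrink_proj, comp_zero, add_zero,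
      ι_proj, Category.comp_id] at this
    have hm := mono_inr (X j)
    exact (cancel_mono (mappingCone.inr (𝟙 (X j)))).1 (by rw [Category.assoc, this, zero_comp])
  have h4 : g ≫ biprod.snd = 0 := by
    rw [h3, zero_comp, zero_add] at h2
    have := congrArg (fun f => f ≫ retr X i j) h2
    simp only [Category.assoc, shrink_retr, Category.comp_id, zero_comp] at this
    exact this
  rw [← Category.comp_id g, ← biprod.total, Preadditive.comp_add, ← Category.assoc, h3,
    ← Category.assoc, h4, zero_comp, zero_comp, add_zero]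

end Core

section Embed

variable [IsGrothendieckAbelian.{v} A]
variable (I : CochainComplex A ℤ) (X : ℤ → CochainComplex A ℤ) (α : ∀ j, X j ⟶ I)
  (τ : ∀ i j : ℤ, i + 1 = j → (X j ⟶ X i))
  (γ : ∀ j, mappingCone (𝟙 (X j)) ⟶ I)
  (hγ : ∀ (i j : ℤ) (h : i + 1 = j),
    mappingCone.inr (𝟙 (X j)) ≫ γ j = α j - τ i j h ≫ α i)
  (U : CochainComplex A ℤ) (u : ∀ m : ℕ, T X (-(m : ℤ)) ⟶ U)
  (hu : ∀ m : ℕ, ι X τ (-((m + 1 : ℕ) : ℤ)) (-(m : ℤ)) (by push_cast; ring) ≫ u (m + 1) = u m)
  (hmono : ∀ m, Mono (u m))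

/-- the ambient complex -/
noncomputable abbrev Kobj : CochainComplex A ℤ := I ⊞ mappingCone (𝟙 U)

/-- the embedding of the models at nonpositive positions -/
noncomputable def κneg (m : ℕ) (i : ℤ) (h : i = -(m : ℤ)) : T X i ⟶ Kobj I U := by
  subst h
  exact biprod.lift (αT I X α γ (-(m : ℤ))) (u m ≫ mappingCone.inr (𝟙 U))

lemma κneg_fst (m : ℕ) (i : ℤ) (h : i = -(m : ℤ)) :
    κneg I X α γ U u m i h ≫ biprod.fst = αT I X α γ i := by
  subst h
  exact biprod.lift_fst _ _

include hmono in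
lemma mono_κneg (m : ℕ) (i : ℤ) (h : i = -(m : ℤ)) : Mono (κneg I X α γ U u m i h) := by
  subst h
  have h1 : Mono (u m) := hmono m
  have h2 := mono_inr U
  have h3 : Mono (u m ≫ mappingCone.inr (𝟙 U)) := mono_comp _ _
  exact mono_of_mono_fac (biprod.lift_snd (αT I X α γ (-(m : ℤ))) (u m ≫ mappingCone.inr (𝟙 U)))

include hγ hu in
lemma ι_κneg (m m' : ℕ) (i j : ℤ) (h : i + 1 = j) (hi : i = -(m' : ℤ)) (hj : j = -(m : ℤ)) :
    ι X τ i j h ≫ κneg I X α γ U u m' i hi = κneg I X α γ U u m j hj := by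
  obtain rfl : m' = m + 1 := by omega
  subst hj
  subst hi
  apply biprod.hom_ext
  · rw [Category.assoc, κneg_fst, κneg_fst, ι_αT I X α τ γ hγ]
  · dsimp only [κneg]
    rw [Category.assoc, biprod.lift_snd, biprod.lift_snd, ← Category.assoc, hu m]

/-- the embedding of the models at nonnegative positions into the model at position `0` -/
noncomputable def pPos : ∀ (n : ℕ) (i : ℤ), i = (n : ℤ) → (T X i ⟶ T X 0)
  | 0, i, h => eqToHom (by rw [h, Nat.cast_zero])
  | (n + 1), i, h => ι X τ (i - 1) i (by omega) ≫ pPos n (i - 1) (by rw [h]; push_cast; ring)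

lemma pPos_step (n : ℕ) (i j : ℤ) (h : i + 1 = j) (hi : i = (n : ℤ)) (hj : j = ((n + 1 : ℕ) : ℤ)) :
    pPos X τ (n + 1) j hj = ι X τ i j h ≫ pPos X τ n i hi := by
  obtain rfl : i = j - 1 := by omega
  rfl

lemma mono_pPos (n : ℕ) (i : ℤ) (h : i = (n : ℤ)) : Mono (pPos X τ n i h) := by
  induction n generalizing i with
  | zero =>
    dsimp only [pPos]
    infer_instance
  | succ n ih =>
    dsimp only [pPos]
    have h1 := mono_ι X τ (i - 1) i (by omega)
    have h2 := ih (i - 1) (by rw [h]; push_cast; ring)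
    exact mono_comp _ _

include hγ in
lemma pPos_αT (n : ℕ) (i : ℤ) (h : i = (n : ℤ)) :
    pPos X τ n i h ≫ αT I X α γ 0 = αT I X α γ i := by
  induction n generalizing i with
  | zero =>
    obtain rfl : i = 0 := by rw [h, Nat.cast_zero]
    dsimp only [pPos]
    rw [eqToHom_refl, Category.id_comp]
  | succ n ih =>
    dsimp only [pPos]
    rw [Category.assoc, ih, ι_αT I X α τ γ hγ]

/-- the embedding of the models into the ambient complex -/
noncomputable def κ (i : ℤ) : T X i ⟶ Kobj I U :=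
  if h : 0 ≤ i then pPos X τ i.toNat i (Int.toNat_of_nonneg h).symm ≫
      κneg I X α γ U u 0 0 (by rw [Nat.cast_zero, neg_zero])
  else κneg I X α γ U u (-i).toNat i (by omega)

include hγ in
lemma κ_fst (i : ℤ) : κ I X α τ γ U u i ≫ biprod.fst = αT I X α γ i := by
  by_cases h : 0 ≤ i
  · rw [κ, dif_pos h, Category.assoc, κneg_fst, pPos_αT I X α τ γ hγ]
  · rw [κ, dif_neg h, κneg_fst]

include hmono in
lemma mono_κ (i : ℤ) : Mono (κ I X α τ γ U u i) := by
  by_cases h : 0 ≤ i
  · rw [κ, dif_pos h]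
    have h1 := mono_pPos X τ i.toNat i (Int.toNat_of_nonneg h).symm
    have h2 := mono_κneg I X α γ U u hmono 0 0 (by rw [Nat.cast_zero, neg_zero])
    exact mono_comp _ _
  · rw [κ, dif_neg h]
    exact mono_κneg I X α γ U u hmono _ _ _

include hγ hu in
lemma κ_compat (i j : ℤ) (h : i + 1 = j) :
    ι X τ i j h ≫ κ I X α τ γ U u i = κ I X α τ γ U u j := by
  by_cases hi : 0 ≤ i
  · have hj : 0 ≤ j := by omega
    rw [κ, κ, dif_pos hi, dif_pos hj, ← Category.assoc]
    congr 1
    obtain ⟨n, hn⟩ : ∃ n : ℕ, j.toNat = n + 1 := ⟨i.toNat, by omega⟩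
    have key : ∀ (k : ℕ) (hk : j = (k : ℤ)), k = n + 1 →
        pPos X τ k j hk = ι X τ i j h ≫ pPos X τ i.toNat i (Int.toNat_of_nonneg hi).symm := by
      intro k hk hkn
      subst hkn
      obtain ⟨n', hn'⟩ : ∃ n' : ℕ, i.toNat = n' := ⟨_, rfl⟩
      have key2 : ∀ (k' : ℕ) (hk' : i = (k' : ℤ)), k' = n →
          pPos X τ (n + 1) j hk = ι X τ i j h ≫ pPos X τ k' i hk' := by
        intro k' hk' hkn'
        subst hkn'
        exact pPos_step X τ k' i j h hk' hk
      exact key2 _ _ (by omega)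
    exact (key _ _ hn).symm
  · by_cases hj : 0 ≤ j
    · obtain rfl : j = 0 := by omega
      rw [κ, κ, dif_neg hi, dif_pos hj]
      have h1 : pPos X τ (0 : ℤ).toNat 0 (Int.toNat_of_nonneg hj).symm = 𝟙 _ := by
        change eqToHom _ = _
        rw [eqToHom_refl]
      rw [h1, Category.id_comp]
      exact ι_κneg I X α τ γ hγ U u hu 0 _ i 0 h _ _
    · rw [κ, κ, dif_neg hi, dif_neg hj]
      exact ι_κneg I X α τ γ hγ U u hu _ _ i j h _ _

end Embed

section Main

variable [IsGrothendieckAbelian.{v} A] [HasDerivedCategory.{w} A]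

lemma Q_map_αT (I : CochainComplex A ℤ) (X : ℤ → CochainComplex A ℤ) (α : ∀ j, X j ⟶ I)
    (γ : ∀ j, mappingCone (𝟙 (X j)) ⟶ I) (i : ℤ) :
    Q.map (αT I X α γ i) = Q.map biprod.fst ≫ Q.map (α i) := by
  have h : αT I X α γ i = biprod.fst ≫ α i + biprod.snd ≫ Γ I X γ i := by
    rw [αT, biprod.desc_eq]
  rw [h, Functor.map_add, Q_map_comp_eq_zero (exactAt_Wgt X i), add_zero, Functor.map_comp]

/-- chain level version: a filtered complex out of a compatible system of morphisms to a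
K-injective complex. -/
theorem exists_model (I : CochainComplex A ℤ) (X : ℤ → CochainComplex A ℤ) (α : ∀ j, X j ⟶ I)
    (τ : ∀ i j : ℤ, i + 1 = j → (X j ⟶ X i))
    (γ : ∀ j, mappingCone (𝟙 (X j)) ⟶ I)
    (hγ : ∀ (i j : ℤ) (h : i + 1 = j),
      mappingCone.inr (𝟙 (X j)) ≫ γ j = α j - τ i j h ≫ α i) :
    ∃ (K : SpSeq.FilCx A) (e₀ : Q.obj K.obj ≅ Q.obj I)
      (ei₀ : ∀ i : ℤ, Q.obj (K.step i) ≅ Q.obj (X i)),
      (∀ i : ℤ, Q.map (K.fil i).arrow ≫ e₀.hom = (ei₀ i).hom ≫ Q.map (α i)) ∧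
      (∀ i : ℤ, Q.map (K.stepLE (le_of_lt (Int.lt_succ_self i))) ≫ (ei₀ i).hom =
        (ei₀ (i + 1)).hom ≫ Q.map (τ i (i + 1) rfl)) := by
  obtain ⟨U, u, hmono, hu⟩ := exists_union (fun m : ℕ => T X (-(m : ℤ)))
    (fun m => ι X τ (-((m + 1 : ℕ) : ℤ)) (-(m : ℤ)) (by push_cast; ring))
    (fun m => mono_ι X τ _ _ _)
  have hu' : ∀ m : ℕ, ι X τ (-((m + 1 : ℕ) : ℤ)) (-(m : ℤ)) (by push_cast; ring) ≫ u (m + 1) =
      u m := hu
  have hκ : ∀ i, Mono (κ I X α τ γ U u i) := mono_κ I X α τ γ U u hmono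
  have hc := κ_compat I X α τ γ hγ U u hu'
  have hf := κ_fst I X α τ γ hγ U u
  refine ⟨{ obj := Kobj I U
            fil := fun i => Subobject.mk (κ I X α τ γ U u i)
            anti := antitone_int_of_succ_le (fun i =>
              Subobject.mk_le_mk_of_comm (ι X τ i (i + 1) rfl) (hc i (i + 1) rfl)) },
    fstIso I (mappingCone (𝟙 U)) (exactAt_cone U),
    fun i => Q.mapIso (Subobject.underlyingIso (κ I X α τ γ U u i)) ≪≫
      fstIso (X i) (Wgt X i) (exactAt_Wgt X i), ?_, ?_⟩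
  · intro i
    dsimp only [fstIso, Iso.trans_hom, Functor.mapIso_hom]
    rw [← Functor.map_comp, Category.assoc, ← Q_map_αT I X α γ i, ← Functor.map_comp, ← hf i,
      ← Category.assoc, Subobject.underlyingIso_hom_comp_eq_mk]
  · intro i
    dsimp only [fstIso, Iso.trans_hom, Functor.mapIso_hom, SpSeq.FilObj.stepLE, Int.succ]
    have h1 : Subobject.ofLE (Subobject.mk (κ I X α τ γ U u (i + 1)))
        (Subobject.mk (κ I X α τ γ U u i))
        (Subobject.mk_le_mk_of_comm (ι X τ i (i + 1) rfl) (hc i (i + 1) rfl)) ≫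
        (Subobject.underlyingIso (κ I X α τ γ U u i)).hom =
        (Subobject.underlyingIso (κ I X α τ γ U u (i + 1))).hom ≫ ι X τ i (i + 1) rfl := by
      rw [← cancel_mono (κ I X α τ γ U u i), Category.assoc, Category.assoc,
        Subobject.underlyingIso_hom_comp_eq_mk, Subobject.ofLE_arrow, hc i (i + 1) rfl,
        Subobject.underlyingIso_hom_comp_eq_mk]
    rw [← Functor.map_comp, ← Functor.map_comp, ← Functor.map_comp, ← Functor.map_comp]
    congr 1
    rw [reassoc_of% h1, ι_fst, Category.assoc]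

lemma final_aux {C : Type*} [Category C] {P P' S S' R R' : C} (f : P' ⟶ P) (e : P ≅ S)
    (e' : P' ≅ S') (g : S' ⟶ S) (φ : R ≅ S) (φ' : R' ≅ S') (t : R' ⟶ R)
    (h : f ≫ e.hom = e'.hom ≫ g) (hg : g = φ'.inv ≫ t ≫ φ.hom) :
    f ≫ (e ≪≫ φ.symm).hom = (e' ≪≫ φ'.symm).hom ≫ t := by
  subst hg
  simp only [Iso.trans_hom, Iso.symm_hom, Category.assoc]
  rw [← Category.assoc, h]
  simp only [Category.assoc, Iso.hom_inv_id, Category.comp_id]

/-- an inverse system `… → E^{i+1} → E^i → … → E` of the derived category of a Grothendieck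
abelian category is represented by a filtered complex. -/
theorem exists_filtered (E : DerivedCategory A) (Es : ℤ → DerivedCategory A)
    (t : ∀ i : ℤ, Es (i + 1) ⟶ Es i) (a : ∀ i : ℤ, Es i ⟶ E)
    (hat : ∀ i : ℤ, t i ≫ a i = a (i + 1)) :
    ∃ (K : SpSeq.FilCx A) (e : Q.obj K.obj ≅ E) (ei : ∀ i : ℤ, Q.obj (K.step i) ≅ Es i),
      (∀ i : ℤ, Q.map (K.fil i).arrow ≫ e.hom = (ei i).hom ≫ a i) ∧
      (∀ i : ℤ, Q.map (K.stepLE (le_of_lt (Int.lt_succ_self i))) ≫ (ei i).hom =
        (ei (i + 1)).hom ≫ t i) := by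
  obtain ⟨I, hI, ⟨φ⟩⟩ := Groth.Agent.H16.RFKInj.exists_kInjective_iso E
  choose X hX φX' using fun j => Groth.Agent.H16.RFKInj.exists_kInjective_iso (Es j)
  have φX : ∀ j, Es j ≅ Q.obj (X j) := fun j => (φX' j).some
  choose α hα using fun j => Groth.Agent.H16.RlimInjC.exists_Q_map_eq (X j) I
    ((φX j).inv ≫ a j ≫ φ.hom)
  obtain ⟨t', ht', ht''⟩ : ∃ t' : ∀ i j : ℤ, i + 1 = j → (Es j ⟶ Es i),
      (∀ i j h, t' i j h ≫ a i = a j) ∧ (∀ i, t' i (i + 1) rfl = t i) := by
    refine ⟨fun i j h => eqToHom (by rw [h]) ≫ t i, ?_, ?_⟩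
    · intro i j h
      subst h
      simp only [eqToHom_refl, Category.id_comp, hat]
    · intro i
      simp only [eqToHom_refl, Category.id_comp]
  choose τ hτ using fun (i j : ℤ) (h : i + 1 = j) => by
    haveI := hX i
    exact Groth.Agent.H16.RlimInjC.exists_Q_map_eq (X j) (X i)
      ((φX j).inv ≫ t' i j h ≫ (φX i).hom)
  have hδ : ∀ j : ℤ, Q.map (α j - τ (j - 1) j (by omega) ≫ α (j - 1)) = 0 := by
    intro j
    rw [Functor.map_sub, Functor.map_comp, hα, hα, hτ]
    have h3 : ((φX j).inv ≫ t' (j - 1) j (by omega) ≫ (φX (j - 1)).hom) ≫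
        (φX (j - 1)).inv ≫ a (j - 1) ≫ φ.hom = (φX j).inv ≫ a j ≫ φ.hom := by
      rw [Category.assoc, Category.assoc, Iso.hom_inv_id_assoc, ← Category.assoc (t' _ _ _), ht']
    rw [h3, sub_self]
  have hγ₀ : ∀ j : ℤ, ∃ g : mappingCone (𝟙 (X j)) ⟶ I,
      mappingCone.inr (𝟙 (X j)) ≫ g = α j - τ (j - 1) j (by omega) ≫ α (j - 1) :=
    fun j => exists_desc_cone (X j) I _ (hδ j)
  choose γ hγ using hγ₀
  have hγ' : ∀ (i j : ℤ) (h : i + 1 = j),
      mappingCone.inr (𝟙 (X j)) ≫ γ j = α j - τ i j h ≫ α i := by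
    intro i j h
    obtain rfl : i = j - 1 := by omega
    exact hγ j
  obtain ⟨K, e₀, ei₀, h1, h2⟩ := exists_model I X α τ γ hγ'
  refine ⟨K, e₀ ≪≫ φ.symm, fun i => ei₀ i ≪≫ (φX i).symm, ?_, ?_⟩
  · intro i
    dsimp only [Iso.trans_hom, Iso.symm_hom]
    rw [← Category.assoc, h1 i, hα]
    simp only [Category.assoc, Iso.hom_inv_id, Category.comp_id]
  · intro i
    exact final_aux _ _ _ _ _ _ _ (h2 i) (by rw [hτ, ht''])

end Main

end Groth.Agent.H92.FilRep
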