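import Groth.Agent.H93.HopfMod
import Mathlib

/-!
# Integrals of a finite projective commutative Hopf algebra

For a commutative Hopf algebra `H`, finitely generated projective over a commutative ring `R`, the
dual `H^*` is an `(H, H)`-Hopf module; the fundamental theorem of Hopf modules (helper93) gives
finitely many left integrals `t_i ∈ H^*` and elements `T_i ∈ H` with `∑ t_i (T_i h) = ε h`.
-/

set_option autoImplicit false
universe u v
open TensorProduct Coalgebra WithConv

namespace Groth.Agent.H92.HopfInt

section defs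
variable (R : Type u) [CommRing R] (H : Type v) [CommRing H] [HopfAlgebra R H]

/-- the linear dual of `H`, as a type synonym carrying an `H`-module structure -/
def Hd : Type (max u v) := H →ₗ[R] R

noncomputable instance : AddCommGroup (Hd R H) := inferInstanceAs (AddCommGroup (H →ₗ[R] R))
noncomputable instance : Module R (Hd R H) := inferInstanceAs (Module R (H →ₗ[R] R))

variable {R H}
/-- view a functional as an element of `Hd` -/
def Hd.of (f : H →ₗ[R] R) : Hd R H := f
/-- the underlying functional -/
def Hd.fn (f : Hd R H) : H →ₗ[R] R := f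

@[simp] theorem Hd.fn_of (f : H →ₗ[R] R) : (Hd.of f).fn = f := rfl
@[simp] theorem Hd.of_fn (f : Hd R H) : Hd.of f.fn = f := rfl
@[simp] theorem Hd.fn_add (f g : Hd R H) : (f + g).fn = f.fn + g.fn := rfl
@[simp] theorem Hd.fn_smul (r : R) (f : Hd R H) : (r • f).fn = r • f.fn := rfl
@[simp] theorem Hd.fn_zero : (0 : Hd R H).fn = 0 := rfl
theorem Hd.ext {f g : Hd R H} (h : ∀ x, f.fn x = g.fn x) : f = g := LinearMap.ext h

/-- linear version of `Hd.fn` -/
noncomputable def Hd.fnₗ : Hd R H →ₗ[R] (H →ₗ[R] R) := LinearMap.id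

noncomputable instance : SMul H (Hd R H) :=
  ⟨fun h f => Hd.of (f.fn ∘ₗ LinearMap.mulLeft R (HopfAlgebra.antipode R h))⟩

theorem smul_fn_apply (h : H) (f : Hd R H) (x : H) :
    (h • f).fn x = f.fn (HopfAlgebra.antipode R h * x) := rfl

noncomputable instance : Module H (Hd R H) where
  one_smul f := by
    apply Hd.ext; intro x
    rw [smul_fn_apply, HopfAlgebra.antipode_one, one_mul]
  mul_smul a b f := by
    apply Hd.ext; intro x
    rw [smul_fn_apply, smul_fn_apply, smul_fn_apply, HopfAlgebra.antipode_mul_distrib]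
    congr 1
    ring
  smul_zero a := by
    apply Hd.ext; intro x
    rw [smul_fn_apply]; rfl
  smul_add a f g := by
    apply Hd.ext; intro x
    rw [smul_fn_apply]; rfl
  add_smul a b f := by
    apply Hd.ext; intro x
    rw [smul_fn_apply, Hd.fn_add, LinearMap.add_apply, smul_fn_apply, smul_fn_apply, map_add,
      add_mul, map_add]
  zero_smul f := by
    apply Hd.ext; intro x
    rw [smul_fn_apply, map_zero, zero_mul, map_zero]; rfl

instance : IsScalarTower R H (Hd R H) where
  smul_assoc r h f := by
    apply Hd.ext; intro x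
    rw [smul_fn_apply, Hd.fn_smul, LinearMap.smul_apply, smul_fn_apply, map_smul, smul_mul_assoc,
      map_smul]

end defs

section hit
variable {R : Type u} [CommRing R] {H : Type v} [CommRing H] [HopfAlgebra R H]

/-- the "hit" operator `c f x = ∑ x₁ f(x₂)` -/
noncomputable def c (f : H →ₗ[R] R) : H →ₗ[R] H :=
  (TensorProduct.rid R H).toLinearMap ∘ₗ LinearMap.lTensor H f ∘ₗ Coalgebra.comul

theorem c_apply (f : H →ₗ[R] R) (x : H) :
    c f x = TensorProduct.rid R H (LinearMap.lTensor H f (Coalgebra.comul x)) := rfl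

theorem c_add (f g : H →ₗ[R] R) : c (f + g) = c f + c g := by
  unfold c
  rw [LinearMap.lTensor_add, LinearMap.add_comp, LinearMap.comp_add]

theorem c_smul (r : R) (f : H →ₗ[R] R) : c (r • f) = r • c f := by
  unfold c
  rw [LinearMap.lTensor_smul, LinearMap.smul_comp, LinearMap.comp_smul]

/-- `c` as a linear map in `f` -/
noncomputable def cₗ : (H →ₗ[R] R) →ₗ[R] (H →ₗ[R] H) where
  toFun := c
  map_add' := c_add
  map_smul' := c_smul

/-- `(g ⋆ f)(y) = g (c f y)` -/
theorem conv_apply (g f : H →ₗ[R] R) (y : H) :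
    (toConv g * toConv f) y = g (c f y) := by
  rw [LinearMap.convMul_apply, c_apply]
  induction Coalgebra.comul (R := R) y using TensorProduct.induction_on with
  | zero => simp
  | add z w hz hw => simp only [map_add, hz, hw]
  | tmul a b =>
    simp [mul_comm]

/-- `Δ (c f x) = (id ⊗ c f) (Δ x)` -/
theorem comul_c (f : H →ₗ[R] R) (x : H) :
    Coalgebra.comul (R := R) (c f x) = LinearMap.lTensor H (c f) (Coalgebra.comul x) := by
  have h := Coalgebra.coassoc_apply (R := R) x
  -- apply `id ⊗ id ⊗ f` to coassociativity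
  have key : ∀ w : (H ⊗[R] H) ⊗[R] H,
      LinearMap.lTensor H ((TensorProduct.rid R H).toLinearMap ∘ₗ LinearMap.lTensor H f)
        (TensorProduct.assoc R H H H w) =
      (TensorProduct.rid R (H ⊗[R] H)) (LinearMap.lTensor (H ⊗[R] H) f w) := by
    intro w
    induction w using TensorProduct.induction_on with
    | zero => simp
    | add z w hz hw => simp only [map_add, hz, hw]
    | tmul ab d =>
      induction ab using TensorProduct.induction_on with
      | zero => simp
      | add z w hz hw => simp only [TensorProduct.add_tmul, map_add, hz, hw]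
      | tmul a b => simp [TensorProduct.smul_tmul']
  have h2 : ∀ w : H ⊗[R] H,
      Coalgebra.comul (R := R) (TensorProduct.rid R H (LinearMap.lTensor H f w)) =
      (TensorProduct.rid R (H ⊗[R] H)) (LinearMap.lTensor (H ⊗[R] H) f
        (LinearMap.rTensor H Coalgebra.comul w)) := by
    intro w
    induction w using TensorProduct.induction_on with
    | zero => simp
    | add z w hz hw => simp only [map_add, hz, hw]
    | tmul a b => simp
  rw [c_apply, h2, ← key, h]
  rw [← LinearMap.comp_apply, ← LinearMap.lTensor_comp]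
  rfl

/-- `c` is multiplicative for convolution -/
theorem c_conv (g f : H →ₗ[R] R) : c ((toConv g * toConv f).ofConv) = c g ∘ₗ c f := by
  apply LinearMap.ext
  intro x
  rw [LinearMap.comp_apply, c_apply (f := g), comul_c, c_apply]
  induction Coalgebra.comul (R := R) x using TensorProduct.induction_on with
  | zero => simp
  | add z w hz hw => simp only [map_add, hz, hw]
  | tmul a b =>
    simp only [LinearMap.lTensor_tmul, TensorProduct.rid_tmul]
    rw [← conv_apply]

theorem counit_c (f : H →ₗ[R] R) (x : H) : Coalgebra.counit (R := R) (c f x) = f x := by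
  rw [c_apply]
  have key : ∀ w : H ⊗[R] H, Coalgebra.counit (R := R) (TensorProduct.rid R H (LinearMap.lTensor H f w)) =
      f (TensorProduct.lid R H (LinearMap.rTensor H Coalgebra.counit w)) := by
    intro w
    induction w using TensorProduct.induction_on with
    | zero => simp
    | add z w hz hw => simp only [map_add, hz, hw]
    | tmul a b => simp [mul_comm]
  rw [key, Coalgebra.rTensor_counit_comul, TensorProduct.lid_tmul, one_smul]

end hit

section ev
variable {R : Type u} [CommRing R] {H : Type v} [CommRing H] [HopfAlgebra R H]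
variable {N : Type*} [AddCommGroup N] [Module R N]

/-- evaluation of the first factor: `f ⊗ n ↦ f x • n` -/
noncomputable def ev (x : H) : Hd R H ⊗[R] N →ₗ[R] N :=
  TensorProduct.lift ((LinearMap.lsmul R N) ∘ₗ (LinearMap.applyₗ x) ∘ₗ (Hd.fnₗ (R := R) (H := H)))

@[simp] theorem ev_tmul (x : H) (f : Hd R H) (n : N) : ev x (f ⊗ₜ[R] n) = f.fn x • n := rfl

theorem ev_lTensor {N' : Type*} [AddCommGroup N'] [Module R N'] (φ : N →ₗ[R] N') (x : H)
    (z : Hd R H ⊗[R] N) : ev x (LinearMap.lTensor (Hd R H) φ z) = φ (ev x z) := by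
  induction z using TensorProduct.induction_on with
  | zero => simp
  | add z w hz hw => simp only [map_add, hz, hw]
  | tmul f n => simp

variable {n : ℕ} (e : Fin n → H) (es : Fin n → (H →ₗ[R] R)) (he : ∀ x : H, x = ∑ i, es i x • e i)
include he

theorem dual_expand (f : H →ₗ[R] R) : f = ∑ i, f (e i) • es i := by
  apply LinearMap.ext
  intro x
  conv_lhs => rw [he x, map_sum]
  rw [LinearMap.sum_apply]
  refine Finset.sum_congr rfl (fun i _ => ?_)
  rw [map_smul, LinearMap.smul_apply, smul_eq_mul, smul_eq_mul, mul_comm]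

theorem expand (z : Hd R H ⊗[R] N) : z = ∑ i, Hd.of (es i) ⊗ₜ[R] ev (e i) z := by
  induction z using TensorProduct.induction_on with
  | zero => simp
  | add z w hz hw =>
    conv_lhs => rw [hz, hw]
    rw [← Finset.sum_add_distrib]
    refine Finset.sum_congr rfl (fun i _ => ?_)
    rw [map_add, TensorProduct.tmul_add]
  | tmul f m =>
    have h1 : f = ∑ i, f.fn (e i) • Hd.of (es i) := dual_expand e es he f.fn
    conv_lhs => rw [h1, TensorProduct.sum_tmul]
    refine Finset.sum_congr rfl (fun i _ => ?_)
    rw [ev_tmul, TensorProduct.smul_tmul]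

theorem sep {z w : Hd R H ⊗[R] N} (h : ∀ x, ev x z = ev x w) : z = w := by
  rw [expand e es he z, expand e es he w]
  refine Finset.sum_congr rfl (fun i _ => ?_)
  rw [h]

end ev

section coact
variable {R : Type u} [CommRing R] {H : Type v} [CommRing H] [HopfAlgebra R H]
variable {n : ℕ} (e : Fin n → H) (es : Fin n → (H →ₗ[R] R))

/-- left convolution by `g`, as a linear endomorphism of `Hd` -/
noncomputable def starL (g : H →ₗ[R] R) : Hd R H →ₗ[R] Hd R H where
  toFun f := Hd.of ((toConv g * toConv f.fn).ofConv)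
  map_add' f f' := by
    apply Hd.ext; intro x
    change (toConv g * toConv (f + f').fn) x = (toConv g * toConv f.fn) x + (toConv g * toConv f'.fn) x
    rw [conv_apply, conv_apply, conv_apply, Hd.fn_add, c_add, LinearMap.add_apply, map_add]
  map_smul' r f := by
    apply Hd.ext; intro x
    change (toConv g * toConv (r • f).fn) x = r • (toConv g * toConv f.fn) x
    rw [conv_apply, conv_apply, Hd.fn_smul, c_smul, LinearMap.smul_apply, map_smul]

theorem starL_fn_apply (g : H →ₗ[R] R) (f : Hd R H) (x : H) :
    (starL g f).fn x = g (c f.fn x) := conv_apply g f.fn x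

/-- the coaction of `H` on its dual -/
noncomputable def coactD : Hd R H →ₗ[R] Hd R H ⊗[R] H :=
  ∑ i, (TensorProduct.mk R (Hd R H) H).flip (e i) ∘ₗ starL (es i)

theorem coactD_apply (f : Hd R H) : coactD e es f = ∑ i, starL (es i) f ⊗ₜ[R] e i := by
  unfold coactD
  rw [LinearMap.sum_apply]
  rfl

variable (he : ∀ x : H, x = ∑ i, es i x • e i)
include he

theorem ev_coactD (f : Hd R H) (x : H) : ev x (coactD e es f) = c f.fn x := by
  rw [coactD_apply, map_sum]
  conv_rhs => rw [he (c f.fn x)]
  refine Finset.sum_congr rfl (fun i _ => ?_)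
  rw [ev_tmul, starL_fn_apply]

theorem counit_coactD :
    (Coalgebra.counit (R := R) (A := H)).lTensor (Hd R H) ∘ₗ coactD e es =
      (TensorProduct.mk R (Hd R H) R).flip 1 := by
  apply LinearMap.ext
  intro f
  apply sep e es he
  intro x
  rw [LinearMap.comp_apply, ev_lTensor, ev_coactD e es he, counit_c]
  simp

theorem coassoc_coactD :
    (TensorProduct.assoc R (Hd R H) H H).toLinearMap ∘ₗ (coactD e es).rTensor H ∘ₗ coactD e es =
      (Coalgebra.comul (R := R) (A := H)).lTensor (Hd R H) ∘ₗ coactD e es := by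
  apply LinearMap.ext
  intro f
  apply sep e es he
  intro x
  rw [LinearMap.comp_apply (g := coactD e es) (f := LinearMap.lTensor (Hd R H) Coalgebra.comul),
    ev_lTensor, ev_coactD e es he]
  -- left side
  have key : ∀ w : (Hd R H ⊗[R] H) ⊗[R] H,
      ev x (TensorProduct.assoc R (Hd R H) H H w) = LinearMap.rTensor H (ev x) w := by
    intro w
    induction w using TensorProduct.induction_on with
    | zero => simp
    | add z w hz hw => simp only [map_add, hz, hw]
    | tmul ab d =>
      induction ab using TensorProduct.induction_on with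
      | zero => simp
      | add z w hz hw => simp only [TensorProduct.add_tmul, map_add, hz, hw]
      | tmul a b => simp [TensorProduct.smul_tmul']
  rw [LinearMap.comp_apply, LinearMap.comp_apply, LinearEquiv.coe_coe, key,
    ← LinearMap.comp_apply (f := LinearMap.rTensor H (ev x)), ← LinearMap.rTensor_comp, coactD_apply,
    map_sum]
  -- Σ_i c (es_i ⋆ f) x ⊗ e_i = Δ (c f x)
  have h1 : ∀ i, LinearMap.rTensor H (ev x ∘ₗ coactD e es) (starL (es i) f ⊗ₜ[R] e i) =
      c (es i) (c f.fn x) ⊗ₜ[R] e i := by
    intro i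
    rw [LinearMap.rTensor_tmul, LinearMap.comp_apply, ev_coactD e es he]
    change c ((toConv (es i) * toConv f.fn).ofConv) x ⊗ₜ[R] e i = _
    rw [c_conv]
    rfl
  rw [Finset.sum_congr rfl (fun i _ => h1 i)]
  -- Σ_i c (es_i) y ⊗ e_i = Δ y
  generalize c f.fn x = y
  have h2 : ∀ w : H ⊗[R] H, ∑ i, TensorProduct.rid R H (LinearMap.lTensor H (es i) w) ⊗ₜ[R] e i = w := by
    intro w
    induction w using TensorProduct.induction_on with
    | zero => simp
    | add z w hz hw =>
      simp only [map_add, TensorProduct.add_tmul, Finset.sum_add_distrib, hz, hw]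
    | tmul a b =>
      simp only [LinearMap.lTensor_tmul, TensorProduct.rid_tmul]
      conv_rhs => rw [he b, TensorProduct.tmul_sum]
      refine Finset.sum_congr rfl (fun i _ => ?_)
      rw [TensorProduct.smul_tmul, TensorProduct.tmul_smul, TensorProduct.smul_tmul']
  exact h2 (Coalgebra.comul y)

end coact

section psi
variable (R : Type u) [CommRing R] (H : Type v) [CommRing H] [HopfAlgebra R H]

/-- `a ⊗ b ↦ (b ⊗ 1) · Δ(S a)` -/
noncomputable def Psi : H ⊗[R] H →ₐ[R] H ⊗[R] H :=
  Algebra.TensorProduct.lift ((Bialgebra.comulAlgHom R H).comp (HopfAlgebra.antipodeAlgHom R H))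
    (Algebra.TensorProduct.includeLeft : H →ₐ[R] H ⊗[R] H) (fun _ _ => .all _ _)

theorem Psi_tmul (a b : H) :
    Psi R H (a ⊗ₜ[R] b) =
      Coalgebra.comul (R := R) (HopfAlgebra.antipode R a) * (b ⊗ₜ[R] (1 : H)) := by
  unfold Psi
  rw [Algebra.TensorProduct.lift_tmul]
  rfl

/-- `Σ Δ(S h₁) · (h₂ ⊗ 1) = 1 ⊗ S h` -/
theorem Psi_comul (h : H) :
    Psi R H (Coalgebra.comul (R := R) h) = (1 : H) ⊗ₜ[R] HopfAlgebra.antipode R h := by
  let p₁ : WithConv (H →ₐ[R] H ⊗[R] H) := WithConv.toConv Algebra.TensorProduct.includeLeft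
  let p₂ : WithConv (H →ₐ[R] H ⊗[R] H) := WithConv.toConv Algebra.TensorProduct.includeRight
  have h12 : p₁ * p₂ = WithConv.toConv (Bialgebra.comulAlgHom R H) := by
    apply WithConv.ofConv_injective
    apply AlgHom.ext
    intro x
    have := AlgHom.convMul_apply p₁ p₂ x
    change (p₁ * p₂).ofConv x = _ at this
    rw [this]
    change Algebra.TensorProduct.lift Algebra.TensorProduct.includeLeft
      Algebra.TensorProduct.includeRight _ (CoalgebraStruct.comul (R := R) x) =
      CoalgebraStruct.comul (R := R) x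
    induction CoalgebraStruct.comul (R := R) x using TensorProduct.induction_on with
    | zero => simp only [map_zero]
    | add y z hy hz => simp only [map_add, hy, hz]
    | tmul b c =>
      rw [Algebra.TensorProduct.lift_tmul, Algebra.TensorProduct.includeLeft_apply,
        Algebra.TensorProduct.includeRight_apply, Algebra.TensorProduct.tmul_mul_tmul, mul_one,
        one_mul]
  have hgrp : (p₁ * p₂)⁻¹ * p₁ = p₂⁻¹ := by
    have e1 : (p₁ * p₂)⁻¹ = p₂⁻¹ * p₁⁻¹ := mul_inv_rev p₁ p₂
    have e2 : (p₂⁻¹ * p₁⁻¹) * p₁ = p₂⁻¹ := inv_mul_cancel_right p₂⁻¹ p₁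
    exact (congrArg (fun z => z * p₁) e1).trans e2
  rw [h12] at hgrp
  have h1 := AlgHom.convMul_apply (WithConv.toConv (Bialgebra.comulAlgHom R H))⁻¹ p₁ h
  rw [hgrp] at h1
  exact h1.symm

end psi

section hopfmod
variable {R : Type u} [CommRing R] {H : Type v} [CommRing H] [HopfAlgebra R H]
variable {n : ℕ} (e : Fin n → H) (es : Fin n → (H →ₗ[R] R))

theorem ev_hmSMul_tmul (x a b : H) (z : Hd R H ⊗[R] H) :
    ev x (TameAct.hmSMul R H H (Hd R H) (a ⊗ₜ[R] b) z) =
      b * ev (HopfAlgebra.antipode R a * x) z := by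
  induction z using TensorProduct.induction_on with
  | zero => simp
  | add z w hz hw => simp only [map_add, hz, hw, mul_add]
  | tmul g y =>
    rw [TameAct.hmSMul_tmul, ev_tmul, ev_tmul, smul_fn_apply, mul_smul_comm]

theorem rid_lTensor_mul_left (f : H →ₗ[R] R) (b : H) (u : H ⊗[R] H) :
    TensorProduct.rid R H (LinearMap.lTensor H f ((b ⊗ₜ[R] (1 : H)) * u)) =
      b * TensorProduct.rid R H (LinearMap.lTensor H f u) := by
  induction u using TensorProduct.induction_on with
  | zero => simp
  | add z w hz hw => simp only [mul_add, map_add, hz, hw]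
  | tmul a d =>
    simp

theorem rid_lTensor_mul_right (f : H →ₗ[R] R) (s : H) (u : H ⊗[R] H) :
    TensorProduct.rid R H (LinearMap.lTensor H f (((1 : H) ⊗ₜ[R] s) * u)) =
      TensorProduct.rid R H (LinearMap.lTensor H (f ∘ₗ LinearMap.mulLeft R s) u) := by
  induction u using TensorProduct.induction_on with
  | zero => simp
  | add z w hz hw => simp only [mul_add, map_add, hz, hw]
  | tmul a d =>
    simp

variable (he : ∀ x : H, x = ∑ i, es i x • e i)
include he

theorem ev_hmSMul (x : H) (w : H ⊗[R] H) (f : Hd R H) :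
    ev x (TameAct.hmSMul R H H (Hd R H) w (coactD e es f)) =
      TensorProduct.rid R H (LinearMap.lTensor H f.fn (Psi R H w * Coalgebra.comul x)) := by
  induction w using TensorProduct.induction_on with
  | zero => simp
  | add z w hz hw => simp only [map_add, LinearMap.add_apply, hz, hw, add_mul]
  | tmul a b =>
    rw [ev_hmSMul_tmul, ev_coactD e es he, Psi_tmul, c_apply, Bialgebra.comul_mul,
      mul_comm (Coalgebra.comul (R := R) (HopfAlgebra.antipode R a)) (b ⊗ₜ[R] (1 : H)), mul_assoc,
      rid_lTensor_mul_left]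

theorem coactD_smul (h : H) (f : Hd R H) :
    coactD e es (h • f) =
      TameAct.hmSMul R H H (Hd R H) (Coalgebra.comul (R := R) h) (coactD e es f) := by
  apply sep e es he
  intro x
  rw [ev_hmSMul e es he, Psi_comul, rid_lTensor_mul_right, ev_coactD e es he, c_apply]
  rfl

end hopfmod

section main
variable (R : Type u) [CommRing R] (H : Type v) [CommRing H] [HopfAlgebra R H]

theorem exists_dual_basis (A : Type v) [AddCommGroup A] [Module R A] [Module.Finite R A]
    [Module.Projective R A] : ∃ (n : ℕ) (e : Fin n → A) (es : Fin n → (A →ₗ[R] R)),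
    ∀ a : A, a = ∑ i, es i a • e i := by
  obtain ⟨n, f, g, -, -, hfg⟩ := Module.Finite.exists_comp_eq_id_of_projective R A
  refine ⟨n, fun i => f (Pi.single i 1), fun i => LinearMap.proj i ∘ₗ g, fun a => ?_⟩
  have h1 : f (g a) = a := LinearMap.congr_fun hfg a
  have h2 : g a = ∑ i, (g a i) • (Pi.single i (1 : R) : Fin n → R) := by
    ext j
    simp [Finset.sum_apply, Pi.single_apply]
  conv_lhs => rw [← h1, h2, map_sum]
  refine Finset.sum_congr rfl (fun i _ => ?_)
  rw [map_smul]
  rfl

/-- **Larson–Sweedler**: a finite projective commutative Hopf algebra has finitely many left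
integrals `t i` in its dual and elements `T i` with `∑ t i (T i * x) = ε x`. -/
theorem exists_integrals [Module.Finite R H] [Module.Projective R H] :
    ∃ (n : ℕ) (t : Fin n → (H →ₗ[R] R)) (T : Fin n → H),
      (∀ i x, c (t i) x = t i x • (1 : H)) ∧
      ∀ x, ∑ i, t i (T i * x) = Coalgebra.counit (R := R) x := by
  obtain ⟨n, e, es, he⟩ := exists_dual_basis R H
  letI : HopfRep.Comod R H (Hd R H) :=
    ⟨coactD e es, coassoc_coactD e es he, counit_coactD e es he⟩
  haveI : TameAct.IsHopfMod R H H (Hd R H) := ⟨coactD_smul e es he⟩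
  let m : Hd R H := Hd.of (Coalgebra.counit (R := R) (A := H))
  let P := Groth.Agent.H93.HopfMod.P R H (Hd R H)
  refine ⟨n, fun i => (P (starL (es i) m)).fn, fun i => HopfAlgebra.antipode R (e i), ?_, ?_⟩
  · intro i x
    have h1 : P (starL (es i) m) ∈ HopfRep.fixedPts R H (Hd R H) :=
      Groth.Agent.H93.HopfMod.P_mem_fixedPts R H (Hd R H) _
    have h2 : coactD e es (P (starL (es i) m)) = P (starL (es i) m) ⊗ₜ[R] (1 : H) := h1
    have h3 := congrArg (ev x) h2
    rw [ev_coactD e es he, ev_tmul] at h3
    exact h3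
  · intro x
    have h1 := Groth.Agent.H93.HopfMod.act_P_coact R H (Hd R H) m
    have h2 : HopfRep.Comod.coact (k := R) (A := H) m = coactD e es m := rfl
    rw [h2, coactD_apply, map_sum, map_sum] at h1
    have h3 : ∀ i, Groth.Agent.H93.HopfMod.act R H (Hd R H)
        ((LinearMap.rTensor H (Groth.Agent.H93.HopfMod.P R H (Hd R H)))
          (starL (es i) m ⊗ₜ[R] e i)) = e i • P (starL (es i) m) := by
      intro i
      rw [LinearMap.rTensor_tmul, Groth.Agent.H93.HopfMod.act_tmul]
    rw [Finset.sum_congr rfl (fun i _ => h3 i)] at h1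
    have h4 := congrArg (fun f : Hd R H => f.fn x) h1
    change _ = Coalgebra.counit (R := R) x at h4
    rw [← h4]
    have h5 : ∀ (s : Finset (Fin n)) (g : Fin n → Hd R H), (∑ i ∈ s, g i).fn x = ∑ i ∈ s, (g i).fn x := by
      intro s g
      induction s using Finset.induction_on with
      | empty => simp
      | insert a s ha ih => rw [Finset.sum_insert ha, Finset.sum_insert ha, Hd.fn_add, LinearMap.add_apply, ih]
    rw [h5]
    refine Finset.sum_congr rfl (fun i _ => ?_)
    rw [smul_fn_apply]

end main

end Groth.Agent.H92.HopfInt
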