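import Groth.Agent.H92.HopfInt
import Mathlib

/-!
# Kreimer–Takeuchi, commutative case

`H` a commutative Hopf algebra, finitely generated projective over `R`; `A` a commutative
`H`-comodule algebra via `ρ : A →ₐ[R] A ⊗[R] H` whose Galois map `A ⊗ A → A ⊗ H` hits all `1 ⊗ T`.
Then `A` is finitely generated projective over the coinvariants `B`, the Galois map
`A ⊗[B] A → A ⊗[R] H` is bijective, and `B` is a `B`-module direct summand of `A`.
-/

set_option autoImplicit false
universe u v w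
open TensorProduct

namespace Groth.Agent.H92.KT

section theta
variable {R : Type u} [CommRing R] {A : Type v} [CommRing A] [Algebra R A]
  {H : Type w} [CommRing H] [Algebra R H]

/-- `θ_t = (id ⊗ t)` followed by `A ⊗ R ≅ A` -/
noncomputable def theta (t : H →ₗ[R] R) : A ⊗[R] H →ₗ[R] A :=
  (TensorProduct.rid R A).toLinearMap ∘ₗ LinearMap.lTensor A t

@[simp] theorem theta_tmul (t : H →ₗ[R] R) (a : A) (h : H) :
    theta t (a ⊗ₜ[R] h) = t h • a := by
  simp [theta]

theorem theta_mul_left (t : H →ₗ[R] R) (a : A) (w : A ⊗[R] H) :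
    theta t ((a ⊗ₜ[R] (1 : H)) * w) = a * theta t w := by
  induction w using TensorProduct.induction_on with
  | zero => simp
  | add z w hz hw => simp only [mul_add, map_add, hz, hw]
  | tmul b h => simp

theorem theta_mul_right (t : H →ₗ[R] R) (T : H) (w : A ⊗[R] H) :
    theta t (((1 : A) ⊗ₜ[R] T) * w) = theta (t ∘ₗ LinearMap.mulLeft R T) w := by
  induction w using TensorProduct.induction_on with
  | zero => simp
  | add z w hz hw => simp only [mul_add, map_add, hz, hw]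
  | tmul b h => simp

theorem theta_sum {ι : Type*} (s : Finset ι) (t : ι → (H →ₗ[R] R)) (w : A ⊗[R] H) :
    theta (∑ i ∈ s, t i) w = ∑ i ∈ s, theta (t i) w := by
  induction w using TensorProduct.induction_on with
  | zero => simp
  | add z w hz hw => simp only [map_add, hz, hw, Finset.sum_add_distrib]
  | tmul b h => simp [LinearMap.sum_apply, Finset.sum_smul]

end theta

section coaction
variable {R : Type u} [CommRing R] {A : Type v} [CommRing A] [Algebra R A]
  {H : Type w} [CommRing H] [HopfAlgebra R H] (ρ : A →ₐ[R] A ⊗[R] H)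

/-- the coinvariants -/
abbrev coinv : Subalgebra R A :=
  AlgHom.equalizer ρ (Algebra.TensorProduct.includeLeft : A →ₐ[R] A ⊗[R] H)

theorem mem_coinv {a : A} : a ∈ coinv ρ ↔ ρ a = a ⊗ₜ[R] (1 : H) := Iff.rfl

/-- `a ↦ Σ a₀ t(a₁)` -/
noncomputable def hat (t : H →ₗ[R] R) : A →ₗ[R] A := theta t ∘ₗ ρ.toLinearMap

theorem hat_apply (t : H →ₗ[R] R) (a : A) : hat ρ t a = theta t (ρ a) := rfl

theorem hat_mul (t : H →ₗ[R] R) (b a : A) : hat ρ t (b * a) = theta t (ρ b * ρ a) := by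
  rw [hat_apply, map_mul]

theorem hat_coinv_mul (t : H →ₗ[R] R) (b : A) (hb : b ∈ coinv ρ) (a : A) :
    hat ρ t (b * a) = b * hat ρ t a := by
  rw [hat_mul, (mem_coinv ρ).1 hb, theta_mul_left]
  rfl

theorem rho_theta (t : H →ₗ[R] R) (w : A ⊗[R] H) :
    ρ (theta t w) = theta (A := A ⊗[R] H) t (LinearMap.rTensor H ρ.toLinearMap w) := by
  induction w using TensorProduct.induction_on with
  | zero => simp
  | add z w hz hw => simp only [map_add, hz, hw]
  | tmul b h => simp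

theorem theta_assoc (t : H →ₗ[R] R) (w : (A ⊗[R] H) ⊗[R] H) :
    theta (A := A ⊗[R] H) t w =
      LinearMap.lTensor A (theta (A := H) t) (TensorProduct.assoc R A H H w) := by
  induction w using TensorProduct.induction_on with
  | zero => simp
  | add z w hz hw => simp only [map_add, hz, hw]
  | tmul ab d =>
    induction ab using TensorProduct.induction_on with
    | zero => simp
    | add z w hz hw => simp only [TensorProduct.add_tmul, map_add, hz, hw]
    | tmul a b => simp [TensorProduct.smul_tmul']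

theorem lTensor_c (t : H →ₗ[R] R) (ht : ∀ x, HopfInt.c t x = t x • (1 : H)) (w : A ⊗[R] H) :
    LinearMap.lTensor A (HopfInt.c t) w = theta t w ⊗ₜ[R] (1 : H) := by
  induction w using TensorProduct.induction_on with
  | zero => simp
  | add z w hz hw => simp only [map_add, hz, hw, TensorProduct.add_tmul]
  | tmul b h => simp [ht, TensorProduct.smul_tmul']

variable (hco : ∀ a, TensorProduct.assoc R A H H (LinearMap.rTensor H ρ.toLinearMap (ρ a)) =
  LinearMap.lTensor A Coalgebra.comul (ρ a))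
include hco

theorem rho_hat (t : H →ₗ[R] R) (a : A) :
    ρ (hat ρ t a) = LinearMap.lTensor A (HopfInt.c t) (ρ a) := by
  rw [hat_apply, rho_theta, theta_assoc, hco, ← LinearMap.comp_apply, ← LinearMap.lTensor_comp]
  rfl

theorem hat_mem (t : H →ₗ[R] R) (ht : ∀ x, HopfInt.c t x = t x • (1 : H)) (a : A) :
    hat ρ t a ∈ coinv ρ := by
  rw [mem_coinv, rho_hat ρ hco, lTensor_c t ht]
  rfl

/-- `x ↦ Σ (y x)₀ t((y x)₁)`, a `B`-linear map `A → B` for a left integral `t` -/
noncomputable def phi (t : H →ₗ[R] R) (ht : ∀ x, HopfInt.c t x = t x • (1 : H)) (y : A) :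
    A →ₗ[↥(coinv ρ)] ↥(coinv ρ) where
  toFun x := ⟨hat ρ t (y * x), hat_mem ρ hco t ht _⟩
  map_add' x x' := by
    apply Subtype.ext
    change hat ρ t (y * (x + x')) = hat ρ t (y * x) + hat ρ t (y * x')
    rw [mul_add, map_add]
  map_smul' b x := by
    apply Subtype.ext
    change hat ρ t (y * (b • x)) = (b : A) * hat ρ t (y * x)
    rw [← hat_coinv_mul ρ t b b.2, Algebra.smul_def]
    congr 1
    change y * ((b : A) * x) = (b : A) * (y * x)
    ring

theorem phi_apply_coe (t : H →ₗ[R] R) (ht : ∀ x, HopfInt.c t x = t x • (1 : H)) (y x : A) :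
    ((phi ρ hco t ht y x : ↥(coinv ρ)) : A) = hat ρ t (y * x) := rfl

end coaction

section main
variable {R : Type u} [CommRing R] {A : Type v} [CommRing A] [Algebra R A]
  {H : Type w} [CommRing H] [HopfAlgebra R H] (ρ : A →ₐ[R] A ⊗[R] H)
  (hco : ∀ a, TensorProduct.assoc R A H H (LinearMap.rTensor H ρ.toLinearMap (ρ a)) =
    LinearMap.lTensor A Coalgebra.comul (ρ a))
  (hcu : ∀ a, theta (Coalgebra.counit (R := R) (A := H)) (ρ a) = a)
  {n : ℕ} (t : Fin n → (H →ₗ[R] R)) (T : Fin n → H)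
  (ht : ∀ i x, HopfInt.c (t i) x = t i x • (1 : H))
  (hT : ∀ x, ∑ i, t i (T i * x) = Coalgebra.counit (R := R) x)
  (S : Fin n → Finset (A × A))
  (hS : ∀ j, ∑ p ∈ S j, (p.1 ⊗ₜ[R] (1 : H)) * ρ p.2 = (1 : A) ⊗ₜ[R] T j)

include hcu hT hS in
theorem expand (a : A) : ∑ j, ∑ p ∈ S j, p.1 * hat ρ (t j) (p.2 * a) = a := by
  have h1 : ∀ j, ∑ p ∈ S j, p.1 * hat ρ (t j) (p.2 * a) =
      theta (t j ∘ₗ LinearMap.mulLeft R (T j)) (ρ a) := by
    intro j
    rw [← theta_mul_right, ← hS j, Finset.sum_mul, map_sum]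
    refine Finset.sum_congr rfl (fun p _ => ?_)
    rw [hat_mul, ← theta_mul_left, mul_assoc]
  rw [Finset.sum_congr rfl (fun j _ => h1 j), ← theta_sum]
  have h2 : ∑ j, t j ∘ₗ LinearMap.mulLeft R (T j) = Coalgebra.counit (R := R) (A := H) := by
    apply LinearMap.ext
    intro x
    rw [LinearMap.sum_apply, ← hT x]
    rfl
  rw [h2, hcu]

include hcu hT hS in
theorem expand' (a : A) :
    ∑ k ∈ (Finset.univ : Finset (Fin n)).sigma S, k.2.1 * hat ρ (t k.1) (k.2.2 * a) = a := by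
  rw [Finset.sum_sigma]
  exact expand ρ hcu t T hT S hS a

include hcu hT hS in
theorem expand_phi (a : A) :
    ∑ k : ↥((Finset.univ : Finset (Fin n)).sigma S),
      phi ρ hco (t k.1.1) (ht k.1.1) k.1.2.2 a • k.1.2.1 = a := by
  rw [Finset.sum_coe_sort ((Finset.univ : Finset (Fin n)).sigma S)
    (fun k => phi ρ hco (t k.1) (ht k.1) k.2.2 a • k.2.1)]
  conv_rhs => rw [← expand' ρ hcu t T hT S hS a]
  refine Finset.sum_congr rfl (fun k _ => ?_)
  rw [Algebra.smul_def, mul_comm]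
  rfl

include hco hcu ht hT hS in
theorem finite_projective :
    Module.Finite ↥(coinv ρ) A ∧ Module.Projective ↥(coinv ρ) A := by
  classical
  let I := (Finset.univ : Finset (Fin n)).sigma S
  let i : A →ₗ[↥(coinv ρ)] (↥I → ↥(coinv ρ)) :=
    LinearMap.pi (fun k => phi ρ hco (t k.1.1) (ht k.1.1) k.1.2.2)
  let s : (↥I → ↥(coinv ρ)) →ₗ[↥(coinv ρ)] A :=
    Fintype.linearCombination ↥(coinv ρ) (fun k : ↥I => k.1.2.1)
  have hsi : s ∘ₗ i = LinearMap.id := by
    apply LinearMap.ext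
    intro a
    rw [LinearMap.comp_apply, Fintype.linearCombination_apply]
    exact expand_phi ρ hco hcu t T ht hT S hS a
  have hsurj : Function.Surjective s := fun a => ⟨i a, LinearMap.congr_fun hsi a⟩
  exact ⟨Module.Finite.of_surjective s hsurj, Module.Projective.of_split i s hsi⟩

end main

section can
variable {R : Type u} [CommRing R] {A : Type v} [CommRing A] [Algebra R A]
  {H : Type w} [CommRing H] [HopfAlgebra R H] (ρ : A →ₐ[R] A ⊗[R] H)

theorem coinv_smul_eq (b : ↥(coinv ρ)) (w : A ⊗[R] H) :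
    b • w = ((b : A) ⊗ₜ[R] (1 : H)) * w := by
  rw [Algebra.smul_def]
  rfl

/-- `ρ` as a `B`-linear map -/
noncomputable def rhoB : A →ₗ[↥(coinv ρ)] A ⊗[R] H where
  toFun := ρ
  map_add' := map_add ρ
  map_smul' b x := by
    change ρ (b • x) = b • ρ x
    rw [coinv_smul_eq, Algebra.smul_def, map_mul]
    congr 1
    exact b.2

/-- the Galois map `A ⊗[B] A → A ⊗[R] H`, `x ⊗ y ↦ (x ⊗ 1) ρ(y)` -/
noncomputable def canB : A ⊗[↥(coinv ρ)] A →ₗ[A] A ⊗[R] H :=
  LinearMap.liftBaseChange A (rhoB ρ)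

theorem canB_tmul (x y : A) :
    canB ρ (x ⊗ₜ[↥(coinv ρ)] y) = (x ⊗ₜ[R] (1 : H)) * ρ y := by
  unfold canB
  rw [LinearMap.liftBaseChange_tmul, Algebra.smul_def]
  rfl

end can

section bij
variable {R : Type u} [CommRing R] {A : Type v} [CommRing A] [Algebra R A]
  {H : Type w} [CommRing H] [HopfAlgebra R H] (ρ : A →ₐ[R] A ⊗[R] H)
  (hco : ∀ a, TensorProduct.assoc R A H H (LinearMap.rTensor H ρ.toLinearMap (ρ a)) =
    LinearMap.lTensor A Coalgebra.comul (ρ a))
  (hcu : ∀ a, theta (Coalgebra.counit (R := R) (A := H)) (ρ a) = a)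
  {n : ℕ} (t : Fin n → (H →ₗ[R] R)) (T : Fin n → H)
  (ht : ∀ i x, HopfInt.c (t i) x = t i x • (1 : H))
  (hT : ∀ x, ∑ i, t i (T i * x) = Coalgebra.counit (R := R) x)
  (S : Fin n → Finset (A × A))
  (hS : ∀ j, ∑ p ∈ S j, (p.1 ⊗ₜ[R] (1 : H)) * ρ p.2 = (1 : A) ⊗ₜ[R] T j)

/-- the inverse of the Galois map -/
noncomputable def invFun (w : A ⊗[R] H) : A ⊗[↥(coinv ρ)] A :=
  ∑ k ∈ (Finset.univ : Finset (Fin n)).sigma S,
    theta (t k.1) (ρ k.2.2 * w) ⊗ₜ[↥(coinv ρ)] k.2.1

theorem invFun_add (w w' : A ⊗[R] H) :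
    invFun ρ t S (w + w') = invFun ρ t S w + invFun ρ t S w' := by
  unfold invFun
  rw [← Finset.sum_add_distrib]
  refine Finset.sum_congr rfl (fun k _ => ?_)
  rw [mul_add, map_add, TensorProduct.add_tmul]

include hco hcu ht hT hS in
theorem invFun_canB (w : A ⊗[↥(coinv ρ)] A) : invFun ρ t S (canB ρ w) = w := by
  induction w using TensorProduct.induction_on with
  | zero =>
    rw [map_zero]
    unfold invFun
    simp
  | add z w hz hw => rw [map_add, invFun_add, hz, hw]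
  | tmul x y =>
    rw [canB_tmul]
    unfold invFun
    have h1 : ∀ k : (Σ _ : Fin n, A × A),
        theta (t k.1) (ρ k.2.2 * ((x ⊗ₜ[R] (1 : H)) * ρ y)) ⊗ₜ[↥(coinv ρ)] k.2.1 =
        x ⊗ₜ[↥(coinv ρ)] (phi ρ hco (t k.1) (ht k.1) k.2.2 y • k.2.1) := by
      intro k
      rw [← mul_assoc, mul_comm (ρ k.2.2), mul_assoc, theta_mul_left, ← hat_mul,
        ← TensorProduct.smul_tmul]
      congr 1
      rw [Algebra.smul_def, mul_comm]
      rfl
    rw [Finset.sum_congr rfl (fun k _ => h1 k), ← TensorProduct.tmul_sum]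
    congr 1
    have h2 := expand_phi ρ hco hcu t T ht hT S hS y
    rw [Finset.sum_coe_sort ((Finset.univ : Finset (Fin n)).sigma S)
      (fun k => phi ρ hco (t k.1) (ht k.1) k.2.2 y • k.2.1)] at h2
    exact h2

include hco hcu ht hT hS in
theorem canB_injective : Function.Injective (canB ρ) :=
  Function.LeftInverse.injective (invFun_canB ρ hco hcu t T ht hT S hS)

include hco hcu ht hT hS in
/-- `B` is a `B`-module direct summand of `A` -/
theorem exists_retraction : ∃ r : A →ₗ[↥(coinv ρ)] ↥(coinv ρ), r 1 = 1 := by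
  classical
  obtain ⟨hfin, -⟩ := finite_projective ρ hco hcu t T ht hT S hS
  let I := (Finset.univ : Finset (Fin n)).sigma S
  -- the trace map
  let Φ : (↥I → A) →ₗ[↥(coinv ρ)] ↥(coinv ρ) :=
    ∑ k : ↥I, phi ρ hco (t k.1.1) (ht k.1.1) k.1.2.2 ∘ₗ LinearMap.proj k
  have hΦ : ∀ v, Φ v = ∑ k : ↥I, phi ρ hco (t k.1.1) (ht k.1.1) k.1.2.2 (v k) := by
    intro v
    simp only [Φ, LinearMap.sum_apply, LinearMap.comp_apply, LinearMap.proj_apply]
  let 𝔗 : Ideal ↥(coinv ρ) := LinearMap.range Φ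
  have hmem : ∀ (k : ↥I) (a : A), phi ρ hco (t k.1.1) (ht k.1.1) k.1.2.2 a ∈ 𝔗 := by
    intro k a
    refine ⟨Pi.single k a, ?_⟩
    rw [hΦ, Finset.sum_eq_single k]
    · rw [Pi.single_eq_same]
    · intro k' _ hk'
      rw [Pi.single_eq_of_ne hk', map_zero]
    · intro hk
      exact absurd (Finset.mem_univ k) hk
  have hin : (⊤ : Submodule ↥(coinv ρ) A) ≤ 𝔗 • (⊤ : Submodule ↥(coinv ρ) A) := by
    intro a _
    rw [← expand_phi ρ hco hcu t T ht hT S hS a]
    exact Submodule.sum_mem _ (fun k _ => Submodule.smul_mem_smul (hmem k a) Submodule.mem_top)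
  obtain ⟨r, hr, hr'⟩ := Submodule.exists_mem_and_smul_eq_self_of_fg_of_le_smul 𝔗 ⊤
    (Module.finite_def.mp hfin) hin
  have h1 : r = 1 := by
    apply Subtype.ext
    have := hr' 1 Submodule.mem_top
    rw [Algebra.smul_def, mul_one] at this
    exact this
  rw [h1] at hr
  obtain ⟨v, hv⟩ := hr
  refine ⟨∑ k : ↥I, phi ρ hco (t k.1.1) (ht k.1.1) k.1.2.2 ∘ₗ LinearMap.mulLeft ↥(coinv ρ) (v k), ?_⟩
  rw [LinearMap.sum_apply, ← hv, hΦ]
  refine Finset.sum_congr rfl (fun k _ => ?_)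
  rw [LinearMap.comp_apply, LinearMap.mulLeft_apply, mul_one]

end bij

section package
variable {R : Type u} [CommRing R] {A : Type v} [CommRing A] [Algebra R A]
  {H : Type w} [CommRing H] [HopfAlgebra R H] [Module.Finite R H] [Module.Projective R H]
  (ρ : A →ₐ[R] A ⊗[R] H)
  (hco : ∀ a, TensorProduct.assoc R A H H (LinearMap.rTensor H ρ.toLinearMap (ρ a)) =
    LinearMap.lTensor A Coalgebra.comul (ρ a))
  (hcu : ∀ a, theta (Coalgebra.counit (R := R) (A := H)) (ρ a) = a)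
  (hsurj : ∀ T : H, ∃ S : Finset (A × A),
    ∑ p ∈ S, (p.1 ⊗ₜ[R] (1 : H)) * ρ p.2 = (1 : A) ⊗ₜ[R] T)

include hsurj in
theorem canB_surjective : Function.Surjective (canB ρ) := by
  intro w
  induction w using TensorProduct.induction_on with
  | zero => exact ⟨0, map_zero _⟩
  | add z w hz hw =>
    obtain ⟨z', hz'⟩ := hz
    obtain ⟨w', hw'⟩ := hw
    exact ⟨z' + w', by rw [map_add, hz', hw']⟩
  | tmul a T =>
    obtain ⟨S, hS⟩ := hsurj T
    refine ⟨∑ p ∈ S, (a * p.1) ⊗ₜ[↥(coinv ρ)] p.2, ?_⟩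
    rw [map_sum]
    have h1 : ∀ p : A × A, canB ρ ((a * p.1) ⊗ₜ[↥(coinv ρ)] p.2) =
        (a ⊗ₜ[R] (1 : H)) * ((p.1 ⊗ₜ[R] (1 : H)) * ρ p.2) := by
      intro p
      rw [canB_tmul, ← mul_assoc, Algebra.TensorProduct.tmul_mul_tmul, mul_one]
    rw [Finset.sum_congr rfl (fun p _ => h1 p), ← Finset.mul_sum, hS,
      Algebra.TensorProduct.tmul_mul_tmul, mul_one, one_mul]

include hco hcu hsurj in
/-- **Kreimer–Takeuchi** (commutative case) -/
theorem main : Module.Finite ↥(coinv ρ) A ∧ Module.Projective ↥(coinv ρ) A ∧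
    Function.Bijective (canB ρ) ∧ ∃ r : A →ₗ[↥(coinv ρ)] ↥(coinv ρ), r 1 = 1 := by
  obtain ⟨n, t, T, ht, hT⟩ := HopfInt.exists_integrals R H
  choose S hS using fun j => hsurj (T j)
  obtain ⟨h1, h2⟩ := finite_projective ρ hco hcu t T ht hT S hS
  exact ⟨h1, h2, ⟨canB_injective ρ hco hcu t T ht hT S hS, canB_surjective ρ hsurj⟩,
    exists_retraction ρ hco hcu t T ht hT S hS⟩

end package

end Groth.Agent.H92.KT
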