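import Groth.Agent.H92.KTSurj
import Mathlib

/-!
# The kernel of a surjective Hopf algebra map is generated by the augmentation ideal of the
coinvariants (finite projective target)
-/

set_option autoImplicit false
universe u v w
open TensorProduct

namespace Groth.Agent.H92.KTKer

variable {R : Type u} [CommRing R] {K : Type v} [CommRing K] [HopfAlgebra R K]
  {H : Type w} [CommRing H] [HopfAlgebra R H] (p : K →ₐc[R] H)

theorem counit_theta (t : H →ₗ[R] R) (w : K ⊗[R] K) :
    Coalgebra.counit (R := R)
      (KT.theta t (Algebra.TensorProduct.map (AlgHom.id R K) (p : K →ₐ[R] H) w)) =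
    t (p (TensorProduct.lid R K (LinearMap.rTensor K (Coalgebra.counit (R := R)) w))) := by
  induction w using TensorProduct.induction_on with
  | zero => simp
  | add z w hz hw => simp only [map_add, hz, hw]
  | tmul x y =>
    rw [Algebra.TensorProduct.map_tmul, KT.theta_tmul, LinearMap.rTensor_tmul,
      TensorProduct.lid_tmul, map_smul, map_smul, map_smul, smul_eq_mul, smul_eq_mul, mul_comm]
    rfl

theorem counit_hat (t : H →ₗ[R] R) (y : K) :
    Coalgebra.counit (R := R) (KT.hat (KTSurj.rho p) t y) = t (p y) := by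
  rw [KT.hat_apply, KTSurj.rho_apply, counit_theta, Coalgebra.rTensor_counit_comul,
    TensorProduct.lid_tmul, one_smul]

variable [Module.Finite R H] [Module.Projective R H]

/-- `ker p ⊆ K · C⁺` -/
theorem ker_le (hp : Function.Surjective p) (x : K) (hx : p x = 0) :
    x ∈ Ideal.span {c : K | c ∈ KT.coinv (KTSurj.rho p) ∧ Coalgebra.counit (R := R) c = 0} := by
  obtain ⟨n, t, T, ht, hT⟩ := HopfInt.exists_integrals R H
  choose S hS using fun j => KTSurj.hsurj p hp (T j)
  rw [← KT.expand' (KTSurj.rho p) (KTSurj.hcu p) t T hT S hS x]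
  refine Ideal.sum_mem _ (fun k _ => ?_)
  refine Ideal.mul_mem_left _ _ (Ideal.subset_span ⟨?_, ?_⟩)
  · exact KT.hat_mem (KTSurj.rho p) (KTSurj.hco p) (t k.1) (ht k.1) _
  · rw [counit_hat, map_mul, hx, mul_zero, map_zero]

end Groth.Agent.H92.KTKer
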