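import Groth.Agent.H92.KTQuot
import Groth.Agent.H78.HopfExt.Normal
import Groth.Prelude.Def_SGA3
import Mathlib

/-!
# Invariants of a normal closed subgroup form a Hopf subalgebra
-/

set_option autoImplicit false
universe u
open TensorProduct WithConv

namespace Groth.Agent.H92.KTNormal

section dualbasis
universe v w w'
variable {R : Type u} [CommRing R] {A : Type v} [AddCommGroup A] [Module R A]
  {N : Type w} [AddCommGroup N] [Module R N] {N' : Type w'} [AddCommGroup N'] [Module R N']

/-- `a ⊗ y ↦ f a • y` -/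
noncomputable def slice (f : A →ₗ[R] R) : A ⊗[R] N →ₗ[R] N :=
  (TensorProduct.lid R N).toLinearMap ∘ₗ LinearMap.rTensor N f

@[simp] theorem slice_tmul (f : A →ₗ[R] R) (a : A) (y : N) :
    slice f (a ⊗ₜ[R] y) = f a • y := by
  simp [slice]

theorem slice_lTensor (f : A →ₗ[R] R) (d : N →ₗ[R] N') (x : A ⊗[R] N) :
    slice f (LinearMap.lTensor A d x) = d (slice f x) := by
  induction x using TensorProduct.induction_on with
  | zero => simp
  | add z w hz hw => simp only [map_add, hz, hw]
  | tmul a y => simp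

variable {n : ℕ} (e : Fin n → A) (es : Fin n → (A →ₗ[R] R)) (he : ∀ a, a = ∑ i, es i a • e i)
include he

theorem expand_left (x : A ⊗[R] N) : x = ∑ i, e i ⊗ₜ[R] slice (es i) x := by
  induction x using TensorProduct.induction_on with
  | zero => simp
  | add z w hz hw =>
    conv_lhs => rw [hz, hw]
    rw [← Finset.sum_add_distrib]
    refine Finset.sum_congr rfl (fun i _ => ?_)
    rw [map_add, TensorProduct.tmul_add]
  | tmul a y =>
    conv_lhs => rw [he a, TensorProduct.sum_tmul]
    refine Finset.sum_congr rfl (fun i _ => ?_)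
    rw [slice_tmul, TensorProduct.smul_tmul]

/-- if `(id ⊗ d) x = 0` and `P` fixes `ker d`, then `(id ⊗ P) x = x` -/
theorem lTensor_fix (d : N →ₗ[R] N') (P : N →ₗ[R] N) (hP : ∀ b, d b = 0 → P b = b)
    (x : A ⊗[R] N) (hx : LinearMap.lTensor A d x = 0) : LinearMap.lTensor A P x = x := by
  conv_rhs => rw [expand_left e es he x]
  conv_lhs => rw [expand_left e es he x, map_sum]
  refine Finset.sum_congr rfl (fun i _ => ?_)
  rw [LinearMap.lTensor_tmul, hP]
  rw [← slice_lTensor, hx, map_zero]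

/-- if `(d ⊗ id) x = 0` and `P` fixes `ker d`, then `(P ⊗ id) x = x` -/
theorem rTensor_fix (d : N →ₗ[R] N') (P : N →ₗ[R] N) (hP : ∀ b, d b = 0 → P b = b)
    (x : N ⊗[R] A) (hx : LinearMap.rTensor A d x = 0) : LinearMap.rTensor A P x = x := by
  have h1 : ∀ (f : N →ₗ[R] N') (y : N ⊗[R] A), TensorProduct.comm R N' A (LinearMap.rTensor A f y) =
      LinearMap.lTensor A f (TensorProduct.comm R N A y) := by
    intro f y
    induction y using TensorProduct.induction_on with
    | zero => simp
    | add z w hz hw => simp only [map_add, hz, hw]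
    | tmul a y => simp
  have h1' : ∀ (f : N →ₗ[R] N) (y : N ⊗[R] A), TensorProduct.comm R N A (LinearMap.rTensor A f y) =
      LinearMap.lTensor A f (TensorProduct.comm R N A y) := by
    intro f y
    induction y using TensorProduct.induction_on with
    | zero => simp
    | add z w hz hw => simp only [map_add, hz, hw]
    | tmul a y => simp
  apply (TensorProduct.comm R N A).injective
  rw [h1']
  apply lTensor_fix e es he d P hP
  rw [← h1, hx, map_zero]

end dualbasis

variable {R : Type u} [CommRing R] {A : Type u} [CommRing A] [HopfAlgebra R A]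
  (K : Ideal A) [K.IsHopfIdeal R]

/-- the universal point of `G` over `G × N` -/
noncomputable def gu : A →ₐ[R] A ⊗[R] (A ⧸ K) := Algebra.TensorProduct.includeLeft

/-- the universal point of `N` over `G × N` -/
noncomputable def hu : A →ₐ[R] A ⊗[R] (A ⧸ K) :=
  (Algebra.TensorProduct.includeRight : (A ⧸ K) →ₐ[R] A ⊗[R] (A ⧸ K)).comp (Ideal.Quotient.mkₐ R K)

theorem hu_kills : ∀ a ∈ K, hu (R := R) K a = 0 := by
  intro a ha
  change (1 : A) ⊗ₜ[R] (Ideal.Quotient.mk K a) = 0
  rw [Ideal.Quotient.eq_zero_iff_mem.mpr ha, TensorProduct.tmul_zero]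

theorem gu_mul_hu :
    toConv (gu (R := R) K) * toConv (hu (R := R) K) = toConv (KTQuot.rhoQ (R := R) K) := by
  apply WithConv.ofConv_injective
  apply AlgHom.ext
  intro x
  have := AlgHom.convMul_apply (toConv (gu (R := R) K)) (toConv (hu (R := R) K)) x
  change (toConv (gu (R := R) K) * toConv (hu (R := R) K)).ofConv x = _ at this
  rw [this]
  change Algebra.TensorProduct.lift (gu (R := R) K) (hu (R := R) K) _
      (CoalgebraStruct.comul (R := R) x) =
    Algebra.TensorProduct.map (AlgHom.id R A) (Ideal.Quotient.mkₐ R K)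
      (CoalgebraStruct.comul (R := R) x)
  induction CoalgebraStruct.comul (R := R) x using TensorProduct.induction_on with
  | zero => simp only [map_zero]
  | add y z hy hz => simp only [map_add, hy, hz]
  | tmul b c =>
    rw [Algebra.TensorProduct.lift_tmul, Algebra.TensorProduct.map_tmul]
    unfold gu hu
    rw [Algebra.TensorProduct.includeLeft_apply,
      AlgHom.comp_apply, Algebra.TensorProduct.includeRight_apply,
      Algebra.TensorProduct.tmul_mul_tmul, mul_one, one_mul]
    rfl

theorem mem_iff (a : A) : a ∈ KT.coinv (KTQuot.rhoQ (R := R) K) ↔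
    (toConv (gu (R := R) K) * toConv (hu (R := R) K)) a = gu (R := R) K a := by
  rw [gu_mul_hu]
  rfl

/-- invariance in terms of points -/
theorem points_of_mem {a : A} (ha : a ∈ KT.coinv (KTQuot.rhoQ (R := R) K))
    {X : Type*} [CommRing X] [Algebra R X] (g n : A →ₐ[R] X) (hn : ∀ k ∈ K, n k = 0) :
    (toConv g * toConv n) a = g a := by
  let nbar : (A ⧸ K) →ₐ[R] X := Ideal.Quotient.liftₐ K n hn
  let Θ : A ⊗[R] (A ⧸ K) →ₐ[R] X := Algebra.TensorProduct.lift g nbar (fun _ _ => Commute.all _ _)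
  have hΘg : Θ.comp (gu (R := R) K) = g := by
    ext a
    change Θ (a ⊗ₜ[R] (1 : A ⧸ K)) = g a
    rw [Algebra.TensorProduct.lift_tmul, map_one, mul_one]
  have hΘh : Θ.comp (hu (R := R) K) = n := by
    ext a
    change Θ ((1 : A) ⊗ₜ[R] (Ideal.Quotient.mk K a)) = n a
    rw [Algebra.TensorProduct.lift_tmul, map_one, one_mul]
    rfl
  have h1 := Groth.Agent.H78.HopfExt.comp_mul Θ (toConv (gu (R := R) K)) (toConv (hu (R := R) K))
  rw [ofConv_toConv, ofConv_toConv, hΘg, hΘh] at h1
  rw [← h1]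
  change Θ ((toConv (gu (R := R) K) * toConv (hu (R := R) K)) a) = g a
  rw [(mem_iff K a).1 ha]
  exact congrArg (fun f : A →ₐ[R] X => f a) hΘg

theorem convMul_includeLeft_apply {Y : Type*} [CommRing Y] [Algebra R Y] (f : A →ₐ[R] Y) (a : A) :
    (toConv (Algebra.TensorProduct.includeLeft : A →ₐ[R] A ⊗[R] Y) *
      toConv ((Algebra.TensorProduct.includeRight : Y →ₐ[R] A ⊗[R] Y).comp f)) a =
    LinearMap.lTensor A f.toLinearMap (Coalgebra.comul (R := R) a) := by
  rw [AlgHom.convMul_apply]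
  change Algebra.TensorProduct.lift _ _ _ (CoalgebraStruct.comul (R := R) a) =
    LinearMap.lTensor A f.toLinearMap (CoalgebraStruct.comul (R := R) a)
  induction CoalgebraStruct.comul (R := R) a using TensorProduct.induction_on with
  | zero => simp only [map_zero]
  | add y z hy hz => simp only [map_add, hy, hz]
  | tmul b c =>
    rw [Algebra.TensorProduct.lift_tmul, ofConv_toConv, ofConv_toConv,
      Algebra.TensorProduct.includeLeft_apply,
      AlgHom.comp_apply, Algebra.TensorProduct.includeRight_apply,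
      Algebra.TensorProduct.tmul_mul_tmul, mul_one, one_mul, LinearMap.lTensor_tmul]
    rfl

theorem convMul_includeRight_apply {Y : Type*} [CommRing Y] [Algebra R Y] (f : A →ₐ[R] Y) (a : A) :
    (toConv ((Algebra.TensorProduct.includeLeft : Y →ₐ[R] Y ⊗[R] A).comp f) *
      toConv (Algebra.TensorProduct.includeRight : A →ₐ[R] Y ⊗[R] A)) a =
    LinearMap.rTensor A f.toLinearMap (Coalgebra.comul (R := R) a) := by
  rw [AlgHom.convMul_apply]
  change Algebra.TensorProduct.lift _ _ _ (CoalgebraStruct.comul (R := R) a) =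
    LinearMap.rTensor A f.toLinearMap (CoalgebraStruct.comul (R := R) a)
  induction CoalgebraStruct.comul (R := R) a using TensorProduct.induction_on with
  | zero => simp only [map_zero]
  | add y z hy hz => simp only [map_add, hy, hz]
  | tmul b c =>
    rw [Algebra.TensorProduct.lift_tmul, ofConv_toConv, ofConv_toConv,
      Algebra.TensorProduct.includeRight_apply,
      AlgHom.comp_apply, Algebra.TensorProduct.includeLeft_apply,
      Algebra.TensorProduct.tmul_mul_tmul, mul_one, one_mul, LinearMap.rTensor_tmul]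
    rfl

theorem lTensor_comul_general {a : A} (ha : a ∈ KT.coinv (KTQuot.rhoQ (R := R) K))
    {Y : Type*} [CommRing Y] [Algebra R Y] (p q : A →ₐ[R] Y) (hq : ∀ k ∈ K, q k = 0) :
    LinearMap.lTensor A (toConv p * toConv q).ofConv.toLinearMap (Coalgebra.comul (R := R) a) =
      LinearMap.lTensor A p.toLinearMap (Coalgebra.comul (R := R) a) := by
  let iR : Y →ₐ[R] A ⊗[R] Y := Algebra.TensorProduct.includeRight
  let iL : A →ₐ[R] A ⊗[R] Y := Algebra.TensorProduct.includeLeft
  have hB : toConv (iR.comp (toConv p * toConv q).ofConv) =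
      toConv (iR.comp p) * toConv (iR.comp q) :=
    Groth.Agent.H78.HopfExt.comp_mul iR (toConv p) (toConv q)
  have e1 := (convMul_includeLeft_apply (toConv p * toConv q).ofConv a).symm
  have e2 := (convMul_includeLeft_apply p a).symm
  have hp2 : ∀ k ∈ K, (iR.comp q) k = 0 := by
    intro k hk
    change iR (q k) = 0
    rw [hq k hk, map_zero]
  have key : (toConv (toConv iL * toConv (iR.comp p)).ofConv * toConv (iR.comp q)) a =
      (toConv iL * toConv (iR.comp p)).ofConv a := points_of_mem K ha _ (iR.comp q) hp2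
  rw [e1, e2, hB]
  have e3 : toConv iL * (toConv (iR.comp p) * toConv (iR.comp q)) =
      toConv iL * toConv (iR.comp p) * toConv (iR.comp q) := (mul_assoc _ _ _).symm
  rw [e3]
  exact key

/-- `(id ⊗ ρ) Δ a = (id ⊗ ι) Δ a` for an invariant `a` -/
theorem lTensor_comul_of_mem {a : A} (ha : a ∈ KT.coinv (KTQuot.rhoQ (R := R) K)) :
    LinearMap.lTensor A (KTQuot.rhoQ (R := R) K).toLinearMap (Coalgebra.comul (R := R) a) =
      LinearMap.lTensor A (gu (R := R) K).toLinearMap (Coalgebra.comul (R := R) a) := by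
  have := lTensor_comul_general K ha (gu (R := R) K) (hu (R := R) K) (hu_kills K)
  rw [gu_mul_hu] at this
  exact this

variable (hN : SGA3.IsNormalHopfIdeal R A K)
include hN

/-- the antipode preserves the invariants of a normal subgroup -/
theorem antipode_mem {a : A} (ha : a ∈ KT.coinv (KTQuot.rhoQ (R := R) K)) :
    HopfAlgebra.antipode R a ∈ KT.coinv (KTQuot.rhoQ (R := R) K) := by
  rw [mem_iff]
  let g : WithConv (A →ₐ[R] A ⊗[R] (A ⧸ K)) := toConv (gu (R := R) K)
  let h : WithConv (A →ₐ[R] A ⊗[R] (A ⧸ K)) := toConv (hu (R := R) K)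
  change ((g * h)⁻¹) a = (g⁻¹) a
  have e0 : (g * h)⁻¹ = h⁻¹ * g⁻¹ := mul_inv_rev g h
  have e2 : g⁻¹ * (g * (h⁻¹ * g⁻¹)) = h⁻¹ * g⁻¹ := inv_mul_cancel_left g (h⁻¹ * g⁻¹)
  have e3 : g * h⁻¹ * g⁻¹ = g * (h⁻¹ * g⁻¹) := mul_assoc g h⁻¹ g⁻¹
  have e1 : (g * h)⁻¹ = g⁻¹ * (g * h⁻¹ * g⁻¹) :=
    e0.trans (e2.symm.trans (congrArg (fun z => g⁻¹ * z) e3.symm))
  have hk : ∀ x ∈ K, (h⁻¹).ofConv x = 0 := by
    intro x hx
    change hu (R := R) K (HopfAlgebra.antipode R x) = 0
    exact hu_kills K _ (Ideal.IsHopfIdeal.antipode_mem (R := R) hx)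
  have hm : ∀ x ∈ K, (g * h⁻¹ * g⁻¹).ofConv x = 0 := by
    intro x hx
    have := hN (A ⊗[R] (A ⧸ K)) (gu (R := R) K) (h⁻¹).ofConv hk x hx
    rw [Groth.Agent.H78.HopfExt.conv3_eq] at this
    exact this
  rw [e1]
  exact points_of_mem K ha (g⁻¹).ofConv (g * h⁻¹ * g⁻¹).ofConv hm

theorem rTensor_comul_general {a : A} (ha : a ∈ KT.coinv (KTQuot.rhoQ (R := R) K))
    {Y : Type u} [CommRing Y] [Algebra R Y] (p q : A →ₐ[R] Y) (hq : ∀ k ∈ K, q k = 0) :
    LinearMap.rTensor A (toConv p * toConv q).ofConv.toLinearMap (Coalgebra.comul (R := R) a) =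
      LinearMap.rTensor A p.toLinearMap (Coalgebra.comul (R := R) a) := by
  let jL : Y →ₐ[R] Y ⊗[R] A := Algebra.TensorProduct.includeLeft
  let jR : A →ₐ[R] Y ⊗[R] A := Algebra.TensorProduct.includeRight
  let P1 : WithConv (A →ₐ[R] Y ⊗[R] A) := toConv (jL.comp p)
  let P2 : WithConv (A →ₐ[R] Y ⊗[R] A) := toConv (jL.comp q)
  let G : WithConv (A →ₐ[R] Y ⊗[R] A) := toConv jR
  let Gi := Groth.Agent.H78.HopfExt.pinv G
  let Gii := Groth.Agent.H78.HopfExt.pinv Gi
  have hB : toConv (jL.comp (toConv p * toConv q).ofConv) = P1 * P2 :=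
    Groth.Agent.H78.HopfExt.comp_mul jL (toConv p) (toConv q)
  have e1 := (convMul_includeRight_apply (toConv p * toConv q).ofConv a).symm
  have e2 := (convMul_includeRight_apply p a).symm
  have hGii : Gii = G := by
    have h1 : Gii * Gi = 1 := Groth.Agent.H78.HopfExt.pinv_mul Gi
    have h2 : Gi * G = 1 := Groth.Agent.H78.HopfExt.pinv_mul G
    calc Gii = Gii * (Gi * G) := by rw [h2, mul_one]
      _ = (Gii * Gi) * G := (mul_assoc _ _ _).symm
      _ = G := by rw [h1, one_mul]
  have hGGi : G * Gi = 1 := Groth.Agent.H78.HopfExt.mul_pinv G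
  have e3 : P1 * P2 * G = (P1 * G) * (Gi * P2 * Gii) := by
    rw [hGii]
    calc P1 * P2 * G = P1 * (1 * (P2 * G)) := by rw [one_mul, mul_assoc]
      _ = P1 * ((G * Gi) * (P2 * G)) := by rw [hGGi]
      _ = (P1 * G) * (Gi * P2 * G) := by simp only [mul_assoc]
  have hP2 : ∀ k ∈ K, P2.ofConv k = 0 := by
    intro k hk
    change jL (q k) = 0
    rw [hq k hk, map_zero]
  have hm : ∀ x ∈ K, (Gi * P2 * Gii).ofConv x = 0 := by
    intro x hx
    have := hN (Y ⊗[R] A) Gi.ofConv P2.ofConv hP2 x hx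
    rw [Groth.Agent.H78.HopfExt.conv3_eq] at this
    exact this
  have key : (toConv (P1 * G).ofConv * toConv (Gi * P2 * Gii).ofConv) a = (P1 * G).ofConv a :=
    points_of_mem K ha _ _ hm
  rw [e1, e2, hB, e3]
  exact key

/-- `(ρ ⊗ id) Δ a = (ι ⊗ id) Δ a` for an invariant `a` of a normal subgroup -/
theorem rTensor_comul_of_mem {a : A} (ha : a ∈ KT.coinv (KTQuot.rhoQ (R := R) K)) :
    LinearMap.rTensor A (KTQuot.rhoQ (R := R) K).toLinearMap (Coalgebra.comul (R := R) a) =
      LinearMap.rTensor A (gu (R := R) K).toLinearMap (Coalgebra.comul (R := R) a) := by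
  have := rTensor_comul_general K hN ha (gu (R := R) K) (hu (R := R) K) (hu_kills K)
  rw [gu_mul_hu] at this
  exact this

/-- the comultiplication maps the invariants of a normal subgroup into `B ⊗ B`, provided `B` is an
`R`-module retract of `A` -/
theorem comul_mem [Module.Finite R A] [Module.Projective R A]
    (r : A →ₗ[R] ↥(KT.coinv (KTQuot.rhoQ (R := R) K)))
    (hr : ∀ b : ↥(KT.coinv (KTQuot.rhoQ (R := R) K)), r b = b)
    {a : A} (ha : a ∈ KT.coinv (KTQuot.rhoQ (R := R) K)) :
    Coalgebra.comul (R := R) a ∈ LinearMap.range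
      (TensorProduct.map (KT.coinv (KTQuot.rhoQ (R := R) K)).val.toLinearMap
        (KT.coinv (KTQuot.rhoQ (R := R) K)).val.toLinearMap) := by
  obtain ⟨n, e, es, he⟩ := HopfInt.exists_dual_basis R A
  let d : A →ₗ[R] A ⊗[R] (A ⧸ K) :=
    (KTQuot.rhoQ (R := R) K).toLinearMap - (gu (R := R) K).toLinearMap
  let P : A →ₗ[R] A := (KT.coinv (KTQuot.rhoQ (R := R) K)).val.toLinearMap ∘ₗ r
  have hP : ∀ b, d b = 0 → P b = b := by
    intro b hb
    have hbB : b ∈ KT.coinv (KTQuot.rhoQ (R := R) K) := by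
      rw [KT.mem_coinv]
      exact sub_eq_zero.mp hb
    exact congrArg Subtype.val (hr ⟨b, hbB⟩)
  have h1 : LinearMap.lTensor A d (Coalgebra.comul (R := R) a) = 0 := by
    rw [LinearMap.lTensor_sub, LinearMap.sub_apply, lTensor_comul_of_mem K ha, sub_self]
  have h2 : LinearMap.rTensor A d (Coalgebra.comul (R := R) a) = 0 := by
    rw [LinearMap.rTensor_sub]
    exact sub_eq_zero.mpr (rTensor_comul_of_mem K hN ha)
  have h3 := lTensor_fix e es he d P hP _ h1
  have h4 := rTensor_fix e es he d P hP _ h2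
  refine ⟨TensorProduct.map r r (Coalgebra.comul (R := R) a), ?_⟩
  rw [← LinearMap.comp_apply, ← TensorProduct.map_comp]
  change TensorProduct.map P P (Coalgebra.comul (R := R) a) = _
  rw [← LinearMap.rTensor_comp_lTensor, LinearMap.comp_apply, h3, h4]

end Groth.Agent.H92.KTNormal
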