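import Groth.Agent.H92.KTRank
import Mathlib

/-!
# The right translation coaction of a closed subgroup `A ⧸ I` on `A`
-/

set_option autoImplicit false
universe u v
open TensorProduct

namespace Groth.Agent.H92.KTQuot

variable {R : Type u} [CommRing R] {A : Type v} [CommRing A] [HopfAlgebra R A]
  (I : Ideal A) [I.IsHopfIdeal R]

/-- coaction of `A ⧸ I` on `A` by right translation -/
noncomputable abbrev rhoQ : A →ₐ[R] A ⊗[R] (A ⧸ I) :=
  (Algebra.TensorProduct.map (AlgHom.id R A) (Ideal.Quotient.mkₐ R I)).comp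
    (Bialgebra.comulAlgHom R A)

theorem rhoQ_apply (a : A) :
    rhoQ (R := R) I a =
      Algebra.TensorProduct.map (AlgHom.id R A) (Ideal.Quotient.mkₐ R I)
        (Coalgebra.comul (R := R) a) := rfl

theorem hco_aux1 (w : A ⊗[R] A) :
    TensorProduct.assoc R A (A ⧸ I) (A ⧸ I)
      (LinearMap.rTensor (A ⧸ I) (rhoQ (R := R) I).toLinearMap
        (Algebra.TensorProduct.map (AlgHom.id R A) (Ideal.Quotient.mkₐ R I) w)) =
    TensorProduct.map LinearMap.id
      (TensorProduct.map (Ideal.Quotient.mkₐ R I).toLinearMap (Ideal.Quotient.mkₐ R I).toLinearMap)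
      (TensorProduct.assoc R A A A (LinearMap.rTensor A Coalgebra.comul w)) := by
  induction w using TensorProduct.induction_on with
  | zero => simp
  | add z w hz hw => simp only [map_add, hz, hw]
  | tmul x y =>
    rw [Algebra.TensorProduct.map_tmul, LinearMap.rTensor_tmul, LinearMap.rTensor_tmul]
    change TensorProduct.assoc R A (A ⧸ I) (A ⧸ I)
      ((Algebra.TensorProduct.map (AlgHom.id R A) (Ideal.Quotient.mkₐ R I)
        (Coalgebra.comul (R := R) x)) ⊗ₜ[R] (Ideal.Quotient.mkₐ R I y)) = _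
    induction Coalgebra.comul (R := R) x using TensorProduct.induction_on with
    | zero => simp
    | add z w hz hw => simp only [map_add, TensorProduct.add_tmul, hz, hw]
    | tmul x₁ x₂ => simp

theorem hco_aux2 (w : A ⊗[R] A) :
    LinearMap.lTensor A (Coalgebra.comul (R := R) (A := A ⧸ I))
      (Algebra.TensorProduct.map (AlgHom.id R A) (Ideal.Quotient.mkₐ R I) w) =
    TensorProduct.map LinearMap.id
      (TensorProduct.map (Ideal.Quotient.mkₐ R I).toLinearMap (Ideal.Quotient.mkₐ R I).toLinearMap)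
      (LinearMap.lTensor A Coalgebra.comul w) := by
  induction w using TensorProduct.induction_on with
  | zero => simp
  | add z w hz hw => simp only [map_add, hz, hw]
  | tmul x y =>
    rw [Algebra.TensorProduct.map_tmul, LinearMap.lTensor_tmul, LinearMap.lTensor_tmul,
      TensorProduct.map_tmul]
    rfl

theorem hco (a : A) :
    TensorProduct.assoc R A (A ⧸ I) (A ⧸ I)
      (LinearMap.rTensor (A ⧸ I) (rhoQ (R := R) I).toLinearMap (rhoQ (R := R) I a)) =
    LinearMap.lTensor A Coalgebra.comul (rhoQ (R := R) I a) := by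
  rw [rhoQ_apply, hco_aux1, hco_aux2, Coalgebra.coassoc_apply]

theorem hcu_aux (w : A ⊗[R] A) :
    KT.theta (Coalgebra.counit (R := R) (A := A ⧸ I))
      (Algebra.TensorProduct.map (AlgHom.id R A) (Ideal.Quotient.mkₐ R I) w) =
    KT.theta (Coalgebra.counit (R := R) (A := A)) w := by
  induction w using TensorProduct.induction_on with
  | zero => simp
  | add z w hz hw => simp only [map_add, hz, hw]
  | tmul x y =>
    rw [Algebra.TensorProduct.map_tmul, KT.theta_tmul, KT.theta_tmul]
    rfl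

theorem hcu (a : A) :
    KT.theta (Coalgebra.counit (R := R) (A := A ⧸ I)) (rhoQ (R := R) I a) = a := by
  rw [rhoQ_apply, hcu_aux]
  unfold KT.theta
  rw [LinearMap.comp_apply, Coalgebra.lTensor_counit_comul]
  simp

/-- `x ⊗ y ↦ (S x ⊗ 1) ρ(y)` -/
noncomputable def Xi : A ⊗[R] A →ₐ[R] A ⊗[R] (A ⧸ I) :=
  Algebra.TensorProduct.lift
    ((Algebra.TensorProduct.includeLeft : A →ₐ[R] A ⊗[R] (A ⧸ I)).comp
      (HopfAlgebra.antipodeAlgHom R A))
    (rhoQ (R := R) I) (fun _ _ => .all _ _)

theorem Xi_comul (a : A) :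
    Xi (R := R) I (Coalgebra.comul (R := R) a) = (1 : A) ⊗ₜ[R] (Ideal.Quotient.mk I a) := by
  let p₁ : WithConv (A →ₐ[R] A ⊗[R] (A ⧸ I)) := WithConv.toConv Algebra.TensorProduct.includeLeft
  let p₂ : WithConv (A →ₐ[R] A ⊗[R] (A ⧸ I)) :=
    WithConv.toConv ((Algebra.TensorProduct.includeRight : (A ⧸ I) →ₐ[R] A ⊗[R] (A ⧸ I)).comp
      (Ideal.Quotient.mkₐ R I))
  have h12 : p₁ * p₂ = WithConv.toConv (rhoQ (R := R) I) := by
    apply WithConv.ofConv_injective
    apply AlgHom.ext
    intro x
    have := AlgHom.convMul_apply p₁ p₂ x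
    change (p₁ * p₂).ofConv x = _ at this
    rw [this]
    change Algebra.TensorProduct.lift Algebra.TensorProduct.includeLeft
      ((Algebra.TensorProduct.includeRight : (A ⧸ I) →ₐ[R] A ⊗[R] (A ⧸ I)).comp
        (Ideal.Quotient.mkₐ R I)) _ (CoalgebraStruct.comul (R := R) x) =
      Algebra.TensorProduct.map (AlgHom.id R A) (Ideal.Quotient.mkₐ R I)
        (CoalgebraStruct.comul (R := R) x)
    induction CoalgebraStruct.comul (R := R) x using TensorProduct.induction_on with
    | zero => simp only [map_zero]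
    | add y z hy hz => simp only [map_add, hy, hz]
    | tmul b c =>
      rw [Algebra.TensorProduct.lift_tmul, Algebra.TensorProduct.includeLeft_apply,
        AlgHom.comp_apply, Algebra.TensorProduct.includeRight_apply,
        Algebra.TensorProduct.tmul_mul_tmul, mul_one, one_mul, Algebra.TensorProduct.map_tmul]
      rfl
  have hgrp : p₁⁻¹ * (p₁ * p₂) = p₂ := inv_mul_cancel_left p₁ p₂
  have h1 := AlgHom.convMul_apply p₁⁻¹ (p₁ * p₂) a
  rw [hgrp] at h1
  rw [h12] at h1
  exact h1.symm

theorem hsurj (T : A ⧸ I) : ∃ S : Finset (A × A),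
    ∑ p ∈ S, (p.1 ⊗ₜ[R] (1 : A ⧸ I)) * rhoQ (R := R) I p.2 = (1 : A) ⊗ₜ[R] T := by
  obtain ⟨a', rfl⟩ := Ideal.Quotient.mk_surjective T
  let can : A ⊗[R] A →ₐ[R] A ⊗[R] (A ⧸ I) :=
    Algebra.TensorProduct.lift (Algebra.TensorProduct.includeLeft : A →ₐ[R] A ⊗[R] (A ⧸ I))
      (rhoQ (R := R) I) (fun _ _ => .all _ _)
  have hcan : ∀ w : A ⊗[R] A,
      can (TensorProduct.map (HopfAlgebra.antipode R (A := A)) LinearMap.id w) = Xi (R := R) I w := by
    intro w
    induction w using TensorProduct.induction_on with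
    | zero => simp
    | add z w hz hw => simp only [map_add, hz, hw]
    | tmul x y =>
      rw [TensorProduct.map_tmul]
      unfold Xi
      rw [Algebra.TensorProduct.lift_tmul, Algebra.TensorProduct.lift_tmul]
      rfl
  obtain ⟨S, hS⟩ := TensorProduct.exists_finset
    (TensorProduct.map (HopfAlgebra.antipode R (A := A)) LinearMap.id (Coalgebra.comul (R := R) a'))
  refine ⟨S, ?_⟩
  rw [← Xi_comul, ← hcan, hS, map_sum]
  refine Finset.sum_congr rfl (fun p _ => ?_)
  rw [Algebra.TensorProduct.lift_tmul]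
  rfl

end Groth.Agent.H92.KTQuot
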