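import Mathlib

/-!
# Transitivity of ranks

`B` a finite projective `R`-algebra, `P` a finite projective `B`-module whose rank at every prime
of `B` above `q` is `n`. Then `rank_R(P)(q) = n * rank_R(B)(q)`.
-/

set_option autoImplicit false
universe u v w
open TensorProduct

namespace Groth.Agent.H92.RankTrans

attribute [local instance] Algebra.TensorProduct.rightAlgebra

theorem rankAtStalk_trans {R : Type u} [CommRing R] {B : Type v} [CommRing B] [Algebra R B]
    [Module.Finite R B] [Module.Projective R B]
    (P : Type w) [AddCommGroup P] [Module B P] [Module R P] [IsScalarTower R B P]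
    [Module.Finite B P] [Module.Projective B P]
    (q : PrimeSpectrum R) (n : ℕ)
    (h : ∀ 𝔓 : PrimeSpectrum B, 𝔓.comap (algebraMap R B) = q → Module.rankAtStalk P 𝔓 = n) :
    Module.rankAtStalk (R := R) P q = n * Module.rankAtStalk (R := R) B q := by
  classical
  let k := q.asIdeal.ResidueField
  let C := k ⊗[R] B
  let Q := C ⊗[B] P
  haveI : Module.Finite R P := Module.Finite.trans B P
  haveI : Module.Flat R P := Module.Flat.trans R B P
  haveI : IsArtinianRing C := IsArtinianRing.of_finite k C
  -- rank of Q
  have hQ : ∀ 𝔓' : PrimeSpectrum C, Module.rankAtStalk Q 𝔓' = n := by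
    intro 𝔓'
    rw [Module.rankAtStalk_baseChange]
    apply h
    apply PrimeSpectrum.ext
    change Ideal.comap (algebraMap R B) (Ideal.comap (algebraMap B C) 𝔓'.asIdeal) = q.asIdeal
    rw [Ideal.comap_comap, ← IsScalarTower.algebraMap_eq R B C]
    have := (inferInstance : 𝔓'.asIdeal.LiesOver q.asIdeal)
    exact (this.over).symm
  -- freeness of Q over the semilocal ring C
  have hrk : ∀ m : MaximalSpectrum C,
      Module.finrank (C ⧸ m.1) ((C ⧸ m.1) ⊗[C] Q) = n := by
    intro m
    letI := Ideal.Quotient.field m.1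
    have h1 := Module.rankAtStalk_baseChange (R := C) (M := Q) (S := C ⧸ m.1)
      (⟨⊥, Ideal.isPrime_bot⟩ : PrimeSpectrum (C ⧸ m.1))
    rw [Module.rankAtStalk_eq_finrank_of_free] at h1
    simp only [Pi.natCast_apply, Nat.cast_id] at h1
    rw [h1, hQ]
  obtain ⟨b⟩ := Module.nonempty_basis_of_flat_of_finrank_eq C Q n hrk
  -- dimension count
  have e1 : Q ≃ₗ[k] k ⊗[R] P := Algebra.IsPushout.cancelBaseChange R k B C P
  have e2 : Q ≃ₗ[k] (Fin n → C) := b.equivFun.restrictScalars k
  rw [Module.rankAtStalk_eq, Module.rankAtStalk_eq]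
  change Module.finrank k (k ⊗[R] P) = n * Module.finrank k C
  rw [← e1.finrank_eq, e2.finrank_eq, Module.finrank_pi_fintype]
  simp

end Groth.Agent.H92.RankTrans
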