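import Groth.Agent.H92.KT
import Groth.Agent.H92.RankTrans
import Mathlib

/-!
# Rank formula for Hopf–Galois extensions (commutative, finite projective case)
-/

set_option autoImplicit false
universe u v w
open TensorProduct

namespace Groth.Agent.H92.KT

section rank
variable {R : Type u} [CommRing R] {A : Type v} [CommRing A] [Algebra R A]
  [Module.Finite R A] [Module.Projective R A]
  {H : Type w} [CommRing H] [HopfAlgebra R H] [Module.Finite R H] [Module.Projective R H]
  (ρ : A →ₐ[R] A ⊗[R] H)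
  (hco : ∀ a, TensorProduct.assoc R A H H (LinearMap.rTensor H ρ.toLinearMap (ρ a)) =
    LinearMap.lTensor A Coalgebra.comul (ρ a))
  (hcu : ∀ a, theta (Coalgebra.counit (R := R) (A := H)) (ρ a) = a)
  (hsurj : ∀ T : H, ∃ S : Finset (A × A),
    ∑ p ∈ S, (p.1 ⊗ₜ[R] (1 : H)) * ρ p.2 = (1 : A) ⊗ₜ[R] T)

include hco hcu hsurj

/-- the coinvariants are finite projective over `R` -/
theorem coinv_finite_projective :
    Module.Finite R ↥(coinv ρ) ∧ Module.Projective R ↥(coinv ρ) := by
  obtain ⟨-, -, -, r, hr⟩ := main ρ hco hcu hsurj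
  have h1 : (r.restrictScalars R) ∘ₗ (coinv ρ).val.toLinearMap = LinearMap.id := by
    apply LinearMap.ext
    intro b
    change r (b : A) = b
    have : (b : A) = b • (1 : A) := by rw [Algebra.smul_def, mul_one]; rfl
    rw [this, map_smul, hr, smul_eq_mul, mul_one]
  have hs : Function.Surjective (r.restrictScalars R) := fun b => ⟨_, LinearMap.congr_fun h1 b⟩
  exact ⟨Module.Finite.of_surjective _ hs,
    Module.Projective.of_split (coinv ρ).val.toLinearMap (r.restrictScalars R) h1⟩

theorem rankAtStalk_coinv (𝔓 : PrimeSpectrum ↥(coinv ρ)) :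
    Module.rankAtStalk (R := ↥(coinv ρ)) A 𝔓 =
      Module.rankAtStalk (R := R) H (𝔓.comap (algebraMap R ↥(coinv ρ))) := by
  obtain ⟨hfin, hproj, hbij, -⟩ := main ρ hco hcu hsurj
  have hinj : Function.Injective (algebraMap ↥(coinv ρ) A) := Subtype.val_injective
  obtain ⟨𝔭, rfl⟩ := (PrimeSpectrum.comap_surjective_iff_injective_of_finite
    (R := ↥(coinv ρ)) (S := A)).mpr hinj 𝔓
  let e : A ⊗[↥(coinv ρ)] A ≃ₗ[A] A ⊗[R] H := LinearEquiv.ofBijective (canB ρ) hbij
  have h1 := congrFun (Module.rankAtStalk_eq_of_equiv e) 𝔭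
  rw [Module.rankAtStalk_baseChange, Module.rankAtStalk_baseChange] at h1
  rw [h1]
  congr 1

/-- `rank A = rank H * rank B` -/
theorem rank_formula (q : PrimeSpectrum R) :
    Module.rankAtStalk (R := R) A q =
      Module.rankAtStalk (R := R) H q * Module.rankAtStalk (R := R) ↥(coinv ρ) q := by
  obtain ⟨hfin, hproj, -, -⟩ := main ρ hco hcu hsurj
  obtain ⟨hfinB, hprojB⟩ := coinv_finite_projective ρ hco hcu hsurj
  apply RankTrans.rankAtStalk_trans (R := R) (B := ↥(coinv ρ)) A q
  intro 𝔓 h𝔓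
  rw [rankAtStalk_coinv ρ hco hcu hsurj, h𝔓]

end rank

end Groth.Agent.H92.KT
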