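import Groth.Agent.H92.KTRank
import Mathlib

/-!
# The coaction `(id ⊗ p) Δ` of `H` on `K` for a surjective bialgebra map `p : K → H`
-/

set_option autoImplicit false
universe u v w
open TensorProduct

namespace Groth.Agent.H92.KTSurj

variable {R : Type u} [CommRing R] {K : Type v} [CommRing K] [HopfAlgebra R K]
  {H : Type w} [CommRing H] [HopfAlgebra R H] (p : K →ₐc[R] H)

/-- coaction of `H` on `K` by right translation through `p` -/
noncomputable abbrev rho : K →ₐ[R] K ⊗[R] H :=
  (Algebra.TensorProduct.map (AlgHom.id R K) (p : K →ₐ[R] H)).comp (Bialgebra.comulAlgHom R K)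

theorem rho_apply (a : K) :
    rho p a = Algebra.TensorProduct.map (AlgHom.id R K) (p : K →ₐ[R] H)
      (Coalgebra.comul (R := R) a) := rfl

theorem comul_p (y : K) : Coalgebra.comul (R := R) (p y) =
    TensorProduct.map (p : K →ₐ[R] H).toLinearMap (p : K →ₐ[R] H).toLinearMap
      (Coalgebra.comul (R := R) y) :=
  (CoalgHomClass.map_comp_comul_apply p y).symm

theorem counit_p (y : K) : Coalgebra.counit (R := R) (p y) = Coalgebra.counit (R := R) y :=
  CoalgHomClass.counit_comp_apply p y

theorem hco_aux1 (w : K ⊗[R] K) :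
    TensorProduct.assoc R K H H
      (LinearMap.rTensor H (rho p).toLinearMap
        (Algebra.TensorProduct.map (AlgHom.id R K) (p : K →ₐ[R] H) w)) =
    TensorProduct.map LinearMap.id
      (TensorProduct.map (p : K →ₐ[R] H).toLinearMap (p : K →ₐ[R] H).toLinearMap)
      (TensorProduct.assoc R K K K (LinearMap.rTensor K Coalgebra.comul w)) := by
  induction w using TensorProduct.induction_on with
  | zero => simp
  | add z w hz hw => simp only [map_add, hz, hw]
  | tmul x y =>
    rw [Algebra.TensorProduct.map_tmul, LinearMap.rTensor_tmul, LinearMap.rTensor_tmul]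
    change TensorProduct.assoc R K H H
      ((Algebra.TensorProduct.map (AlgHom.id R K) (p : K →ₐ[R] H)
        (Coalgebra.comul (R := R) x)) ⊗ₜ[R] ((p : K →ₐ[R] H) y)) = _
    induction Coalgebra.comul (R := R) x using TensorProduct.induction_on with
    | zero => simp
    | add z w hz hw => simp only [map_add, TensorProduct.add_tmul, hz, hw]
    | tmul x₁ x₂ => simp

theorem hco_aux2 (w : K ⊗[R] K) :
    LinearMap.lTensor K (Coalgebra.comul (R := R) (A := H))
      (Algebra.TensorProduct.map (AlgHom.id R K) (p : K →ₐ[R] H) w) =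
    TensorProduct.map LinearMap.id
      (TensorProduct.map (p : K →ₐ[R] H).toLinearMap (p : K →ₐ[R] H).toLinearMap)
      (LinearMap.lTensor K Coalgebra.comul w) := by
  induction w using TensorProduct.induction_on with
  | zero => simp
  | add z w hz hw => simp only [map_add, hz, hw]
  | tmul x y =>
    rw [Algebra.TensorProduct.map_tmul, LinearMap.lTensor_tmul, LinearMap.lTensor_tmul,
      TensorProduct.map_tmul]
    change x ⊗ₜ[R] Coalgebra.comul (R := R) (p y) = _
    rw [comul_p]
    rfl

theorem hco (a : K) :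
    TensorProduct.assoc R K H H
      (LinearMap.rTensor H (rho p).toLinearMap (rho p a)) =
    LinearMap.lTensor K Coalgebra.comul (rho p a) := by
  rw [rho_apply, hco_aux1, hco_aux2, Coalgebra.coassoc_apply]

theorem hcu_aux (w : K ⊗[R] K) :
    KT.theta (Coalgebra.counit (R := R) (A := H))
      (Algebra.TensorProduct.map (AlgHom.id R K) (p : K →ₐ[R] H) w) =
    KT.theta (Coalgebra.counit (R := R) (A := K)) w := by
  induction w using TensorProduct.induction_on with
  | zero => simp
  | add z w hz hw => simp only [map_add, hz, hw]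
  | tmul x y =>
    rw [Algebra.TensorProduct.map_tmul, KT.theta_tmul, KT.theta_tmul]
    change Coalgebra.counit (R := R) (p y) • _ = _
    rw [counit_p]
    rfl

theorem hcu (a : K) :
    KT.theta (Coalgebra.counit (R := R) (A := H)) (rho p a) = a := by
  rw [rho_apply, hcu_aux]
  unfold KT.theta
  rw [LinearMap.comp_apply, Coalgebra.lTensor_counit_comul]
  simp

/-- `x ⊗ y ↦ (S x ⊗ 1) ρ(y)` -/
noncomputable def Xi : K ⊗[R] K →ₐ[R] K ⊗[R] H :=
  Algebra.TensorProduct.lift
    ((Algebra.TensorProduct.includeLeft : K →ₐ[R] K ⊗[R] H).comp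
      (HopfAlgebra.antipodeAlgHom R K))
    (rho p) (fun _ _ => .all _ _)

theorem Xi_comul (a : K) :
    Xi p (Coalgebra.comul (R := R) a) = (1 : K) ⊗ₜ[R] (p a) := by
  let p₁ : WithConv (K →ₐ[R] K ⊗[R] H) := WithConv.toConv Algebra.TensorProduct.includeLeft
  let p₂ : WithConv (K →ₐ[R] K ⊗[R] H) :=
    WithConv.toConv ((Algebra.TensorProduct.includeRight : H →ₐ[R] K ⊗[R] H).comp
      (p : K →ₐ[R] H))
  have h12 : p₁ * p₂ = WithConv.toConv (rho p) := by
    apply WithConv.ofConv_injective
    apply AlgHom.ext
    intro x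
    have := AlgHom.convMul_apply p₁ p₂ x
    change (p₁ * p₂).ofConv x = _ at this
    rw [this]
    change Algebra.TensorProduct.lift Algebra.TensorProduct.includeLeft
      ((Algebra.TensorProduct.includeRight : H →ₐ[R] K ⊗[R] H).comp
        (p : K →ₐ[R] H)) _ (CoalgebraStruct.comul (R := R) x) =
      Algebra.TensorProduct.map (AlgHom.id R K) (p : K →ₐ[R] H)
        (CoalgebraStruct.comul (R := R) x)
    induction CoalgebraStruct.comul (R := R) x using TensorProduct.induction_on with
    | zero => simp only [map_zero]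
    | add y z hy hz => simp only [map_add, hy, hz]
    | tmul b c =>
      rw [Algebra.TensorProduct.lift_tmul, Algebra.TensorProduct.includeLeft_apply,
        AlgHom.comp_apply, Algebra.TensorProduct.includeRight_apply,
        Algebra.TensorProduct.tmul_mul_tmul, mul_one, one_mul, Algebra.TensorProduct.map_tmul]
      rfl
  have hgrp : p₁⁻¹ * (p₁ * p₂) = p₂ := inv_mul_cancel_left p₁ p₂
  have h1 := AlgHom.convMul_apply p₁⁻¹ (p₁ * p₂) a
  rw [hgrp] at h1
  rw [h12] at h1
  exact h1.symm

theorem hsurj (hp : Function.Surjective p) (T : H) : ∃ S : Finset (K × K),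
    ∑ q ∈ S, (q.1 ⊗ₜ[R] (1 : H)) * rho p q.2 = (1 : K) ⊗ₜ[R] T := by
  obtain ⟨a', rfl⟩ := hp T
  let can : K ⊗[R] K →ₐ[R] K ⊗[R] H :=
    Algebra.TensorProduct.lift (Algebra.TensorProduct.includeLeft : K →ₐ[R] K ⊗[R] H)
      (rho p) (fun _ _ => .all _ _)
  have hcan : ∀ w : K ⊗[R] K,
      can (TensorProduct.map (HopfAlgebra.antipode R (A := K)) LinearMap.id w) = Xi p w := by
    intro w
    induction w using TensorProduct.induction_on with
    | zero => simp
    | add z w hz hw => simp only [map_add, hz, hw]
    | tmul x y =>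
      rw [TensorProduct.map_tmul]
      unfold Xi
      rw [Algebra.TensorProduct.lift_tmul, Algebra.TensorProduct.lift_tmul]
      rfl
  obtain ⟨S, hS⟩ := TensorProduct.exists_finset
    (TensorProduct.map (HopfAlgebra.antipode R (A := K)) LinearMap.id (Coalgebra.comul (R := R) a'))
  refine ⟨S, ?_⟩
  rw [← Xi_comul, ← hcan, hS, map_sum]
  refine Finset.sum_congr rfl (fun q _ => ?_)
  rw [Algebra.TensorProduct.lift_tmul]
  rfl

end Groth.Agent.H92.KTSurj
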