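import Groth.Prelude.Def_HTor
import Groth.Agent.H12.TCx
import Mathlib

/-!
# Künneth: basic element-level API

* `Zc L i`, `cls L i`: cycles (as a submodule) and their classes in `L.homology i`.
* `tm L M i j n h`: the inclusion of the summand `L^i ⊗ M^j` in `(L ⊗ M)^n`.
* `toSum`, `ofSum`: the decomposition `(L ⊗ M)^n ≃ ⨁_{i+j=n} L^i ⊗ M^j`.
-/

set_option autoImplicit false
universe u

open CategoryTheory CategoryTheory.Limits MonoidalCategory TensorProduct HomologicalComplex

namespace Groth.Agent.H92.Kun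

variable {A : Type u} [CommRing A]

section Cyc

variable (L : DRing.Cx A) (i : ℤ)

/-- cycles in degree `i` as a submodule of `L.X i` -/
noncomputable def Zc : Submodule A (L.X i) := LinearMap.ker (L.sc i).g.hom

theorem mem_Zc (x : L.X i) : x ∈ Zc L i ↔ (L.d i (i + 1)).hom x = 0 := by
  have h : (ComplexShape.up ℤ).next i = i + 1 := CochainComplex.next ℤ i
  show (L.d i ((ComplexShape.up ℤ).next i)).hom x = 0 ↔ _
  generalize (ComplexShape.up ℤ).next i = k at h
  subst h
  rfl

/-- the class of a cycle -/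
noncomputable def cls : Zc L i →ₗ[A] L.homology i := Groth.Agent.H12.TCx.toH (L.sc i)

theorem cls_surjective : Function.Surjective (cls L i) :=
  Groth.Agent.H12.TCx.toH_surjective (L.sc i)

theorem cls_eq_zero_iff (z : Zc L i) :
    cls L i z = 0 ↔ ∃ y : L.X (i - 1), (L.d (i - 1) i).hom y = z.1 := by
  have h : (ComplexShape.up ℤ).prev i = i - 1 := CochainComplex.prev ℤ i
  refine Iff.trans (Groth.Agent.H12.TCx.toH_eq_zero_iff (L.sc i) z) ?_
  show z.1 ∈ LinearMap.range (L.d ((ComplexShape.up ℤ).prev i) i).hom ↔ _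
  generalize (ComplexShape.up ℤ).prev i = k at h
  subst h
  rfl

theorem iCycles_mem (z : L.cycles i) : (L.iCycles i).hom z ∈ Zc L i := by
  show (L.sc i).g.hom ((L.sc i).iCycles.hom z) = 0
  have := congrArg (fun f => f.hom z) (L.sc i).iCycles_g
  exact this

theorem cls_iCycles (z : L.cycles i) :
    cls L i ⟨(L.iCycles i).hom z, iCycles_mem L i z⟩ = (L.homologyπ i).hom z := by
  have h1 : (⟨(L.iCycles i).hom z, iCycles_mem L i z⟩ : Zc L i) =
      (L.sc i).moduleCatCyclesIso.hom.hom z := by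
    apply Subtype.ext
    have := congrArg (fun f => f.hom z) (L.sc i).moduleCatCyclesIso_hom_i
    exact this.symm
  rw [h1]
  have h2 := congrArg (fun f => f.hom ((L.sc i).moduleCatCyclesIso.hom.hom z))
    (L.sc i).moduleCatCyclesIso_inv_π
  have h3 : (L.sc i).moduleCatCyclesIso.inv.hom ((L.sc i).moduleCatCyclesIso.hom.hom z) = z := by
    have := congrArg (fun f => f.hom z) (L.sc i).moduleCatCyclesIso.hom_inv_id
    exact this
  simp only [ModuleCat.hom_comp, LinearMap.comp_apply] at h2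
  rw [h3] at h2
  exact h2.symm

end Cyc

section CycMap

variable {L₁ L₂ : DRing.Cx A} (f : L₁ ⟶ L₂) (i : ℤ)

theorem map_mem_Zc (z : Zc L₁ i) : (f.f i).hom z.1 ∈ Zc L₂ i := by
  rw [mem_Zc]
  have h := (mem_Zc L₁ i z.1).mp z.2
  have := congrArg (fun g => g.hom z.1) (f.comm i (i + 1))
  simp only [ModuleCat.hom_comp, LinearMap.comp_apply] at this
  rw [this, h, map_zero]

theorem homologyMap_cls (z : Zc L₁ i) :
    (HomologicalComplex.homologyMap f i).hom (cls L₁ i z) =
      cls L₂ i ⟨(f.f i).hom z.1, map_mem_Zc f i z⟩ :=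
  Groth.Agent.H12.TCx.homologyMap_toH
    ((HomologicalComplex.shortComplexFunctor (ModuleCat.{u} A) (ComplexShape.up ℤ) i).map f) z

end CycMap

section Tensor

variable (L M : DRing.Cx A)

/-- the tensor complex -/
noncomputable abbrev T : DRing.Cx A := HTor.tensorCx L M

/-- inclusion of a summand of the tensor complex, as a linear map -/
noncomputable def tm (i j n : ℤ) (h : i + j = n) : (L.X i ⊗[A] M.X j) →ₗ[A] (T L M).X n :=
  (ιTensorObj L M i j n h).hom

theorem ι_d (p q n m : ℤ) (hpq : p + q = n) (hnm : n + 1 = m) (p' q' : ℤ)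
    (hp : p + 1 = p') (hq : q + 1 = q') :
    ιTensorObj L M p q n hpq ≫ (HomologicalComplex.tensorObj L M).d n m =
      (L.d p p' ▷ M.X q) ≫ ιTensorObj L M p' q m (by omega) +
        (p.negOnePow : ℤˣ) • ((L.X p ◁ M.d q q') ≫ ιTensorObj L M p q' m (by omega)) := by
  subst hp hq
  rw [mapBifunctor.d_eq, Preadditive.comp_add, mapBifunctor.ι_D₁, mapBifunctor.ι_D₂,
    mapBifunctor.d₁_eq L M _ _ (show (ComplexShape.up ℤ).Rel p (p + 1) from rfl)
      q m (by change p + 1 + q = m; omega),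
    mapBifunctor.d₂_eq L M _ _ p
      (show (ComplexShape.up ℤ).Rel q (q + 1) from rfl) m (by change p + (q + 1) = m; omega)]
  simp

theorem d_tm (i j n : ℤ) (h : i + j = n) (x : L.X i) (y : M.X j) :
    ((T L M).d n (n + 1)).hom (tm L M i j n h (x ⊗ₜ[A] y)) =
      tm L M (i + 1) j (n + 1) (by omega) ((L.d i (i + 1)).hom x ⊗ₜ[A] y) +
        ((i.negOnePow : ℤˣ) : ℤ) • tm L M i (j + 1) (n + 1) (by omega)
          (x ⊗ₜ[A] (M.d j (j + 1)).hom y) := by
  have := congrArg (fun f => f.hom (x ⊗ₜ[A] y)) (ι_d L M i j n (n + 1) h rfl (i + 1) (j + 1) rfl rfl)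
  simp only [ModuleCat.hom_comp, LinearMap.comp_apply] at this
  refine this.trans ?_
  rfl

theorem d_tm' (i j n m i' j' : ℤ) (h : i + j = n) (hnm : n + 1 = m) (hi : i + 1 = i')
    (hj : j + 1 = j') (x : L.X i) (y : M.X j) :
    ((T L M).d n m).hom (tm L M i j n h (x ⊗ₜ[A] y)) =
      tm L M i' j m (by omega) ((L.d i i').hom x ⊗ₜ[A] y) +
        ((i.negOnePow : ℤˣ) : ℤ) • tm L M i j' m (by omega) (x ⊗ₜ[A] (M.d j j').hom y) := by
  subst hnm hi hj
  exact d_tm L M i j n h x y

theorem subsingleton_T (n : ℤ)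
    (h : ∀ i j : ℤ, i + j = n → Subsingleton (L.X i ⊗[A] M.X j)) : Subsingleton ((T L M).X n) := by
  refine ⟨fun a b => ?_⟩
  have key : ModuleCat.ofHom (LinearMap.id : (T L M).X n →ₗ[A] (T L M).X n) =
      ModuleCat.ofHom (0 : (T L M).X n →ₗ[A] (T L M).X n) := by
    apply mapBifunctor.hom_ext
    intro i j hij
    ext t
    have hs : Subsingleton (L.X i ⊗[A] M.X j) := h i j hij
    have ht : t = 0 := hs.elim (α := L.X i ⊗[A] M.X j) t 0
    rw [ht]
    simp
  have h1 := congrArg (fun f => f.hom a) key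
  have h2 := congrArg (fun f => f.hom b) key
  simp only [ModuleCat.hom_ofHom, LinearMap.id_coe, id_eq, LinearMap.zero_apply] at h1 h2
  rw [h1, h2]

end Tensor

section Map

variable {L₁ L₂ M₁ M₂ : DRing.Cx A} (f : L₁ ⟶ L₂) (g : M₁ ⟶ M₂)

/-- functoriality of the tensor complex -/
noncomputable def tmap : T L₁ M₁ ⟶ T L₂ M₂ := HomologicalComplex.tensorHom f g

theorem tmap_tm (i j n : ℤ) (h : i + j = n) (t : L₁.X i ⊗[A] M₁.X j) :
    ((tmap f g).f n).hom (tm L₁ M₁ i j n h t) =
      tm L₂ M₂ i j n h (TensorProduct.map (f.f i).hom (g.f j).hom t) := by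
  have key : ∀ t : L₁.X i ⊗[A] M₁.X j,
      (((curriedTensor (ModuleCat.{u} A)).obj (L₂.X i)).map (g.f j)).hom
        ((((curriedTensor (ModuleCat.{u} A)).map (f.f i)).app (M₁.X j)).hom t) =
      TensorProduct.map (f.f i).hom (g.f j).hom t := by
    intro t
    induction t using TensorProduct.induction_on with
    | zero => simp
    | tmul x y => rfl
    | add a b ha hb => simp only [map_add, ha, hb]
  have := congrArg (fun φ => φ.hom t)
    (ι_mapBifunctorMap f g (curriedTensor (ModuleCat.{u} A)) (ComplexShape.up ℤ) i j n h)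
  simp only [ModuleCat.hom_comp, LinearMap.comp_apply] at this
  refine this.trans ?_
  exact congrArg _ (key t)

end Map

section Decomp

variable (L M : DRing.Cx A) (n : ℤ)

/-- the direct sum `⨁_{i+j=n} L^i ⊗ M^j` -/
abbrev SumT : Type u :=
  DirectSum (HTor.Antidiag n) (fun ij => L.X ij.1.1 ⊗[A] M.X ij.1.2)

/-- from the direct sum to the tensor complex -/
noncomputable def ofSum : SumT L M n →ₗ[A] (T L M).X n :=
  DirectSum.toModule A (HTor.Antidiag n) _ (fun ij => tm L M ij.1.1 ij.1.2 n ij.2)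

/-- from the tensor complex to the direct sum -/
noncomputable def toSum : (T L M).X n →ₗ[A] SumT L M n :=
  (mapBifunctorDesc (K₁ := L) (K₂ := M) (F := curriedTensor (ModuleCat.{u} A))
    (c := ComplexShape.up ℤ) (A := ModuleCat.of A (SumT L M n)) (j := n)
    (fun i j h => ModuleCat.ofHom
      (DirectSum.lof A (HTor.Antidiag n) (fun ij => L.X ij.1.1 ⊗[A] M.X ij.1.2) ⟨(i, j), h⟩))).hom

theorem toSum_tm (i j : ℤ) (h : i + j = n) (t : L.X i ⊗[A] M.X j) :
    toSum L M n (tm L M i j n h t) =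
      DirectSum.lof A (HTor.Antidiag n) (fun ij => L.X ij.1.1 ⊗[A] M.X ij.1.2) ⟨(i, j), h⟩ t := by
  have := congrArg (fun φ => φ.hom t)
    (ι_mapBifunctorDesc (K₁ := L) (K₂ := M) (F := curriedTensor (ModuleCat.{u} A))
    (c := ComplexShape.up ℤ) (A := ModuleCat.of A (SumT L M n)) (j := n)
    (fun i j h => ModuleCat.ofHom
      (DirectSum.lof A (HTor.Antidiag n) (fun ij => L.X ij.1.1 ⊗[A] M.X ij.1.2) ⟨(i, j), h⟩)) i j h)
  exact this

theorem ofSum_lof (ij : HTor.Antidiag n) (t : L.X ij.1.1 ⊗[A] M.X ij.1.2) :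
    ofSum L M n (DirectSum.lof A (HTor.Antidiag n) (fun ij => L.X ij.1.1 ⊗[A] M.X ij.1.2) ij t) =
      tm L M ij.1.1 ij.1.2 n ij.2 t := by
  simp [ofSum]

theorem toSum_ofSum (s : SumT L M n) : toSum L M n (ofSum L M n s) = s := by
  have : (toSum L M n) ∘ₗ (ofSum L M n) = LinearMap.id := by
    apply DirectSum.linearMap_ext
    intro ij
    refine LinearMap.ext fun t => ?_
    show toSum L M n (ofSum L M n (DirectSum.lof A (HTor.Antidiag n)
      (fun ij => L.X ij.1.1 ⊗[A] M.X ij.1.2) ij t)) = DirectSum.lof A (HTor.Antidiag n)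
      (fun ij => L.X ij.1.1 ⊗[A] M.X ij.1.2) ij t
    rw [ofSum_lof]
    exact toSum_tm L M n ij.1.1 ij.1.2 ij.2 t
  exact congrArg (fun f => f s) this

theorem ofSum_toSum (w : (T L M).X n) : ofSum L M n (toSum L M n w) = w := by
  have : ModuleCat.ofHom ((ofSum L M n) ∘ₗ (toSum L M n)) = 𝟙 ((T L M).X n) := by
    apply mapBifunctor.hom_ext
    intro i j h
    ext t
    show ofSum L M n (toSum L M n (tm L M i j n h t)) = tm L M i j n h t
    rw [toSum_tm, ofSum_lof]
  exact congrArg (fun f => f.hom w) this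

/-- the decomposition as a linear equivalence -/
noncomputable def decomp : (T L M).X n ≃ₗ[A] SumT L M n :=
  LinearEquiv.ofLinear (toSum L M n) (ofSum L M n)
    (LinearMap.ext (toSum_ofSum L M n)) (LinearMap.ext (ofSum_toSum L M n))

/-- the component of an element of the tensor complex -/
noncomputable def cmp (ij : HTor.Antidiag n) : (T L M).X n →ₗ[A] L.X ij.1.1 ⊗[A] M.X ij.1.2 :=
  DirectSum.component A (HTor.Antidiag n) (fun ij => L.X ij.1.1 ⊗[A] M.X ij.1.2) ij ∘ₗ toSum L M n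

theorem cmp_apply (ij : HTor.Antidiag n) (w : (T L M).X n) : cmp L M n ij w = toSum L M n w ij := rfl

theorem cmp_tm_self (i j : ℤ) (h : i + j = n) (t : L.X i ⊗[A] M.X j) :
    cmp L M n ⟨(i, j), h⟩ (tm L M i j n h t) = t := by
  rw [cmp_apply, toSum_tm]
  exact DirectSum.lof_apply A _ _

theorem cmp_tm_ne (i j : ℤ) (h : i + j = n) (t : L.X i ⊗[A] M.X j) (ij : HTor.Antidiag n)
    (hne : (⟨(i, j), h⟩ : HTor.Antidiag n) ≠ ij) :
    cmp L M n ij (tm L M i j n h t) = 0 := by
  rw [cmp_apply, toSum_tm]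
  exact DFinsupp.single_eq_of_ne hne.symm

theorem cmp_ofSum (ij : HTor.Antidiag n) (s : SumT L M n) : cmp L M n ij (ofSum L M n s) = s ij := by
  rw [cmp_apply, toSum_ofSum]

theorem ext_cmp {w w' : (T L M).X n} (h : ∀ ij, cmp L M n ij w = cmp L M n ij w') : w = w' := by
  have : toSum L M n w = toSum L M n w' := DFinsupp.ext h
  rw [← ofSum_toSum L M n w, ← ofSum_toSum L M n w', this]

end Decomp

end Groth.Agent.H92.Kun
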