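import Groth.Agent.H92.KunBasic

/-!
# Künneth: the free cover `Q → L` of a complex by spheres and disks
-/

set_option autoImplicit false
universe u

open CategoryTheory CategoryTheory.Limits MonoidalCategory TensorProduct HomologicalComplex

namespace Groth.Agent.H92.Kun

variable {A : Type u} [CommRing A]

section Fr

variable (A) (X : Type u) [AddCommGroup X] [Module A X]

/-- the free module on the nonzero elements of `X` -/
abbrev Fr : Type u := {x : X // x ≠ 0} →₀ A

/-- the canonical surjection -/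
noncomputable def Fr.π : Fr A X →ₗ[A] X := Finsupp.linearCombination A Subtype.val

theorem Fr.π_single (x : {x : X // x ≠ 0}) : Fr.π A X (Finsupp.single x 1) = x.1 := by
  simp [Fr.π]

theorem Fr.π_surjective : Function.Surjective (Fr.π A X) := by
  intro x
  by_cases hx : x = 0
  · exact ⟨0, by rw [map_zero, hx]⟩
  · exact ⟨Finsupp.single ⟨x, hx⟩ 1, Fr.π_single A X ⟨x, hx⟩⟩

theorem Fr.subsingleton [Subsingleton X] : Subsingleton (Fr A X) := by
  have : IsEmpty {x : X // x ≠ 0} := ⟨fun x => x.2 (Subsingleton.elim _ _)⟩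
  infer_instance

end Fr

section Cover

variable (L : DRing.Cx A)

/-- boundaries in degree `i` -/
noncomputable def Bc (i : ℤ) : Submodule A (L.X i) := LinearMap.range (L.d (i - 1) i).hom

theorem d_mem_Bc (i k : ℤ) (h : i + 1 = k) (y : L.X i) : (L.d i k).hom y ∈ Bc L k := by
  subst h
  have e : i + 1 - 1 = i := by omega
  show (L.d i (i + 1)).hom y ∈ LinearMap.range (L.d (i + 1 - 1) (i + 1)).hom
  generalize i + 1 - 1 = m at e
  subst e
  exact ⟨y, rfl⟩

theorem exists_of_mem_Bc (i k : ℤ) (h : i + 1 = k) (b : L.X k) (hb : b ∈ Bc L k) :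
    ∃ y : L.X i, (L.d i k).hom y = b := by
  subst h
  have e : i + 1 - 1 = i := by omega
  obtain ⟨y, hy⟩ := hb
  revert y
  generalize i + 1 - 1 = m at e
  subst e
  intro y hy
  exact ⟨y, hy⟩

theorem Bc_le_Zc (i : ℤ) : Bc L i ≤ Zc L i := by
  rintro _ ⟨y, rfl⟩
  rw [mem_Zc]
  exact congrArg (fun f => f.hom y) (L.d_comp_d (i - 1) i (i + 1))

/-- the terms of the cover -/
abbrev QX (i : ℤ) : Type u := Fr A (Zc L i) × Fr A (Bc L (i + 1)) × Fr A (Bc L i)

/-- the differential of the cover: `(s, g, g') ↦ (0, 0, g)` -/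
noncomputable def dQ (i : ℤ) : QX L i →ₗ[A] QX L (i + 1) :=
  LinearMap.inr A _ _ ∘ₗ LinearMap.inr A _ _ ∘ₗ LinearMap.fst A _ _ ∘ₗ LinearMap.snd A _ _

theorem dQ_apply (i : ℤ) (x : QX L i) : dQ L i x = (0, 0, x.2.1) := rfl

theorem dQ_comp (i : ℤ) : dQ L (i + 1) ∘ₗ dQ L i = 0 := by
  ext x <;> rfl

/-- the cover complex -/
noncomputable abbrev Qc : DRing.Cx A :=
  CochainComplex.of (fun i => ModuleCat.of A (QX L i)) (fun i => ModuleCat.ofHom (dQ L i))
    (fun i => by
      rw [← ModuleCat.ofHom_comp, dQ_comp]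
      rfl)

theorem Qc_d (i : ℤ) : (Qc L).d i (i + 1) = ModuleCat.ofHom (dQ L i) :=
  CochainComplex.of_d (fun i => ModuleCat.of A (QX L i)) (fun i => ModuleCat.ofHom (dQ L i)) i

/-- a chosen lift of a boundary along the differential -/
noncomputable def liftB (i : ℤ) : Fr A (Bc L (i + 1)) →ₗ[A] L.X i :=
  Finsupp.linearCombination A (fun b : {x : Bc L (i + 1) // x ≠ 0} =>
    Classical.choose (exists_of_mem_Bc L i (i + 1) rfl b.1.1 b.1.2))

theorem d_liftB (i : ℤ) :
    (L.d i (i + 1)).hom ∘ₗ liftB L i = (Bc L (i + 1)).subtype ∘ₗ Fr.π A (Bc L (i + 1)) := by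
  apply Finsupp.lhom_ext'
  intro b
  ext
  simp only [LinearMap.comp_apply, Finsupp.lsingle_apply, liftB, Fr.π,
    Finsupp.linearCombination_single, one_smul, Submodule.subtype_apply]
  exact Classical.choose_spec (exists_of_mem_Bc L i (i + 1) rfl b.1.1 b.1.2)

/-- the cover map in degree `i` -/
noncomputable def φX (i : ℤ) : QX L i →ₗ[A] L.X i :=
  ((Zc L i).subtype ∘ₗ Fr.π A (Zc L i)) ∘ₗ LinearMap.fst A _ _ +
    (liftB L i ∘ₗ LinearMap.fst A _ _ ∘ₗ LinearMap.snd A _ _ +
      ((Bc L i).subtype ∘ₗ Fr.π A (Bc L i)) ∘ₗ LinearMap.snd A _ _ ∘ₗ LinearMap.snd A _ _)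

theorem φX_apply (i : ℤ) (x : QX L i) :
    φX L i x = (Fr.π A (Zc L i) x.1).1 + (liftB L i x.2.1 + (Fr.π A (Bc L i) x.2.2).1) := rfl

theorem d_φX (i : ℤ) (x : QX L i) :
    (L.d i (i + 1)).hom (φX L i x) = φX L (i + 1) (dQ L i x) := by
  rw [φX_apply, φX_apply, dQ_apply, map_add, map_add]
  have h1 : (L.d i (i + 1)).hom (Fr.π A (Zc L i) x.1).1 = 0 :=
    (mem_Zc L i _).mp (Fr.π A (Zc L i) x.1).2
  have h2 : (L.d i (i + 1)).hom (Fr.π A (Bc L i) x.2.2).1 = 0 :=
    (mem_Zc L i _).mp (Bc_le_Zc L i (Fr.π A (Bc L i) x.2.2).2)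
  have h3 : (L.d i (i + 1)).hom (liftB L i x.2.1) = (Fr.π A (Bc L (i + 1)) x.2.1).1 :=
    congrArg (fun f => f x.2.1) (d_liftB L i)
  rw [h1, h2, h3]
  simp

/-- the cover map -/
noncomputable def φc : Qc L ⟶ L :=
  CochainComplex.ofHom (fun i => ModuleCat.ofHom (φX L i)) (fun i => by
    rw [Qc_d]
    refine ModuleCat.hom_ext (LinearMap.ext fun x => ?_)
    exact d_φX L i x)

theorem φc_f (i : ℤ) : (φc L).f i = ModuleCat.ofHom (φX L i) := rfl

theorem φX_surjective (i : ℤ) : Function.Surjective (φX L i) := by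
  intro x
  obtain ⟨g, hg⟩ := Fr.π_surjective A (Bc L (i + 1)) ⟨(L.d i (i + 1)).hom x, d_mem_Bc L i (i + 1) rfl x⟩
  have h3 : (L.d i (i + 1)).hom (liftB L i g) = (L.d i (i + 1)).hom x := by
    have := congrArg (fun f => f g) (d_liftB L i)
    simp only [LinearMap.comp_apply, Submodule.subtype_apply] at this
    rw [this, hg]
  have hz : x - liftB L i g ∈ Zc L i := by
    rw [mem_Zc, map_sub, h3, sub_self]
  obtain ⟨s, hs⟩ := Fr.π_surjective A (Zc L i) ⟨x - liftB L i g, hz⟩
  refine ⟨(s, g, 0), ?_⟩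
  rw [φX_apply]
  simp only [hs, map_zero, ZeroMemClass.coe_zero, add_zero]
  abel

theorem φX_cycle_surjective (i : ℤ) (z : Zc L i) :
    ∃ q : QX L i, dQ L i q = 0 ∧ φX L i q = z.1 := by
  obtain ⟨s, hs⟩ := Fr.π_surjective A (Zc L i) z
  refine ⟨(s, 0, 0), rfl, ?_⟩
  rw [φX_apply]
  simp [hs]

theorem free_Qc (i : ℤ) : Module.Free A ((Qc L).X i) := by
  show Module.Free A (QX L i)
  infer_instance

theorem flat_Qc (i : ℤ) : Module.Flat A ((Qc L).X i) := by
  have := free_Qc L i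
  infer_instance

theorem vanishesAbove_Qc (b : ℤ) (hb : DRing.VanishesAbove L b) : DRing.VanishesAbove (Qc L) b := by
  intro i hi
  have h1 : Subsingleton (L.X i) := ModuleCat.subsingleton_of_isZero (hb i hi)
  have h2 : Subsingleton (L.X (i + 1)) := ModuleCat.subsingleton_of_isZero (hb (i + 1) (by omega))
  have h3 : Subsingleton (Zc L i) := inferInstance
  have h4 : Subsingleton (Bc L i) := inferInstance
  have h5 : Subsingleton (Bc L (i + 1)) := inferInstance
  have h6 := Fr.subsingleton A (Zc L i)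
  have h7 := Fr.subsingleton A (Bc L i)
  have h8 := Fr.subsingleton A (Bc L (i + 1))
  have : Subsingleton (QX L i) := inferInstance
  exact ModuleCat.isZero_of_subsingleton (ModuleCat.of A (QX L i))

theorem mem_Zc_Qc (i : ℤ) (q : QX L i) :
    (show (Qc L).X i from q) ∈ Zc (Qc L) i ↔ dQ L i q = 0 := by
  refine Iff.trans (mem_Zc (Qc L) i _) ?_
  rw [Qc_d]
  rfl

theorem homologyMap_φc_surjective (i : ℤ) :
    Function.Surjective (HomologicalComplex.homologyMap (φc L) i).hom := by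
  intro ξ
  obtain ⟨z, rfl⟩ := cls_surjective L i ξ
  obtain ⟨q, hq, hqz⟩ := φX_cycle_surjective L i z
  refine ⟨cls (Qc L) i ⟨q, (mem_Zc_Qc L i q).mpr hq⟩, ?_⟩
  rw [homologyMap_cls]
  congr 1
  exact Subtype.ext hqz

/-- the cohomology part of the cover: zero differentials -/
noncomputable abbrev Sc : DRing.Cx A :=
  CochainComplex.of (fun i => ModuleCat.of A (Fr A (Zc L i))) (fun _ => 0) (fun _ => by simp)

theorem Sc_d (i j : ℤ) : (Sc L).d i j = 0 := by
  by_cases h : i + 1 = j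
  · subst h
    exact CochainComplex.of_d (fun i => ModuleCat.of A (Fr A (Zc L i))) (fun _ => 0) i
  · exact (Sc L).shape i j h

theorem free_Sc (i : ℤ) : Module.Free A ((Sc L).X i) := by
  show Module.Free A (Fr A (Zc L i))
  infer_instance

theorem flat_Sc (i : ℤ) : Module.Flat A ((Sc L).X i) := by
  have := free_Sc L i
  infer_instance

/-- inclusion of the cohomology part -/
noncomputable def ιS : Sc L ⟶ Qc L :=
  CochainComplex.ofHom (fun i => ModuleCat.ofHom (LinearMap.inl A (Fr A (Zc L i)) _)) (fun i => by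
    rw [Sc_d, Qc_d]
    refine ModuleCat.hom_ext (LinearMap.ext fun x => ?_)
    simp only [Limits.zero_comp]
    rfl)

/-- projection onto the cohomology part -/
noncomputable def pS : Qc L ⟶ Sc L :=
  CochainComplex.ofHom (fun i => ModuleCat.ofHom (LinearMap.fst A (Fr A (Zc L i)) _)) (fun i => by
    rw [Sc_d, Qc_d]
    refine ModuleCat.hom_ext (LinearMap.ext fun x => ?_)
    simp only [Limits.comp_zero]
    rfl)

theorem ιS_pS : ιS L ≫ pS L = 𝟙 (Sc L) := by
  apply HomologicalComplex.hom_ext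
  intro i
  refine ModuleCat.hom_ext (LinearMap.ext fun x => ?_)
  rfl

/-- the contraction `(s, g, g') ↦ (0, g', 0)` -/
noncomputable def hh (j : ℤ) : QX L (j + 1) →ₗ[A] QX L j :=
  LinearMap.inr A _ _ ∘ₗ LinearMap.inl A _ _ ∘ₗ LinearMap.snd A _ _ ∘ₗ LinearMap.snd A _ _

theorem hh_apply (j : ℤ) (x : QX L (j + 1)) : hh L j x = (0, x.2.2, 0) := rfl

/-- the homotopy between the identity of the cover and the projection to the cohomology part -/
noncomputable def hQ : Homotopy (𝟙 (Qc L)) (pS L ≫ ιS L) where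
  hom i j := if h : j + 1 = i then eqToHom (by subst h; rfl) ≫ ModuleCat.ofHom (hh L j) else 0
  zero i j h := dif_neg h
  comm i := by
    obtain ⟨j, rfl⟩ : ∃ j, i = j + 1 := ⟨i - 1, by omega⟩
    rw [dNext_eq _ (show (ComplexShape.up ℤ).Rel (j + 1) (j + 1 + 1) from rfl),
      prevD_eq _ (show (ComplexShape.up ℤ).Rel j (j + 1) from rfl), dif_pos rfl, dif_pos rfl,
      Qc_d, Qc_d]
    simp only [eqToHom_refl, Category.id_comp]
    refine ModuleCat.hom_ext (LinearMap.ext fun x => ?_)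
    show x = (0, x.2.1, 0) + (0, 0, x.2.2) + (x.1, 0, 0)
    ext <;> simp

end Cover

end Groth.Agent.H92.Kun
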