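import Groth.Agent.H92.KunHtpy

/-!
# Künneth: tensoring a short exact sequence of complexes with flat cokernel
-/

set_option autoImplicit false
universe u

open CategoryTheory CategoryTheory.Limits MonoidalCategory TensorProduct HomologicalComplex

namespace Groth.Agent.H92.Kun

variable {A : Type u} [CommRing A]

section DS

variable {ι : Type*} {X Y Z : ι → Type*} [∀ i, AddCommGroup (X i)] [∀ i, Module A (X i)]
  [∀ i, AddCommGroup (Y i)] [∀ i, Module A (Y i)] [∀ i, AddCommGroup (Z i)] [∀ i, Module A (Z i)]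
  (f : ∀ i, X i →ₗ[A] Y i) (g : ∀ i, Y i →ₗ[A] Z i)

theorem lmap_exact (h : ∀ i, Function.Exact (f i) (g i)) :
    Function.Exact (DirectSum.lmap f) (DirectSum.lmap g) := by
  rw [LinearMap.exact_iff, DirectSum.ker_lmap, DirectSum.range_lmap]
  congr 1
  ext x
  simp only [Submodule.mem_pi, Set.mem_univ, forall_true_left]
  constructor
  · intro hx i
    rw [← LinearMap.exact_iff.mp (h i)]
    exact hx i
  · intro hx i
    rw [LinearMap.exact_iff.mp (h i)]
    exact hx i

end DS

section TMapSum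

variable {L₁ L₂ : DRing.Cx A} (f : L₁ ⟶ L₂) (M : DRing.Cx A) (n : ℤ)

theorem tmap_zero : tmap (0 : L₁ ⟶ L₂) (𝟙 M) = 0 := by
  apply HomologicalComplex.hom_ext
  intro n
  apply mapBifunctor.hom_ext
  intro i j h
  refine ModuleCat.hom_ext (LinearMap.ext fun t => ?_)
  show ((tmap (0 : L₁ ⟶ L₂) (𝟙 M)).f n).hom (tm L₁ M i j n h t) = 0
  rw [tmap_tm]
  have : TensorProduct.map ((0 : L₁ ⟶ L₂).f i).hom ((𝟙 M : M ⟶ M).f j).hom = 0 := by
    apply TensorProduct.ext'
    intro x y
    simp
  rw [this]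
  simp

/-- `tmap f 𝟙` in terms of the direct sum decomposition -/
theorem toSum_tmap (w : (T L₁ M).X n) :
    toSum L₂ M n (((tmap f (𝟙 M)).f n).hom w) =
      DirectSum.lmap (fun ij : HTor.Antidiag n => LinearMap.rTensor (M.X ij.1.2) (f.f ij.1.1).hom)
        (toSum L₁ M n w) := by
  have key : ModuleCat.ofHom (toSum L₂ M n ∘ₗ ((tmap f (𝟙 M)).f n).hom) =
      ModuleCat.ofHom ((DirectSum.lmap (fun ij : HTor.Antidiag n =>
        LinearMap.rTensor (M.X ij.1.2) (f.f ij.1.1).hom)) ∘ₗ toSum L₁ M n) := by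
    apply mapBifunctor.hom_ext
    intro i j h
    refine ModuleCat.hom_ext (LinearMap.ext fun t => ?_)
    show toSum L₂ M n (((tmap f (𝟙 M)).f n).hom (tm L₁ M i j n h t)) =
      DirectSum.lmap (fun ij : HTor.Antidiag n => LinearMap.rTensor (M.X ij.1.2) (f.f ij.1.1).hom)
        (toSum L₁ M n (tm L₁ M i j n h t))
    rw [tmap_tm, toSum_tm, toSum_tm, DirectSum.lmap_lof]
    rfl
  exact congrArg (fun φ => φ.hom w) key

theorem tmap_eq (w : (T L₁ M).X n) :
    ((tmap f (𝟙 M)).f n).hom w =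
      ofSum L₂ M n (DirectSum.lmap (fun ij : HTor.Antidiag n =>
        LinearMap.rTensor (M.X ij.1.2) (f.f ij.1.1).hom) (toSum L₁ M n w)) := by
  rw [← toSum_tmap, ofSum_toSum]

end TMapSum

section TensorSES

variable (S : ShortComplex (DRing.Cx A)) (hS : S.ShortExact)
  (hfl : ∀ i : ℤ, Module.Flat A (S.X₃.X i)) (M : DRing.Cx A)

/-- the tensored short complex -/
noncomputable abbrev tensorSC : ShortComplex (DRing.Cx A) :=
  ShortComplex.mk (tmap S.f (𝟙 M)) (tmap S.g (𝟙 M)) (by rw [← tmap_comp, S.zero, tmap_zero])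

include hS in
theorem degreewise_facts (i : ℤ) :
    Function.Injective (S.f.f i).hom ∧ Function.Surjective (S.g.f i).hom ∧
      Function.Exact (S.f.f i).hom (S.g.f i).hom := by
  have hdeg := (HomologicalComplex.shortExact_iff_degreewise_shortExact S).mp hS i
  refine ⟨hdeg.moduleCat_injective_f, hdeg.moduleCat_surjective_g, ?_⟩
  exact (ShortComplex.ShortExact.moduleCat_exact_iff_function_exact _).mp hdeg.exact

include hS hfl in
theorem tensorSC_shortExact : (tensorSC S M).ShortExact := by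
  apply HomologicalComplex.shortExact_of_degreewise_shortExact
  intro n
  have hinj : Function.Injective (DirectSum.lmap (fun ij : HTor.Antidiag n =>
      LinearMap.rTensor (M.X ij.1.2) (S.f.f ij.1.1).hom)) := by
    rw [DirectSum.lmap_injective]
    intro ij
    obtain ⟨h1, h2, h3⟩ := degreewise_facts S hS ij.1.1
    have := hfl ij.1.1
    exact (LinearMap.lTensor_inj_iff_rTensor_inj _ _).mp
      (LinearMap.lTensor_injective_of_exact_of_flat (S.g.f ij.1.1).hom h2 (S.f.f ij.1.1).hom h1 h3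
        (M.X ij.1.2))
  have hsurj : Function.Surjective (DirectSum.lmap (fun ij : HTor.Antidiag n =>
      LinearMap.rTensor (M.X ij.1.2) (S.g.f ij.1.1).hom)) := by
    rw [DirectSum.lmap_surjective]
    intro ij
    exact LinearMap.rTensor_surjective _ (degreewise_facts S hS ij.1.1).2.1
  have hex : Function.Exact (DirectSum.lmap (fun ij : HTor.Antidiag n =>
      LinearMap.rTensor (M.X ij.1.2) (S.f.f ij.1.1).hom)) (DirectSum.lmap (fun ij : HTor.Antidiag n =>
      LinearMap.rTensor (M.X ij.1.2) (S.g.f ij.1.1).hom)) := by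
    apply lmap_exact
    intro ij
    obtain ⟨h1, h2, h3⟩ := degreewise_facts S hS ij.1.1
    exact rTensor_exact _ h3 h2
  apply ModuleCat.shortComplex_shortExact
  · -- exactness
    intro w
    show ((tmap S.g (𝟙 M)).f n).hom w = 0 ↔ w ∈ Set.range ((tmap S.f (𝟙 M)).f n).hom
    rw [tmap_eq]
    constructor
    · intro h0
      have h1 : DirectSum.lmap (fun ij : HTor.Antidiag n =>
          LinearMap.rTensor (M.X ij.1.2) (S.g.f ij.1.1).hom) (toSum S.X₂ M n w) = 0 := by
        have := congrArg (toSum S.X₃ M n) h0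
        rwa [toSum_ofSum, map_zero] at this
      obtain ⟨u, hu⟩ := (hex _).mp h1
      refine ⟨ofSum S.X₁ M n u, ?_⟩
      rw [tmap_eq, toSum_ofSum, hu, ofSum_toSum]
    · rintro ⟨v, rfl⟩
      rw [toSum_tmap]
      rw [(hex _).mpr ⟨_, rfl⟩, map_zero]
  · -- injectivity
    intro w w' h
    show w = w'
    have h' : ((tmap S.f (𝟙 M)).f n).hom w = ((tmap S.f (𝟙 M)).f n).hom w' := h
    rw [tmap_eq, tmap_eq] at h'
    have h2 := congrArg (toSum S.X₂ M n) h'
    rw [toSum_ofSum, toSum_ofSum] at h2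
    have h3 := hinj h2
    rw [← ofSum_toSum S.X₁ M n w, ← ofSum_toSum S.X₁ M n w', h3]
  · -- surjectivity
    intro w
    obtain ⟨u, hu⟩ := hsurj (toSum S.X₃ M n w)
    refine ⟨ofSum S.X₂ M n u, ?_⟩
    show ((tmap S.g (𝟙 M)).f n).hom (ofSum S.X₂ M n u) = w
    rw [tmap_eq, toSum_ofSum, hu, ofSum_toSum]

end TensorSES

end Groth.Agent.H92.Kun
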