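import Groth.Agent.H92.KunTor

/-!
# Künneth: the filtration on `H^n(L ⊗ M)` with Tor subquotients
-/

set_option autoImplicit false
universe u

open CategoryTheory CategoryTheory.Limits MonoidalCategory TensorProduct HomologicalComplex

namespace Groth.Agent.H92.Kun

variable {A : Type u} [CommRing A]

section Filt

variable (M : DRing.Cx A)

/-- the filtration statement, with the Künneth map pinned to `kun` -/
def HasFilt (L : DRing.Cx A) (n : ℤ) : Prop :=
  ∃ (N : ℕ) (F : ℕ → Submodule A ((T L M).homology n)),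
    F 0 = LinearMap.range (kun L M n) ∧ Monotone F ∧ F N = ⊤ ∧
      ∀ p : ℕ, HTor.IsSubquotient A (HTor.grSucc F p) (HTor.TorSum L M n (p + 1))

variable (L : DRing.Cx A) (hL : DRing.TermwiseFlat L) (n : ℤ)

/-- the connecting map of the tensored cover sequence -/
noncomputable def δT : (T L M).homology n →ₗ[A] (T (Kc L) M).homology (n + 1) :=
  conn (tensorSC (coverSC L) M) (tcover_shortExact M L hL) n (n + 1) rfl

theorem range_kun_eq_ker_δT : LinearMap.range (kun L M n) = LinearMap.ker (δT M L hL n) := by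
  have hSE := tcover_shortExact M L hL
  apply le_antisymm
  · rintro _ ⟨y, rfl⟩
    obtain ⟨y', rfl⟩ := ksMap_φc_surjective L M n y
    rw [← kun_natural, LinearMap.mem_ker]
    exact (les_exact₃ _ hSE n (n + 1) rfl _).mpr ⟨_, rfl⟩
  · intro x hx
    obtain ⟨η, rfl⟩ := (les_exact₃ _ hSE n (n + 1) rfl x).mp hx
    obtain ⟨y', rfl⟩ := (kun_bijective_Qc L M n).2 η
    exact ⟨ksMap (φc L) M n y', (kun_natural (φc L) M n y').symm⟩

theorem kun_mem_range_δT (w : HTor.KunnethSum (Kc L) M (n + 1))
    (hw : w ∈ LinearMap.ker (ksMap (ιK L) M (n + 1))) :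
    kun (Kc L) M (n + 1) w ∈ LinearMap.range (δT M L hL n) := by
  have hSE := tcover_shortExact M L hL
  apply (les_exact₁ _ hSE n (n + 1) rfl _).mp
  show (HomologicalComplex.homologyMap (tmap (ιK L) (𝟙 M)) (n + 1)).hom _ = 0
  rw [kun_natural, LinearMap.mem_ker.mp hw, map_zero]

theorem exists_of_δT_mem_range (x : (T L M).homology n)
    (hx : δT M L hL n x ∈ LinearMap.range (kun (Kc L) M (n + 1))) :
    ∃ w ∈ LinearMap.ker (ksMap (ιK L) M (n + 1)), kun (Kc L) M (n + 1) w = δT M L hL n x := by
  have hSE := tcover_shortExact M L hL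
  obtain ⟨w, hw⟩ := hx
  refine ⟨w, ?_, hw⟩
  have h0 : (HomologicalComplex.homologyMap (tmap (ιK L) (𝟙 M)) (n + 1)).hom
      (kun (Kc L) M (n + 1) w) = 0 := by
    rw [hw]
    exact (les_exact₁ _ hSE n (n + 1) rfl _).mpr ⟨x, rfl⟩
  rw [kun_natural] at h0
  rw [LinearMap.mem_ker]
  apply (kun_bijective_Qc L M (n + 1)).1
  rw [h0, map_zero]

end Filt

section Induct

variable (M : DRing.Cx A) (bM : ℤ) (hbM : DRing.VanishesAbove M bM)

include hbM in
theorem hasFilt_aux (k : ℕ) :
    ∀ (L : DRing.Cx A) (b : ℤ), DRing.TermwiseFlat L → DRing.VanishesAbove L b →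
      ∀ n : ℤ, b + bM < n + k → HasFilt M L n := by
  induction k with
  | zero =>
    intro L b hL hb n hn
    have h2 := subsingleton_homology_T L M b bM hb hbM n (by simpa using hn)
    refine ⟨0, fun _ => ⊤, Subsingleton.elim _ _, fun _ _ _ => le_rfl, rfl, fun p => ?_⟩
    have : Subsingleton (HTor.grSucc (R := A) (fun _ : ℕ => (⊤ : Submodule A ((T L M).homology n))) p) :=
      ⟨fun x y => by
        obtain ⟨x, rfl⟩ := Submodule.mkQ_surjective _ x
        obtain ⟨y, rfl⟩ := Submodule.mkQ_surjective _ y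
        rw [Subsingleton.elim x y]⟩
    exact isSubquotient_of_subsingleton
  | succ k IH =>
    intro L b hL hb n hn
    obtain ⟨N', F', hF0, hmono, hN, hgr⟩ := IH (Kc L) b (flat_Kc L hL) (vanishesAbove_Kc L b hb)
      (n + 1) (by push_cast at hn ⊢; omega)
    let δ := δT M L hL n
    let F : ℕ → Submodule A ((T L M).homology n) := fun p =>
      Nat.rec (LinearMap.range (kun L M n)) (fun q _ => (F' q).comap δ) p
    have hFs : ∀ p, F (p + 1) = (F' p).comap δ := fun p => rfl
    have hF0' : F 0 = LinearMap.range (kun L M n) := rfl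
    refine ⟨N' + 1, F, hF0', ?_, ?_, ?_⟩
    · apply monotone_nat_of_le_succ
      intro p
      cases p with
      | zero =>
        rw [hF0', hFs, range_kun_eq_ker_δT M L hL n]
        intro x hx
        rw [Submodule.mem_comap, LinearMap.mem_ker.mp hx]
        exact Submodule.zero_mem _
      | succ p =>
        rw [hFs, hFs]
        exact Submodule.comap_mono (hmono (Nat.le_succ p))
    · rw [hFs, hN, Submodule.comap_top]
    · intro p
      cases p with
      | zero =>
        obtain ⟨π, hπ⟩ := exists_surjective_gr0' δ (kun (Kc L) M (n + 1))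
          (LinearMap.ker (ksMap (ιK L) M (n + 1))) (LinearMap.range (kun L M n)) (F' 0) hF0
          (range_kun_eq_ker_δT M L hL n) (kun_mem_range_δT M L hL n)
          (exists_of_δT_mem_range M L hL n)
        obtain ⟨τ, hτ⟩ := exists_surjective_torSumOne L M n
        exact isSubquotient_of_surjective_top (π ∘ₗ τ) (hπ.comp hτ)
      | succ p =>
        have h1 : HTor.IsSubquotient A (HTor.grSucc F (p + 1))
            (HTor.TorSum (Kc L) M (n + 1) (p + 1)) :=
          isSubquotient_of_injective (grMap δ (F' p) (F' (p + 1))) (grMap_injective _ _ _) (hgr p)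
        exact isSubquotient_of_equiv (torSumShift L M n p) h1

end Induct

theorem hasFilt (L M : DRing.Cx A) (hL : DRing.TermwiseFlat L)
    (bL : ∃ b : ℤ, DRing.VanishesAbove L b) (bM : ∃ b : ℤ, DRing.VanishesAbove M b) (n : ℤ) :
    HasFilt M L n := by
  obtain ⟨b, hb⟩ := bL
  obtain ⟨b', hb'⟩ := bM
  refine hasFilt_aux M b' hb' (b + b' - n + 1).toNat L b hL hb n ?_
  have := Int.self_le_toNat (b + b' - n + 1)
  omega

end Groth.Agent.H92.Kun
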