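import Groth.Agent.H92.KunLES

/-!
# Künneth isomorphism for a complex with flat terms and flat cohomology
-/

set_option autoImplicit false
universe u

open CategoryTheory CategoryTheory.Limits MonoidalCategory TensorProduct HomologicalComplex

namespace Groth.Agent.H92.Kun

variable {A : Type u} [CommRing A]

section KS

variable (L M : DRing.Cx A) (n : ℤ)

theorem ksMap_zero {L₁ L₂ : DRing.Cx A} (x : HTor.KunnethSum L₁ M n) :
    ksMap (0 : L₁ ⟶ L₂) M n x = 0 := by
  have : ksMap (0 : L₁ ⟶ L₂) M n = 0 := by
    apply kunnethSum_ext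
    intro ij z z'
    rw [ksMap_lof, HomologicalComplex.homologyMap_zero]
    simp
  rw [this]
  rfl

theorem ksMap_φc_surjective : Function.Surjective (ksMap (φc L) M n) := by
  rw [ksMap, DirectSum.lmap_surjective]
  intro ij
  exact LinearMap.rTensor_surjective _ (homologyMap_φc_surjective L ij.1.1)

theorem ksMap_cover_zero (v : HTor.KunnethSum (Kc L) M n) :
    ksMap (φc L) M n (ksMap (ιK L) M n v) = 0 := by
  rw [← ksMap_comp]
  have : ιK L ≫ φc L = 0 := kernel.condition _
  rw [this, ksMap_zero]

theorem ksMap_ιK_injective (hH : ∀ i : ℤ, Module.Flat A (L.homology i)) :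
    Function.Injective (ksMap (ιK L) M n) := by
  rw [ksMap, DirectSum.lmap_injective]
  intro ij
  have := hH ij.1.1
  exact (LinearMap.lTensor_inj_iff_rTensor_inj _ _).mp
    (LinearMap.lTensor_injective_of_exact_of_flat
      (HomologicalComplex.homologyMap (φc L) ij.1.1).hom (homologyMap_φc_surjective L ij.1.1)
      (HomologicalComplex.homologyMap (ιK L) ij.1.1).hom (homologyMap_ιK_injective L ij.1.1)
      (homologyMap_cover_exact L ij.1.1) (M.homology ij.1.2))

end KS

section Bounds

variable (L M : DRing.Cx A) (b bM : ℤ) (hb : DRing.VanishesAbove L b)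
  (hbM : DRing.VanishesAbove M bM) (n : ℤ)

theorem subsingleton_homology_of_X (i : ℤ) (h : Subsingleton (L.X i)) :
    Subsingleton (L.homology i) := by
  refine ⟨fun x y => ?_⟩
  obtain ⟨z, rfl⟩ := cls_surjective L i x
  obtain ⟨z', rfl⟩ := cls_surjective L i y
  rw [Subsingleton.elim z z']

include hb hbM in
theorem subsingleton_T_of_bounds (h : b + bM < n) : Subsingleton ((T L M).X n) := by
  apply subsingleton_T
  intro i j hij
  by_cases hi : b < i
  · have : Subsingleton (L.X i) := ModuleCat.subsingleton_of_isZero (hb i hi)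
    infer_instance
  · have : Subsingleton (M.X j) := ModuleCat.subsingleton_of_isZero (hbM j (by omega))
    infer_instance

include hb hbM in
theorem subsingleton_homology_T (h : b + bM < n) : Subsingleton ((T L M).homology n) :=
  subsingleton_homology_of_X (T L M) n (subsingleton_T_of_bounds L M b bM hb hbM n h)

include hb hbM in
theorem subsingleton_KS (h : b + bM < n) : Subsingleton (HTor.KunnethSum L M n) := by
  refine ⟨fun x y => ?_⟩
  apply DFinsupp.ext
  intro ij
  have : Subsingleton (L.homology ij.1.1 ⊗[A] M.homology ij.1.2) := by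
    by_cases hi : b < ij.1.1
    · have : Subsingleton (L.homology ij.1.1) :=
        subsingleton_homology_of_X L _ (ModuleCat.subsingleton_of_isZero (hb _ hi))
      infer_instance
    · have : Subsingleton (M.homology ij.1.2) :=
        subsingleton_homology_of_X M _ (ModuleCat.subsingleton_of_isZero (hbM _ (by
          have := ij.2
          omega)))
      infer_instance
  exact Subsingleton.elim _ _

end Bounds

section Flat

variable (M : DRing.Cx A) (bM : ℤ) (hbM : DRing.VanishesAbove M bM)

/-- the tensored cover sequence is short exact -/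
theorem tcover_shortExact (L : DRing.Cx A) (hL : DRing.TermwiseFlat L) :
    (tensorSC (coverSC L) M).ShortExact :=
  tensorSC_shortExact (coverSC L) (coverSC_shortExact L) hL M

include hbM in
theorem kun_surjective_step (k : ℕ)
    (IH : ∀ (L : DRing.Cx A) (b : ℤ), DRing.TermwiseFlat L → DRing.VanishesAbove L b →
      (∀ i : ℤ, Module.Flat A (L.homology i)) → ∀ n : ℤ, b + bM < n + k →
        Function.Bijective (kun L M n))
    (L : DRing.Cx A) (b : ℤ) (hL : DRing.TermwiseFlat L) (hb : DRing.VanishesAbove L b)
    (hH : ∀ i : ℤ, Module.Flat A (L.homology i)) (n : ℤ) (hn : b + bM < n + (k + 1 : ℕ)) :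
    Function.Surjective (kun L M n) := by
  have hK := IH (Kc L) b (flat_Kc L hL) (vanishesAbove_Kc L b hb) (flat_homology_Kc L hH) (n + 1)
    (by push_cast at hn; omega)
  have hQ1 := kun_bijective_Qc L M (n + 1)
  have hQ0 := kun_bijective_Qc L M n
  have hSE := tcover_shortExact M L hL
  -- `H^{n+1}(ι ⊗ 1)` is injective
  have hinj : Function.Injective
      (HomologicalComplex.homologyMap (tmap (ιK L) (𝟙 M)) (n + 1)).hom := by
    intro x y hxy
    obtain ⟨x', rfl⟩ := hK.2 x
    obtain ⟨y', rfl⟩ := hK.2 y
    rw [kun_natural, kun_natural] at hxy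
    rw [ksMap_ιK_injective L M (n + 1) hH (hQ1.1 hxy)]
  -- the connecting map vanishes, so `H^n(φ ⊗ 1)` is surjective
  have hsurj : Function.Surjective
      (HomologicalComplex.homologyMap (tmap (φc L) (𝟙 M)) n).hom := by
    intro ξ
    have h0 : conn _ hSE n (n + 1) rfl ξ = 0 := by
      apply hinj
      rw [map_zero]
      exact (les_exact₁ _ hSE n (n + 1) rfl _).mpr ⟨ξ, rfl⟩
    exact (les_exact₃ _ hSE n (n + 1) rfl ξ).mp h0
  intro ξ
  obtain ⟨η, rfl⟩ := hsurj ξ
  obtain ⟨y, rfl⟩ := hQ0.2 η
  exact ⟨ksMap (φc L) M n y, (kun_natural (φc L) M n y).symm⟩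

include hbM in
theorem kun_bijective_flat (k : ℕ) :
    ∀ (L : DRing.Cx A) (b : ℤ), DRing.TermwiseFlat L → DRing.VanishesAbove L b →
      (∀ i : ℤ, Module.Flat A (L.homology i)) → ∀ n : ℤ, b + bM < n + k →
        Function.Bijective (kun L M n) := by
  induction k with
  | zero =>
    intro L b hL hb hH n hn
    have h1 := subsingleton_KS L M b bM hb hbM n (by simpa using hn)
    have h2 := subsingleton_homology_T L M b bM hb hbM n (by simpa using hn)
    refine ⟨fun x y _ => Subsingleton.elim _ _, fun y => ⟨0, Subsingleton.elim _ _⟩⟩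
  | succ k IH =>
    intro L b hL hb hH n hn
    refine ⟨?_, kun_surjective_step M bM hbM k IH L b hL hb hH n hn⟩
    rw [injective_iff_map_eq_zero]
    intro x hx
    have hSE := tcover_shortExact M L hL
    have hQ0 := kun_bijective_Qc L M n
    obtain ⟨y, rfl⟩ := ksMap_φc_surjective L M n x
    rw [← kun_natural] at hx
    obtain ⟨ζ, hζ⟩ := (les_exact₂ _ hSE n _).mp hx
    obtain ⟨v, rfl⟩ := kun_surjective_step M bM hbM k IH (Kc L) b (flat_Kc L hL)
      (vanishesAbove_Kc L b hb) (flat_homology_Kc L hH) n hn ζ
    have h3 : (HomologicalComplex.homologyMap (tmap (ιK L) (𝟙 M)) n).hom (kun (Kc L) M n v) =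
        kun (Qc L) M n y := hζ
    rw [kun_natural] at h3
    rw [← hQ0.1 h3, ksMap_cover_zero]

end Flat

end Groth.Agent.H92.Kun
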