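import Groth.Agent.H92.KunMap

/-!
# Künneth: functoriality and homotopy invariance of the Künneth map
-/

set_option autoImplicit false
universe u

open CategoryTheory CategoryTheory.Limits MonoidalCategory TensorProduct HomologicalComplex

namespace Groth.Agent.H92.Kun

variable {A : Type u} [CommRing A]

section Funct

variable {L₁ L₂ L₃ : DRing.Cx A} (f : L₁ ⟶ L₂) (g : L₂ ⟶ L₃) (M : DRing.Cx A)

theorem tmap_comp : tmap (f ≫ g) (𝟙 M) = tmap f (𝟙 M) ≫ tmap g (𝟙 M) := by
  apply HomologicalComplex.hom_ext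
  intro n
  apply mapBifunctor.hom_ext
  intro i j h
  refine ModuleCat.hom_ext (LinearMap.ext fun t => ?_)
  show ((tmap (f ≫ g) (𝟙 M)).f n).hom (tm L₁ M i j n h t) =
    ((tmap g (𝟙 M)).f n).hom (((tmap f (𝟙 M)).f n).hom (tm L₁ M i j n h t))
  rw [tmap_tm, tmap_tm, tmap_tm]
  congr 1
  induction t using TensorProduct.induction_on with
  | zero => simp
  | tmul x y => rfl
  | add a b ha hb => simp only [map_add, ha, hb]

theorem tmap_id : tmap (𝟙 L₁) (𝟙 M) = 𝟙 (T L₁ M) := by
  apply HomologicalComplex.hom_ext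
  intro n
  apply mapBifunctor.hom_ext
  intro i j h
  refine ModuleCat.hom_ext (LinearMap.ext fun t => ?_)
  show ((tmap (𝟙 L₁) (𝟙 M)).f n).hom (tm L₁ M i j n h t) = tm L₁ M i j n h t
  rw [tmap_tm]
  congr 1
  induction t using TensorProduct.induction_on with
  | zero => simp
  | tmul x y => rfl
  | add a b ha hb => simp only [map_add, ha, hb]

theorem ksMap_comp (n : ℤ) (x : HTor.KunnethSum L₁ M n) :
    ksMap (f ≫ g) M n x = ksMap g M n (ksMap f M n x) := by
  have : ksMap (f ≫ g) M n = ksMap g M n ∘ₗ ksMap f M n := by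
    apply kunnethSum_ext
    intro ij z z'
    rw [LinearMap.comp_apply, ksMap_lof, ksMap_lof, ksMap_lof, HomologicalComplex.homologyMap_comp]
    rfl
  exact congrArg (fun φ => φ x) this

theorem ksMap_eq_of_homologyMap_eq {f f' : L₁ ⟶ L₂}
    (h : ∀ i, HomologicalComplex.homologyMap f i = HomologicalComplex.homologyMap f' i) (n : ℤ) :
    ksMap f M n = ksMap f' M n := by
  apply kunnethSum_ext
  intro ij z z'
  rw [ksMap_lof, ksMap_lof, h]

theorem ksMap_id (n : ℤ) (x : HTor.KunnethSum L₁ M n) : ksMap (𝟙 L₁) M n x = x := by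
  have : ksMap (𝟙 L₁) M n = LinearMap.id := by
    apply kunnethSum_ext
    intro ij z z'
    rw [ksMap_lof, HomologicalComplex.homologyMap_id]
    rfl
  exact congrArg (fun φ => φ x) this

end Funct

section Htpy

variable {L₁ L₂ : DRing.Cx A} (f : L₁ ⟶ L₂) (g : L₂ ⟶ L₁) (hfg : f ≫ g = 𝟙 L₁)
  (hgf : Homotopy (𝟙 L₂) (g ≫ f)) (M : DRing.Cx A) (n : ℤ)

include hfg hgf in
/-- the Künneth map of a complex homotopy equivalent to one with bijective Künneth map is
bijective -/
theorem kun_bijective_of_homotopy (h₁ : Function.Bijective (kun L₁ M n)) :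
    Function.Bijective (kun L₂ M n) := by
  -- homology of the tensor complexes
  have e1 : HomologicalComplex.homologyMap (tmap g (𝟙 M)) n ≫
      HomologicalComplex.homologyMap (tmap f (𝟙 M)) n = 𝟙 _ := by
    rw [← HomologicalComplex.homologyMap_comp, ← tmap_comp]
    have := (mapBifunctorMapHomotopy₁ hgf (𝟙 M) (curriedTensor (ModuleCat.{u} A))
      (ComplexShape.up ℤ)).homologyMap_eq n
    have h2 : HomologicalComplex.homologyMap (tmap (g ≫ f) (𝟙 M)) n =
        HomologicalComplex.homologyMap (tmap (𝟙 L₂) (𝟙 M)) n := this.symm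
    rw [h2, tmap_id, HomologicalComplex.homologyMap_id]
  have e2 : HomologicalComplex.homologyMap (tmap f (𝟙 M)) n ≫
      HomologicalComplex.homologyMap (tmap g (𝟙 M)) n = 𝟙 _ := by
    rw [← HomologicalComplex.homologyMap_comp, ← tmap_comp, hfg, tmap_id,
      HomologicalComplex.homologyMap_id]
  have hbij : Function.Bijective (HomologicalComplex.homologyMap (tmap f (𝟙 M)) n).hom := by
    refine Function.bijective_iff_has_inverse.mpr
      ⟨(HomologicalComplex.homologyMap (tmap g (𝟙 M)) n).hom, fun x => ?_, fun x => ?_⟩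
    · exact congrArg (fun φ => φ.hom x) e2
    · exact congrArg (fun φ => φ.hom x) e1
  -- Künneth sums
  have k1 : ∀ x, ksMap g M n (ksMap f M n x) = x := by
    intro x
    rw [← ksMap_comp, hfg, ksMap_id]
  have k2 : ∀ x, ksMap f M n (ksMap g M n x) = x := by
    intro x
    rw [← ksMap_comp, ← ksMap_eq_of_homologyMap_eq M (fun i => hgf.homologyMap_eq i) n, ksMap_id]
  have hks : Function.Bijective (ksMap g M n) :=
    Function.bijective_iff_has_inverse.mpr ⟨ksMap f M n, k2, k1⟩
  have hcomp : (kun L₂ M n : _ → _) =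
      (HomologicalComplex.homologyMap (tmap f (𝟙 M)) n).hom ∘ (kun L₁ M n) ∘ (ksMap g M n) := by
    funext x
    simp only [Function.comp_apply]
    rw [kun_natural, k2]
  rw [hcomp]
  exact hbij.comp (h₁.comp hks)

end Htpy

end Groth.Agent.H92.Kun
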