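import Groth.Agent.H92.KunSES

/-!
# Künneth: function-level long exact sequence
-/

set_option autoImplicit false
universe u

open CategoryTheory CategoryTheory.Limits MonoidalCategory TensorProduct HomologicalComplex

namespace Groth.Agent.H92.Kun

variable {A : Type u} [CommRing A]

section LES

variable (S : ShortComplex (DRing.Cx A)) (hS : S.ShortExact) (i j : ℤ) (hij : i + 1 = j)

/-- the connecting homomorphism as a linear map -/
noncomputable def conn : S.X₃.homology i →ₗ[A] S.X₁.homology j :=
  (hS.δ i j (show (ComplexShape.up ℤ).Rel i j from hij)).hom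

include hS in
theorem les_exact₂ :
    Function.Exact (HomologicalComplex.homologyMap S.f i).hom
      (HomologicalComplex.homologyMap S.g i).hom :=
  (ShortComplex.ShortExact.moduleCat_exact_iff_function_exact _).mp (hS.homology_exact₂ i)

theorem les_exact₃ :
    Function.Exact (HomologicalComplex.homologyMap S.g i).hom (conn S hS i j hij) :=
  (ShortComplex.ShortExact.moduleCat_exact_iff_function_exact _).mp
    (hS.homology_exact₃ i j (show (ComplexShape.up ℤ).Rel i j from hij))

theorem les_exact₁ :
    Function.Exact (conn S hS i j hij) (HomologicalComplex.homologyMap S.f j).hom :=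
  (ShortComplex.ShortExact.moduleCat_exact_iff_function_exact _).mp
    (hS.homology_exact₁ i j (show (ComplexShape.up ℤ).Rel i j from hij))

include hS hij in
/-- if `H^i(g)` is surjective then `H^{i+1}(f)` is injective -/
theorem homologyMap_f_injective
    (hsurj : Function.Surjective (HomologicalComplex.homologyMap S.g i).hom) :
    Function.Injective (HomologicalComplex.homologyMap S.f j).hom := by
  rw [injective_iff_map_eq_zero]
  intro x hx
  obtain ⟨y, rfl⟩ := (les_exact₁ S hS i j hij x).mp hx
  obtain ⟨z, rfl⟩ := hsurj y
  exact (les_exact₃ S hS i j hij _).mpr ⟨z, rfl⟩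

end LES

section CoverH

variable (L : DRing.Cx A) (i : ℤ)

theorem homologyMap_ιK_injective :
    Function.Injective (HomologicalComplex.homologyMap (ιK L) i).hom := by
  have := homologyMap_f_injective (coverSC L) (coverSC_shortExact L) (i - 1) i (by omega)
    (homologyMap_φc_surjective L (i - 1))
  exact this

theorem homologyMap_cover_exact :
    Function.Exact (HomologicalComplex.homologyMap (ιK L) i).hom
      (HomologicalComplex.homologyMap (φc L) i).hom :=
  les_exact₂ (coverSC L) (coverSC_shortExact L) i

end CoverH

section CoverKun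

theorem flat_homology_of_zero (S : DRing.Cx A) (hS : ∀ i j : ℤ, S.d i j = 0)
    (hfl : ∀ i : ℤ, Module.Flat A (S.X i)) (i : ℤ) : Module.Flat A (S.homology i) := by
  let e0 : Zc S i ≃ₗ[A] S.X i := LinearEquiv.ofTop (Zc S i) (Zc_eq_top S hS i)
  have hbij : Function.Bijective (cls S i ∘ₗ e0.symm.toLinearMap) := by
    constructor
    · rw [← LinearMap.ker_eq_bot, LinearMap.ker_eq_bot']
      intro x hx
      rw [LinearMap.comp_apply, cls_eq_zero_iff] at hx
      obtain ⟨y, hy⟩ := hx
      rw [hS] at hy
      have h1 : x = (e0.symm x).1 := rfl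
      have h2 : (e0.symm x).1 = 0 := by
        have h3 : (e0.symm x).1 = (ModuleCat.Hom.hom (0 : S.X (i - 1) ⟶ S.X i)) y := hy.symm
        rw [h3]
        rfl
      rw [h1, h2]
    · exact (cls_surjective S i).comp e0.symm.surjective
  have := hfl i
  exact Module.Flat.of_linearEquiv (LinearEquiv.ofBijective _ hbij).symm

variable (L : DRing.Cx A)

/-- `H^i(Q) ≅ H^i(S)` -/
noncomputable def homologyIsoQS (i : ℤ) : (Qc L).homology i ≅ (Sc L).homology i where
  hom := HomologicalComplex.homologyMap (pS L) i
  inv := HomologicalComplex.homologyMap (ιS L) i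
  hom_inv_id := by
    rw [← HomologicalComplex.homologyMap_comp, ← (hQ L).homologyMap_eq i,
      HomologicalComplex.homologyMap_id]
  inv_hom_id := by
    rw [← HomologicalComplex.homologyMap_comp, ιS_pS, HomologicalComplex.homologyMap_id]

theorem flat_homology_Qc (i : ℤ) : Module.Flat A ((Qc L).homology i) := by
  have := flat_homology_of_zero (Sc L) (Sc_d L) (flat_Sc L) i
  exact Module.Flat.of_linearEquiv (homologyIsoQS L i).toLinearEquiv

theorem kun_bijective_Qc (M : DRing.Cx A) (n : ℤ) : Function.Bijective (kun (Qc L) M n) :=
  kun_bijective_of_homotopy (ιS L) (pS L) (ιS_pS L) (hQ L) M n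
    (kun_bijective_of_zero (Sc L) M (Sc_d L) (flat_Sc L) n)

theorem flat_homology_Kc (hH : ∀ i : ℤ, Module.Flat A (L.homology i)) (i : ℤ) :
    Module.Flat A ((Kc L).homology i) := by
  have := flat_homology_Qc L i
  have := hH i
  exact flat_of_exact (HomologicalComplex.homologyMap (ιK L) i).hom
    (HomologicalComplex.homologyMap (φc L) i).hom (homologyMap_ιK_injective L i)
    (homologyMap_φc_surjective L i) (homologyMap_cover_exact L i)

end CoverKun

end Groth.Agent.H92.Kun
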