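import Groth.Agent.H92.KunBasic

/-!
# Künneth: the Künneth map `⨁ H^i(L) ⊗ H^j(M) → H^n(L ⊗ M)` and its naturality
-/

set_option autoImplicit false
universe u

open CategoryTheory CategoryTheory.Limits MonoidalCategory TensorProduct HomologicalComplex

namespace Groth.Agent.H92.Kun

variable {A : Type u} [CommRing A]

section ZMap

variable (L M : DRing.Cx A) (i j n : ℤ) (h : i + j = n)

/-- tensor of cycles into the tensor complex -/
noncomputable def zmap : (Zc L i ⊗[A] Zc M j) →ₗ[A] (T L M).X n :=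
  tm L M i j n h ∘ₗ TensorProduct.map (Zc L i).subtype (Zc M j).subtype

theorem zmap_tmul (z : Zc L i) (z' : Zc M j) :
    zmap L M i j n h (z ⊗ₜ[A] z') = tm L M i j n h (z.1 ⊗ₜ[A] z'.1) := rfl

theorem d_zmap : ((T L M).d n (n + 1)).hom ∘ₗ zmap L M i j n h = 0 := by
  apply TensorProduct.ext'
  intro z z'
  simp only [LinearMap.comp_apply, zmap_tmul, LinearMap.zero_apply]
  rw [d_tm, (mem_Zc L i z.1).mp z.2, (mem_Zc M j z'.1).mp z'.2]
  simp

theorem zmap_mem (t : Zc L i ⊗[A] Zc M j) : zmap L M i j n h t ∈ Zc (T L M) n := by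
  rw [mem_Zc]
  exact congrArg (fun f => f t) (d_zmap L M i j n h)

/-- tensor of cycles into the cycles of the tensor complex -/
noncomputable def zmapZ : (Zc L i ⊗[A] Zc M j) →ₗ[A] Zc (T L M) n :=
  (zmap L M i j n h).codRestrict _ (zmap_mem L M i j n h)

/-- class of the tensor of two cycles -/
noncomputable def zcls : (Zc L i ⊗[A] Zc M j) →ₗ[A] (T L M).homology n :=
  cls (T L M) n ∘ₗ zmapZ L M i j n h

theorem zcls_boundary_left (b : Zc L i) (hb : cls L i b = 0) (z' : Zc M j) :
    zcls L M i j n h (b ⊗ₜ[A] z') = 0 := by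
  obtain ⟨y, hy⟩ := (cls_eq_zero_iff L i b).mp hb
  rw [zcls, LinearMap.comp_apply, cls_eq_zero_iff]
  refine ⟨tm L M (i - 1) j (n - 1) (by omega) (y ⊗ₜ[A] z'.1), ?_⟩
  rw [d_tm' L M (i - 1) j (n - 1) n i (j + 1) (by omega) (by omega) (by omega) rfl, hy,
    (mem_Zc M j z'.1).mp z'.2]
  simp
  rfl

theorem zcls_boundary_right (z : Zc L i) (b' : Zc M j) (hb : cls M j b' = 0) :
    zcls L M i j n h (z ⊗ₜ[A] b') = 0 := by
  obtain ⟨y, hy⟩ := (cls_eq_zero_iff M j b').mp hb
  rw [zcls, LinearMap.comp_apply, cls_eq_zero_iff]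
  refine ⟨((i.negOnePow : ℤˣ) : ℤ) • tm L M i (j - 1) (n - 1) (by omega) (z.1 ⊗ₜ[A] y), ?_⟩
  rw [map_zsmul, d_tm' L M i (j - 1) (n - 1) n (i + 1) j (by omega) (by omega) rfl (by omega), hy,
    (mem_Zc L i z.1).mp z.2]
  simp [smul_smul]
  rfl

theorem ker_map_le :
    LinearMap.ker (TensorProduct.map (cls L i) (cls M j)) ≤ LinearMap.ker (zcls L M i j n h) := by
  rw [TensorProduct.map_ker (LinearMap.exact_subtype_ker_map (cls L i)) (cls_surjective L i)
    (LinearMap.exact_subtype_ker_map (cls M j)) (cls_surjective M j)]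
  apply sup_le
  · rw [LinearMap.range_le_ker_iff]
    apply TensorProduct.ext'
    intro z b
    exact zcls_boundary_right L M i j n h z b.1 b.2
  · rw [LinearMap.range_le_ker_iff]
    apply TensorProduct.ext'
    intro b z'
    exact zcls_boundary_left L M i j n h b.1 b.2 z'

theorem map_cls_surjective :
    Function.Surjective (TensorProduct.map (cls L i) (cls M j)) :=
  TensorProduct.map_surjective (cls_surjective L i) (cls_surjective M j)

/-- the Künneth map on one summand -/
noncomputable def kun₁ : (L.homology i ⊗[A] M.homology j) →ₗ[A] (T L M).homology n :=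
  ((LinearMap.ker (TensorProduct.map (cls L i) (cls M j))).liftQ (zcls L M i j n h)
      (ker_map_le L M i j n h)) ∘ₗ
    ((TensorProduct.map (cls L i) (cls M j)).quotKerEquivOfSurjective
      (map_cls_surjective L M i j)).symm.toLinearMap

theorem kun₁_map (t : Zc L i ⊗[A] Zc M j) :
    kun₁ L M i j n h (TensorProduct.map (cls L i) (cls M j) t) = zcls L M i j n h t := by
  have h1 : ((TensorProduct.map (cls L i) (cls M j)).quotKerEquivOfSurjective
      (map_cls_surjective L M i j)).symm (TensorProduct.map (cls L i) (cls M j) t) =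
      Submodule.Quotient.mk t := by
    rw [LinearEquiv.symm_apply_eq]
    exact (LinearMap.quotKerEquivOfSurjective_apply_mk _ _ t).symm
  rw [kun₁, LinearMap.comp_apply, LinearEquiv.coe_coe, h1]
  rfl

theorem kun₁_cls (z : Zc L i) (z' : Zc M j) :
    kun₁ L M i j n h (cls L i z ⊗ₜ[A] cls M j z') =
      cls (T L M) n ⟨tm L M i j n h (z.1 ⊗ₜ[A] z'.1), zmap_mem L M i j n h (z ⊗ₜ[A] z')⟩ :=
  kun₁_map L M i j n h (z ⊗ₜ[A] z')

end ZMap

section Kun

variable (L M : DRing.Cx A) (n : ℤ)

/-- the Künneth map -/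
noncomputable def kun : HTor.KunnethSum L M n →ₗ[A] (T L M).homology n :=
  DirectSum.toModule A (HTor.Antidiag n) _ (fun ij => kun₁ L M ij.1.1 ij.1.2 n ij.2)

theorem kun_lof (ij : HTor.Antidiag n) (t : L.homology ij.1.1 ⊗[A] M.homology ij.1.2) :
    kun L M n (DirectSum.lof A (HTor.Antidiag n)
      (fun ij => L.homology ij.1.1 ⊗[A] M.homology ij.1.2) ij t) =
      kun₁ L M ij.1.1 ij.1.2 n ij.2 t := by
  simp [kun]

theorem isKunnethMap_kun : HTor.IsKunnethMap L M n (kun L M n) := by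
  intro ij z z' w hw
  rw [kun_lof, ← cls_iCycles L ij.1.1 z, ← cls_iCycles M ij.1.2 z', kun₁_cls,
    ← cls_iCycles (T L M) n w]
  congr 1
  apply Subtype.ext
  exact hw.symm

theorem kunnethSum_ext {N : Type*} [AddCommGroup N] [Module A N]
    (f g : HTor.KunnethSum L M n →ₗ[A] N)
    (h : ∀ (ij : HTor.Antidiag n) (z : Zc L ij.1.1) (z' : Zc M ij.1.2),
      f (DirectSum.lof A (HTor.Antidiag n)
        (fun ij => L.homology ij.1.1 ⊗[A] M.homology ij.1.2) ij
          (cls L ij.1.1 z ⊗ₜ[A] cls M ij.1.2 z')) =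
      g (DirectSum.lof A (HTor.Antidiag n)
        (fun ij => L.homology ij.1.1 ⊗[A] M.homology ij.1.2) ij
          (cls L ij.1.1 z ⊗ₜ[A] cls M ij.1.2 z'))) : f = g := by
  apply DirectSum.linearMap_ext
  intro ij
  apply TensorProduct.ext'
  intro x y
  obtain ⟨z, rfl⟩ := cls_surjective L ij.1.1 x
  obtain ⟨z', rfl⟩ := cls_surjective M ij.1.2 y
  exact h ij z z'

/-- `⨁ Z^i(L) ⊗ Z^j(M)` -/
abbrev SumZ : Type u :=
  DirectSum (HTor.Antidiag n) (fun ij => Zc L ij.1.1 ⊗[A] Zc M ij.1.2)

/-- sum of tensors of cycles, as a cycle of the tensor complex -/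
noncomputable def zsum : SumZ L M n →ₗ[A] Zc (T L M) n :=
  DirectSum.toModule A (HTor.Antidiag n) _ (fun ij => zmapZ L M ij.1.1 ij.1.2 n ij.2)

/-- the quotient map onto the Künneth sum -/
noncomputable def qmap : SumZ L M n →ₗ[A] HTor.KunnethSum L M n :=
  DirectSum.lmap (fun ij => TensorProduct.map (cls L ij.1.1) (cls M ij.1.2))

theorem qmap_surjective : Function.Surjective (qmap L M n) :=
  (DirectSum.lmap_surjective _).mpr (fun ij => map_cls_surjective L M ij.1.1 ij.1.2)

theorem kun_qmap (u : SumZ L M n) : kun L M n (qmap L M n u) = cls (T L M) n (zsum L M n u) := by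
  have : kun L M n ∘ₗ qmap L M n = cls (T L M) n ∘ₗ zsum L M n := by
    apply DirectSum.linearMap_ext
    intro ij
    refine LinearMap.ext fun t => ?_
    simp only [LinearMap.comp_apply]
    rw [qmap, DirectSum.lmap_lof, kun_lof, kun₁_map, zsum, DirectSum.toModule_lof]
    rfl
  exact congrArg (fun g => g u) this

theorem zsum_val (u : SumZ L M n) :
    (zsum L M n u).1 = ofSum L M n (DirectSum.lmap (fun ij =>
      TensorProduct.map (Zc L ij.1.1).subtype (Zc M ij.1.2).subtype) u) := by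
  have : (Zc (T L M) n).subtype ∘ₗ zsum L M n = ofSum L M n ∘ₗ (DirectSum.lmap (fun ij =>
      TensorProduct.map (Zc L ij.1.1).subtype (Zc M ij.1.2).subtype)) := by
    apply DirectSum.linearMap_ext
    intro ij
    refine LinearMap.ext fun t => ?_
    simp only [LinearMap.comp_apply]
    rw [zsum, DirectSum.toModule_lof, DirectSum.lmap_lof, ofSum_lof]
    rfl
  exact congrArg (fun g => g u) this

end Kun

section Nat

variable {L₁ L₂ : DRing.Cx A} (f : L₁ ⟶ L₂) (M : DRing.Cx A) (n : ℤ)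

/-- functoriality of the Künneth sum in the first variable -/
noncomputable def ksMap : HTor.KunnethSum L₁ M n →ₗ[A] HTor.KunnethSum L₂ M n :=
  DirectSum.lmap (fun ij => LinearMap.rTensor (M.homology ij.1.2)
    (HomologicalComplex.homologyMap f ij.1.1).hom)

theorem ksMap_lof (ij : HTor.Antidiag n) (x : L₁.homology ij.1.1) (y : M.homology ij.1.2) :
    ksMap f M n (DirectSum.lof A (HTor.Antidiag n)
      (fun ij => L₁.homology ij.1.1 ⊗[A] M.homology ij.1.2) ij (x ⊗ₜ[A] y)) =
    DirectSum.lof A (HTor.Antidiag n)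
      (fun ij => L₂.homology ij.1.1 ⊗[A] M.homology ij.1.2) ij
        ((HomologicalComplex.homologyMap f ij.1.1).hom x ⊗ₜ[A] y) := by
  rw [ksMap, DirectSum.lmap_lof]
  rfl

/-- naturality of the Künneth map in the first variable -/
theorem kun_natural (x : HTor.KunnethSum L₁ M n) :
    (HomologicalComplex.homologyMap (tmap f (𝟙 M)) n).hom (kun L₁ M n x) =
      kun L₂ M n (ksMap f M n x) := by
  have : (HomologicalComplex.homologyMap (tmap f (𝟙 M)) n).hom ∘ₗ kun L₁ M n =
      kun L₂ M n ∘ₗ ksMap f M n := by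
    apply kunnethSum_ext
    intro ij z z'
    simp only [LinearMap.comp_apply]
    rw [ksMap_lof, homologyMap_cls, kun_lof, kun_lof, kun₁_cls, kun₁_cls, homologyMap_cls]
    congr 1
    apply Subtype.ext
    show ((tmap f (𝟙 M)).f n).hom (tm L₁ M ij.1.1 ij.1.2 n ij.2 (z.1 ⊗ₜ[A] z'.1)) = _
    rw [tmap_tm]
    rfl
  exact congrArg (fun g => g x) this

end Nat

end Groth.Agent.H92.Kun
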