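import Groth.Agent.H92.KunMap

/-!
# Künneth for a complex with zero differentials and flat terms
-/

set_option autoImplicit false
universe u

open CategoryTheory CategoryTheory.Limits MonoidalCategory TensorProduct HomologicalComplex

namespace Groth.Agent.H92.Kun

variable {A : Type u} [CommRing A]

section Zero

variable (S M : DRing.Cx A) (hS : ∀ i j : ℤ, S.d i j = 0)

include hS in
theorem cmp_d (m n : ℤ) (hmn : m + 1 = n) (i j' j : ℤ) (h' : i + j' = m) (hj : j' + 1 = j)
    (w : (T S M).X m) :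
    cmp S M n ⟨(i, j), by omega⟩ (((T S M).d m n).hom w) =
      ((i.negOnePow : ℤˣ) : ℤ) • (LinearMap.lTensor (S.X i) (M.d j' j).hom)
        (cmp S M m ⟨(i, j'), h'⟩ w) := by
  have key : ModuleCat.ofHom (cmp S M n ⟨(i, j), by omega⟩ ∘ₗ ((T S M).d m n).hom) =
      ModuleCat.ofHom ((((i.negOnePow : ℤˣ) : ℤ) • (LinearMap.lTensor (S.X i) (M.d j' j).hom)) ∘ₗ
        (cmp S M m ⟨(i, j'), h'⟩)) := by
    apply mapBifunctor.hom_ext
    intro i' j'' h''
    apply ModuleCat.hom_ext
    apply TensorProduct.ext'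
    intro x y
    show cmp S M n ⟨(i, j), by omega⟩ (((T S M).d m n).hom (tm S M i' j'' m h'' (x ⊗ₜ[A] y))) =
      ((i.negOnePow : ℤˣ) : ℤ) • (LinearMap.lTensor (S.X i) (M.d j' j).hom)
        (cmp S M m ⟨(i, j'), h'⟩ (tm S M i' j'' m h'' (x ⊗ₜ[A] y)))
    rw [d_tm' S M i' j'' m n (i' + 1) (j'' + 1) h'' hmn rfl rfl, hS]
    simp only [ModuleCat.hom_zero, LinearMap.zero_apply, zero_tmul, map_zero, zero_add, map_zsmul]
    by_cases hc : i' = i ∧ j'' = j'
    · obtain ⟨rfl, rfl⟩ := hc
      subst hj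
      rw [cmp_tm_self, cmp_tm_self]
      rfl
    · rw [cmp_tm_ne, cmp_tm_ne]
      · simp
      · intro he
        apply hc
        have := congrArg (fun a : HTor.Antidiag m => a.1) he
        simp only [Prod.mk.injEq] at this
        exact this
      · intro he
        apply hc
        have := congrArg (fun a : HTor.Antidiag n => a.1) he
        simp only [Prod.mk.injEq] at this
        exact ⟨this.1, by omega⟩
  exact congrArg (fun f => f.hom w) key

theorem exact_Zc (j : ℤ) : Function.Exact (Zc M j).subtype (M.d j (j + 1)).hom := by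
  intro y
  constructor
  · intro hy
    exact ⟨⟨y, (mem_Zc M j y).mpr hy⟩, rfl⟩
  · rintro ⟨z, rfl⟩
    exact (mem_Zc M j z.1).mp z.2

include hS in
theorem Zc_eq_top (i : ℤ) : Zc S i = ⊤ := by
  rw [eq_top_iff]
  intro x _
  rw [mem_Zc, hS]
  rfl

theorem negOnePow_smul_eq_zero {N : Type*} [AddCommGroup N] (i : ℤ) (x : N)
    (h : ((i.negOnePow : ℤˣ) : ℤ) • x = 0) : x = 0 := by
  have := congrArg (fun y => ((i.negOnePow : ℤˣ) : ℤ) • y) h
  simp only [smul_smul, smul_zero] at this
  rw [← Units.val_mul, ← Int.negOnePow_add] at this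
  have h2 : (i + i).negOnePow = 1 := by
    rw [Int.negOnePow_add]
    exact Int.units_mul_self _
  rw [h2] at this
  simpa using this

variable (hfl : ∀ i : ℤ, Module.Flat A (S.X i)) (n : ℤ)

include hS in
theorem range_map_subtype (i j : ℤ) :
    LinearMap.range (LinearMap.lTensor (S.X i) (Zc M j).subtype) ≤
      LinearMap.range (TensorProduct.map (Zc S i).subtype (Zc M j).subtype) := by
  rintro _ ⟨c, rfl⟩
  have hsurj : Function.Surjective (LinearMap.rTensor (Zc M j) (Zc S i).subtype) := by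
    apply LinearMap.rTensor_surjective
    intro x
    exact ⟨⟨x, by rw [Zc_eq_top S hS]; trivial⟩, rfl⟩
  obtain ⟨c', rfl⟩ := hsurj c
  refine ⟨c', ?_⟩
  rw [← LinearMap.comp_apply, LinearMap.lTensor_comp_rTensor]

include hS hfl in
theorem kun_surjective_of_zero : Function.Surjective (kun S M n) := by
  intro ξ
  obtain ⟨w, rfl⟩ := cls_surjective (T S M) n ξ
  have hcomp : ∀ ij : HTor.Antidiag n, toSum S M n w.1 ij ∈
      LinearMap.range (TensorProduct.map (Zc S ij.1.1).subtype (Zc M ij.1.2).subtype) := by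
    rintro ⟨⟨i, j⟩, h⟩
    apply range_map_subtype S M hS i j
    have hd : ((T S M).d n (n + 1)).hom w.1 = 0 := (mem_Zc (T S M) n w.1).mp w.2
    have h1 := cmp_d S M hS n (n + 1) rfl i j (j + 1) h rfl w.1
    rw [hd, map_zero] at h1
    have h2 := negOnePow_smul_eq_zero i _ h1.symm
    have := hfl i
    exact (Module.Flat.lTensor_exact (S.X i) (exact_Zc M j) _).mp h2
  have hmem : toSum S M n w.1 ∈ LinearMap.range (DirectSum.lmap (fun ij : HTor.Antidiag n =>
      TensorProduct.map (Zc S ij.1.1).subtype (Zc M ij.1.2).subtype)) := by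
    rw [DirectSum.range_lmap]
    intro ij _
    exact hcomp ij
  obtain ⟨u, hu⟩ := hmem
  refine ⟨qmap S M n u, ?_⟩
  rw [kun_qmap]
  congr 1
  apply Subtype.ext
  rw [zsum_val, hu, ofSum_toSum]

/-- the differential into the cycles -/
noncomputable def dbar (j : ℤ) : M.X (j - 1) →ₗ[A] Zc M j :=
  (M.d (j - 1) j).hom.codRestrict (Zc M j) (fun y => by
    rw [mem_Zc]
    have := congrArg (fun f => f.hom y) (M.d_comp_d (j - 1) j (j + 1))
    exact this)

theorem subtype_comp_dbar (j : ℤ) : (Zc M j).subtype ∘ₗ dbar M j = (M.d (j - 1) j).hom := rfl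

theorem cls_comp_dbar (j : ℤ) : cls M j ∘ₗ dbar M j = 0 := by
  ext y
  rw [LinearMap.comp_apply, LinearMap.zero_apply, cls_eq_zero_iff]
  exact ⟨y, rfl⟩

include hS hfl in
theorem kun_injective_of_zero : Function.Injective (kun S M n) := by
  rw [injective_iff_map_eq_zero]
  intro x hx
  obtain ⟨u, rfl⟩ := qmap_surjective S M n x
  rw [kun_qmap, cls_eq_zero_iff] at hx
  obtain ⟨v, hv⟩ := hx
  apply DFinsupp.ext
  rintro ⟨⟨i, j⟩, h⟩
  show TensorProduct.map (cls S i) (cls M j) (u ⟨(i, j), h⟩) = 0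
  have h1 := cmp_d S M hS (n - 1) n (by omega) i (j - 1) j (by omega) (by omega) v
  rw [hv, zsum_val, cmp_ofSum, DirectSum.lmap_apply] at h1
  set c := cmp S M (n - 1) ⟨(i, j - 1), by omega⟩ v with hc
  set t := u ⟨(i, j), h⟩ with ht
  -- step 1: `(ι ⊗ 1) t = (1 ⊗ dbar) (ε c)` in `S^i ⊗ Z^j(M)`
  have hfli := hfl i
  have hinj : Function.Injective (LinearMap.lTensor (S.X i) (Zc M j).subtype) :=
    Module.Flat.lTensor_preserves_injective_linearMap _ (Submodule.injective_subtype _)
  have h2 : LinearMap.rTensor (Zc M j) (Zc S i).subtype t =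
      LinearMap.lTensor (S.X i) (dbar M j) (((i.negOnePow : ℤˣ) : ℤ) • c) := by
    apply hinj
    rw [← LinearMap.comp_apply, LinearMap.lTensor_comp_rTensor, ← LinearMap.comp_apply,
      ← LinearMap.lTensor_comp, subtype_comp_dbar, map_zsmul]
    exact h1
  -- step 2: `(ι ⊗ cls) t = 0`
  have h3 : LinearMap.lTensor (S.X i) (cls M j) (LinearMap.rTensor (Zc M j) (Zc S i).subtype t) = 0 := by
    rw [h2, ← LinearMap.comp_apply, ← LinearMap.lTensor_comp, cls_comp_dbar, LinearMap.lTensor_zero]
    rfl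
  -- step 3: `(1 ⊗ cls) t = 0`
  have hinj2 : Function.Injective (LinearMap.rTensor (M.homology j) (Zc S i).subtype) := by
    let e : S.X i →ₗ[A] Zc S i := (LinearEquiv.ofTop (Zc S i) (Zc_eq_top S hS i)).symm.toLinearMap
    have he : e ∘ₗ (Zc S i).subtype = LinearMap.id := by
      ext x
      rfl
    apply Function.LeftInverse.injective (g := LinearMap.rTensor (M.homology j) e)
    intro y
    rw [← LinearMap.comp_apply, ← LinearMap.rTensor_comp, he, LinearMap.rTensor_id]
    rfl
  have h4 : LinearMap.lTensor (Zc S i) (cls M j) t = 0 := by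
    apply hinj2
    rw [map_zero, ← LinearMap.comp_apply, LinearMap.rTensor_comp_lTensor,
      ← LinearMap.lTensor_comp_rTensor, LinearMap.comp_apply]
    exact h3
  have h5 : TensorProduct.map (cls S i) (cls M j) t =
      LinearMap.rTensor (M.homology j) (cls S i) (LinearMap.lTensor (Zc S i) (cls M j) t) := by
    rw [← LinearMap.comp_apply, LinearMap.rTensor_comp_lTensor]
  rw [h5, h4, map_zero]

include hS hfl in
theorem kun_bijective_of_zero : Function.Bijective (kun S M n) :=
  ⟨kun_injective_of_zero S M hS hfl n, kun_surjective_of_zero S M hS hfl n⟩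

end Zero

end Groth.Agent.H92.Kun
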