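import Groth.Agent.H92.KunCover
import Groth.Agent.H92.KunExact
import Groth.Agent.H92.KunZero

/-!
# Künneth: the short exact sequence `0 → K → Q → L → 0` of the free cover
-/

set_option autoImplicit false
universe u

open CategoryTheory CategoryTheory.Limits MonoidalCategory TensorProduct HomologicalComplex

namespace Groth.Agent.H92.Kun

variable {A : Type u} [CommRing A]

/-- the kernel of a surjection between flat modules is flat -/
theorem flat_of_exact {K Q L : Type u} [AddCommGroup K] [Module A K] [AddCommGroup Q] [Module A Q]
    [AddCommGroup L] [Module A L] (f : K →ₗ[A] Q) (g : Q →ₗ[A] L) (hf : Function.Injective f)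
    (hg : Function.Surjective g) (hex : Function.Exact f g) [Module.Flat A Q] [Module.Flat A L] :
    Module.Flat A K := by
  rw [Module.Flat.iff_lTensor_preserves_injective_linearMap]
  intro N N' _ _ _ _ j hj
  have h1 : Function.Injective (LinearMap.rTensor N f) :=
    (LinearMap.lTensor_inj_iff_rTensor_inj _ _).mp
      (LinearMap.lTensor_injective_of_exact_of_flat g hg f hf hex N)
  have h2 : Function.Injective (LinearMap.lTensor Q j) :=
    Module.Flat.lTensor_preserves_injective_linearMap j hj
  have h3 : LinearMap.rTensor N' f ∘ₗ LinearMap.lTensor K j =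
      LinearMap.lTensor Q j ∘ₗ LinearMap.rTensor N f := by
    rw [LinearMap.rTensor_comp_lTensor, LinearMap.lTensor_comp_rTensor]
  have h4 : Function.Injective (LinearMap.rTensor N' f ∘ₗ LinearMap.lTensor K j) := by
    rw [h3]
    exact h2.comp h1
  exact Function.Injective.of_comp h4

section CoverSES

variable (L : DRing.Cx A)

instance epi_φc : Epi (φc L) :=
  HomologicalComplex.epi_of_epi_f _
    (fun i => (ModuleCat.epi_iff_surjective _).mpr (φX_surjective L i))

/-- the kernel of the cover -/
noncomputable def Kc : DRing.Cx A := kernel (φc L)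

/-- the inclusion of the kernel -/
noncomputable def ιK : Kc L ⟶ Qc L := kernel.ι (φc L)

/-- the short complex `K → Q → L` -/
noncomputable abbrev coverSC : ShortComplex (DRing.Cx A) :=
  ShortComplex.mk (ιK L) (φc L) (kernel.condition _)

theorem coverSC_shortExact : (coverSC L).ShortExact where
  exact := ShortComplex.exact_of_f_is_kernel _ (kernelIsKernel _)
  mono_f := by
    show Mono (kernel.ι (φc L))
    infer_instance
  epi_g := epi_φc L

theorem flat_Kc (hL : DRing.TermwiseFlat L) : DRing.TermwiseFlat (Kc L) := by
  intro i
  obtain ⟨h1, h2, h3⟩ := degreewise_facts (coverSC L) (coverSC_shortExact L) i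
  have := flat_Qc L i
  have := hL i
  exact flat_of_exact ((ιK L).f i).hom ((φc L).f i).hom h1 h2 h3

theorem vanishesAbove_Kc (b : ℤ) (hb : DRing.VanishesAbove L b) : DRing.VanishesAbove (Kc L) b := by
  intro i hi
  obtain ⟨h1, _, _⟩ := degreewise_facts (coverSC L) (coverSC_shortExact L) i
  have hq : Subsingleton ((coverSC L).X₂.X i) :=
    ModuleCat.subsingleton_of_isZero (vanishesAbove_Qc L b hb i hi)
  have : Subsingleton ((Kc L).X i) := h1.subsingleton
  exact ModuleCat.isZero_of_subsingleton _

end CoverSES

end Groth.Agent.H92.Kun
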