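import Groth.Prelude.Def_HTor
import Mathlib

/-!
# Subquotients, reindexed direct sums and graded pieces of pulled back filtrations
-/

set_option autoImplicit false
universe u v

open TensorProduct

namespace Groth.Agent.H92.Kun

section Subq

variable {R : Type v} [CommRing R]

/-- a module receiving a surjection from a submodule of `T` is a subquotient of `T` -/
theorem isSubquotient_of_surjective {N T : Type u} [AddCommGroup N] [Module R N] [AddCommGroup T]
    [Module R T] (S' : Submodule R T) (π : S' →ₗ[R] N) (hπ : Function.Surjective π) :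
    HTor.IsSubquotient R N T := by
  refine ⟨(LinearMap.ker π).map S'.subtype, S', ?_, ?_⟩
  · rintro _ ⟨x, _, rfl⟩
    exact x.2
  · have h : Submodule.comap S'.subtype ((LinearMap.ker π).map S'.subtype) = LinearMap.ker π :=
      Submodule.comap_map_eq_of_injective (Submodule.injective_subtype S') _
    exact ⟨((Submodule.quotEquivOfEq _ _ h).trans (π.quotKerEquivOfSurjective hπ)).symm⟩

theorem exists_surjective_of_isSubquotient {N T : Type u} [AddCommGroup N] [Module R N]
    [AddCommGroup T] [Module R T] (h : HTor.IsSubquotient R N T) :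
    ∃ (S' : Submodule R T) (π : S' →ₗ[R] N), Function.Surjective π := by
  obtain ⟨S, S', _, ⟨e⟩⟩ := h
  exact ⟨S', e.symm.toLinearMap ∘ₗ (Submodule.comap S'.subtype S).mkQ,
    e.symm.surjective.comp (Submodule.mkQ_surjective _)⟩

/-- a quotient of `T` is a subquotient of `T` -/
theorem isSubquotient_of_surjective_top {N T : Type u} [AddCommGroup N] [Module R N]
    [AddCommGroup T] [Module R T] (π : T →ₗ[R] N) (hπ : Function.Surjective π) :
    HTor.IsSubquotient R N T :=
  isSubquotient_of_surjective ⊤ (π ∘ₗ (⊤ : Submodule R T).subtype)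
    (fun y => by
      obtain ⟨x, rfl⟩ := hπ y
      exact ⟨⟨x, trivial⟩, rfl⟩)

/-- a submodule of a subquotient is a subquotient -/
theorem isSubquotient_of_injective {N N' T : Type u} [AddCommGroup N] [Module R N]
    [AddCommGroup N'] [Module R N'] [AddCommGroup T] [Module R T] (f : N' →ₗ[R] N)
    (hf : Function.Injective f) (h : HTor.IsSubquotient R N T) : HTor.IsSubquotient R N' T := by
  obtain ⟨S', π, hπ⟩ := exists_surjective_of_isSubquotient h
  -- `P = π⁻¹(range f) ⊆ S'`
  let P : Submodule R S' := (LinearMap.range f).comap π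
  let e : N' ≃ₗ[R] LinearMap.range f := LinearEquiv.ofInjective f hf
  let πP : P →ₗ[R] LinearMap.range f := π.restrict (p := P) (q := LinearMap.range f) (fun x hx => hx)
  have hπP : Function.Surjective πP := by
    rintro ⟨y, hy⟩
    obtain ⟨x, rfl⟩ := hπ y
    exact ⟨⟨x, hy⟩, rfl⟩
  let eP : P ≃ₗ[R] P.map S'.subtype :=
    Submodule.equivMapOfInjective S'.subtype (Submodule.injective_subtype S') P
  exact isSubquotient_of_surjective (P.map S'.subtype)
    (e.symm.toLinearMap ∘ₗ πP ∘ₗ eP.symm.toLinearMap)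
    (e.symm.surjective.comp (hπP.comp eP.symm.surjective))

/-- transport of subquotients along a linear equivalence of the ambient module -/
theorem isSubquotient_of_equiv {N T T' : Type u} [AddCommGroup N] [Module R N]
    [AddCommGroup T] [Module R T] [AddCommGroup T'] [Module R T'] (e : T ≃ₗ[R] T')
    (h : HTor.IsSubquotient R N T) : HTor.IsSubquotient R N T' := by
  obtain ⟨S', π, hπ⟩ := exists_surjective_of_isSubquotient h
  let eS : S' ≃ₗ[R] S'.map e.toLinearMap :=
    Submodule.equivMapOfInjective e.toLinearMap e.injective S'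
  exact isSubquotient_of_surjective (S'.map e.toLinearMap) (π ∘ₗ eS.symm.toLinearMap)
    (hπ.comp eS.symm.surjective)

/-- the zero module is a subquotient of anything -/
theorem isSubquotient_of_subsingleton {N T : Type u} [AddCommGroup N] [Module R N]
    [AddCommGroup T] [Module R T] [Subsingleton N] : HTor.IsSubquotient R N T :=
  isSubquotient_of_surjective ⊥ 0 (fun y => ⟨0, Subsingleton.elim _ _⟩)

end Subq

section DS

variable {R : Type v} [CommRing R] {α : Type*} [DecidableEq α] {P Q : α → Prop}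
  (h : ∀ a, P a ↔ Q a) {X : {a // P a} → Type*} {Y : {a // Q a} → Type*}
  [∀ a, AddCommGroup (X a)] [∀ a, Module R (X a)] [∀ b, AddCommGroup (Y b)] [∀ b, Module R (Y b)]
  (e : ∀ a : {a // P a}, X a ≃ₗ[R] Y ⟨a.1, (h a.1).mp a.2⟩)

/-- componentwise equivalence of direct sums indexed by subtypes with equivalent predicates -/
noncomputable def dsSubtypeEquiv : (DirectSum {a // P a} X) ≃ₗ[R] DirectSum {a // Q a} Y :=
  LinearEquiv.ofLinear
    (DirectSum.toModule R {a // P a} _ (fun a =>
      DirectSum.lof R {a // Q a} Y ⟨a.1, (h a.1).mp a.2⟩ ∘ₗ (e a).toLinearMap))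
    (DirectSum.toModule R {a // Q a} _ (fun b =>
      DirectSum.lof R {a // P a} X ⟨b.1, (h b.1).mpr b.2⟩ ∘ₗ
        (e ⟨b.1, (h b.1).mpr b.2⟩).symm.toLinearMap))
    (by
      apply DirectSum.linearMap_ext
      intro b
      refine LinearMap.ext fun y => ?_
      simp only [LinearMap.comp_apply, DirectSum.toModule_lof, LinearEquiv.coe_coe, LinearMap.id_comp]
      exact congrArg _ (LinearEquiv.apply_symm_apply _ y))
    (by
      apply DirectSum.linearMap_ext
      intro a
      refine LinearMap.ext fun x => ?_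
      simp only [LinearMap.comp_apply, DirectSum.toModule_lof, LinearEquiv.coe_coe, LinearMap.id_comp]
      exact congrArg _ (LinearEquiv.symm_apply_apply _ x))

theorem dsSubtypeEquiv_lof (a : {a // P a}) (x : X a) :
    dsSubtypeEquiv h e (DirectSum.lof R {a // P a} X a x) =
      DirectSum.lof R {a // Q a} Y ⟨a.1, (h a.1).mp a.2⟩ (e a x) := by
  simp [dsSubtypeEquiv]

end DS

section Gr

variable {R : Type v} [CommRing R] {H H' : Type u} [AddCommGroup H] [Module R H]
  [AddCommGroup H'] [Module R H'] (δ : H →ₗ[R] H') (G₀ G₁ : Submodule R H')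

/-- the map `δ⁻¹(G₁)/δ⁻¹(G₀) → G₁/G₀` induced by `δ` -/
noncomputable def grMap :
    (↥(G₁.comap δ) ⧸ Submodule.comap (G₁.comap δ).subtype (G₀.comap δ)) →ₗ[R]
      (↥G₁ ⧸ Submodule.comap G₁.subtype G₀) :=
  Submodule.mapQ _ _ (δ.restrict (p := G₁.comap δ) (q := G₁) (fun _ hx => hx))
    (fun x hx => hx)

theorem grMap_injective : Function.Injective (grMap δ G₀ G₁) := by
  rw [injective_iff_map_eq_zero]
  intro x hx
  obtain ⟨y, rfl⟩ := Submodule.mkQ_surjective _ x
  rw [Submodule.mkQ_apply] at hx ⊢
  rw [grMap, Submodule.mapQ_apply, Submodule.Quotient.mk_eq_zero] at hx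
  rw [Submodule.Quotient.mk_eq_zero]
  exact hx

end Gr

section Gr0

variable {R : Type v} [CommRing R] {H H' KS : Type u} [AddCommGroup H] [Module R H]
  [AddCommGroup H'] [Module R H'] [AddCommGroup KS] [Module R KS]
  (δ : H →ₗ[R] H') (κ : KS →ₗ[R] H') (W : Submodule R KS) (Z : Submodule R H)

/-- the bottom graded piece of the pulled back filtration is a quotient of `W` -/
theorem exists_surjective_gr0 (hZ : Z = LinearMap.ker δ)
    (ha : ∀ w ∈ W, κ w ∈ LinearMap.range δ)
    (hb : ∀ x : H, δ x ∈ LinearMap.range κ → ∃ w ∈ W, κ w = δ x) :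
    ∃ π : W →ₗ[R] (↥((LinearMap.range κ).comap δ) ⧸
        Submodule.comap ((LinearMap.range κ).comap δ).subtype Z),
      Function.Surjective π := by
  set F1 := (LinearMap.range κ).comap δ with hF1
  -- the induced injective map `F1/Z → H'`
  have hle : Submodule.comap F1.subtype Z ≤ LinearMap.ker (δ ∘ₗ F1.subtype) := by
    intro x hx
    rw [Submodule.mem_comap, hZ, LinearMap.mem_ker] at hx
    rw [LinearMap.mem_ker, LinearMap.comp_apply]
    exact hx
  let δb : (↥F1 ⧸ Submodule.comap F1.subtype Z) →ₗ[R] H' :=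
    (Submodule.comap F1.subtype Z).liftQ (δ ∘ₗ F1.subtype) hle
  have hδb : Function.Injective δb := by
    rw [injective_iff_map_eq_zero]
    intro x hx
    obtain ⟨y, rfl⟩ := Submodule.mkQ_surjective _ x
    rw [Submodule.mkQ_apply] at hx ⊢
    rw [Submodule.Quotient.mk_eq_zero, Submodule.mem_comap, hZ, LinearMap.mem_ker]
    exact hx
  -- for each `w ∈ W` choose a preimage
  have hex : ∀ w : W, ∃ q : (↥F1 ⧸ Submodule.comap F1.subtype Z), δb q = κ w.1 := by
    intro w
    obtain ⟨x, hx⟩ := ha w.1 w.2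
    have hxF : x ∈ F1 := by
      rw [hF1, Submodule.mem_comap, hx]
      exact ⟨w.1, rfl⟩
    exact ⟨Submodule.Quotient.mk ⟨x, hxF⟩, hx⟩
  choose g hg using hex
  let π : W →ₗ[R] (↥F1 ⧸ Submodule.comap F1.subtype Z) :=
    { toFun := g
      map_add' := fun w w' => hδb (by rw [map_add, hg, hg, hg]; simp)
      map_smul' := fun r w => hδb (by rw [map_smul, hg, hg]; simp) }
  refine ⟨π, ?_⟩
  intro q
  obtain ⟨y, rfl⟩ := Submodule.mkQ_surjective _ q
  obtain ⟨w, hw, hwy⟩ := hb y.1 y.2
  refine ⟨⟨w, hw⟩, hδb ?_⟩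
  show δb (g ⟨w, hw⟩) = δb (Submodule.Quotient.mk y)
  rw [hg]
  exact hwy

/-- variant with the submodule `G` given up to equality -/
theorem exists_surjective_gr0' (G : Submodule R H') (hG : G = LinearMap.range κ)
    (hZ : Z = LinearMap.ker δ)
    (ha : ∀ w ∈ W, κ w ∈ LinearMap.range δ)
    (hb : ∀ x : H, δ x ∈ LinearMap.range κ → ∃ w ∈ W, κ w = δ x) :
    ∃ π : W →ₗ[R] (↥(G.comap δ) ⧸ Submodule.comap (G.comap δ).subtype Z),
      Function.Surjective π := by
  subst hG
  exact exists_surjective_gr0 δ κ W Z hZ ha hb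

end Gr0

end Groth.Agent.H92.Kun
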