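import Groth.Agent.H92.KunFlat
import Groth.Agent.H92.KunSubq
import Groth.Agent.H77.TorTwoTerm
import Groth.Agent.H12.UCT

/-!
# Künneth: the Tor sums of the kernel of the free cover
-/

set_option autoImplicit false
universe u

open CategoryTheory CategoryTheory.Limits MonoidalCategory TensorProduct HomologicalComplex

namespace Groth.Agent.H92.Kun

variable {A : Type u} [CommRing A]

section TorShift

variable (L M : DRing.Cx A)

/-- the short exact sequence `0 → H^i(K) → H^i(Q) → H^i(L) → 0` -/
noncomputable def homologySC (i : ℤ) : ShortComplex (ModuleCat.{u} A) :=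
  ShortComplex.mk (HomologicalComplex.homologyMap (ιK L) i)
    (HomologicalComplex.homologyMap (φc L) i) (by
      rw [← HomologicalComplex.homologyMap_comp]
      have : ιK L ≫ φc L = 0 := kernel.condition _
      rw [this, HomologicalComplex.homologyMap_zero])

theorem homologySC_shortExact (i : ℤ) : (homologySC L i).ShortExact :=
  ModuleCat.shortComplex_shortExact _ (homologyMap_cover_exact L i)
    (homologyMap_ιK_injective L i) (homologyMap_φc_surjective L i)

/-- dimension shifting: `Tor_{p+1}(H^i(K), N) ≃ Tor_{p+2}(H^i(L), N)` -/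
noncomputable def torShift (i j : ℤ) (p : ℕ) :
    DRing.Tor A (p + 1) ((Kc L).homology i) (M.homology j) ≃ₗ[A]
      DRing.Tor A (p + 2) (L.homology i) (M.homology j) := by
  have : Module.Flat A (homologySC L i).X₂ := flat_homology_Qc L i
  exact (Classical.choice (Groth.Agent.H77.TorTwoTerm.tor_succ_succ_iso
    (homologySC_shortExact L i) (M.homology j) p)).toLinearEquiv.symm

/-- the Tor sums of the kernel are those of `L`, shifted -/
noncomputable def torSumShift (n : ℤ) (p : ℕ) :
    HTor.TorSum (Kc L) M (n + 1) (p + 1) ≃ₗ[A] HTor.TorSum L M n (p + 2) :=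
  dsSubtypeEquiv (R := A) (α := ℤ × ℤ)
    (P := fun ij => ij.1 + ij.2 - ((p + 1 : ℕ) : ℤ) = n + 1)
    (Q := fun ij => ij.1 + ij.2 - ((p + 2 : ℕ) : ℤ) = n)
    (fun ij => by push_cast; constructor <;> intro h <;> omega)
    (X := fun ij => DRing.Tor A (p + 1) ((Kc L).homology ij.1.1) (M.homology ij.1.2))
    (Y := fun ij => DRing.Tor A (p + 2) (L.homology ij.1.1) (M.homology ij.1.2))
    (fun ij => torShift L M ij.1.1 ij.1.2 p)

/-- `Tor_1(H^i(L), N) ≃ ker (H^i(K) ⊗ N → H^i(Q) ⊗ N)` -/
noncomputable def torOneKer (i j : ℤ) :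
    DRing.Tor A 1 (L.homology i) (M.homology j) ≃ₗ[A]
      LinearMap.ker (LinearMap.rTensor (M.homology j)
        (HomologicalComplex.homologyMap (ιK L) i).hom) := by
  have : Module.Flat A ((Qc L).homology i) := flat_homology_Qc L i
  exact (Classical.choice (Groth.Agent.H12.UCT.tor_one_linearEquiv
    (HomologicalComplex.homologyMap (ιK L) i).hom (HomologicalComplex.homologyMap (φc L) i).hom
    (homologyMap_ιK_injective L i) (homologyMap_φc_surjective L i) (homologyMap_cover_exact L i)
    (M.homology j))).trans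
    (Groth.Agent.H12.UCT.kerLTensorEquivKerRTensor _)

/-- the sum of the kernels -/
abbrev KerSum (n : ℤ) : Type u :=
  DirectSum (HTor.Antidiag n) (fun ij => LinearMap.ker (LinearMap.rTensor (M.homology ij.1.2)
    (HomologicalComplex.homologyMap (ιK L) ij.1.1).hom))

/-- `TorSum L M n 1 ≃ ⨁ ker` -/
noncomputable def torSumOneEquiv (n : ℤ) : HTor.TorSum L M n 1 ≃ₗ[A] KerSum L M (n + 1) :=
  dsSubtypeEquiv (R := A) (α := ℤ × ℤ)
    (P := fun ij => ij.1 + ij.2 - ((1 : ℕ) : ℤ) = n)
    (Q := fun ij => ij.1 + ij.2 = n + 1)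
    (fun ij => by push_cast; constructor <;> intro h <;> omega)
    (X := fun ij => DRing.Tor A 1 (L.homology ij.1.1) (M.homology ij.1.2))
    (Y := fun ij => LinearMap.ker (LinearMap.rTensor (M.homology ij.1.2)
      (HomologicalComplex.homologyMap (ιK L) ij.1.1).hom))
    (fun ij => torOneKer L M ij.1.1 ij.1.2)

/-- the inclusion of the sum of the kernels in the Künneth sum of the kernel complex -/
noncomputable def kerSumIncl (n : ℤ) : KerSum L M n →ₗ[A] HTor.KunnethSum (Kc L) M n :=
  DirectSum.lmap (fun ij => (LinearMap.ker (LinearMap.rTensor (M.homology ij.1.2)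
    (HomologicalComplex.homologyMap (ιK L) ij.1.1).hom)).subtype)

theorem range_kerSumIncl (n : ℤ) :
    LinearMap.range (kerSumIncl L M n) = LinearMap.ker (ksMap (ιK L) M n) := by
  rw [kerSumIncl, ksMap, DirectSum.range_lmap, DirectSum.ker_lmap]
  congr 1
  ext x
  simp only [Submodule.mem_pi, Set.mem_univ, forall_true_left, Submodule.range_subtype]

/-- `TorSum L M n 1` surjects onto the kernel of `KS(K) → KS(Q)` in degree `n + 1` -/
theorem exists_surjective_torSumOne (n : ℤ) :
    ∃ τ : HTor.TorSum L M n 1 →ₗ[A] LinearMap.ker (ksMap (ιK L) M (n + 1)),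
      Function.Surjective τ := by
  have hle : ∀ x, (kerSumIncl L M (n + 1) ∘ₗ (torSumOneEquiv L M n).toLinearMap) x ∈
      LinearMap.ker (ksMap (ιK L) M (n + 1)) := by
    intro x
    rw [← range_kerSumIncl]
    exact ⟨_, rfl⟩
  refine ⟨LinearMap.codRestrict _ _ hle, ?_⟩
  rintro ⟨w, hw⟩
  rw [← range_kerSumIncl] at hw
  obtain ⟨y, rfl⟩ := hw
  obtain ⟨x, rfl⟩ := (torSumOneEquiv L M n).surjective y
  exact ⟨x, rfl⟩

end TorShift

end Groth.Agent.H92.Kun
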