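import Groth.Agent.H92.KunFilt

/-!
# Künneth: vanishing of `H^n(L ⊗ M)` when all contributing Tor's vanish
-/

set_option autoImplicit false
universe u

open CategoryTheory CategoryTheory.Limits MonoidalCategory TensorProduct HomologicalComplex

namespace Groth.Agent.H92.Kun

variable {A : Type u} [CommRing A]

theorem subsingleton_of_isSubquotient {N T : Type u} [AddCommGroup N] [Module A N]
    [AddCommGroup T] [Module A T] [Subsingleton T] (h : HTor.IsSubquotient A N T) :
    Subsingleton N := by
  obtain ⟨S', π, hπ⟩ := exists_surjective_of_isSubquotient h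
  exact hπ.subsingleton

theorem subsingleton_tensor_of_tor_zero (X N : Type u) [AddCommGroup X] [Module A X]
    [AddCommGroup N] [Module A N] (h : Subsingleton (DRing.Tor A 0 X N)) :
    Subsingleton (X ⊗[A] N) := by
  have e := (Groth.Agent.H9.torZeroIso (ModuleCat.of A X) (ModuleCat.of A N)).toLinearEquiv
  exact e.symm.injective.subsingleton

theorem isZero_homology_of_tor_vanishing (L M : DRing.Cx A) (hL : DRing.TermwiseFlat L)
    (bL : ∃ b : ℤ, DRing.VanishesAbove L b) (bM : ∃ b : ℤ, DRing.VanishesAbove M b) (n : ℤ)
    (h : ∀ (p : ℕ) (i j : ℤ), i + j - p = n →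
      Subsingleton (DRing.Tor A p (L.homology i) (M.homology j))) :
    IsZero ((T L M).homology n) := by
  obtain ⟨N, F, hF0, hmono, hN, hgr⟩ := hasFilt L M hL bL bM n
  -- the Künneth sum vanishes
  have hKS : Subsingleton (HTor.KunnethSum L M n) := by
    refine ⟨fun x y => ?_⟩
    apply DFinsupp.ext
    intro ij
    have : Subsingleton (L.homology ij.1.1 ⊗[A] M.homology ij.1.2) :=
      subsingleton_tensor_of_tor_zero _ _ (h 0 ij.1.1 ij.1.2 (by
        have := ij.2
        push_cast
        omega))
    exact Subsingleton.elim _ _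
  -- the Tor sums vanish
  have hTS : ∀ p : ℕ, Subsingleton (HTor.TorSum L M n (p + 1)) := by
    intro p
    refine ⟨fun x y => ?_⟩
    apply DFinsupp.ext
    intro ij
    have := h (p + 1) ij.1.1 ij.1.2 ij.2
    exact Subsingleton.elim _ _
  have hbot : ∀ p : ℕ, F p = ⊥ := by
    intro p
    induction p with
    | zero =>
      rw [hF0, LinearMap.range_eq_bot]
      exact Subsingleton.elim _ _
    | succ p ih =>
      have := hTS p
      have hs : Subsingleton (HTor.grSucc F p) := subsingleton_of_isSubquotient (hgr p)
      rw [eq_bot_iff]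
      intro x hx
      have h0 : (Submodule.Quotient.mk ⟨x, hx⟩ :
          ↥(F (p + 1)) ⧸ Submodule.comap (F (p + 1)).subtype (F p)) = 0 := Subsingleton.elim _ _
      rw [Submodule.Quotient.mk_eq_zero, Submodule.mem_comap, ih] at h0
      exact h0
  have htop : (⊤ : Submodule A ((T L M).homology n)) = ⊥ := by rw [← hN, hbot]
  have : Subsingleton ((T L M).homology n) := by
    refine ⟨fun x y => ?_⟩
    have hx : x ∈ (⊤ : Submodule A ((T L M).homology n)) := trivial
    have hy : y ∈ (⊤ : Submodule A ((T L M).homology n)) := trivial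
    rw [htop, Submodule.mem_bot] at hx hy
    rw [hx, hy]
  exact ModuleCat.isZero_of_subsingleton _

end Groth.Agent.H92.Kun
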