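import Mathlib

/-!
# Modules over a simple Artinian algebra over a field: comparison by dimension (helper92)

`S` a simple Artinian ring which is a finite-dimensional algebra over a field `κ`, `X`, `Y`
finitely generated `S`-modules (with compatible `κ`-structures).  If `dim_κ Y ≤ dim_κ X` then
`Y` is a direct summand of `X`: there are `S`-linear `u : X → Y`, `v : Y → X` with `u ∘ v = id`.
-/

set_option autoImplicit false
set_option linter.style.haveILetI false

universe u v w

namespace Groth.Agent.H92.LGSimple

variable {κ : Type u} [Field κ] {S : Type v} [Ring S] [Algebra κ S] [Module.Finite κ S]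
  [IsSimpleRing S]

/-- all simple submodules of any `S`-module are isomorphic to a fixed simple left ideal -/
theorem isIsotypicOfType [IsArtinianRing S] (I₀ : Ideal S) [IsSimpleModule S I₀]
    (X : Type w) [AddCommGroup X] [Module S X] : IsIsotypicOfType S X I₀ := by
  intro m hm
  -- use isotypy of `X × S`
  have h := IsSimpleRing.isIsotypic S (X × S)
  let m1 : Submodule S (X × S) := m.map (LinearMap.inl S X S)
  let m2 : Submodule S (X × S) := Submodule.map (LinearMap.inr S X S) I₀
  let e1 : m ≃ₗ[S] m1 := Submodule.equivMapOfInjective (LinearMap.inl S X S)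
    LinearMap.inl_injective m
  let e2 : I₀ ≃ₗ[S] m2 := Submodule.equivMapOfInjective (LinearMap.inr S X S)
    LinearMap.inr_injective I₀
  haveI : IsSimpleModule S m1 := (e1.symm.isSimpleModule_iff).mpr hm
  haveI : IsSimpleModule S m2 := (e2.symm.isSimpleModule_iff).mpr inferInstance
  obtain ⟨e⟩ := h m2 m1
  exact ⟨e1.trans (e.trans e2.symm)⟩

variable (κ)

/-- the splitting lemma -/
theorem exists_split_surj (X Y : Type w) [AddCommGroup X] [Module S X] [Module κ X]
    [IsScalarTower κ S X] [Module.Finite S X] [AddCommGroup Y] [Module S Y] [Module κ Y]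
    [IsScalarTower κ S Y] [Module.Finite S Y]
    (h : Module.finrank κ Y ≤ Module.finrank κ X) :
    ∃ (u : X →ₗ[S] Y) (v : Y →ₗ[S] X), u ∘ₗ v = LinearMap.id := by
  classical
  haveI : IsArtinianRing S := IsArtinianRing.of_finite κ S
  -- a simple left ideal
  obtain ⟨I₀, hI₀⟩ := IsAtomic.exists_atom (Ideal S)
  haveI : IsSimpleModule S I₀ := isSimpleModule_iff_isAtom.mpr hI₀
  obtain ⟨a, ⟨eX⟩⟩ := (isIsotypicOfType I₀ X).linearEquiv_fun
  obtain ⟨b, ⟨eY⟩⟩ := (isIsotypicOfType I₀ Y).linearEquiv_fun
  haveI : Module.Finite κ I₀ := Module.Finite.of_injective (I₀.subtype.restrictScalars κ)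
    I₀.injective_subtype
  have hd : 0 < Module.finrank κ I₀ := by
    haveI : Nontrivial I₀ := IsSimpleModule.nontrivial S I₀
    exact Module.finrank_pos
  have hX : Module.finrank κ X = a * Module.finrank κ I₀ := by
    rw [(eX.restrictScalars κ).finrank_eq, Module.finrank_pi_fintype]
    simp
  have hY : Module.finrank κ Y = b * Module.finrank κ I₀ := by
    rw [(eY.restrictScalars κ).finrank_eq, Module.finrank_pi_fintype]
    simp
  have hba : b ≤ a := by
    rw [hX, hY] at h
    exact Nat.le_of_mul_le_mul_right h hd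
  -- the maps on `Fin a → I₀`
  let p : (Fin a → I₀) →ₗ[S] (Fin b → I₀) := LinearMap.funLeft S I₀ (Fin.castLE hba)
  let q : (Fin b → I₀) →ₗ[S] (Fin a → I₀) :=
    LinearMap.pi fun i : Fin a =>
      if hi : (i : ℕ) < b then LinearMap.proj (⟨i, hi⟩ : Fin b) else 0
  have hpq : p ∘ₗ q = LinearMap.id := by
    refine LinearMap.ext fun f => funext fun j => ?_
    simp only [LinearMap.comp_apply, LinearMap.id_apply, p, q, LinearMap.funLeft_apply,
      LinearMap.pi_apply]
    have hj : ((Fin.castLE hba j : Fin a) : ℕ) < b := by simp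
    rw [dif_pos hj]
    rfl
  refine ⟨eY.symm.toLinearMap ∘ₗ p ∘ₗ eX.toLinearMap, eX.symm.toLinearMap ∘ₗ q ∘ₗ eY.toLinearMap, ?_⟩
  ext y
  simp only [LinearMap.comp_apply, LinearEquiv.coe_coe, LinearEquiv.apply_symm_apply,
    LinearMap.id_apply]
  have := LinearMap.congr_fun hpq (eY y)
  simp only [LinearMap.comp_apply, LinearMap.id_apply] at this
  rw [this, LinearEquiv.symm_apply_apply]

end Groth.Agent.H92.LGSimple
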