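import Mathlib
import Groth.Agent.H92.LGSimple

/-!
# Lifting split surjections from a simple fibre (helper92)

`T` a ring, `J` a two-sided ideal with `T ⧸ J` a simple ring which is a finite-dimensional algebra
over a field `κ`.  For finitely generated projective `T`-modules `M`, `N` with
`dim_κ N/JN ≤ dim_κ M/JM` there are `T`-linear `u : M → N`, `v : N → M` with `u ∘ v ≡ id` modulo
`J N`.
-/

set_option autoImplicit false
set_option linter.style.haveILetI false

universe u v w

namespace Groth.Agent.H92.LGFibre

section Abstract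

variable {T : Type v} [Ring T] (J : Ideal T) [J.IsTwoSided]

/-- the quotient map as a semilinear map -/
def mkQs (M : Type w) [AddCommGroup M] [Module T M] :
    M →ₛₗ[Ideal.Quotient.mk J] (M ⧸ J • (⊤ : Submodule T M)) where
  toFun := Submodule.Quotient.mk
  map_add' := fun _ _ => rfl
  map_smul' := fun _ _ => rfl

theorem finite_quot (M : Type w) [AddCommGroup M] [Module T M] [Module.Finite T M] :
    Module.Finite (T ⧸ J) (M ⧸ J • (⊤ : Submodule T M)) :=
  Module.Finite.of_surjective (mkQs J M) (Submodule.Quotient.mk_surjective _)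

theorem mk_smul_eq (M : Type w) [AddCommGroup M] [Module T M] (t : T)
    (x : M ⧸ J • (⊤ : Submodule T M)) : Ideal.Quotient.mk J t • x = t • x := rfl

/-- a `T ⧸ J`-linear map between the quotients is `T`-linear -/
def restrictT {M N : Type w} [AddCommGroup M] [Module T M] [AddCommGroup N] [Module T N]
    (f : (M ⧸ J • (⊤ : Submodule T M)) →ₗ[T ⧸ J] (N ⧸ J • (⊤ : Submodule T N))) :
    (M ⧸ J • (⊤ : Submodule T M)) →ₗ[T] (N ⧸ J • (⊤ : Submodule T N)) where
  toFun := f
  map_add' := f.map_add
  map_smul' := fun t x => by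
    rw [← mk_smul_eq, map_smul]
    rfl

theorem exists_lift_split (κ : Type u) [Field κ] [Algebra κ (T ⧸ J)] [Module.Finite κ (T ⧸ J)]
    [IsSimpleRing (T ⧸ J)]
    (M N : Type w) [AddCommGroup M] [Module T M] [Module.Finite T M] [Module.Projective T M]
    [AddCommGroup N] [Module T N] [Module.Finite T N] [Module.Projective T N]
    [Module κ (M ⧸ J • (⊤ : Submodule T M))]
    [IsScalarTower κ (T ⧸ J) (M ⧸ J • (⊤ : Submodule T M))]
    [Module κ (N ⧸ J • (⊤ : Submodule T N))]
    [IsScalarTower κ (T ⧸ J) (N ⧸ J • (⊤ : Submodule T N))]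
    (h : Module.finrank κ (N ⧸ J • (⊤ : Submodule T N)) ≤
      Module.finrank κ (M ⧸ J • (⊤ : Submodule T M))) :
    ∃ (u : M →ₗ[T] N) (v : N →ₗ[T] M), ∀ n, u (v n) - n ∈ J • (⊤ : Submodule T N) := by
  haveI := finite_quot J M
  haveI := finite_quot J N
  obtain ⟨ub, vb, huv⟩ := LGSimple.exists_split_surj κ (S := T ⧸ J)
    (M ⧸ J • (⊤ : Submodule T M)) (N ⧸ J • (⊤ : Submodule T N)) h
  obtain ⟨u, hu⟩ := Module.projective_lifting_property (Submodule.mkQ (J • (⊤ : Submodule T N)))
    (restrictT J ub ∘ₗ Submodule.mkQ (J • (⊤ : Submodule T M))) (Submodule.mkQ_surjective _)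
  obtain ⟨v, hv⟩ := Module.projective_lifting_property (Submodule.mkQ (J • (⊤ : Submodule T M)))
    (restrictT J vb ∘ₗ Submodule.mkQ (J • (⊤ : Submodule T N))) (Submodule.mkQ_surjective _)
  refine ⟨u, v, fun n => ?_⟩
  have h1 := LinearMap.congr_fun hu (v n)
  have h2 := LinearMap.congr_fun hv n
  have h3 := LinearMap.congr_fun huv (Submodule.mkQ (J • (⊤ : Submodule T N)) n)
  simp only [LinearMap.comp_apply, LinearMap.id_apply] at h1 h2 h3
  rw [← Submodule.Quotient.mk_eq_zero, Submodule.Quotient.mk_sub, sub_eq_zero]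
  change Submodule.mkQ _ (u (v n)) = Submodule.mkQ _ n
  rw [h1, h2]
  exact h3

end Abstract

section Concrete

open TensorProduct

variable {R : Type u} [CommRing R] (m : Ideal R) (T : Type v) [Ring T] [Algebra R T]

/-- the extension of an ideal of the base ring to an algebra is two-sided -/
theorem isTwoSided_map (I : Ideal R) : (Ideal.map (algebraMap R T) I).IsTwoSided := by
  constructor
  intro a b ha
  rw [Ideal.map] at ha ⊢
  induction ha using Submodule.span_induction with
  | mem x hx =>
    obtain ⟨r, hr, rfl⟩ := hx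
    rw [Algebra.commutes]
    exact Ideal.mul_mem_left _ _ (Ideal.subset_span ⟨r, hr, rfl⟩)
  | zero => rw [zero_mul]; exact Submodule.zero_mem _
  | add x y _ _ hx hy => rw [add_mul]; exact Submodule.add_mem _ hx hy
  | smul t x _ hx =>
    rw [smul_eq_mul, mul_assoc]
    exact Ideal.mul_mem_left _ _ hx

attribute [local instance] isTwoSided_map

/-- the structure map of the fibre -/
noncomputable def φ : R ⧸ m →+* T ⧸ Ideal.map (algebraMap R T) m :=
  Ideal.quotientMap _ (algebraMap R T) Ideal.le_comap_map

theorem φ_mk (r : R) :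
    φ m T (Ideal.Quotient.mk m r) = Ideal.Quotient.mk _ (algebraMap R T r) := rfl

theorem φ_central (c : R ⧸ m) (x : T ⧸ Ideal.map (algebraMap R T) m) :
    φ m T c * x = x * φ m T c := by
  obtain ⟨r, rfl⟩ := Ideal.Quotient.mk_surjective c
  obtain ⟨t, rfl⟩ := Ideal.Quotient.mk_surjective x
  rw [φ_mk, ← map_mul, ← map_mul, Algebra.commutes]

/-- the fibre as an algebra over the residue field -/
@[instance_reducible]
noncomputable def algκ : Algebra (R ⧸ m) (T ⧸ Ideal.map (algebraMap R T) m) :=
  (φ m T).toAlgebra' (φ_central m T)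

attribute [local instance] algκ

theorem algebraMap_eq : algebraMap (R ⧸ m) (T ⧸ Ideal.map (algebraMap R T) m) = φ m T := rfl

theorem finite_fibre [Module.Finite R T] :
    Module.Finite (R ⧸ m) (T ⧸ Ideal.map (algebraMap R T) m) := by
  let f : T →ₛₗ[Ideal.Quotient.mk m] (T ⧸ Ideal.map (algebraMap R T) m) :=
    { toFun := Ideal.Quotient.mk _
      map_add' := map_add _
      map_smul' := fun r t => by
        rw [Algebra.smul_def, map_mul, Algebra.smul_def, algebraMap_eq, φ_mk] }
  exact Module.Finite.of_surjective f Ideal.Quotient.mk_surjective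

variable (M : Type w) [AddCommGroup M] [Module T M]

/-- the residue field acts on the fibre of a module through the fibre of the algebra -/
@[instance_reducible]
noncomputable def modκ :
    Module (R ⧸ m) (M ⧸ Ideal.map (algebraMap R T) m • (⊤ : Submodule T M)) :=
  Module.compHom _ (φ m T)

attribute [local instance] modκ

theorem towerκ : IsScalarTower (R ⧸ m) (T ⧸ Ideal.map (algebraMap R T) m)
    (M ⧸ Ideal.map (algebraMap R T) m • (⊤ : Submodule T M)) :=
  ⟨fun k s x => by
    rw [Algebra.smul_def, mul_smul]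
    rfl⟩

variable [Module R M] [IsScalarTower R T M]

theorem towerR : IsScalarTower R (R ⧸ m)
    (M ⧸ Ideal.map (algebraMap R T) m • (⊤ : Submodule T M)) := by
  apply IsScalarTower.of_algebraMap_smul
  intro r x
  obtain ⟨y, rfl⟩ := Submodule.Quotient.mk_surjective _ x
  change φ m T (Ideal.Quotient.mk m r) •
    (Submodule.Quotient.mk y : M ⧸ Ideal.map (algebraMap R T) m • (⊤ : Submodule T M)) = _
  rw [φ_mk, Module.Quotient.mk_smul_mk, algebraMap_smul]
  rfl

/-- `m M` as a `T`-submodule is `J M` -/
theorem smul_top_eq :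
    (m • (⊤ : Submodule R M)) =
      (Ideal.map (algebraMap R T) m • (⊤ : Submodule T M)).restrictScalars R := by
  apply le_antisymm
  · rw [Submodule.smul_le]
    intro r hr x _
    rw [Submodule.restrictScalars_mem, ← algebraMap_smul T r x]
    exact Submodule.smul_mem_smul (Ideal.mem_map_of_mem _ hr) Submodule.mem_top
  · intro x hx
    rw [Submodule.restrictScalars_mem] at hx
    -- `m • ⊤` is stable under `T`
    have hstab : ∀ (t : T) (y : M), y ∈ m • (⊤ : Submodule R M) →
        t • y ∈ m • (⊤ : Submodule R M) := by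
      intro t y hy
      refine Submodule.smul_induction_on hy ?_ ?_
      · intro r hr z _
        rw [smul_comm]
        exact Submodule.smul_mem_smul hr Submodule.mem_top
      · intro y z hy hz
        rw [smul_add]; exact Submodule.add_mem _ hy hz
    refine Submodule.smul_induction_on hx ?_ ?_
    · intro j hj z _
      rw [Ideal.map] at hj
      induction hj using Submodule.span_induction with
      | mem a ha =>
        obtain ⟨r, hr, rfl⟩ := ha
        rw [algebraMap_smul]
        exact Submodule.smul_mem_smul hr Submodule.mem_top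
      | zero => rw [zero_smul]; exact Submodule.zero_mem _
      | add a b _ _ ha hb => rw [add_smul]; exact Submodule.add_mem _ ha hb
      | smul t a _ ha =>
        rw [smul_eq_mul, mul_smul]
        exact hstab t _ ha
    · intro y z hy hz
      exact Submodule.add_mem _ hy hz

/-- the fibre of a module has the expected dimension -/
theorem finrank_fibre :
    Module.finrank (R ⧸ m) (M ⧸ Ideal.map (algebraMap R T) m • (⊤ : Submodule T M)) =
      Module.finrank (R ⧸ m) ((R ⧸ m) ⊗[R] M) := by
  haveI := towerR m T M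
  let e1 : ((R ⧸ m) ⊗[R] M) ≃ₗ[R] M ⧸ (m • (⊤ : Submodule R M)) :=
    TensorProduct.quotTensorEquivQuotSMul M m
  let e2 := Submodule.quotEquivOfEq _ _ (smul_top_eq m T M)
  let e3 := Submodule.Quotient.restrictScalarsEquiv R
    (Ideal.map (algebraMap R T) m • (⊤ : Submodule T M))
  let e : ((R ⧸ m) ⊗[R] M) ≃ₗ[R ⧸ m]
      (M ⧸ Ideal.map (algebraMap R T) m • (⊤ : Submodule T M)) :=
    LinearEquiv.extendScalarsOfSurjective Ideal.Quotient.mk_surjective (e1.trans (e2.trans e3))
  exact e.finrank_eq.symm

variable (N : Type w) [AddCommGroup N] [Module T N] [Module R N] [IsScalarTower R T N]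

/-- **Local step.**  If the fibre `T ⧸ m T` is a simple ring and the fibre of `N` is not bigger than
the fibre of `M`, then `N` is a direct summand of `M` modulo `m`. -/
theorem exists_local_split [hm : m.IsMaximal] [Module.Finite R T]
    (hS : IsSimpleRing (T ⧸ Ideal.map (algebraMap R T) m))
    [Module.Finite T M] [Module.Projective T M] [Module.Finite T N] [Module.Projective T N]
    (h : Module.finrank (R ⧸ m) ((R ⧸ m) ⊗[R] N) ≤ Module.finrank (R ⧸ m) ((R ⧸ m) ⊗[R] M)) :
    ∃ (u : M →ₗ[T] N) (v : N →ₗ[T] M), ∀ n, u (v n) - n ∈ m • (⊤ : Submodule R N) := by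
  letI : Field (R ⧸ m) := Ideal.Quotient.field m
  haveI := finite_fibre m T
  haveI := towerκ m T M
  haveI := towerκ m T N
  have h' : Module.finrank (R ⧸ m) (N ⧸ Ideal.map (algebraMap R T) m • (⊤ : Submodule T N)) ≤
      Module.finrank (R ⧸ m) (M ⧸ Ideal.map (algebraMap R T) m • (⊤ : Submodule T M)) := by
    rw [finrank_fibre, finrank_fibre]
    exact h
  obtain ⟨u, v, huv⟩ := exists_lift_split (Ideal.map (algebraMap R T) m) (R ⧸ m) M N h'
  refine ⟨u, v, fun n => ?_⟩
  rw [smul_top_eq m T N, Submodule.restrictScalars_mem]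
  exact huv n

end Concrete

end Groth.Agent.H92.LGFibre
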