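import Mathlib
import Groth.Agent.H83.LGRing

/-!
# Global step over an LG ring (helper92)

`R` an LG ring, `T` an `R`-algebra, `M`, `N` `T`-modules with `N` finitely generated projective over
`R` and `Hom_T(M, N)`, `Hom_T(N, M)` finitely generated over `R`.  If for every maximal ideal `m`
there are `T`-linear `u : M → N`, `v : N → M` with `u ∘ v ≡ id` modulo `m N`, then there are such
`u`, `v` with `u ∘ v` bijective.
-/

set_option autoImplicit false

universe u v w

namespace Groth.Agent.H92.LGSurj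

open MvPolynomial

variable {R : Type u} [CommRing R] {T : Type v} [Ring T] [Algebra R T]
  {M N : Type w} [AddCommGroup M] [Module T M] [Module R M] [IsScalarTower R T M]
  [AddCommGroup N] [Module T N] [Module R N] [IsScalarTower R T N]

section Poly

variable {e p q : ℕ} (π : (Fin e → R) →ₗ[R] N) (ι : N →ₗ[R] (Fin e → R))
  (h : Fin p → (M →ₗ[T] N)) (h' : Fin q → (N →ₗ[T] M))

/-- the combination `∑ s α • h α` -/
noncomputable def comb {X Y : Type w} [AddCommGroup X] [Module T X] [Module R X]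
    [IsScalarTower R T X] [AddCommGroup Y] [Module T Y] [Module R Y] [IsScalarTower R T Y]
    {p : ℕ} (h : Fin p → (X →ₗ[T] Y)) (s : Fin p → R) : X →ₗ[T] Y :=
  ∑ α, s α • h α

/-- the coefficient matrices -/
noncomputable def Cmat (α : Fin p) (β : Fin q) : Matrix (Fin e) (Fin e) R :=
  LinearMap.toMatrix' (ι ∘ₗ ((h α ∘ₗ h' β).restrictScalars R) ∘ₗ π)

/-- the generic matrix -/
noncomputable def Dmat : Matrix (Fin e) (Fin e) (MvPolynomial (Fin p ⊕ Fin q) R) :=
  ∑ α, ∑ β, (X (Sum.inl α) * X (Sum.inr β) : MvPolynomial (Fin p ⊕ Fin q) R) •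
      (Cmat π ι h h' α β).map C +
    (1 - LinearMap.toMatrix' (ι ∘ₗ π)).map C

/-- the polynomial -/
noncomputable def poly : MvPolynomial (Fin p ⊕ Fin q) R := (Dmat π ι h h').det

theorem comp_comb (s : Fin p ⊕ Fin q → R) :
    ι ∘ₗ ((comb h (fun α => s (Sum.inl α)) ∘ₗ comb h' (fun β => s (Sum.inr β))).restrictScalars R)
      ∘ₗ π =
    ∑ α, ∑ β, (s (Sum.inl α) * s (Sum.inr β)) • (ι ∘ₗ ((h α ∘ₗ h' β).restrictScalars R) ∘ₗ π) := by
  apply LinearMap.ext
  intro y
  simp only [LinearMap.comp_apply, LinearMap.restrictScalars_apply, comb, LinearMap.sum_apply,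
    LinearMap.smul_apply, map_sum, map_smul]
  rw [Finset.sum_comm]
  refine Finset.sum_congr rfl fun α _ => ?_
  refine Finset.sum_congr rfl fun β _ => ?_
  rw [LinearMap.map_smul_of_tower, map_smul, smul_smul]

theorem aeval_poly (s : Fin p ⊕ Fin q → R) :
    aeval s (poly π ι h h') =
      (LinearMap.toMatrix' (ι ∘ₗ ((comb h (fun α => s (Sum.inl α)) ∘ₗ
        comb h' (fun β => s (Sum.inr β))).restrictScalars R) ∘ₗ π +
          (LinearMap.id - ι ∘ₗ π))).det := by
  rw [poly, ← AlgHom.coe_toRingHom, RingHom.map_det]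
  congr 1
  rw [comp_comb, map_add, map_sub, map_sum, LinearMap.toMatrix'_id]
  ext i j
  simp only [RingHom.mapMatrix_apply, Dmat, Matrix.map_apply, Matrix.add_apply, Matrix.sum_apply,
    Matrix.smul_apply, Matrix.sub_apply, map_add, map_sum, smul_eq_mul, map_mul,
    AlgHom.coe_toRingHom, aeval_X, aeval_C, Algebra.algebraMap_self_apply, map_sub, map_smul, Cmat]

end Poly

/-- every `T`-linear map is a combination of a generating family -/
theorem exists_comb {X Y : Type w} [AddCommGroup X] [Module T X] [Module R X]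
    [IsScalarTower R T X] [AddCommGroup Y] [Module T Y] [Module R Y] [IsScalarTower R T Y]
    {p : ℕ} (h : Fin p → (X →ₗ[T] Y)) (hh : Submodule.span R (Set.range h) = ⊤) (u : X →ₗ[T] Y) :
    ∃ s : Fin p → R, comb h s = u := by
  have hu : u ∈ Submodule.span R (Set.range h) := by rw [hh]; trivial
  rw [Submodule.mem_span_range_iff_exists_fun] at hu
  exact hu

theorem exists_bijective_comp (hR : LGRing.IsLGRing R)
    [Module.Finite R N] [Module.Projective R N]
    [Module.Finite R (M →ₗ[T] N)] [Module.Finite R (N →ₗ[T] M)]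
    (hloc : ∀ (m : Ideal R) [m.IsMaximal], ∃ (u : M →ₗ[T] N) (v : N →ₗ[T] M),
      ∀ n, u (v n) - n ∈ m • (⊤ : Submodule R N)) :
    ∃ (u : M →ₗ[T] N) (v : N →ₗ[T] M), Function.Bijective (u ∘ₗ v) := by
  classical
  obtain ⟨e, π, ι, -, -, hπι⟩ := Module.Finite.exists_comp_eq_id_of_projective R N
  obtain ⟨p, h, hh⟩ := Module.Finite.exists_fin (R := R) (M := M →ₗ[T] N)
  obtain ⟨q, h', hh'⟩ := Module.Finite.exists_fin (R := R) (M := N →ₗ[T] M)
  have key : LGRing.RepresentsUnit (poly π ι h h') R := by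
    apply Groth.Agent.H83.representsUnit_of_fintype hR
    intro m hm
    obtain ⟨u, v, huv⟩ := hloc m
    obtain ⟨a, rfl⟩ := exists_comb h hh u
    obtain ⟨b, rfl⟩ := exists_comb h' hh' v
    refine ⟨algebraMap R (R ⧸ m) ∘ Sum.elim a b, ?_⟩
    rw [aeval_algebraMap_apply, aeval_poly]
    simp only [Sum.elim_inl, Sum.elim_inr]
    set g : N →ₗ[R] N := (comb h a ∘ₗ comb h' b).restrictScalars R with hg
    -- the matrix is `1 + E` with `E` having entries in `m`
    have hE : ∀ i j, LinearMap.toMatrix' (ι ∘ₗ (g - LinearMap.id) ∘ₗ π) i j ∈ m := by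
      intro i j
      rw [LinearMap.toMatrix'_apply]
      have h1 : (g - LinearMap.id : N →ₗ[R] N) (π (Pi.single j 1)) ∈ m • (⊤ : Submodule R N) := by
        rw [LinearMap.sub_apply, LinearMap.id_apply]
        exact huv _
      have h2 := Submodule.smul_top_le_comap_smul_top m ((LinearMap.proj i) ∘ₗ ι) h1
      rw [Submodule.mem_comap, smul_eq_mul, Ideal.mul_top] at h2
      simpa using h2
    have hsplit : ι ∘ₗ g ∘ₗ π + (LinearMap.id - ι ∘ₗ π) =
        LinearMap.id + ι ∘ₗ (g - LinearMap.id) ∘ₗ π := by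
      apply LinearMap.ext
      intro y
      simp only [LinearMap.add_apply, LinearMap.comp_apply, LinearMap.sub_apply,
        LinearMap.id_apply, map_sub]
      abel
    rw [hsplit, map_add, LinearMap.toMatrix'_id]
    have hdet : algebraMap R (R ⧸ m)
        (1 + LinearMap.toMatrix' (ι ∘ₗ (g - LinearMap.id) ∘ₗ π)).det = 1 := by
      rw [RingHom.map_det]
      have : (algebraMap R (R ⧸ m)).mapMatrix
          (1 + LinearMap.toMatrix' (ι ∘ₗ (g - LinearMap.id) ∘ₗ π)) = 1 := by
        ext i j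
        simp only [RingHom.mapMatrix_apply, Matrix.map_apply, Matrix.add_apply, map_add]
        have h0 : algebraMap R (R ⧸ m)
            (LinearMap.toMatrix' (ι ∘ₗ (g - LinearMap.id) ∘ₗ π) i j) = 0 :=
          Ideal.Quotient.eq_zero_iff_mem.mpr (hE i j)
        rw [h0, add_zero]
        by_cases hij : i = j
        · subst hij; simp
        · simp [Matrix.one_apply_ne hij]
      rw [this, Matrix.det_one]
    rw [hdet]
    exact isUnit_one
  obtain ⟨s, hs⟩ := key
  rw [aeval_poly] at hs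
  refine ⟨comb h (fun α => s (Sum.inl α)), comb h' (fun β => s (Sum.inr β)), ?_⟩
  set g : N →ₗ[R] N := (comb h (fun α => s (Sum.inl α)) ∘ₗ
    comb h' (fun β => s (Sum.inr β))).restrictScalars R with hg
  set A := LinearMap.toMatrix' (ι ∘ₗ g ∘ₗ π + (LinearMap.id - ι ∘ₗ π)) with hA
  have hinv1 : A⁻¹ * A = 1 := Matrix.nonsing_inv_mul A hs
  have hinv2 : A * A⁻¹ = 1 := Matrix.mul_nonsing_inv A hs
  have hlin : Matrix.toLin' A = ι ∘ₗ g ∘ₗ π + (LinearMap.id - ι ∘ₗ π) := by
    rw [hA, Matrix.toLin'_toMatrix']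
  have hb : Function.Bijective g := by
    apply Groth.Agent.H83.bijective_of_block π ι hπι g (Matrix.toLin' A⁻¹)
    · rw [← hlin, ← Matrix.toLin'_mul, hinv1, Matrix.toLin'_one]
    · rw [← hlin, ← Matrix.toLin'_mul, hinv2, Matrix.toLin'_one]
  exact hb

end Groth.Agent.H92.LGSurj
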