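import Mathlib
import Groth.Agent.H92.LGFibre
import Groth.Agent.H92.LGSurj

/-!
# Azumaya algebras over LG rings: comparison of projective modules (helper92)

* `finite_hom`: `Hom_T(M, N)` is a finitely generated `R`-module.
* `isSimpleRing_fibre`: the fibre `A ⧸ m A` of an Azumaya algebra at a maximal ideal is simple.
* `exists_split`: over an LG ring, for finitely generated projective modules `M`, `N` over an
  Azumaya algebra with `rank N ≤ rank M`, there are `u : M → N`, `v : N → M` with `u ∘ v` bijective.
-/

set_option autoImplicit false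
set_option linter.style.haveILetI false

universe u v w

namespace Groth.Agent.H92.LGAzumaya

open TensorProduct

section Hom

variable {R : Type u} [CommRing R] {T : Type v} [Ring T] [Algebra R T]
  {M N : Type w} [AddCommGroup M] [Module T M] [Module R M] [IsScalarTower R T M]
  [AddCommGroup N] [Module T N] [Module R N] [IsScalarTower R T N]

omit [Module R M] [IsScalarTower R T M] in
theorem finite_hom [Module.Finite T M] [Module.Projective T M] [Module.Finite R N] :
    Module.Finite R (M →ₗ[T] N) := by
  classical
  obtain ⟨a, π, ι, -, -, hπι⟩ := Module.Finite.exists_comp_eq_id_of_projective T M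
  let Φ : (Fin a → N) →ₗ[R] (M →ₗ[T] N) :=
    { toFun := fun c => ∑ j, (LinearMap.toSpanSingleton T N (c j)) ∘ₗ (LinearMap.proj j) ∘ₗ ι
      map_add' := fun c d => by
        apply LinearMap.ext
        intro x
        simp [LinearMap.sum_apply, Finset.sum_add_distrib]
      map_smul' := fun r c => by
        apply LinearMap.ext
        intro x
        simp only [Pi.smul_apply, LinearMap.sum_apply, LinearMap.comp_apply,
          LinearMap.toSpanSingleton_apply, LinearMap.proj_apply, RingHom.id_apply,
          LinearMap.smul_apply, Finset.smul_sum]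
        refine Finset.sum_congr rfl fun j _ => ?_
        rw [smul_comm] }
  apply Module.Finite.of_surjective Φ
  intro g
  refine ⟨fun j => g (π (Pi.single j 1)), ?_⟩
  apply LinearMap.ext
  intro x
  have hx : x = π (ι x) := (LinearMap.congr_fun hπι x).symm
  have h2 : ι x = ∑ j, (ι x j) • (Pi.single j (1 : T) : Fin a → T) := by
    ext k
    simp [Finset.sum_apply, Pi.single_apply]
  simp only [Φ, LinearMap.coe_mk, AddHom.coe_mk, LinearMap.sum_apply, LinearMap.comp_apply,
    LinearMap.toSpanSingleton_apply, LinearMap.proj_apply]
  conv_rhs => rw [hx, h2]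
  simp only [map_sum, map_smul]

end Hom

section Fibre

variable {R : Type u} [CommRing R] {A : Type v} [Ring A] [Algebra R A]

attribute [local instance] LGFibre.isTwoSided_map

/-- two-sided ideals of an Azumaya algebra are stable under all `R`-linear endomorphisms -/
theorem end_apply_mem [IsAzumaya R A] (I : Ideal A) [I.IsTwoSided] (h : Module.End R A) {x : A}
    (hx : x ∈ I) : h x ∈ I := by
  obtain ⟨t, rfl⟩ := (IsAzumaya.bij (R := R) (A := A)).2 h
  induction t using TensorProduct.induction_on with
  | zero => simp
  | tmul a b =>
    rw [AlgHom.mulLeftRight_apply]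
    exact I.mul_mem_right _ (I.mul_mem_left _ hx)
  | add s t hs ht =>
    rw [map_add, LinearMap.add_apply]
    exact I.add_mem hs ht

/-- a two-sided ideal of an Azumaya algebra is generated by its contraction to the base -/
theorem le_map_comap [IsAzumaya R A] (I : Ideal A) [I.IsTwoSided] :
    I ≤ Ideal.map (algebraMap R A) (I.comap (algebraMap R A)) := by
  classical
  obtain ⟨a, π, ι, -, -, hπι⟩ := Module.Finite.exists_comp_eq_id_of_projective R A
  intro x hx
  have h1 : x = π (ι x) := (LinearMap.congr_fun hπι x).symm
  have h2 : ι x = ∑ j, (ι x j) • (Pi.single j (1 : R) : Fin a → R) := by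
    ext k
    simp [Finset.sum_apply, Pi.single_apply]
  rw [h1, h2, map_sum]
  refine Ideal.sum_mem _ fun j _ => ?_
  have hmem : ι x j ∈ I.comap (algebraMap R A) := by
    rw [Ideal.mem_comap]
    have := end_apply_mem I (((LinearMap.proj j) ∘ₗ ι).smulRight (1 : A)) hx
    rwa [LinearMap.smulRight_apply, LinearMap.comp_apply, LinearMap.proj_apply,
      ← Algebra.algebraMap_eq_smul_one] at this
  rw [map_smul, Algebra.smul_def, Algebra.commutes]
  exact Ideal.mul_mem_left _ _ (Ideal.mem_map_of_mem _ hmem)

/-- the extension of a proper ideal to a faithful finite algebra is proper -/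
theorem map_ne_top [Module.Finite R A] [FaithfulSMul R A] (m : Ideal R) (hm : m ≠ ⊤) :
    Ideal.map (algebraMap R A) m ≠ ⊤ := by
  intro htop
  have hle : (⊤ : Submodule R A) ≤ m • (⊤ : Submodule R A) := by
    intro y _
    have hy : y ∈ Ideal.map (algebraMap R A) m := by rw [htop]; trivial
    have := (LGFibre.smul_top_eq m A A).symm ▸
      (show y ∈ (Ideal.map (algebraMap R A) m • (⊤ : Submodule A A)).restrictScalars R from by
        rw [Submodule.restrictScalars_mem, smul_eq_mul, Ideal.mul_top]
        exact hy)
    exact this
  obtain ⟨r, hr, hr0⟩ := Submodule.exists_sub_one_mem_and_smul_eq_zero_of_fg_of_le_smul m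
    (⊤ : Submodule R A) Module.Finite.fg_top hle
  have h0 : r = 0 := by
    apply FaithfulSMul.algebraMap_injective R A
    rw [map_zero, Algebra.algebraMap_eq_smul_one]
    exact hr0 1 trivial
  rw [h0, zero_sub] at hr
  apply hm
  rw [Ideal.eq_top_iff_one]
  simpa using m.neg_mem hr

/-- the fibre of an Azumaya algebra at a maximal ideal is a simple ring -/
theorem isSimpleRing_fibre [IsAzumaya R A] (m : Ideal R) [hm : m.IsMaximal] :
    IsSimpleRing (A ⧸ Ideal.map (algebraMap R A) m) := by
  rw [isSimpleRing_iff_isTwoSided_imp]
  refine ⟨Ideal.Quotient.nontrivial_iff.mpr (map_ne_top m hm.ne_top), ?_⟩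
  intro I hI
  set J := Ideal.map (algebraMap R A) m with hJ
  set I' : Ideal A := I.comap (Ideal.Quotient.mk J) with hI'
  haveI : I'.IsTwoSided := ⟨fun b ha => by
    rw [hI', Ideal.mem_comap, map_mul] at *
    exact I.mul_mem_right _ ha⟩
  have hJI : J ≤ I' := by
    intro x hx
    rw [hI', Ideal.mem_comap, Ideal.Quotient.eq_zero_iff_mem.mpr hx]
    exact I.zero_mem
  have hmI : m ≤ I'.comap (algebraMap R A) := by
    intro r hr
    rw [Ideal.mem_comap]
    exact hJI (Ideal.mem_map_of_mem _ hr)
  have hImap : I = Ideal.map (Ideal.Quotient.mk J) I' :=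
    (Ideal.map_comap_of_surjective _ Ideal.Quotient.mk_surjective I).symm
  by_cases htop : I'.comap (algebraMap R A) = ⊤
  · right
    have h1 : (1 : R) ∈ I'.comap (algebraMap R A) := by rw [htop]; trivial
    rw [Ideal.mem_comap, map_one, hI', Ideal.mem_comap, map_one] at h1
    exact (Ideal.eq_top_iff_one I).mpr h1
  · left
    have heq : m = I'.comap (algebraMap R A) := hm.eq_of_le htop hmI
    have hle : I' ≤ J := by
      have := le_map_comap (R := R) I'
      rwa [← heq] at this
    have hIJ : I' = J := le_antisymm hle hJI
    rw [hImap, hIJ, Ideal.map_quotient_self]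

end Fibre

section Main

/-- transitivity of projectivity (noncommutative middle ring) -/
theorem projective_trans (R : Type u) (S : Type v) (N : Type w) [CommRing R] [Ring S] [Algebra R S]
    [AddCommGroup N] [Module S N] [Module R N] [IsScalarTower R S N]
    [Module.Projective R S] [Module.Projective S N] : Module.Projective R N := by
  obtain ⟨sS, hsS⟩ := Module.projective_def'.mp (inferInstance : Module.Projective R S)
  obtain ⟨sN, hsN⟩ := Module.projective_def'.mp (inferInstance : Module.Projective S N)
  haveI : Module.Projective R (N →₀ S) := by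
    refine Module.Projective.of_split (M := N →₀ (S →₀ R))
      (Finsupp.mapRange.linearMap sS) (Finsupp.mapRange.linearMap (Finsupp.linearCombination R id))
      ?_
    rw [← Finsupp.mapRange.linearMap_comp, hsS, Finsupp.mapRange.linearMap_id]
  refine Module.Projective.of_split (M := N →₀ S) (sN.restrictScalars R)
    ((Finsupp.linearCombination S id).restrictScalars R) ?_
  ext x
  exact LinearMap.congr_fun hsN x

variable {R : Type u} [CommRing R] {A : Type v} [Ring A] [Algebra R A] [IsAzumaya R A]

attribute [local instance] LGFibre.isTwoSided_map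

/-- **Main comparison theorem.**  Over an LG ring, for finitely generated projective modules `M`,
`N` over an Azumaya algebra with `rank N ≤ rank M` at every maximal ideal, `N` is a direct summand
of `M`. -/
theorem exists_split (hR : LGRing.IsLGRing R)
    (M N : Type w) [AddCommGroup M] [Module A M] [Module R M] [IsScalarTower R A M]
    [Module.Finite A M] [Module.Projective A M] [AddCommGroup N] [Module A N] [Module R N]
    [IsScalarTower R A N] [Module.Finite A N] [Module.Projective A N]
    (h : ∀ p : PrimeSpectrum R, Module.rankAtStalk N p ≤ Module.rankAtStalk M p) :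
    ∃ (u : M →ₗ[A] N) (v : N →ₗ[A] M), Function.Bijective (u ∘ₗ v) := by
  haveI : Module.Finite R M := Module.Finite.trans A M
  haveI : Module.Finite R N := Module.Finite.trans A N
  haveI : Module.Projective R M := projective_trans R A M
  haveI : Module.Projective R N := projective_trans R A N
  haveI : Module.Finite R (M →ₗ[A] N) := finite_hom
  haveI : Module.Finite R (N →ₗ[A] M) := finite_hom
  apply LGSurj.exists_bijective_comp hR
  intro m hm
  apply LGFibre.exists_local_split m A M N (isSimpleRing_fibre m)
  letI := Ideal.Quotient.field m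
  have h1 := Module.rankAtStalk_baseChange (R := R) (M := M) (S := R ⧸ m)
    (⟨⊥, Ideal.isPrime_bot⟩ : PrimeSpectrum (R ⧸ m))
  have h2 := Module.rankAtStalk_baseChange (R := R) (M := N) (S := R ⧸ m)
    (⟨⊥, Ideal.isPrime_bot⟩ : PrimeSpectrum (R ⧸ m))
  rw [Module.rankAtStalk_eq_finrank_of_free] at h1 h2
  simp only [Pi.natCast_apply, Nat.cast_id] at h1 h2
  rw [h1, h2]
  exact h _

end Main

end Groth.Agent.H92.LGAzumaya
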