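import Mathlib

/-!
# Isomorphic corners (helper92)

`e : T_A ≃ₐ T_B` an isomorphism of `R`-algebras, `A` and `B` realised as corner rings
`E T_A E`, `G T_B G` (through `σ`, `ρ`).  Linking elements `x`, `y` between `e E` and `G` give an
algebra isomorphism `A ≃ₐ B`.
-/

set_option autoImplicit false

universe u v₁ v₂ w₁ w₂

namespace Groth.Agent.H92.LGCorner

variable {R : Type u} [CommRing R] {A : Type v₁} {B : Type v₂} {TA : Type w₁} {TB : Type w₂}
  [Ring A] [Algebra R A] [Ring B] [Algebra R B] [Ring TA] [Algebra R TA] [Ring TB] [Algebra R TB]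

variable (e : TA ≃ₐ[R] TB) (σA : A →ₗ[R] TA) (ρA : TA →ₗ[R] A) (σB : B →ₗ[R] TB) (ρB : TB →ₗ[R] B)
  (x y : TB)

/-- the forward map -/
def fwd : A →ₗ[R] B :=
  ρB ∘ₗ LinearMap.mulLeft R y ∘ₗ LinearMap.mulRight R x ∘ₗ e.toLinearMap ∘ₗ σA

/-- the backward map -/
def bwd : B →ₗ[R] A :=
  ρA ∘ₗ e.symm.toLinearMap ∘ₗ LinearMap.mulLeft R x ∘ₗ LinearMap.mulRight R y ∘ₗ σB

theorem fwd_apply (a : A) : fwd e σA ρB x y a = ρB (y * (e (σA a) * x)) := rfl

theorem bwd_apply (b : B) : bwd e ρA σB x y b = ρA (e.symm (x * (σB b * y))) := rfl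

variable (hσA : ∀ a a', σA (a * a') = σA a * σA a') (hρσA : ∀ a, ρA (σA a) = a)
  (hσρA : ∀ Z, σA (ρA Z) = σA 1 * Z * σA 1)
  (hσB : ∀ b b', σB (b * b') = σB b * σB b') (hρσB : ∀ b, ρB (σB b) = b)
  (hσρB : ∀ Z, σB (ρB Z) = σB 1 * Z * σB 1)
  (h1 : e (σA 1) * x = x) (h2 : x * σB 1 = x) (h3 : σB 1 * y = y) (h4 : y * e (σA 1) = y)
  (h5 : x * y = e (σA 1)) (h6 : y * x = σB 1)

include hσρB h2 h3 in
theorem σB_fwd (a : A) : σB (fwd e σA ρB x y a) = y * (e (σA a) * x) := by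
  rw [fwd_apply, hσρB, ← mul_assoc, h3, mul_assoc, mul_assoc, h2]

include hσρA h1 h4 in
theorem σA_bwd (b : B) : σA (bwd e ρA σB x y b) = e.symm (x * (σB b * y)) := by
  rw [bwd_apply, hσρA]
  apply e.injective
  rw [map_mul, map_mul, AlgEquiv.apply_symm_apply, ← mul_assoc, h1, mul_assoc, mul_assoc, h4]

include hσA hρσA hσρB h2 h3 h5 in
theorem bwd_fwd (a : A) : bwd e ρA σB x y (fwd e σA ρB x y a) = a := by
  rw [bwd_apply, σB_fwd e σA σB ρB x y hσρB h2 h3]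
  have : x * (y * (e (σA a) * x) * y) = (x * y) * e (σA a) * (x * y) := by
    simp only [mul_assoc]
  rw [this, h5, ← map_mul, ← map_mul, AlgEquiv.symm_apply_apply, ← hσA, ← hσA, one_mul, mul_one,
    hρσA]

include hσB hρσB hσρA h1 h4 h6 in
theorem fwd_bwd (b : B) : fwd e σA ρB x y (bwd e ρA σB x y b) = b := by
  rw [fwd_apply, σA_bwd e σA ρA σB x y hσρA h1 h4, AlgEquiv.apply_symm_apply]
  have : y * (x * (σB b * y) * x) = (y * x) * σB b * (y * x) := by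
    simp only [mul_assoc]
  rw [this, h6, ← hσB, ← hσB, one_mul, mul_one, hρσB]

include hρσB h1 h6 in
theorem fwd_one : fwd e σA ρB x y 1 = 1 := by
  rw [fwd_apply, h1, h6, hρσB]

include hσA hσB hρσB hσρB h2 h3 h5 in
theorem fwd_mul (a a' : A) :
    fwd e σA ρB x y (a * a') = fwd e σA ρB x y a * fwd e σA ρB x y a' := by
  have hs : σA (a * a') = σA a * σA 1 * σA a' := by
    rw [← hσA, ← hσA, mul_one]
  have key : σB (fwd e σA ρB x y (a * a')) =
      σB (fwd e σA ρB x y a * fwd e σA ρB x y a') := by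
    rw [hσB, σB_fwd e σA σB ρB x y hσρB h2 h3, σB_fwd e σA σB ρB x y hσρB h2 h3,
      σB_fwd e σA σB ρB x y hσρB h2 h3, hs, map_mul, map_mul, ← h5]
    simp only [mul_assoc]
  have := congrArg ρB key
  rwa [hρσB, hρσB] at this

include hσA hρσA hσρA hσB hρσB hσρB h1 h2 h3 h4 h5 h6 in
/-- the algebra isomorphism produced from linking elements -/
theorem nonempty_algEquiv : Nonempty (A ≃ₐ[R] B) := by
  let l : A ≃ₗ[R] B := LinearEquiv.ofLinearMap (fwd e σA ρB x y) (bwd e ρA σB x y)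
    (LinearMap.ext (fwd_bwd e σA ρA σB ρB x y hσρA hσB hρσB h1 h4 h6))
    (LinearMap.ext (bwd_fwd e σA ρA σB ρB x y hσA hρσA hσρB h2 h3 h5))
  exact ⟨AlgEquiv.ofLinearEquiv l (fwd_one e σA σB ρB x y hρσB h1 h6)
    (fwd_mul e σA σB ρB x y hσA hσB hρσB hσρB h2 h3 h5)⟩

end Groth.Agent.H92.LGCorner
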