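import Mathlib
import Groth.Agent.H92.LGAzumaya

/-!
# The comparison theorem for algebras with extended ideals (helper92)

A generalisation of `LGAzumaya.exists_split` to `R`-algebras `T` all of whose two-sided ideals are
extended from `R` (`IdealsExtended`), e.g. matrix algebras over Azumaya algebras.
-/

set_option autoImplicit false
set_option linter.style.haveILetI false

universe u v w

namespace Groth.Agent.H92.LGGen

open TensorProduct

variable {R : Type u} [CommRing R] {T : Type v} [Ring T] [Algebra R T]

attribute [local instance] LGFibre.isTwoSided_map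

variable (R T) in
/-- every two-sided ideal of `T` is generated by its contraction to `R` -/
def IdealsExtended : Prop :=
  ∀ (I : Ideal T) [I.IsTwoSided], I ≤ Ideal.map (algebraMap R T) (I.comap (algebraMap R T))

theorem idealsExtended_of_isAzumaya [IsAzumaya R T] : IdealsExtended R T :=
  fun I _ => LGAzumaya.le_map_comap (R := R) I

/-- the fibres of an algebra with extended ideals are simple rings -/
theorem isSimpleRing_fibre (hT : IdealsExtended R T) [Module.Finite R T] [FaithfulSMul R T]
    (m : Ideal R) [hm : m.IsMaximal] :
    IsSimpleRing (T ⧸ Ideal.map (algebraMap R T) m) := by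
  rw [isSimpleRing_iff_isTwoSided_imp]
  refine ⟨Ideal.Quotient.nontrivial_iff.mpr (LGAzumaya.map_ne_top m hm.ne_top), ?_⟩
  intro I hI
  set J := Ideal.map (algebraMap R T) m with hJ
  set I' : Ideal T := I.comap (Ideal.Quotient.mk J) with hI'
  haveI : I'.IsTwoSided := ⟨fun b ha => by
    rw [hI', Ideal.mem_comap, map_mul] at *
    exact I.mul_mem_right _ ha⟩
  have hJI : J ≤ I' := by
    intro x hx
    rw [hI', Ideal.mem_comap, Ideal.Quotient.eq_zero_iff_mem.mpr hx]
    exact I.zero_mem
  have hmI : m ≤ I'.comap (algebraMap R T) := by
    intro r hr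
    rw [Ideal.mem_comap]
    exact hJI (Ideal.mem_map_of_mem _ hr)
  have hImap : I = Ideal.map (Ideal.Quotient.mk J) I' :=
    (Ideal.map_comap_of_surjective _ Ideal.Quotient.mk_surjective I).symm
  by_cases htop : I'.comap (algebraMap R T) = ⊤
  · right
    have h1 : (1 : R) ∈ I'.comap (algebraMap R T) := by rw [htop]; trivial
    rw [Ideal.mem_comap, map_one, hI', Ideal.mem_comap, map_one] at h1
    exact (Ideal.eq_top_iff_one I).mpr h1
  · left
    have heq : m = I'.comap (algebraMap R T) := hm.eq_of_le htop hmI
    have hle : I' ≤ J := by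
      have := hT I'
      rwa [← heq] at this
    have hIJ : I' = J := le_antisymm hle hJI
    rw [hImap, hIJ, Ideal.map_quotient_self]

variable [Module.Finite R T] [Module.Projective R T] [FaithfulSMul R T]

/-- the comparison theorem -/
theorem exists_split (hR : LGRing.IsLGRing R) (hT : IdealsExtended R T)
    (M N : Type w) [AddCommGroup M] [Module T M] [Module R M] [IsScalarTower R T M]
    [Module.Finite T M] [Module.Projective T M] [AddCommGroup N] [Module T N] [Module R N]
    [IsScalarTower R T N] [Module.Finite T N] [Module.Projective T N]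
    (h : ∀ p : PrimeSpectrum R, Module.rankAtStalk N p ≤ Module.rankAtStalk M p) :
    ∃ (u : M →ₗ[T] N) (v : N →ₗ[T] M), Function.Bijective (u ∘ₗ v) := by
  haveI : Module.Finite R M := Module.Finite.trans T M
  haveI : Module.Finite R N := Module.Finite.trans T N
  haveI : Module.Projective R M := LGAzumaya.projective_trans R T M
  haveI : Module.Projective R N := LGAzumaya.projective_trans R T N
  haveI : Module.Finite R (M →ₗ[T] N) := LGAzumaya.finite_hom
  haveI : Module.Finite R (N →ₗ[T] M) := LGAzumaya.finite_hom
  apply LGSurj.exists_bijective_comp hR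
  intro m hm
  apply LGFibre.exists_local_split m T M N (isSimpleRing_fibre hT m)
  letI := Ideal.Quotient.field m
  have h1 := Module.rankAtStalk_baseChange (R := R) (M := M) (S := R ⧸ m)
    (⟨⊥, Ideal.isPrime_bot⟩ : PrimeSpectrum (R ⧸ m))
  have h2 := Module.rankAtStalk_baseChange (R := R) (M := N) (S := R ⧸ m)
    (⟨⊥, Ideal.isPrime_bot⟩ : PrimeSpectrum (R ⧸ m))
  rw [Module.rankAtStalk_eq_finrank_of_free] at h1 h2
  simp only [Pi.natCast_apply, Nat.cast_id] at h1 h2
  rw [h1, h2]
  exact h _

/-- equal ranks give an isomorphism -/
theorem exists_equiv (hR : LGRing.IsLGRing R) (hT : IdealsExtended R T)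
    (M N : Type w) [AddCommGroup M] [Module T M] [Module R M] [IsScalarTower R T M]
    [Module.Finite T M] [Module.Projective T M] [AddCommGroup N] [Module T N] [Module R N]
    [IsScalarTower R T N] [Module.Finite T N] [Module.Projective T N]
    (h : ∀ p : PrimeSpectrum R, Module.rankAtStalk N p = Module.rankAtStalk M p) :
    Nonempty (M ≃ₗ[T] N) := by
  obtain ⟨u, v, huv⟩ := exists_split hR hT M N (fun p => (h p).le)
  obtain ⟨u', v', huv'⟩ := exists_split hR hT N M (fun p => (h p).ge)
  have hu : Function.Surjective u := Function.Surjective.of_comp (g := v) huv.2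
  have hu' : Function.Surjective u' := Function.Surjective.of_comp (g := v') huv'.2
  haveI : Module.Finite R M := Module.Finite.trans T M
  have hinj : Function.Injective ((u' ∘ₗ u).restrictScalars R) :=
    OrzechProperty.injective_of_surjective_endomorphism _ (hu'.comp hu)
  have hui : Function.Injective u := Function.Injective.of_comp (f := u') hinj
  exact ⟨LinearEquiv.ofBijective u ⟨hui, hu⟩⟩

end Groth.Agent.H92.LGGen
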