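import Mathlib
import Groth.Agent.H92.LGGen

/-!
# Cancellation of matrix algebras over Azumaya algebras over an LG ring (helper92)

If `Mₙ(A) ≅ Mₙ(B)` for Azumaya algebras `A`, `B` over an LG ring and `n ≥ 1`, then `A ≅ B`.
-/

set_option autoImplicit false
set_option linter.style.haveILetI false

universe u v w

namespace Groth.Agent.H92.LGMatrix

open Matrix

section Instances

variable {R : Type u} [CommRing R] {B : Type v} [Ring B] [Algebra R B] {n : ℕ}

theorem finite_matrix [Module.Finite R B] : Module.Finite R (Matrix (Fin n) (Fin n) B) :=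
  inferInstanceAs (Module.Finite R (Fin n → Fin n → B))

theorem projective_pi (I : Type) [Finite I] (C : Type w) [AddCommGroup C] [Module R C]
    [Module.Projective R C] : Module.Projective R (I → C) := by
  obtain ⟨s, hs⟩ := Module.projective_def'.mp (inferInstance : Module.Projective R C)
  refine Module.Projective.of_split (M := I → (C →₀ R)) (s.compLeft I)
    ((Finsupp.linearCombination R id).compLeft I) ?_
  apply LinearMap.ext
  intro x
  funext i
  exact LinearMap.congr_fun hs (x i)

theorem projective_matrix [Module.Projective R B] :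
    Module.Projective R (Matrix (Fin n) (Fin n) B) := by
  haveI : Module.Projective R (Fin n → B) := projective_pi (Fin n) B
  exact (projective_pi (Fin n) (Fin n → B) : Module.Projective R (Fin n → Fin n → B))

theorem faithful_matrix [FaithfulSMul R B] (hn : 0 < n) :
    FaithfulSMul R (Matrix (Fin n) (Fin n) B) := by
  refine ⟨fun {r s} h => ?_⟩
  apply FaithfulSMul.algebraMap_injective R B
  have := congrFun (congrFun (h (1 : Matrix (Fin n) (Fin n) B)) ⟨0, hn⟩) ⟨0, hn⟩
  simpa [Algebra.algebraMap_eq_smul_one] using this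

end Instances

section Ideals

variable {R : Type u} [CommRing R] {B : Type v} [Ring B] [Algebra R B] {n : ℕ}

open LGGen

/-- the ideal of entries of a two-sided ideal of the matrix ring -/
def entryIdeal (I' : Ideal (Matrix (Fin n) (Fin n) B)) [I'.IsTwoSided] (i₀ : Fin n) : Ideal B where
  carrier := {b | single i₀ i₀ b ∈ I'}
  add_mem' := fun {a b} ha hb => by
    change single i₀ i₀ (a + b) ∈ I'
    rw [single_add]
    exact I'.add_mem ha hb
  zero_mem' := by
    change single i₀ i₀ (0 : B) ∈ I'
    rw [single_zero]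
    exact I'.zero_mem
  smul_mem' := fun c b hb => by
    change single i₀ i₀ (c * b) ∈ I'
    rw [← single_mul_single_same c i₀ i₀ i₀ b]
    exact I'.mul_mem_left _ hb

theorem mem_entryIdeal (I' : Ideal (Matrix (Fin n) (Fin n) B)) [I'.IsTwoSided] (i₀ : Fin n)
    (b : B) : b ∈ entryIdeal I' i₀ ↔ single i₀ i₀ b ∈ I' := Iff.rfl

instance (I' : Ideal (Matrix (Fin n) (Fin n) B)) [I'.IsTwoSided] (i₀ : Fin n) :
    (entryIdeal I' i₀).IsTwoSided :=
  ⟨fun {a} b ha => by
    rw [mem_entryIdeal] at ha ⊢
    rw [← single_mul_single_same a i₀ i₀ i₀ b]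
    exact I'.mul_mem_right _ ha⟩

theorem entry_mem (I' : Ideal (Matrix (Fin n) (Fin n) B)) [I'.IsTwoSided] (i₀ : Fin n)
    {X : Matrix (Fin n) (Fin n) B} (hX : X ∈ I') (i j : Fin n) : X i j ∈ entryIdeal I' i₀ := by
  rw [mem_entryIdeal]
  have h := single_mul_mul_single i₀ i j i₀ (1 : B) X (1 : B)
  rw [one_mul, mul_one] at h
  rw [← h]
  exact I'.mul_mem_right _ (I'.mul_mem_left _ hX)

theorem algebraMap_matrix_eq_sum (r : R) :
    algebraMap R (Matrix (Fin n) (Fin n) B) r = ∑ i, single i i (algebraMap R B r) := by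
  ext a b
  rw [Matrix.algebraMap_matrix_apply, Matrix.sum_apply]
  by_cases hab : a = b
  · subst hab
    rw [if_pos rfl, Finset.sum_eq_single a]
    · simp
    · intro c _ hc
      simp [hc]
    · simp
  · rw [if_neg hab]
    symm
    apply Finset.sum_eq_zero
    intro c _
    rw [single_apply]
    split_ifs with h
    · exact absurd (h.1.symm.trans h.2) hab
    · rfl

theorem comap_entryIdeal_le (I' : Ideal (Matrix (Fin n) (Fin n) B)) [I'.IsTwoSided] (i₀ : Fin n) :
    (entryIdeal I' i₀).comap (algebraMap R B) ≤ I'.comap (algebraMap R _) := by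
  intro r hr
  rw [Ideal.mem_comap, mem_entryIdeal] at hr
  rw [Ideal.mem_comap, algebraMap_matrix_eq_sum]
  refine I'.sum_mem fun i _ => ?_
  have h := single_mul_mul_single i i₀ i₀ i (1 : B) (single i₀ i₀ (algebraMap R B r)) (1 : B)
  rw [one_mul, mul_one, single_apply_same] at h
  rw [← h]
  exact I'.mul_mem_right _ (I'.mul_mem_left _ hr)

theorem single_mem_map (𝔞 : Ideal R) {b : B} (hb : b ∈ Ideal.map (algebraMap R B) 𝔞) (i j : Fin n) :
    single i j b ∈ Ideal.map (algebraMap R (Matrix (Fin n) (Fin n) B)) 𝔞 := by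
  rw [Ideal.map] at hb
  induction hb using Submodule.span_induction with
  | mem x hx =>
    obtain ⟨r, hr, rfl⟩ := hx
    have h : single i j (algebraMap R B r) =
        single i j (1 : B) * algebraMap R (Matrix (Fin n) (Fin n) B) r := by
      rw [← Algebra.commutes, ← Algebra.smul_def, smul_single, Algebra.algebraMap_eq_smul_one]
    rw [h]
    exact Ideal.mul_mem_left _ _ (Ideal.mem_map_of_mem _ hr)
  | zero => rw [single_zero]; exact Submodule.zero_mem _
  | add x y _ _ hx hy => rw [single_add]; exact Submodule.add_mem _ hx hy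
  | smul c x _ hx =>
    rw [smul_eq_mul, ← single_mul_single_same c i i j x]
    exact Ideal.mul_mem_left _ _ hx

/-- matrix algebras inherit the extension property of two-sided ideals -/
theorem idealsExtended_matrix (hB : IdealsExtended R B) (hn : 0 < n) :
    IdealsExtended R (Matrix (Fin n) (Fin n) B) := by
  intro I' _ X hX
  let i₀ : Fin n := ⟨0, hn⟩
  rw [matrix_eq_sum_single X]
  refine Ideal.sum_mem _ fun i _ => Ideal.sum_mem _ fun j _ => ?_
  have h1 : X i j ∈ Ideal.map (algebraMap R B) ((entryIdeal I' i₀).comap (algebraMap R B)) :=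
    hB (entryIdeal I' i₀) (entry_mem I' i₀ hX i j)
  have h2 : X i j ∈ Ideal.map (algebraMap R B) (I'.comap (algebraMap R _)) :=
    Ideal.map_mono (comap_entryIdeal_le I' i₀) h1
  exact single_mem_map _ h2 i j

end Ideals

section Corner

variable {T : Type v} [Ring T]

theorem mul_idem_of_mem {f : T} (hf : IsIdempotentElem f) {z : T} (hz : z ∈ Ideal.span {f}) :
    z * f = z := by
  obtain ⟨a, rfl⟩ := Ideal.mem_span_singleton'.mp hz
  rw [mul_assoc, hf.eq]

theorem finite_span (f : T) : Module.Finite T (Ideal.span {f}) :=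
  Module.Finite.span_singleton T f

theorem projective_span {f : T} (hf : IsIdempotentElem f) :
    Module.Projective T (Ideal.span {f}) := by
  let π : T →ₗ[T] (Ideal.span {f}) :=
    { toFun := fun t => ⟨t * f, Ideal.mem_span_singleton'.mpr ⟨t, rfl⟩⟩
      map_add' := fun a b => by
        apply Subtype.ext
        simp [add_mul]
      map_smul' := fun c a => by
        apply Subtype.ext
        simp [mul_assoc] }
  refine Module.Projective.of_split (Submodule.subtype _) π ?_
  apply LinearMap.ext
  intro z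
  apply Subtype.ext
  exact mul_idem_of_mem hf z.2

/-- isomorphic principal left ideals generated by idempotents: the linking elements -/
theorem exists_linking {f g : T} (hf : IsIdempotentElem f) (hg : IsIdempotentElem g)
    (θ : (Ideal.span {f}) ≃ₗ[T] (Ideal.span {g})) :
    ∃ x y : T, f * x = x ∧ x * g = x ∧ g * y = y ∧ y * f = y ∧ x * y = f ∧ y * x = g := by
  let F : Ideal.span {f} := ⟨f, Ideal.subset_span rfl⟩
  let G : Ideal.span {g} := ⟨g, Ideal.subset_span rfl⟩
  have hF : ∀ z : Ideal.span {f}, z = (z : T) • F := fun z => by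
    apply Subtype.ext
    change (z : T) = (z : T) * f
    exact (mul_idem_of_mem hf z.2).symm
  have hG : ∀ z : Ideal.span {g}, z = (z : T) • G := fun z => by
    apply Subtype.ext
    change (z : T) = (z : T) * g
    exact (mul_idem_of_mem hg z.2).symm
  refine ⟨(θ F : T), (θ.symm G : T), ?_, mul_idem_of_mem hg (θ F).2, ?_,
    mul_idem_of_mem hf (θ.symm G).2, ?_, ?_⟩
  · have h1 : f • F = F := by
      apply Subtype.ext
      exact hf.eq
    have h2 := congrArg θ h1
    rw [map_smul] at h2
    exact congrArg Subtype.val h2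
  · have h1 : g • G = G := by
      apply Subtype.ext
      exact hg.eq
    have h2 := congrArg θ.symm h1
    rw [map_smul] at h2
    exact congrArg Subtype.val h2
  · have h1 := congrArg θ.symm (hG (θ F))
    rw [map_smul, LinearEquiv.symm_apply_apply] at h1
    exact (congrArg Subtype.val h1).symm
  · have h1 := congrArg θ (hF (θ.symm G))
    rw [map_smul, LinearEquiv.apply_symm_apply] at h1
    exact (congrArg Subtype.val h1).symm

end Corner

section Iso

variable {R : Type u} [CommRing R] {A B : Type v} [Ring A] [Algebra R A] [Ring B] [Algebra R B]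
  {n : ℕ}

/-- a matrix fixed by `E₀₀` on both sides is concentrated in the corner -/
theorem eq_single_of_corner {C : Type v} [Ring C] (i₀ : Fin n) (Z : Matrix (Fin n) (Fin n) C)
    (h1 : single i₀ i₀ (1 : C) * Z = Z) (h2 : Z * single i₀ i₀ (1 : C) = Z) :
    Z = single i₀ i₀ (Z i₀ i₀) := by
  have h := single_mul_mul_single i₀ i₀ i₀ i₀ (1 : C) Z (1 : C)
  rw [h1, h2, one_mul, mul_one] at h
  exact h

/-- the `R`-linear map `a ↦ a E₀₀` -/
def singleLin (C : Type v) [Ring C] [Algebra R C] (i₀ : Fin n) :
    C →ₗ[R] Matrix (Fin n) (Fin n) C where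
  toFun := fun a => single i₀ i₀ a
  map_add' := fun a b => single_add i₀ i₀ a b
  map_smul' := fun r a => (smul_single r i₀ i₀ a).symm

/-- the `R`-linear map `Z ↦ Z₀₀` -/
def entryLin (C : Type v) [Ring C] [Algebra R C] (i₀ : Fin n) :
    Matrix (Fin n) (Fin n) C →ₗ[R] C where
  toFun := fun Z => Z i₀ i₀
  map_add' := fun _ _ => rfl
  map_smul' := fun _ _ => rfl

variable (e : Matrix (Fin n) (Fin n) A ≃ₐ[R] Matrix (Fin n) (Fin n) B) (i₀ : Fin n)
  (x y : Matrix (Fin n) (Fin n) B)

/-- the forward map -/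
def fwd : A →ₗ[R] B :=
  entryLin B i₀ ∘ₗ LinearMap.mulLeft R y ∘ₗ LinearMap.mulRight R x ∘ₗ e.toLinearMap ∘ₗ
    singleLin A i₀

/-- the backward map -/
def bwd : B →ₗ[R] A :=
  entryLin A i₀ ∘ₗ e.symm.toLinearMap ∘ₗ LinearMap.mulLeft R x ∘ₗ LinearMap.mulRight R y ∘ₗ
    singleLin B i₀

theorem fwd_apply (a : A) : fwd e i₀ x y a = (y * (e (single i₀ i₀ a) * x)) i₀ i₀ := rfl

theorem bwd_apply (b : B) : bwd e i₀ x y b = (e.symm (x * (single i₀ i₀ b * y))) i₀ i₀ := rfl

variable (h1 : e (single i₀ i₀ 1) * x = x) (h2 : x * single i₀ i₀ 1 = x)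
  (h3 : single i₀ i₀ 1 * y = y) (h4 : y * e (single i₀ i₀ 1) = y)
  (h5 : x * y = e (single i₀ i₀ 1)) (h6 : y * x = single i₀ i₀ 1)

include h2 h3 in
theorem fwd_single (a : A) :
    single i₀ i₀ (fwd e i₀ x y a) = y * (e (single i₀ i₀ a) * x) := by
  rw [fwd_apply]
  symm
  apply eq_single_of_corner
  · rw [← mul_assoc, h3]
  · rw [mul_assoc, mul_assoc, h2]

include h1 h4 in
theorem bwd_single (b : B) :
    single i₀ i₀ (bwd e i₀ x y b) = e.symm (x * (single i₀ i₀ b * y)) := by
  rw [bwd_apply]
  symm
  apply eq_single_of_corner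
  · apply e.injective
    rw [map_mul, AlgEquiv.apply_symm_apply, ← mul_assoc, h1]
  · apply e.injective
    rw [map_mul, AlgEquiv.apply_symm_apply, mul_assoc, mul_assoc, h4]

include h2 h3 h5 in
theorem bwd_fwd (a : A) : bwd e i₀ x y (fwd e i₀ x y a) = a := by
  rw [bwd_apply, fwd_single e i₀ x y h2 h3]
  have : x * (y * (e (single i₀ i₀ a) * x) * y) =
      (x * y) * e (single i₀ i₀ a) * (x * y) := by
    simp only [mul_assoc]
  rw [this, h5, ← map_mul, ← map_mul, AlgEquiv.symm_apply_apply, single_mul_single_same,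
    single_mul_single_same, one_mul, mul_one, single_apply_same]

include h1 h4 h6 in
theorem fwd_bwd (b : B) : fwd e i₀ x y (bwd e i₀ x y b) = b := by
  rw [fwd_apply, bwd_single e i₀ x y h1 h4, AlgEquiv.apply_symm_apply]
  have : y * (x * (single i₀ i₀ b * y) * x) = (y * x) * single i₀ i₀ b * (y * x) := by
    simp only [mul_assoc]
  rw [this, h6, single_mul_single_same, single_mul_single_same, one_mul, mul_one,
    single_apply_same]

include h1 h6 in
theorem fwd_one : fwd e i₀ x y 1 = 1 := by
  rw [fwd_apply, h1, h6, single_apply_same]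

include h2 h3 h5 in
theorem fwd_mul (a a' : A) : fwd e i₀ x y (a * a') = fwd e i₀ x y a * fwd e i₀ x y a' := by
  have hs : single i₀ i₀ (a * a') =
      single i₀ i₀ a * single i₀ i₀ (1 : A) * single i₀ i₀ a' := by
    rw [single_mul_single_same, single_mul_single_same, mul_one]
  have key : single i₀ i₀ (fwd e i₀ x y (a * a')) =
      single i₀ i₀ (fwd e i₀ x y a * fwd e i₀ x y a') := by
    rw [← single_mul_single_same (fwd e i₀ x y a) i₀ i₀ i₀ (fwd e i₀ x y a'),
      fwd_single e i₀ x y h2 h3, fwd_single e i₀ x y h2 h3, fwd_single e i₀ x y h2 h3, hs,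
      map_mul, map_mul, ← h5]
    simp only [mul_assoc]
  have := congrFun (congrFun key i₀) i₀
  rwa [single_apply_same, single_apply_same] at this

include h1 h2 h3 h4 h5 h6 in
/-- the algebra isomorphism produced from linking elements -/
theorem nonempty_algEquiv : Nonempty (A ≃ₐ[R] B) := by
  let l : A ≃ₗ[R] B := LinearEquiv.ofLinearMap (fwd e i₀ x y) (bwd e i₀ x y)
    (LinearMap.ext (fwd_bwd e i₀ x y h1 h4 h6)) (LinearMap.ext (bwd_fwd e i₀ x y h2 h3 h5))
  exact ⟨AlgEquiv.ofLinearEquiv l (fwd_one e i₀ x y h1 h6) (fwd_mul e i₀ x y h2 h3 h5)⟩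

end Iso

section Rank

variable {R : Type u} [CommRing R] {n : ℕ}

/-- the principal left ideal generated by `E₀₀` is the module of columns -/
def colEquiv (C : Type v) [Ring C] [Algebra R C] (i₀ : Fin n) :
    (Ideal.span {single i₀ i₀ (1 : C)} : Ideal (Matrix (Fin n) (Fin n) C)) ≃ₗ[R] (Fin n → C) where
  toFun := fun Z i => (Z : Matrix (Fin n) (Fin n) C) i i₀
  map_add' := fun _ _ => rfl
  map_smul' := fun _ _ => rfl
  invFun := fun v => ⟨Matrix.of (fun i j => if j = i₀ then v i else 0), by
    rw [Ideal.mem_span_singleton']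
    refine ⟨Matrix.of (fun i j => if j = i₀ then v i else 0), ?_⟩
    ext a b
    by_cases hb : b = i₀
    · subst hb
      rw [mul_single_apply_same]
      simp
    · rw [mul_single_apply_of_ne _ _ _ _ _ hb]
      simp [hb]⟩
  left_inv := fun Z => by
    apply Subtype.ext
    have hZ : (Z : Matrix (Fin n) (Fin n) C) * single i₀ i₀ (1 : C) =
        (Z : Matrix (Fin n) (Fin n) C) :=
      mul_idem_of_mem (by
        change single i₀ i₀ (1 : C) * single i₀ i₀ 1 = single i₀ i₀ 1
        rw [single_mul_single_same, one_mul]) Z.2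
    ext a b
    change (if b = i₀ then (Z : Matrix (Fin n) (Fin n) C) a i₀ else 0) = _
    by_cases hb : b = i₀
    · subst hb
      rw [if_pos rfl]
    · rw [if_neg hb, ← hZ, mul_single_apply_of_ne _ _ _ _ _ hb]
  right_inv := fun v => by
    funext i
    simp

variable {A B : Type v} [Ring A] [Algebra R A] [Ring B] [Algebra R B]

/-- transport of principal left ideals along an algebra isomorphism -/
def spanEquiv (e : Matrix (Fin n) (Fin n) A ≃ₐ[R] Matrix (Fin n) (Fin n) B)
    (E : Matrix (Fin n) (Fin n) A) :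
    (Ideal.span {E} : Ideal _) ≃ₗ[R] (Ideal.span {e E} : Ideal _) where
  toFun := fun Z => ⟨e Z, by
    obtain ⟨a, ha⟩ := Ideal.mem_span_singleton'.mp Z.2
    rw [Ideal.mem_span_singleton']
    exact ⟨e a, by rw [← map_mul, ha]⟩⟩
  map_add' := fun a b => by
    apply Subtype.ext
    simp
  map_smul' := fun r a => by
    apply Subtype.ext
    simp
  invFun := fun W => ⟨e.symm W, by
    obtain ⟨a, ha⟩ := Ideal.mem_span_singleton'.mp W.2
    rw [Ideal.mem_span_singleton']
    refine ⟨e.symm a, ?_⟩
    apply e.injective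
    rw [map_mul, AlgEquiv.apply_symm_apply, AlgEquiv.apply_symm_apply, ha]⟩
  left_inv := fun Z => by
    apply Subtype.ext
    simp
  right_inv := fun W => by
    apply Subtype.ext
    simp

theorem rank_pi (C : Type v) [AddCommGroup C] [Module R C] [Module.Flat R C] [Module.Finite R C]
    (p : PrimeSpectrum R) :
    Module.rankAtStalk (Fin n → C) p = n * Module.rankAtStalk C p := by
  rw [Module.rankAtStalk_pi, finsum_eq_sum_of_fintype]
  simp

theorem rank_matrix (C : Type v) [AddCommGroup C] [Module R C] [Module.Projective R C]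
    [Module.Finite R C] (p : PrimeSpectrum R) :
    Module.rankAtStalk (Matrix (Fin n) (Fin n) C) p = n * (n * Module.rankAtStalk C p) := by
  haveI : Module.Projective R (Fin n → C) := projective_pi (Fin n) C
  change Module.rankAtStalk (Fin n → Fin n → C) p = _
  rw [rank_pi, rank_pi]

end Rank

section Main

variable {R : Type u} [CommRing R]

open LGGen

/-- **Cancellation.**  `Mₙ(A) ≅ Mₙ(B)` implies `A ≅ B` for Azumaya algebras over an LG ring. -/
theorem cancel (hR : LGRing.IsLGRing R) (A B : Type v) [Ring A] [Algebra R A] [IsAzumaya R A]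
    [Ring B] [Algebra R B] [IsAzumaya R B] (n : ℕ) (hn : 0 < n)
    (e : Matrix (Fin n) (Fin n) A ≃ₐ[R] Matrix (Fin n) (Fin n) B) : Nonempty (A ≃ₐ[R] B) := by
  let i₀ : Fin n := ⟨0, hn⟩
  haveI : Module.Finite R (Matrix (Fin n) (Fin n) B) := finite_matrix
  haveI : Module.Projective R (Matrix (Fin n) (Fin n) B) := projective_matrix
  haveI : FaithfulSMul R (Matrix (Fin n) (Fin n) B) := faithful_matrix hn
  have hT : IdealsExtended R (Matrix (Fin n) (Fin n) B) :=
    idealsExtended_matrix idealsExtended_of_isAzumaya hn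
  have hE : IsIdempotentElem (single i₀ i₀ (1 : A)) := by
    change single i₀ i₀ (1 : A) * single i₀ i₀ 1 = single i₀ i₀ 1
    rw [single_mul_single_same, one_mul]
  have hg : IsIdempotentElem (single i₀ i₀ (1 : B)) := by
    change single i₀ i₀ (1 : B) * single i₀ i₀ 1 = single i₀ i₀ 1
    rw [single_mul_single_same, one_mul]
  have hf : IsIdempotentElem (e (single i₀ i₀ (1 : A))) := hE.map e
  haveI := finite_span (e (single i₀ i₀ (1 : A)))
  haveI := finite_span (single i₀ i₀ (1 : B))
  haveI := projective_span hf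
  haveI := projective_span hg
  -- ranks
  have hAB : ∀ p : PrimeSpectrum R, Module.rankAtStalk A p = Module.rankAtStalk B p := by
    intro p
    have h1 := congrFun (Module.rankAtStalk_eq_of_equiv e.toLinearEquiv) p
    rw [rank_matrix, rank_matrix] at h1
    exact Nat.eq_of_mul_eq_mul_left hn (Nat.eq_of_mul_eq_mul_left hn h1)
  have hrank : ∀ p : PrimeSpectrum R,
      Module.rankAtStalk (Ideal.span {single i₀ i₀ (1 : B)} : Ideal _) p =
        Module.rankAtStalk (Ideal.span {e (single i₀ i₀ (1 : A))} : Ideal _) p := by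
    intro p
    rw [congrFun (Module.rankAtStalk_eq_of_equiv (colEquiv (R := R) B i₀)) p,
      ← congrFun (Module.rankAtStalk_eq_of_equiv (spanEquiv e (single i₀ i₀ (1 : A)))) p,
      congrFun (Module.rankAtStalk_eq_of_equiv (colEquiv (R := R) A i₀)) p, rank_pi, rank_pi, hAB]
  obtain ⟨θ⟩ := LGGen.exists_equiv hR hT (Ideal.span {e (single i₀ i₀ (1 : A))} : Ideal _)
    (Ideal.span {single i₀ i₀ (1 : B)} : Ideal _) hrank
  obtain ⟨x, y, h1, h2, h3, h4, h5, h6⟩ := exists_linking hf hg θ
  exact nonempty_algEquiv e i₀ x y h1 h2 h3 h4 h5 h6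

end Main

end Groth.Agent.H92.LGMatrix
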