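import Mathlib

/-!
# Ranks of modules of homomorphisms, faithful projective modules (helper92)
-/

set_option autoImplicit false
set_option linter.style.haveILetI false

universe u v w

namespace Groth.Agent.H92.LGRankHom

open Module

variable {R : Type u} [CommRing R]

attribute [local instance] Module.free_of_flat_of_isLocalRing

/-- the rank of `Hom(M, N)` is the product of the ranks -/
theorem rankAtStalk_linearMap (M : Type v) (N : Type w) [AddCommGroup M] [Module R M]
    [AddCommGroup N] [Module R N] [Module.Finite R M] [Module.Projective R M]
    [Module.Finite R N] [Module.Flat R N] (p : PrimeSpectrum R) :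
    rankAtStalk (M →ₗ[R] N) p = rankAtStalk M p * rankAtStalk N p := by
  haveI : Module.FinitePresentation R M := Module.finitePresentation_of_projective R M
  let e : LocalizedModule p.asIdeal.primeCompl (M →ₗ[R] N) ≃ₗ[Localization.AtPrime p.asIdeal]
      (LocalizedModule p.asIdeal.primeCompl M →ₗ[Localization.AtPrime p.asIdeal]
        LocalizedModule p.asIdeal.primeCompl N) :=
    (IsLocalizedModule.linearEquiv p.asIdeal.primeCompl
      (LocalizedModule.mkLinearMap p.asIdeal.primeCompl (M →ₗ[R] N))
      (LocalizedModule.map p.asIdeal.primeCompl (M := M) (N := N))).extendScalarsOfIsLocalization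
        p.asIdeal.primeCompl _
  rw [rankAtStalk, e.finrank_eq, Module.finrank_linearMap]
  rfl

/-- faithful finitely generated flat modules have positive rank everywhere -/
theorem rankAtStalk_pos (P : Type v) [AddCommGroup P] [Module R P] [Module.Finite R P]
    [Module.Flat R P] [FaithfulSMul R P] (p : PrimeSpectrum R) : 0 < rankAtStalk P p := by
  rw [Module.rankAtStalk_pos_iff_mem_support, Module.support_eq_zeroLocus,
    Module.annihilator_eq_bot.mpr inferInstance]
  simp

end Groth.Agent.H92.LGRankHom
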