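import Mathlib
import Groth.Agent.H92.LGGen

/-!
# Two-sided ideals of tensor products of central-simple-like algebras (helper92)

* `LRSurj R T`: every `R`-linear endomorphism of `T` is a sum of maps `t ↦ a t b`.
* Azumaya algebras and endomorphism algebras of finitely generated projective modules have it.
* If `B`, `C` are finitely generated projective with `LRSurj`, every two-sided ideal of `B ⊗ C` is
  extended from `R`.
-/

set_option autoImplicit false
set_option linter.style.haveILetI false

universe u v w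

namespace Groth.Agent.H92.LGTensor

open TensorProduct MulOpposite

variable {R : Type u} [CommRing R]

/-- every `R`-linear endomorphism is a sum of left-right multiplications -/
def LRSurj (R : Type u) (T : Type v) [CommRing R] [Ring T] [Algebra R T] : Prop :=
  Function.Surjective (AlgHom.mulLeftRight R T)

theorem lrSurj_of_isAzumaya (T : Type v) [Ring T] [Algebra R T] [IsAzumaya R T] : LRSurj R T :=
  (IsAzumaya.bij (R := R) (A := T)).2

section EndAlg

variable {Q : Type v} [AddCommGroup Q] [Module R Q]

/-- expansion of an endomorphism in rank one operators -/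
theorem end_expansion {a : ℕ} (π : (Fin a → R) →ₗ[R] Q) (ι : Q →ₗ[R] (Fin a → R))
    (hπι : π ∘ₗ ι = LinearMap.id) (g : Module.End R Q) :
    g = ∑ i : Fin a × Fin a,
      (LinearMap.proj i.1 ∘ₗ ι) (g (π (Pi.single i.2 1))) •
        ((LinearMap.proj i.2 ∘ₗ ι).smulRight (π (Pi.single i.1 1)) : Module.End R Q) := by
  classical
  have hz : ∀ z : Q, z = ∑ k, (ι z k) • π (Pi.single k 1) := by
    intro z
    have h1 : z = π (ι z) := (LinearMap.congr_fun hπι z).symm
    have h2 : ι z = ∑ k, (ι z k) • (Pi.single k (1 : R) : Fin a → R) := by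
      ext j
      simp [Finset.sum_apply, Pi.single_apply]
    conv_lhs => rw [h1, h2]
    simp only [map_sum, map_smul]
  apply LinearMap.ext
  intro z
  rw [Fintype.sum_prod_type, LinearMap.sum_apply]
  simp only [LinearMap.sum_apply, LinearMap.smul_apply, LinearMap.smulRight_apply,
    LinearMap.comp_apply, LinearMap.proj_apply]
  conv_lhs => rw [hz z, map_sum]
  rw [Finset.sum_comm]
  refine Finset.sum_congr rfl fun k _ => ?_
  rw [map_smul]
  conv_lhs => rw [hz (g (π (Pi.single k 1)))]
  rw [Finset.smul_sum]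
  refine Finset.sum_congr rfl fun l _ => ?_
  rw [smul_smul, smul_smul, mul_comm]

/-- endomorphism algebras of finitely generated projective modules have `LRSurj` -/
theorem lrSurj_end [Module.Finite R Q] [Module.Projective R Q] : LRSurj R (Module.End R Q) := by
  classical
  obtain ⟨a, π, ι, -, -, hπι⟩ := Module.Finite.exists_comp_eq_id_of_projective R Q
  intro H
  -- the rank one operators
  let ee : Fin a × Fin a → Module.End R Q := fun i =>
    (LinearMap.proj i.2 ∘ₗ ι).smulRight (π (Pi.single i.1 1))
  let εε : Fin a × Fin a → Module.End R Q →ₗ[R] R := fun i =>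
    (LinearMap.proj i.1 ∘ₗ ι) ∘ₗ LinearMap.applyₗ (π (Pi.single i.2 1))
  have hexp : ∀ g : Module.End R Q, g = ∑ i, εε i g • ee i := end_expansion π ι hπι
  have hcomp : ∀ (i j : Fin a × Fin a) (h : Module.End R Q),
      εε j h • ee i = ee (i.1, j.1) * h * ee (j.2, i.2) := by
    intro i j h
    apply LinearMap.ext
    intro z
    simp only [εε, ee, LinearMap.smul_apply, LinearMap.smulRight_apply, LinearMap.comp_apply,
      LinearMap.proj_apply, LinearMap.applyₗ_apply_apply, Module.End.mul_apply, map_smul]
    rw [smul_smul, smul_smul, mul_comm]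
  refine ⟨∑ j, ∑ i, εε i (H (ee j)) • (ee (i.1, j.1) ⊗ₜ[R] op (ee (j.2, i.2))), ?_⟩
  apply LinearMap.ext
  intro h
  rw [map_sum, LinearMap.sum_apply]
  conv_rhs => rw [hexp h, map_sum]
  refine Finset.sum_congr rfl fun j _ => ?_
  rw [map_sum, LinearMap.sum_apply, map_smul]
  conv_rhs => rw [hexp (H (ee j)), Finset.smul_sum]
  refine Finset.sum_congr rfl fun i _ => ?_
  rw [map_smul, LinearMap.smul_apply, AlgHom.mulLeftRight_apply, unop_op, ← hcomp, smul_comm]

end EndAlg

section Tensor

variable {B : Type v} {C : Type w} [Ring B] [Algebra R B] [Ring C] [Algebra R C]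

theorem map_mulLeftRight_tmul (b₁ b₂ : B) (c₁ c₂ : C) (x : B ⊗[R] C) :
    TensorProduct.map (AlgHom.mulLeftRight R B (b₁ ⊗ₜ op b₂))
      (AlgHom.mulLeftRight R C (c₁ ⊗ₜ op c₂)) x = (b₁ ⊗ₜ c₁) * x * (b₂ ⊗ₜ c₂) := by
  induction x using TensorProduct.induction_on with
  | zero => simp
  | tmul b c =>
    rw [TensorProduct.map_tmul, AlgHom.mulLeftRight_apply, AlgHom.mulLeftRight_apply,
      Algebra.TensorProduct.tmul_mul_tmul, Algebra.TensorProduct.tmul_mul_tmul, unop_op, unop_op]
  | add x y hx hy => rw [map_add, hx, hy, mul_add, add_mul]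

/-- two-sided ideals of `B ⊗ C` are stable under `h_B ⊗ h_C` -/
theorem map_mem (hB : LRSurj R B) (hC : LRSurj R C) (I : Ideal (B ⊗[R] C)) [I.IsTwoSided]
    (f : Module.End R B) (g : Module.End R C) {x : B ⊗[R] C} (hx : x ∈ I) :
    TensorProduct.map f g x ∈ I := by
  obtain ⟨tB, rfl⟩ := hB f
  obtain ⟨tC, rfl⟩ := hC g
  induction tB using TensorProduct.induction_on with
  | zero => simp
  | tmul b₁ b₂ =>
    induction tC using TensorProduct.induction_on with
    | zero => simp
    | tmul c₁ c₂ =>
      have h := map_mulLeftRight_tmul (R := R) b₁ b₂.unop c₁ c₂.unop x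
      rw [op_unop, op_unop] at h
      rw [h]
      exact I.mul_mem_right _ (I.mul_mem_left _ hx)
    | add s t hs ht =>
      rw [map_add, TensorProduct.map_add_right, LinearMap.add_apply]
      exact I.add_mem hs ht
  | add s t hs ht =>
    rw [map_add, TensorProduct.map_add_left, LinearMap.add_apply]
    exact I.add_mem hs ht

variable {a c : ℕ} (πB : (Fin a → R) →ₗ[R] B) (ιB : B →ₗ[R] (Fin a → R))
  (πC : (Fin c → R) →ₗ[R] C) (ιC : C →ₗ[R] (Fin c → R))

/-- the coordinate functionals on the tensor product -/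
noncomputable def coord (i : Fin a) (j : Fin c) : B ⊗[R] C →ₗ[R] R :=
  (TensorProduct.lid R R).toLinearMap ∘ₗ
    TensorProduct.map (LinearMap.proj i ∘ₗ ιB) (LinearMap.proj j ∘ₗ ιC)

theorem coord_tmul (i : Fin a) (j : Fin c) (b : B) (z : C) :
    coord ιB ιC i j (b ⊗ₜ z) = ιB b i * ιC z j := by
  simp [coord]

include πB πC in
theorem tensor_expansion (hB : πB ∘ₗ ιB = LinearMap.id) (hC : πC ∘ₗ ιC = LinearMap.id)
    (x : B ⊗[R] C) :
    x = ∑ i, ∑ j, coord ιB ιC i j x • (πB (Pi.single i 1) ⊗ₜ[R] πC (Pi.single j 1)) := by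
  classical
  have hb : ∀ b : B, b = ∑ k, (ιB b k) • πB (Pi.single k 1) := by
    intro z
    have h1 : z = πB (ιB z) := (LinearMap.congr_fun hB z).symm
    have h2 : ιB z = ∑ k, (ιB z k) • (Pi.single k (1 : R) : Fin a → R) := by
      ext j
      simp [Finset.sum_apply, Pi.single_apply]
    conv_lhs => rw [h1, h2]
    simp only [map_sum, map_smul]
  have hc : ∀ b : C, b = ∑ k, (ιC b k) • πC (Pi.single k 1) := by
    intro z
    have h1 : z = πC (ιC z) := (LinearMap.congr_fun hC z).symm
    have h2 : ιC z = ∑ k, (ιC z k) • (Pi.single k (1 : R) : Fin c → R) := by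
      ext j
      simp [Finset.sum_apply, Pi.single_apply]
    conv_lhs => rw [h1, h2]
    simp only [map_sum, map_smul]
  induction x using TensorProduct.induction_on with
  | zero => simp
  | tmul b z =>
    conv_lhs => rw [hb b, hc z, TensorProduct.sum_tmul]
    refine Finset.sum_congr rfl fun i _ => ?_
    rw [TensorProduct.tmul_sum]
    refine Finset.sum_congr rfl fun j _ => ?_
    rw [coord_tmul, TensorProduct.smul_tmul_smul]
  | add x y hx hy =>
    conv_lhs => rw [hx, hy]
    rw [← Finset.sum_add_distrib]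
    refine Finset.sum_congr rfl fun i _ => ?_
    rw [← Finset.sum_add_distrib]
    refine Finset.sum_congr rfl fun j _ => ?_
    rw [map_add, add_smul]

theorem coord_smul_one (i : Fin a) (j : Fin c) (x : B ⊗[R] C) :
    TensorProduct.map ((LinearMap.proj i ∘ₗ ιB).smulRight (1 : B))
      ((LinearMap.proj j ∘ₗ ιC).smulRight (1 : C)) x = algebraMap R (B ⊗[R] C) (coord ιB ιC i j x) := by
  induction x using TensorProduct.induction_on with
  | zero => simp
  | tmul b z =>
    rw [TensorProduct.map_tmul, coord_tmul, LinearMap.smulRight_apply, LinearMap.smulRight_apply,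
      TensorProduct.smul_tmul_smul, Algebra.algebraMap_eq_smul_one,
      Algebra.TensorProduct.one_def]
    rfl
  | add x y hx hy => rw [map_add, hx, hy, map_add, map_add]

/-- two-sided ideals of `B ⊗ C` are extended from the base ring -/
theorem idealsExtended_tensor [Module.Finite R B] [Module.Projective R B] [Module.Finite R C]
    [Module.Projective R C] (hB : LRSurj R B) (hC : LRSurj R C) :
    LGGen.IdealsExtended R (B ⊗[R] C) := by
  classical
  obtain ⟨a, πB, ιB, -, -, hπιB⟩ := Module.Finite.exists_comp_eq_id_of_projective R B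
  obtain ⟨c, πC, ιC, -, -, hπιC⟩ := Module.Finite.exists_comp_eq_id_of_projective R C
  intro I _ x hx
  rw [tensor_expansion πB ιB πC ιC hπιB hπιC x]
  refine Ideal.sum_mem _ fun i _ => Ideal.sum_mem _ fun j _ => ?_
  have hmem : coord ιB ιC i j x ∈ I.comap (algebraMap R (B ⊗[R] C)) := by
    rw [Ideal.mem_comap, ← coord_smul_one]
    exact map_mem hB hC I _ _ hx
  rw [Algebra.smul_def, Algebra.commutes]
  exact Ideal.mul_mem_left _ _ (Ideal.mem_map_of_mem _ hmem)

end Tensor

end Groth.Agent.H92.LGTensor
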