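import Mathlib
import Groth.Agent.H92.LGGen
import Groth.Agent.H92.LGMatrix
import Groth.Agent.H92.LGCorner
import Groth.Agent.H92.LGTensor
import Groth.Agent.H92.LGRankHom

/-!
# Brauer equivalent Azumaya algebras of the same degree over an LG ring are isomorphic (helper92)
-/

set_option autoImplicit false
set_option linter.style.haveILetI false

universe u v w

namespace Groth.Agent.H92.LGBrauer

open TensorProduct Module

variable {R : Type u} [CommRing R]

theorem idealsExtended_self : LGGen.IdealsExtended R R := by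
  intro I _ x hx
  rw [Algebra.algebraMap_self, Ideal.comap_id, Ideal.map_id]
  exact hx

/-- a faithful finitely generated projective module over an LG ring has a unimodular element -/
theorem exists_unimodular (hR : LGRing.IsLGRing R) (P : Type v) [AddCommGroup P] [Module R P]
    [Module.Finite R P] [Module.Projective R P] [FaithfulSMul R P] :
    ∃ (q₀ : P) (φ₀ : P →ₗ[R] R), φ₀ q₀ = 1 := by
  have hrank : ∀ p : PrimeSpectrum R,
      rankAtStalk (ULift.{v} R) p ≤ rankAtStalk (ULift.{u} P) p := by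
    intro p
    rw [congrFun (rankAtStalk_eq_of_equiv (ULift.moduleEquiv (R := R) (M := R))) p,
      congrFun (rankAtStalk_eq_of_equiv (ULift.moduleEquiv (R := R) (M := P))) p]
    haveI : Nontrivial R := p.nontrivial
    rw [rankAtStalk_self]
    exact LGRankHom.rankAtStalk_pos P p
  obtain ⟨u, v, huv⟩ := LGGen.exists_split hR idealsExtended_self (ULift.{u} P) (ULift.{v} R) hrank
  obtain ⟨w, hw⟩ := huv.2 (ULift.up 1)
  refine ⟨(v w).down, ULift.moduleEquiv.toLinearMap ∘ₗ u ∘ₗ ULift.moduleEquiv.symm.toLinearMap, ?_⟩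
  have : u (v w) = ULift.up 1 := hw
  simp only [LinearMap.comp_apply, LinearEquiv.coe_coe]
  change (u (ULift.up (v w).down)).down = 1
  rw [show (ULift.up (v w).down : ULift.{u} P) = v w from rfl, this]

section CornerMaps

variable {A : Type v} [Ring A] [Algebra R A] {P : Type w} [AddCommGroup P] [Module R P]
  (q₀ : P) (φ₀ : P →ₗ[R] R)

/-- the rank one idempotent -/
def eps : Module.End R P := φ₀.smulRight q₀

/-- the functional `h ↦ φ₀ (h q₀)` -/
def evq : Module.End R P →ₗ[R] R := φ₀ ∘ₗ LinearMap.applyₗ q₀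

theorem evq_apply (h : Module.End R P) : evq q₀ φ₀ h = φ₀ (h q₀) := rfl

variable (A) in
/-- `a ↦ a ⊗ ε` -/
def sig : A →ₗ[R] A ⊗[R] Module.End R P := (TensorProduct.mk R A (Module.End R P)).flip (eps q₀ φ₀)

variable (A) in
/-- `a ⊗ h ↦ φ₀ (h q₀) a` -/
def rho : A ⊗[R] Module.End R P →ₗ[R] A :=
  (TensorProduct.rid R A).toLinearMap ∘ₗ LinearMap.lTensor A (evq q₀ φ₀)

theorem sig_apply (a : A) : sig A q₀ φ₀ a = a ⊗ₜ eps q₀ φ₀ := rfl

theorem rho_tmul (a : A) (h : Module.End R P) : rho A q₀ φ₀ (a ⊗ₜ h) = φ₀ (h q₀) • a := by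
  simp [rho, evq_apply]

variable (h0 : φ₀ q₀ = 1)

include h0 in
theorem eps_mul_eps : eps q₀ φ₀ * eps q₀ φ₀ = eps q₀ φ₀ := by
  apply LinearMap.ext
  intro z
  simp [eps, Module.End.mul_apply, h0]

theorem eps_mul_mul_eps (h : Module.End R P) :
    eps q₀ φ₀ * h * eps q₀ φ₀ = evq q₀ φ₀ h • eps q₀ φ₀ := by
  apply LinearMap.ext
  intro z
  simp only [eps, Module.End.mul_apply, LinearMap.smulRight_apply, map_smul, LinearMap.smul_apply,
    evq_apply]
  rw [smul_smul, smul_smul, mul_comm]

include h0 in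
theorem sig_mul (a a' : A) : sig A q₀ φ₀ (a * a') = sig A q₀ φ₀ a * sig A q₀ φ₀ a' := by
  rw [sig_apply, sig_apply, sig_apply, Algebra.TensorProduct.tmul_mul_tmul, eps_mul_eps q₀ φ₀ h0]

include h0 in
theorem rho_sig (a : A) : rho A q₀ φ₀ (sig A q₀ φ₀ a) = a := by
  rw [sig_apply, rho_tmul]
  simp [eps, h0]

theorem sig_rho (Z : A ⊗[R] Module.End R P) :
    sig A q₀ φ₀ (rho A q₀ φ₀ Z) = sig A q₀ φ₀ 1 * Z * sig A q₀ φ₀ 1 := by
  induction Z using TensorProduct.induction_on with
  | zero => simp
  | tmul a h =>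
    rw [rho_tmul, sig_apply, sig_apply, Algebra.TensorProduct.tmul_mul_tmul,
      Algebra.TensorProduct.tmul_mul_tmul, one_mul, mul_one, eps_mul_mul_eps, evq_apply,
      TensorProduct.smul_tmul]
  | add x y hx hy => rw [map_add, map_add, hx, hy, mul_add, add_mul]

end CornerMaps

section EndInstances

variable (Q : Type w) [AddCommGroup Q] [Module R Q] [Module.Finite R Q] [Module.Projective R Q]

theorem finite_end : Module.Finite R (Module.End R Q) :=
  LGAzumaya.finite_hom (R := R) (T := R) (M := Q) (N := Q)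

theorem projective_end : Module.Projective R (Module.End R Q) := by
  obtain ⟨a, π, ι, -, -, hπι⟩ := Module.Finite.exists_comp_eq_id_of_projective R Q
  let i : Module.End R Q →ₗ[R] Module.End R (Fin a → R) :=
    { toFun := fun h => ι ∘ₗ h ∘ₗ π
      map_add' := fun h h' => by
        apply LinearMap.ext
        intro z
        simp
      map_smul' := fun r h => by
        apply LinearMap.ext
        intro z
        simp }
  let s : Module.End R (Fin a → R) →ₗ[R] Module.End R Q :=
    { toFun := fun g => π ∘ₗ g ∘ₗ ι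
      map_add' := fun h h' => by
        apply LinearMap.ext
        intro z
        simp
      map_smul' := fun r h => by
        apply LinearMap.ext
        intro z
        simp }
  refine Module.Projective.of_split i s ?_
  apply LinearMap.ext
  intro h
  apply LinearMap.ext
  intro z
  have hz : ∀ z, π (ι z) = z := fun z => LinearMap.congr_fun hπι z
  simp [i, s, hz]

end EndInstances

section SpanEquiv

variable {T : Type v} [Ring T] [Algebra R T]

/-- a principal left ideal generated by an idempotent, identified through `ev`/`back` -/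
def spanEquivOfRetract {g : T} (hg : IsIdempotentElem g) {W : Type w} [AddCommGroup W] [Module R W]
    (ev : T →ₗ[R] W) (back : W →ₗ[R] T) (h1 : ∀ t, back (ev t) = t * g)
    (h2 : ∀ z, ev (back z) = z) : (Ideal.span {g} : Ideal T) ≃ₗ[R] W where
  toFun := fun z => ev z.1
  map_add' := fun a b => by simp
  map_smul' := fun r a => by simp
  invFun := fun z => ⟨back z, by
    rw [Ideal.mem_span_singleton']
    exact ⟨back z, by rw [← h1, h2]⟩⟩
  left_inv := fun z => by
    apply Subtype.ext
    change back (ev z.1) = z.1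
    rw [h1]
    exact LGMatrix.mul_idem_of_mem hg z.2
  right_inv := fun z => h2 z

/-- transport of principal left ideals along an algebra isomorphism -/
def spanEquivOfAlgEquiv {T' : Type w} [Ring T'] [Algebra R T'] (e : T ≃ₐ[R] T') (E : T) :
    (Ideal.span {E} : Ideal T) ≃ₗ[R] (Ideal.span {e E} : Ideal T') where
  toFun := fun Z => ⟨e Z, by
    obtain ⟨a, ha⟩ := Ideal.mem_span_singleton'.mp Z.2
    rw [Ideal.mem_span_singleton']
    exact ⟨e a, by rw [← map_mul, ha]⟩⟩
  map_add' := fun a b => by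
    apply Subtype.ext
    simp
  map_smul' := fun r a => by
    apply Subtype.ext
    simp
  invFun := fun W => ⟨e.symm W, by
    obtain ⟨a, ha⟩ := Ideal.mem_span_singleton'.mp W.2
    rw [Ideal.mem_span_singleton']
    refine ⟨e.symm a, ?_⟩
    apply e.injective
    rw [map_mul, AlgEquiv.apply_symm_apply, AlgEquiv.apply_symm_apply, ha]⟩
  left_inv := fun Z => by
    apply Subtype.ext
    simp
  right_inv := fun W => by
    apply Subtype.ext
    simp

end SpanEquiv

section Column

variable (A : Type v) [Ring A] [Algebra R A] {P : Type w} [AddCommGroup P] [Module R P]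
  (q₀ : P) (φ₀ : P →ₗ[R] R) (h0 : φ₀ q₀ = 1)

include h0 in
theorem sig_one_idem : IsIdempotentElem (sig A q₀ φ₀ 1) := by
  change sig A q₀ φ₀ 1 * sig A q₀ φ₀ 1 = sig A q₀ φ₀ 1
  rw [← sig_mul q₀ φ₀ h0, one_mul]

/-- the left ideal generated by `1 ⊗ ε` is `A ⊗ P` -/
noncomputable def columnEquiv :
    (Ideal.span {sig A q₀ φ₀ 1} : Ideal (A ⊗[R] Module.End R P)) ≃ₗ[R] A ⊗[R] P :=
  spanEquivOfRetract (sig_one_idem A q₀ φ₀ h0)
    (LinearMap.lTensor A (LinearMap.applyₗ q₀))
    (LinearMap.lTensor A (LinearMap.smulRightₗ φ₀))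
    (by
      intro t
      induction t using TensorProduct.induction_on with
      | zero => simp
      | tmul a h =>
        rw [LinearMap.lTensor_tmul, LinearMap.lTensor_tmul, sig_apply,
          Algebra.TensorProduct.tmul_mul_tmul, mul_one]
        congr 1
        apply LinearMap.ext
        intro z
        simp [eps, Module.End.mul_apply]
      | add x y hx hy => rw [map_add, map_add, hx, hy, add_mul])
    (by
      intro z
      induction z using TensorProduct.induction_on with
      | zero => simp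
      | tmul a q =>
        rw [LinearMap.lTensor_tmul, LinearMap.lTensor_tmul]
        simp [h0]
      | add x y hx hy => rw [map_add, map_add, hx, hy])

end Column

section Main

/-- **Brauer equivalent Azumaya algebras of the same degree over an LG ring are isomorphic.** -/
theorem brauer_cancel (hR : LGRing.IsLGRing R) (A B : Type v) [Ring A] [Algebra R A]
    [IsAzumaya R A] [Ring B] [Algebra R B] [IsAzumaya R B]
    (hdeg : ∀ p : PrimeSpectrum R, rankAtStalk A p = rankAtStalk B p)
    (P Q : Type w) [AddCommGroup P] [Module R P] [Module.Finite R P] [Module.Projective R P]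
    [FaithfulSMul R P] [AddCommGroup Q] [Module R Q] [Module.Finite R Q] [Module.Projective R Q]
    [FaithfulSMul R Q]
    (e : A ⊗[R] Module.End R P ≃ₐ[R] B ⊗[R] Module.End R Q) : Nonempty (A ≃ₐ[R] B) := by
  obtain ⟨q₀, φ₀, h0⟩ := exists_unimodular hR P
  obtain ⟨q₁, φ₁, h1⟩ := exists_unimodular hR Q
  haveI : Module.Finite R (Module.End R P) := finite_end P
  haveI : Module.Projective R (Module.End R P) := projective_end P
  haveI : Module.Finite R (Module.End R Q) := finite_end Q
  haveI : Module.Projective R (Module.End R Q) := projective_end Q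
  -- faithfulness of `T = B ⊗ End Q`
  haveI : FaithfulSMul R (B ⊗[R] Module.End R Q) := by
    refine ⟨fun {r s} hrs => ?_⟩
    apply FaithfulSMul.algebraMap_injective R B
    have h := congrArg (rho B q₁ φ₁) (hrs ((1 : B) ⊗ₜ[R] (1 : Module.End R Q)))
    rw [map_smul, map_smul, rho_tmul] at h
    simpa [h1, Algebra.algebraMap_eq_smul_one] using h
  have hT : LGGen.IdealsExtended R (B ⊗[R] Module.End R Q) :=
    LGTensor.idealsExtended_tensor (LGTensor.lrSurj_of_isAzumaya B) LGTensor.lrSurj_end
  -- the idempotents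
  have hE : IsIdempotentElem (sig A q₀ φ₀ 1) := sig_one_idem A q₀ φ₀ h0
  have hg : IsIdempotentElem (sig B q₁ φ₁ 1) := sig_one_idem B q₁ φ₁ h1
  have hf : IsIdempotentElem (e (sig A q₀ φ₀ 1)) := hE.map e
  haveI := LGMatrix.finite_span (e (sig A q₀ φ₀ 1))
  haveI := LGMatrix.finite_span (sig B q₁ φ₁ 1)
  haveI := LGMatrix.projective_span hf
  haveI := LGMatrix.projective_span hg
  -- ranks
  have hPQ : ∀ p : PrimeSpectrum R, rankAtStalk P p = rankAtStalk Q p := by
    intro p
    have h2 := congrFun (rankAtStalk_eq_of_equiv e.toLinearEquiv) p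
    rw [rankAtStalk_tensorProduct, rankAtStalk_tensorProduct, Pi.mul_apply, Pi.mul_apply,
      LGRankHom.rankAtStalk_linearMap, LGRankHom.rankAtStalk_linearMap, hdeg] at h2
    have hpos : 0 < rankAtStalk B p := LGRankHom.rankAtStalk_pos B p
    have h3 := Nat.eq_of_mul_eq_mul_left hpos h2
    exact Nat.mul_self_inj.mp h3
  have hrank : ∀ p : PrimeSpectrum R,
      rankAtStalk (Ideal.span {sig B q₁ φ₁ 1} : Ideal (B ⊗[R] Module.End R Q)) p =
        rankAtStalk (Ideal.span {e (sig A q₀ φ₀ 1)} : Ideal (B ⊗[R] Module.End R Q)) p := by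
    intro p
    have r1 : rankAtStalk (Ideal.span {sig B q₁ φ₁ 1} : Ideal (B ⊗[R] Module.End R Q)) p =
        rankAtStalk (B ⊗[R] Q) p :=
      congrFun (rankAtStalk_eq_of_equiv (columnEquiv B q₁ φ₁ h1)) p
    have r2 : rankAtStalk (Ideal.span {sig A q₀ φ₀ 1} : Ideal (A ⊗[R] Module.End R P)) p =
        rankAtStalk (Ideal.span {e (sig A q₀ φ₀ 1)} : Ideal (B ⊗[R] Module.End R Q)) p :=
      congrFun (rankAtStalk_eq_of_equiv (spanEquivOfAlgEquiv e (sig A q₀ φ₀ 1))) p
    have r3 : rankAtStalk (Ideal.span {sig A q₀ φ₀ 1} : Ideal (A ⊗[R] Module.End R P)) p =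
        rankAtStalk (A ⊗[R] P) p :=
      congrFun (rankAtStalk_eq_of_equiv (columnEquiv A q₀ φ₀ h0)) p
    rw [r1, ← r2, r3, rankAtStalk_tensorProduct, rankAtStalk_tensorProduct, Pi.mul_apply,
      Pi.mul_apply, hdeg, hPQ]
  obtain ⟨θ⟩ := LGGen.exists_equiv hR hT
    (Ideal.span {e (sig A q₀ φ₀ 1)} : Ideal (B ⊗[R] Module.End R Q))
    (Ideal.span {sig B q₁ φ₁ 1} : Ideal (B ⊗[R] Module.End R Q)) hrank
  obtain ⟨x, y, k1, k2, k3, k4, k5, k6⟩ := LGMatrix.exists_linking hf hg θ
  exact LGCorner.nonempty_algEquiv e (sig A q₀ φ₀) (rho A q₀ φ₀) (sig B q₁ φ₁) (rho B q₁ φ₁) x y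
    (sig_mul q₀ φ₀ h0) (rho_sig q₀ φ₀ h0) (sig_rho q₀ φ₀)
    (sig_mul q₁ φ₁ h1) (rho_sig q₁ φ₁ h1) (sig_rho q₁ φ₁) k1 k2 k3 k4 k5 k6

end Main

end Groth.Agent.H92.LGBrauer
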