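import Mathlib
import Groth.Agent.H92.LGAzumaya

/-!
# Indecomposable projective modules over an Azumaya algebra over a connected LG ring (helper92)
-/

set_option autoImplicit false
set_option linter.style.haveILetI false

universe u v w

namespace Groth.Agent.H92.LGIndec

variable {R : Type u} [CommRing R] {A : Type v} [Ring A] [Algebra R A] [IsAzumaya R A]

/-- if `rank N ≤ rank M`, `M` is indecomposable and `N ≠ 0`, then `M ≃ N` -/
theorem equiv_of_rank_le (hR : LGRing.IsLGRing R)
    (M N : Type w) [AddCommGroup M] [Module A M] [Module R M] [IsScalarTower R A M]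
    [Module.Finite A M] [Module.Projective A M] [AddCommGroup N] [Module A N] [Module R N]
    [IsScalarTower R A N] [Module.Finite A N] [Module.Projective A N] [Nontrivial N]
    (h : ∀ p : PrimeSpectrum R, Module.rankAtStalk N p ≤ Module.rankAtStalk M p)
    (hM : ∀ e : Module.End A M, IsIdempotentElem e → e = 0 ∨ e = 1) :
    Nonempty (M ≃ₗ[A] N) := by
  obtain ⟨u, v, huv⟩ := LGAzumaya.exists_split (A := A) hR M N h
  let w : N ≃ₗ[A] N := LinearEquiv.ofBijective (u ∘ₗ v) huv
  let v' : N →ₗ[A] M := v ∘ₗ w.symm.toLinearMap
  have huv' : u ∘ₗ v' = LinearMap.id := by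
    apply LinearMap.ext
    intro n
    change (u ∘ₗ v) (w.symm n) = n
    exact w.apply_symm_apply n
  have huv'' : ∀ n, u (v' n) = n := fun n => LinearMap.congr_fun huv' n
  have hidem : IsIdempotentElem (v' ∘ₗ u : Module.End A M) := by
    change (v' ∘ₗ u) * (v' ∘ₗ u) = v' ∘ₗ u
    apply LinearMap.ext
    intro x
    simp only [Module.End.mul_apply, LinearMap.comp_apply]
    rw [huv'']
  rcases hM _ hidem with h0 | h1
  · exfalso
    obtain ⟨n, hn⟩ := exists_ne (0 : N)
    apply hn
    have := LinearMap.congr_fun h0 (v' n)
    simp only [LinearMap.comp_apply, LinearMap.zero_apply] at this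
    rw [huv''] at this
    have h2 := congrArg u this
    rwa [huv'', map_zero] at h2
  · exact ⟨LinearEquiv.ofLinearMap u v' huv' h1⟩

/-- two indecomposable finitely generated projective modules are isomorphic -/
theorem equiv_of_indec (hR : LGRing.IsLGRing R) [ConnectedSpace (PrimeSpectrum R)]
    (P Q : Type w) [AddCommGroup P] [Module A P] [Module.Finite A P] [Module.Projective A P]
    [Nontrivial P] [AddCommGroup Q] [Module A Q] [Module.Finite A Q] [Module.Projective A Q]
    [Nontrivial Q]
    (hP : ∀ e : Module.End A P, IsIdempotentElem e → e = 0 ∨ e = 1)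
    (hQ : ∀ e : Module.End A Q, IsIdempotentElem e → e = 0 ∨ e = 1) : Nonempty (P ≃ₗ[A] Q) := by
  letI : Module R P := Module.compHom P (algebraMap R A)
  letI : Module R Q := Module.compHom Q (algebraMap R A)
  haveI : IsScalarTower R A P := ⟨fun r a x => by
    change (r • a) • x = algebraMap R A r • (a • x)
    rw [Algebra.smul_def, mul_smul]⟩
  haveI : IsScalarTower R A Q := ⟨fun r a x => by
    change (r • a) • x = algebraMap R A r • (a • x)
    rw [Algebra.smul_def, mul_smul]⟩
  haveI : Module.Finite R P := Module.Finite.trans A P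
  haveI : Module.Finite R Q := Module.Finite.trans A Q
  haveI : Module.Projective R P := LGAzumaya.projective_trans R A P
  haveI : Module.Projective R Q := LGAzumaya.projective_trans R A Q
  haveI : Module.FinitePresentation R P := Module.finitePresentation_of_projective R P
  haveI : Module.FinitePresentation R Q := Module.finitePresentation_of_projective R Q
  have hcP : IsLocallyConstant (Module.rankAtStalk (R := R) P) :=
    Module.isLocallyConstant_rankAtStalk
  have hcQ : IsLocallyConstant (Module.rankAtStalk (R := R) Q) :=
    Module.isLocallyConstant_rankAtStalk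
  obtain ⟨p₀⟩ := (inferInstance : Nonempty (PrimeSpectrum R))
  rcases le_total (Module.rankAtStalk Q p₀) (Module.rankAtStalk P p₀) with hle | hle
  · apply equiv_of_rank_le hR P Q _ hP
    intro p
    rw [hcP.apply_eq_of_preconnectedSpace p p₀, hcQ.apply_eq_of_preconnectedSpace p p₀]
    exact hle
  · obtain ⟨e⟩ := equiv_of_rank_le hR Q P (by
      intro p
      rw [hcP.apply_eq_of_preconnectedSpace p p₀, hcQ.apply_eq_of_preconnectedSpace p p₀]
      exact hle) hQ
    exact ⟨e.symm⟩

end Groth.Agent.H92.LGIndec
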