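import Mathlib
import Groth.Agent.H92.LGBrauer

/-!
# Tensor cancellation of Azumaya algebras over an LG ring (helper92)
-/

set_option autoImplicit false
set_option linter.style.haveILetI false

universe u v

namespace Groth.Agent.H92.LGTensorCancel

open TensorProduct Module MulOpposite

variable {R : Type u} [CommRing R]

theorem tensor_cancel (hR : LGRing.IsLGRing R) (A B C : Type v) [Ring A] [Algebra R A]
    [IsAzumaya R A] [Ring B] [Algebra R B] [IsAzumaya R B] [Ring C] [Algebra R C] [IsAzumaya R C]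
    (e : A ⊗[R] C ≃ₐ[R] B ⊗[R] C) : Nonempty (A ≃ₐ[R] B) := by
  let μ : C ⊗[R] Cᵐᵒᵖ ≃ₐ[R] Module.End R C :=
    AlgEquiv.ofBijective (AlgHom.mulLeftRight R C) (IsAzumaya.bij (R := R) (A := C))
  let e' : A ⊗[R] Module.End R C ≃ₐ[R] B ⊗[R] Module.End R C :=
    (Algebra.TensorProduct.congr (AlgEquiv.refl : A ≃ₐ[R] A) μ.symm).trans
      ((Algebra.TensorProduct.assoc R R R A C Cᵐᵒᵖ).symm.trans
        ((Algebra.TensorProduct.congr e (AlgEquiv.refl : Cᵐᵒᵖ ≃ₐ[R] Cᵐᵒᵖ)).trans
          ((Algebra.TensorProduct.assoc R R R B C Cᵐᵒᵖ).trans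
            (Algebra.TensorProduct.congr (AlgEquiv.refl : B ≃ₐ[R] B) μ))))
  have hdeg : ∀ p : PrimeSpectrum R, rankAtStalk A p = rankAtStalk B p := by
    intro p
    have h2 := congrFun (rankAtStalk_eq_of_equiv e.toLinearEquiv) p
    rw [rankAtStalk_tensorProduct, rankAtStalk_tensorProduct, Pi.mul_apply, Pi.mul_apply] at h2
    have hpos : 0 < rankAtStalk C p := LGRankHom.rankAtStalk_pos C p
    exact Nat.eq_of_mul_eq_mul_right hpos h2
  exact LGBrauer.brauer_cancel hR A B hdeg C C e'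

end Groth.Agent.H92.LGTensorCancel
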