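import Mathlib.Topology.Algebra.LinearTopology
import Mathlib.Topology.Algebra.Module.Basic
import Mathlib.LinearAlgebra.Basis.VectorSpace

set_option autoImplicit false

namespace Groth.Agent.H92

universe u v

variable {k : Type u} {M : Type v} [Field k] [TopologicalSpace k] [DiscreteTopology k]
  [AddCommGroup M] [Module k M] [TopologicalSpace M] [IsTopologicalAddGroup M]

/-- A linear functional to a discrete field whose kernel contains an open submodule is
continuous. -/
theorem continuous_of_open_le_ker (f : M →ₗ[k] k) (U : Submodule k M)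
    (hU : IsOpen (U : Set M)) (hUf : U ≤ LinearMap.ker f) : Continuous f := by
  refine continuous_of_continuousAt_zero f ?_
  rw [ContinuousAt, map_zero, nhds_discrete k, Filter.tendsto_pure]
  have : (U : Set M) ∈ nhds (0 : M) := hU.mem_nhds (zero_mem U)
  filter_upwards [this] with y hy
  exact hUf hy

variable [IsLinearTopology k M]

omit [TopologicalSpace k] [DiscreteTopology k] in
/-- A point outside a closed submodule is outside the sum of that submodule and some open
submodule. -/
theorem exists_open_submodule_notMem_sup (M₁ : Submodule k M) (hM₁ : IsClosed (M₁ : Set M))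
    (x : M) (hx : x ∉ M₁) :
    ∃ U : Submodule k M, IsOpen (U : Set M) ∧ x ∉ M₁ ⊔ U := by
  have hopen : IsOpen ((M₁ : Set M)ᶜ) := hM₁.isOpen_compl
  have hmem : (fun u : M => x + u) ⁻¹' ((M₁ : Set M)ᶜ) ∈ nhds (0 : M) := by
    have hc : ContinuousAt (fun u : M => x + u) 0 := (continuous_const.add continuous_id).continuousAt
    apply hc
    simp only [add_zero]
    exact hopen.mem_nhds hx
  obtain ⟨U, hU, hUsub⟩ := (IsLinearTopology.hasBasis_open_submodule k (M := M)).mem_iff.mp hmem
  refine ⟨U, hU, ?_⟩
  intro hxs
  obtain ⟨m, hm, u, hu, hmu⟩ := Submodule.mem_sup.mp hxs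
  have h1 : -u ∈ (U : Set M) := U.neg_mem hu
  have h2 := hUsub h1
  simp only [Set.mem_preimage, Set.mem_compl_iff, SetLike.mem_coe] at h2
  apply h2
  have : x + -u = m := by rw [← hmu]; abel
  rw [this]
  exact hm

end Groth.Agent.H92
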