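import Mathlib

/-!
# Finite projective modules of rank one are locally cyclic (elementwise form)
-/

set_option autoImplicit false
universe u v

namespace Groth.Agent.H92.LocCyclic

variable {R : Type u} [CommRing R] {M : Type v} [AddCommGroup M] [Module R M]

/-- an element killed, at every maximal ideal, by something outside it, is zero -/
theorem eq_zero_of_forall_maximal (y : M)
    (h : ∀ 𝔪 : Ideal R, 𝔪.IsMaximal → ∃ s : R, s ∉ 𝔪 ∧ s • y = 0) : y = 0 := by
  by_contra hy
  have hne : Ideal.torsionOf R M y ≠ ⊤ := by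
    intro htop
    apply hy
    have : (1 : R) ∈ Ideal.torsionOf R M y := by rw [htop]; trivial
    simpa using this
  obtain ⟨𝔪, h𝔪, hle⟩ := Ideal.exists_le_maximal _ hne
  obtain ⟨s, hs, hsy⟩ := h 𝔪 h𝔪
  exact hs (hle ((Ideal.mem_torsionOf_iff y s).mpr hsy))

attribute [local instance] Module.free_of_flat_of_isLocalRing

/-- a finite flat module of rank one at `q` is generated near `q` by one element, freely -/
theorem exists_local_generator [Module.Finite R M] [Module.Flat R M] (q : PrimeSpectrum R)
    (hq : Module.rankAtStalk M q = 1) :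
    ∃ g : M, (∀ x : M, ∃ s : R, s ∉ q.asIdeal ∧ ∃ c : R, s • x = c • g) ∧
      (∀ c : R, c • g = 0 → ∃ s : R, s ∉ q.asIdeal ∧ s * c = 0) := by
  let S := q.asIdeal.primeCompl
  let Rq := Localization.AtPrime q.asIdeal
  let Mq := LocalizedModule S M
  have hfr : Module.finrank Rq Mq = 1 := hq
  let b : Module.Basis (Fin 1) Rq Mq := Module.finBasisOfFinrankEq Rq Mq hfr
  obtain ⟨⟨g, t⟩, hgt⟩ : ∃ gt : M × S, LocalizedModule.mk gt.1 gt.2 = b 0 := by
    induction h : b 0 using LocalizedModule.induction_on with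
    | _ m s => exact ⟨⟨m, s⟩, rfl⟩
  simp only at hgt
  refine ⟨g, ?_, ?_⟩
  · intro x
    -- `mk x 1 = c • b 0`
    have hx : LocalizedModule.mk x (1 : S) = (b.repr (LocalizedModule.mk x (1 : S)) 0) • b 0 := by
      conv_lhs => rw [← b.sum_repr (LocalizedModule.mk x (1 : S))]
      simp
    obtain ⟨⟨c', t'⟩, hc⟩ := IsLocalization.mk'_surjective S (b.repr (LocalizedModule.mk x (1 : S)) 0)
    simp only at hc
    rw [← hc, ← hgt, ← Localization.mk_eq_mk', LocalizedModule.mk_smul_mk, LocalizedModule.mk_eq] at hx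
    obtain ⟨w, hw⟩ := hx
    refine ⟨(w : R) * ((t' : R) * (t : R)), ?_, (w : R) * c', ?_⟩
    · exact (w * (t' * t)).2
    · simp only [Submonoid.smul_def, Submonoid.coe_mul, Submonoid.coe_one, one_smul] at hw
      rw [mul_smul, hw, mul_smul]
  · intro c hc
    have h1 : (algebraMap R Rq c) • b 0 = 0 := by
      rw [← hgt, ← Localization.mk_one_eq_algebraMap, LocalizedModule.mk_smul_mk, hc,
        LocalizedModule.zero_mk]
    have h2 : algebraMap R Rq c = 0 := by
      have := congrArg (fun y => b.repr y 0) h1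
      simp only [map_smul, Module.Basis.repr_self, Finsupp.smul_apply, Finsupp.single_eq_same,
        smul_eq_mul, mul_one, map_zero, Finsupp.zero_apply] at this
      exact this
    rw [IsLocalization.map_eq_zero_iff S] at h2
    obtain ⟨s, hs⟩ := h2
    exact ⟨s, s.2, hs⟩

end Groth.Agent.H92.LocCyclic
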