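import Groth.Prelude.Def_W4c5suslinpi1abAdj

set_option autoImplicit false

namespace Groth.Agent.H92.MonAdj

universe v u

open CategoryTheory MonoidalCategory Functor.LaxMonoidal Functor.OplaxMonoidal W4c5suslinpi1ab

variable {C : Type u} [Category.{v} C] [MonoidalCategory C]
variable {D : Type u} [Category.{v} D] [MonoidalCategory D]

@[reassoc]
theorem map_homEquiv_counit {C' : Type*} [Category C'] {D' : Type*} [Category D']
    {L : C' ⥤ D'} {R : D' ⥤ C'} (adj : L ⊣ R) {X : C'} {Y : D'}
    (g : L.obj X ⟶ Y) : L.map (adj.homEquiv X Y g) ≫ adj.counit.app Y = g :=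
  (adj.homEquiv_counit X Y _).symm.trans (Equiv.symm_apply_apply _ _)

section

variable {L : C ⥤ D} {R : D ⥤ C} (adj : L ⊣ R) [L.OplaxMonoidal] [R.LaxMonoidal] [adj.IsMonoidal]

@[reassoc]
theorem map_projR_counit (A : D) (B : C) :
    L.map (projR adj A B) ≫ adj.counit.app (A ⊗ L.obj B) =
      δ L (R.obj A) B ≫ (adj.counit.app A ▷ L.obj B) := by
  unfold projR
  have h := δ_natural_right L (R.obj A) (adj.unit.app B)
  dsimp at h
  rw [Functor.map_comp, Category.assoc, adj.map_μ_comp_counit_app_tensor, ← Category.assoc, ← h,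
    Category.assoc]
  congr 1
  rw [tensorHom_def', ← MonoidalCategory.whiskerLeft_comp_assoc, adj.left_triangle_components]
  simp

@[reassoc]
theorem map_projL_counit (A : C) (B : D) :
    L.map (projL adj A B) ≫ adj.counit.app (L.obj A ⊗ B) =
      δ L A (R.obj B) ≫ (L.obj A ◁ adj.counit.app B) := by
  unfold projL
  have h := δ_natural_left L (adj.unit.app A) (R.obj B)
  dsimp at h
  rw [Functor.map_comp, Category.assoc, adj.map_μ_comp_counit_app_tensor, ← Category.assoc, ← h,
    Category.assoc]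
  congr 1
  rw [tensorHom_def, ← MonoidalCategory.comp_whiskerRight_assoc, adj.left_triangle_components]
  simp

end

section

variable {L : C ⥤ D} {R : D ⥤ C} (adj : L ⊣ R) [R.LaxMonoidal]

/-- naturality of `projR` in the second variable -/
@[reassoc]
theorem projR_natural_right (A : D) {B' B : C} (h : B' ⟶ B) :
    (R.obj A ◁ h) ≫ projR adj A B = projR adj A B' ≫ R.map (A ◁ L.map h) := by
  unfold projR
  have h1 := μ_natural_right R A (L.map h)
  have h2 := adj.unit.naturality h
  dsimp at h1 h2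
  rw [Category.assoc, ← h1, ← MonoidalCategory.whiskerLeft_comp_assoc,
    ← MonoidalCategory.whiskerLeft_comp_assoc, h2]

/-- naturality of `projR` in the first variable -/
@[reassoc]
theorem projR_natural_left {A' A : D} (k : A' ⟶ A) (B : C) :
    (R.map k ▷ B) ≫ projR adj A B = projR adj A' B ≫ R.map (k ▷ L.obj B) := by
  unfold projR
  have h1 := μ_natural_left R k (L.obj B)
  rw [Category.assoc, ← h1, ← whisker_exchange_assoc]
  rfl

/-- naturality of `projL` in the second variable -/
@[reassoc]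
theorem projL_natural_right (A : C) {B' B : D} (k : B' ⟶ B) :
    (A ◁ R.map k) ≫ projL adj A B = projL adj A B' ≫ R.map (L.obj A ◁ k) := by
  unfold projL
  have h1 := μ_natural_right R (L.obj A) k
  rw [Category.assoc, ← h1, whisker_exchange_assoc]
  rfl

/-- naturality of `projL` in the first variable -/
@[reassoc]
theorem projL_natural_left {A' A : C} (h : A' ⟶ A) (B : D) :
    (h ▷ R.obj B) ≫ projL adj A B = projL adj A' B ≫ R.map (L.map h ▷ B) := by
  unfold projL
  have h1 := μ_natural_left R (L.map h) B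
  have h2 := adj.unit.naturality h
  dsimp at h1 h2
  rw [Category.assoc, ← h1, ← MonoidalCategory.comp_whiskerRight_assoc,
    ← MonoidalCategory.comp_whiskerRight_assoc, h2]

variable {S : C ⥤ D} (adj' : R ⊣ S) [∀ (A : D) (B : C), IsIso (projR adj A B)]

/-- naturality of `cupShriek` in the second variable -/
@[reassoc]
theorem cupShriek_natural_right (A : C) {B' B : C} (h : B' ⟶ B) :
    cupShriek adj adj' A B' ≫ S.map (A ◁ h) = (S.obj A ◁ L.map h) ≫ cupShriek adj adj' A B := by
  unfold cupShriek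
  rw [← Adjunction.homEquiv_naturality_right, ← Adjunction.homEquiv_naturality_left]
  congr 1
  have n := projR_natural_right adj (S.obj A) h
  have e : inv (projR adj (S.obj A) B') ≫ (R.obj (S.obj A) ◁ h) =
      R.map (S.obj A ◁ L.map h) ≫ inv (projR adj (S.obj A) B) := by
    rw [IsIso.inv_comp_eq, ← Category.assoc, IsIso.eq_comp_inv, n]
  rw [Category.assoc, ← reassoc_of% e]
  congr 1
  exact (whisker_exchange _ _).symm

theorem map_cupShriek_counit (A B : C) :
    R.map (cupShriek adj adj' A B) ≫ adj'.counit.app (A ⊗ B) =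
      inv (projR adj (S.obj A) B) ≫ (adj'.counit.app A ▷ B) := by
  unfold cupShriek
  exact map_homEquiv_counit adj' _

end

section Square

variable {S₀ : Type u} [Category.{v} S₀] [MonoidalCategory S₀]
variable {Y₁ : Type u} [Category.{v} Y₁] [MonoidalCategory Y₁]
variable {Y₂ : Type u} [Category.{v} Y₂] [MonoidalCategory Y₂]
variable {X : Type u} [Category.{v} X] [MonoidalCategory X]
variable {fL : S₀ ⥤ Y₁} {fR : Y₁ ⥤ S₀} {gR : Y₂ ⥤ S₀}
variable {pL : Y₁ ⥤ X} {pR : X ⥤ Y₁} {qL : Y₂ ⥤ X} {qR : X ⥤ Y₂}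
variable (adjf : fL ⊣ fR) (adjp : pL ⊣ pR) (adjq : qL ⊣ qR) [fR.LaxMonoidal] [pR.LaxMonoidal]
  (ν : qR ⋙ gR ⟶ pR ⋙ fR)

@[reassoc]
theorem extProd_natural_left {A' A : Y₁} (a : A' ⟶ A) (B : Y₂) :
    (fR.map a ▷ gR.obj B) ≫ extProd adjf adjp adjq ν A B =
      extProd adjf adjp adjq ν A' B ≫ fR.map (pR.map (pL.map a ▷ qL.obj B)) := by
  unfold extProd
  have n1 := projR_natural_left adjf a (gR.obj B)
  have n2 := projL_natural_left adjp a (qL.obj B)
  have n3 : (a ▷ fL.obj (gR.obj B)) ≫ (A ◁ (bcMor adjf adjq ν).app B) =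
      (A' ◁ (bcMor adjf adjq ν).app B) ≫ (a ▷ pR.obj (qL.obj B)) :=
    (whisker_exchange _ _).symm
  rw [reassoc_of% n1, ← fR.map_comp_assoc, n3, fR.map_comp_assoc, ← fR.map_comp, n2, fR.map_comp]
  simp only [Category.assoc]

@[reassoc]
theorem extProd_natural_right (A : Y₁) {B' B : Y₂} (b : B' ⟶ B) :
    (fR.obj A ◁ gR.map b) ≫ extProd adjf adjp adjq ν A B =
      extProd adjf adjp adjq ν A B' ≫ fR.map (pR.map (pL.obj A ◁ qL.map b)) := by
  unfold extProd
  have n1 := projR_natural_right adjf A (gR.map b)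
  have n2 := projL_natural_right adjp A (qL.map b)
  have n3 : fL.map (gR.map b) ≫ (bcMor adjf adjq ν).app B =
      (bcMor adjf adjq ν).app B' ≫ pR.map (qL.map b) := (bcMor adjf adjq ν).naturality b
  rw [reassoc_of% n1, ← fR.map_comp_assoc, ← MonoidalCategory.whiskerLeft_comp, n3,
    MonoidalCategory.whiskerLeft_comp, fR.map_comp_assoc, ← fR.map_comp, n2, fR.map_comp]
  simp only [Category.assoc]

@[reassoc]
theorem extProd_natural {A' A : Y₁} (a : A' ⟶ A) {B' B : Y₂} (b : B' ⟶ B) :
    (fR.map a ⊗ₘ gR.map b) ≫ extProd adjf adjp adjq ν A B =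
      extProd adjf adjp adjq ν A' B' ≫ fR.map (pR.map (pL.map a ⊗ₘ qL.map b)) := by
  rw [tensorHom_def, Category.assoc, extProd_natural_right, extProd_natural_left_assoc,
    ← fR.map_comp, ← pR.map_comp, ← tensorHom_def]

theorem isIso_extProd [∀ (A : Y₁) (B : S₀), IsIso (projR adjf A B)]
    [∀ (A : Y₁) (B : X), IsIso (projL adjp A B)]
    [∀ B : Y₂, IsIso ((bcMor adjf adjq ν).app B)] (A : Y₁) (B : Y₂) :
    IsIso (extProd adjf adjp adjq ν A B) := by
  unfold extProd
  infer_instance

end Square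

end Groth.Agent.H92.MonAdj
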