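import Mathlib.LinearAlgebra.Matrix.Transvection
import Mathlib.LinearAlgebra.Matrix.Permutation
import Mathlib.Algebra.MvPolynomial.Funext
import Mathlib.Algebra.MvPolynomial.Polynomial
import Mathlib.RingTheory.Polynomial.Basic
import Mathlib.FieldTheory.IsAlgClosed.Basic
import Mathlib.Tactic

set_option autoImplicit false

namespace Groth.Agent.H92.MultPoly

open Polynomial Matrix

section poly

variable {F : Type*} [Field F] [Infinite F]

/-- A multiplicative polynomial function in one variable is a monomial `t ^ m`. -/
theorem eval_eq_pow_of_mul (P : F[X]) (hmul : ∀ s t : F, P.eval (s * t) = P.eval s * P.eval t)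
    (h1 : P.eval 1 = 1) : ∃ m : ℕ, ∀ t : F, P.eval t = t ^ m := by
  have hP : P ≠ 0 := by
    rintro rfl
    simp at h1
  refine ⟨P.natDegree, fun s => ?_⟩
  have hQ : P.comp (C s * X) = C (P.eval s) * P := by
    apply Polynomial.funext
    intro t
    simp [hmul]
  have := congrArg (fun Q => Q.coeff P.natDegree) hQ
  simp only [comp_C_mul_X_coeff, coeff_C_mul] at this
  have hlc : P.coeff P.natDegree ≠ 0 := by
    rw [coeff_natDegree]; exact leadingCoeff_ne_zero.mpr hP
  have h2 : P.coeff P.natDegree * (s ^ P.natDegree - P.eval s) = 0 := by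
    rw [mul_sub, this]; ring
  rcases mul_eq_zero.mp h2 with h | h
  · exact absurd h hlc
  · exact (sub_eq_zero.mp h).symm

omit [Infinite F] in
theorem eval_aeval {σ : Type*} (g : σ → F[X]) (N : MvPolynomial σ F) (t : F) :
    Polynomial.eval t (MvPolynomial.aeval g N) =
      MvPolynomial.eval (fun a => Polynomial.eval t (g a)) N := by
  induction N using MvPolynomial.induction_on with
  | C a => simp
  | add p q hp hq => simp [hp, hq]
  | mul_X p i hp => simp [hp]

end poly

section main

variable {F : Type*} [Field F] {n : ℕ} (N : MvPolynomial (Fin n × Fin n) F)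

/-- the polynomial function on matrices defined by `N` -/
noncomputable def ν (x : Matrix (Fin n) (Fin n) F) : F :=
  MvPolynomial.eval (fun ij : Fin n × Fin n => x ij.1 ij.2) N

variable {N}

section
variable [Infinite F] (hN : N ≠ 0) (hmul : ∀ x y : Matrix (Fin n) (Fin n) F, ν N (x * y) = ν N x * ν N y)
include hN hmul

theorem ν_one : ν N 1 = 1 := by
  have h := hmul 1 1
  rw [one_mul] at h
  by_contra h1
  have h0 : ν N 1 = 0 := by
    have : ν N 1 * (ν N 1 - 1) = 0 := by rw [mul_sub, ← h]; ring
    rcases mul_eq_zero.mp this with h | h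
    · exact h
    · exact absurd (sub_eq_zero.mp h) h1
  apply hN
  apply MvPolynomial.funext
  intro v
  have := hmul (Matrix.of fun i j => v (i, j)) 1
  rw [mul_one, h0, mul_zero] at this
  simpa [ν] using this

theorem ν_ne_zero_of_mul_eq_one {x y : Matrix (Fin n) (Fin n) F} (h : x * y = 1) : ν N x ≠ 0 := by
  intro h0
  have := hmul x y
  rw [h, ν_one hN hmul, h0, zero_mul] at this
  exact one_ne_zero this

theorem ν_transvection [CharZero F] (i j : Fin n) (hij : i ≠ j) (c : F) :
    ν N (transvection i j c) = 1 := by
  set D : Matrix (Fin n) (Fin n) F := diagonal (Function.update (fun _ => (1 : F)) i 2) with hD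
  set D' : Matrix (Fin n) (Fin n) F := diagonal (Function.update (fun _ => (1 : F)) i 2⁻¹) with hD'
  have hDD' : D * D' = 1 := by
    rw [hD, hD', diagonal_mul_diagonal, ← diagonal_one]
    congr 1
    funext k
    by_cases hk : k = i
    · subst hk; simp
    · simp [Function.update_of_ne hk]
  have hcomm : D * transvection i j c = transvection i j (2 * c) * D := by
    ext a b
    simp only [hD, transvection, Matrix.add_apply, diagonal_mul, mul_diagonal, Matrix.single_apply]
    by_cases hab : a = b
    · subst hab
      have : ¬ (i = a ∧ j = a) := fun h => hij (h.1.trans h.2.symm)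
      simp [this]
    · by_cases h : i = a ∧ j = b
      · obtain ⟨rfl, rfl⟩ := h
        simp [hab, Function.update_of_ne hij.symm]
      · simp [hab, h]
  have hT2 : transvection i j (2 * c) = transvection i j c * transvection i j c := by
    rw [transvection_mul_transvection_same _ _ hij, two_mul]
  have hTinv : transvection i j c * transvection i j (-c) = 1 := by
    rw [transvection_mul_transvection_same _ _ hij, add_neg_cancel, transvection_zero]
  have hνD : ν N D ≠ 0 := ν_ne_zero_of_mul_eq_one hN hmul hDD'
  have hνT : ν N (transvection i j c) ≠ 0 := ν_ne_zero_of_mul_eq_one hN hmul hTinv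
  have e := congrArg (ν N) hcomm
  rw [hmul, hmul, hT2, hmul] at e
  -- e : ν D * ν T = ν T * ν T * ν D
  have e' : ν N D * ν N (transvection i j c) * (1 - ν N (transvection i j c)) = 0 := by
    linear_combination e
  rcases mul_eq_zero.mp e' with h | h
  · exact absurd h (mul_ne_zero hνD hνT)
  · exact (sub_eq_zero.mp h).symm

/-- the one-variable polynomial `t ↦ ν (diag(1,…,t,…,1))` -/
noncomputable def diagPoly (N : MvPolynomial (Fin n × Fin n) F) (i : Fin n) : F[X] :=
  MvPolynomial.aeval (fun ab : Fin n × Fin n =>
    if ab.1 = ab.2 then (if ab.1 = i then (X : F[X]) else 1) else 0) N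

omit [Infinite F] hN hmul in
theorem eval_diagPoly (i : Fin n) (t : F) :
    (diagPoly N i).eval t = ν N (diagonal (Function.update (fun _ => (1 : F)) i t)) := by
  unfold diagPoly ν
  rw [eval_aeval]
  congr 2
  funext ab
  obtain ⟨a, b⟩ := ab
  by_cases h : a = b
  · subst h
    by_cases h' : a = i
    · subst h'; simp
    · simp [h', Function.update_of_ne h']
  · simp [h, diagonal_apply]

omit [Infinite F] hN hmul in
theorem diag_update_mul (i : Fin n) (s t : F) :
    (diagonal (Function.update (fun _ => (1 : F)) i s) : Matrix (Fin n) (Fin n) F) *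
      diagonal (Function.update (fun _ => (1 : F)) i t) =
      diagonal (Function.update (fun _ => (1 : F)) i (s * t)) := by
  rw [diagonal_mul_diagonal]
  congr 1
  funext k
  by_cases hk : k = i
  · subst hk; simp
  · simp [Function.update_of_ne hk]

theorem exists_pow (i : Fin n) :
    ∃ m : ℕ, ∀ t : F, ν N (diagonal (Function.update (fun _ => (1 : F)) i t)) = t ^ m := by
  obtain ⟨m, hm⟩ := eval_eq_pow_of_mul (diagPoly N i)
    (fun s t => by rw [eval_diagPoly, eval_diagPoly, eval_diagPoly, ← hmul, diag_update_mul])
    (by
      rw [eval_diagPoly]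
      have : (diagonal (Function.update (fun _ => (1 : F)) i 1) : Matrix (Fin n) (Fin n) F) = 1 := by
        rw [← diagonal_one]; congr 1; funext k; by_cases hk : k = i
        · subst hk; simp
        · simp [Function.update_of_ne hk]
      rw [this, ν_one hN hmul])
  exact ⟨m, fun t => by rw [← eval_diagPoly, hm]⟩

theorem ν_diag_swap (i j : Fin n) (t : F) :
    ν N (diagonal (Function.update (fun _ => (1 : F)) i t)) =
      ν N (diagonal (Function.update (fun _ => (1 : F)) j t)) := by
  set σ : Equiv.Perm (Fin n) := Equiv.swap i j with hσ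
  set P : Matrix (Fin n) (Fin n) F := σ.toPEquiv.toMatrix with hP
  have hPP : P * P = 1 := by
    rw [hP, PEquiv.toMatrix_toPEquiv_mul]
    ext a b
    simp [PEquiv.toMatrix_apply, Matrix.one_apply, hσ, Equiv.swap_apply_eq_iff, eq_comm]
  have hconj : P * diagonal (Function.update (fun _ => (1 : F)) i t) * P =
      diagonal (Function.update (fun _ => (1 : F)) j t) := by
    rw [hP, PEquiv.toMatrix_toPEquiv_mul, PEquiv.mul_toMatrix_toPEquiv]
    ext a b
    simp only [submatrix_apply, id, diagonal_apply, hσ, Equiv.symm_swap]
    by_cases hab : a = b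
    · subst hab
      simp only [if_true]
      by_cases ha : a = j
      · subst ha; simp
      · rw [Function.update_of_ne ha]
        by_cases ha' : a = i
        · subst ha'
          rw [Equiv.swap_apply_left, Function.update_of_ne (Ne.symm ha)]
        · rw [Equiv.swap_apply_of_ne_of_ne ha' ha, Function.update_of_ne ha']
    · have : Equiv.swap i j a ≠ Equiv.swap i j b := fun h => hab ((Equiv.swap i j).injective h)
      simp [hab, this]
  have e := congrArg (ν N) hconj
  rw [hmul, hmul] at e
  have h1 : ν N P * ν N P = 1 := by rw [← hmul, hPP, ν_one hN hmul]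
  rw [← e]
  linear_combination (-(ν N (diagonal (Function.update (fun _ => (1 : F)) i t)))) * h1

theorem ν_diagonal {m : ℕ} (i₀ : Fin n)
    (hm : ∀ t : F, ν N (diagonal (Function.update (fun _ => (1 : F)) i₀ t)) = t ^ m)
    (d : Fin n → F) : ν N (diagonal d) = (∏ k, d k) ^ m := by
  classical
  have key : ∀ s : Finset (Fin n),
      ν N (diagonal (fun k => if k ∈ s then d k else 1)) = (∏ k ∈ s, d k) ^ m := by
    intro s
    induction s using Finset.induction_on with
    | empty =>
      simp only [Finset.notMem_empty, if_false, Finset.prod_empty, one_pow]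
      have : (diagonal (fun _ : Fin n => (1 : F)) : Matrix (Fin n) (Fin n) F) = 1 := diagonal_one
      rw [this, ν_one hN hmul]
    | insert a s ha ih =>
      have e : (diagonal (fun k => if k ∈ insert a s then d k else 1) : Matrix (Fin n) (Fin n) F) =
          diagonal (Function.update (fun _ => (1 : F)) a (d a)) *
            diagonal (fun k => if k ∈ s then d k else 1) := by
        rw [diagonal_mul_diagonal]
        congr 1
        funext k
        by_cases hk : k = a
        · subst hk; simp [ha]
        · simp [Function.update_of_ne hk, Finset.mem_insert, hk]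
      rw [e, hmul, ih, ν_diag_swap hN hmul a i₀, hm, Finset.prod_insert ha, mul_pow]
  have := key Finset.univ
  simpa using this

end

end main

end Groth.Agent.H92.MultPoly
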