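import Groth.Agent.H92.OTPair
import Groth.Agent.H83.Deligne

/-!
# Base change of the power maps and of the projectors `P_j`
-/

set_option autoImplicit false
set_option linter.unusedSectionVars false
universe u

namespace Groth.Agent.H92.OTBase
open Groth.Agent.H92.OTChar Groth.Agent.H92.OTEigen Groth.Agent.H92.OTPair
open WithConv TensorProduct Coalgebra Groth.Agent.H83.Deligne

variable {R : Type u} [CommRing R] {A : Type u} [CommRing A] [HopfAlgebra R A]
  {T : Type u} [CommRing T] [Algebra R T]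

/-- restriction of a `T`-endomorphism of `T ⊗ A` along `A → T ⊗ A` -/
noncomputable def restrB (w : T ⊗[R] A →ₐ[T] T ⊗[R] A) : A →ₐ[R] T ⊗[R] A :=
  (w.restrictScalars R).comp Algebra.TensorProduct.includeRight

theorem restrB_apply (w : T ⊗[R] A →ₐ[T] T ⊗[R] A) (a : A) : restrB w a = w (1 ⊗ₜ[R] a) := rfl

theorem restrB_mul (w w' : WithConv (T ⊗[R] A →ₐ[T] T ⊗[R] A)) :
    restrB (w * w').ofConv = (toConv (restrB w.ofConv) * toConv (restrB w'.ofConv)).ofConv := by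
  ext a
  rw [restrB_apply]
  have h1 : (w * w').ofConv (1 ⊗ₜ[R] a) =
      (toConv w.ofConv.toLinearMap * toConv w'.ofConv.toLinearMap) (1 ⊗ₜ[R] a) := rfl
  have h2 : (toConv (restrB w.ofConv) * toConv (restrB w'.ofConv)).ofConv a =
      (toConv (restrB w.ofConv).toLinearMap * toConv (restrB w'.ofConv).toLinearMap) a := rfl
  rw [h1, h2, (reprOne a).convMul_apply, (ℛ R a).convMul_apply]
  rfl

theorem restrB_one :
    restrB (1 : WithConv (T ⊗[R] A →ₐ[T] T ⊗[R] A)).ofConv =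
      (1 : WithConv (A →ₐ[R] T ⊗[R] A)).ofConv := by
  ext a
  rw [restrB_apply]
  change algebraMap T (T ⊗[R] A) (Coalgebra.counit (R := T) ((1 : T) ⊗ₜ[R] a)) =
    algebraMap R (T ⊗[R] A) (Coalgebra.counit (R := R) a)
  rw [TensorProduct.counit_tmul]
  simp [Algebra.algebraMap_eq_smul_one, Algebra.TensorProduct.one_def, TensorProduct.smul_tmul']

theorem restrB_pow (w : WithConv (T ⊗[R] A →ₐ[T] T ⊗[R] A)) (m : ℕ) :
    restrB (w ^ m).ofConv = ((toConv (restrB w.ofConv)) ^ m).ofConv := by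
  induction m with
  | zero => rw [pow_zero, pow_zero, restrB_one]
  | succ m ih => rw [pow_succ, pow_succ, restrB_mul, ih]

theorem powConv_baseChange (n : ℕ) (a : A) :
    SGA3b.powConv T (T ⊗[R] A) n ((1 : T) ⊗ₜ[R] a) = (1 : T) ⊗ₜ[R] SGA3b.powConv R A n a := by
  have h1 := restrB_pow (toConv (AlgHom.id T (T ⊗[R] A))) n
  have h2 := comp_powConv (Algebra.TensorProduct.includeRight : A →ₐ[R] T ⊗[R] A) n
  have h3 : restrB (toConv (AlgHom.id T (T ⊗[R] A))).ofConv =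
      (Algebra.TensorProduct.includeRight : A →ₐ[R] T ⊗[R] A) := by
    ext a; rfl
  rw [h3, ← h2] at h1
  have := AlgHom.congr_fun h1 a
  rw [restrB_apply] at this
  exact this

section char
variable {p : ℕ} [Fact p.Prime] (T)

/-- the base-changed character -/
noncomputable def chiT (χ : (ZMod p)ˣ →* Rˣ) : (ZMod p)ˣ →* Tˣ :=
  (Units.map (algebraMap R T : R →* T)).comp χ

theorem chiT_apply (χ : (ZMod p)ˣ →* Rˣ) (m : (ZMod p)ˣ) :
    ((chiT T χ m : Tˣ) : T) = algebraMap R T ((χ m : Rˣ) : R) := rfl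

theorem hu_T (u : R) (hu : u * ((p - 1 : ℕ) : R) = 1) :
    algebraMap R T u * ((p - 1 : ℕ) : T) = 1 := by
  rw [← map_natCast (algebraMap R T), ← map_mul, hu, map_one]

theorem hχ_T (χ : (ZMod p)ˣ →* Rˣ) (hχ : ∀ m : (ZMod p)ˣ, m ≠ 1 → IsUnit ((χ m : R) - 1)) :
    ∀ m : (ZMod p)ˣ, m ≠ 1 → IsUnit ((chiT T χ m : T) - 1) := by
  intro m hm
  rw [chiT_apply, ← map_one (algebraMap R T), ← map_sub]
  exact (hχ m hm).map _

theorem hχp_T (χ : (ZMod p)ˣ →* Rˣ)
    (hχp : ∀ m : (ZMod p)ˣ, ((χ m : Rˣ) : R) - (((m : ZMod p).val : ℕ) : R) ∈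
      Ideal.span ({(p : R)} : Set R)) :
    ∀ m : (ZMod p)ˣ, ((chiT T χ m : Tˣ) : T) - (((m : ZMod p).val : ℕ) : T) ∈
      Ideal.span ({(p : T)} : Set T) := by
  intro m
  have h := hχp m
  rw [Ideal.mem_span_singleton] at h ⊢
  obtain ⟨c, hc⟩ := h
  refine ⟨algebraMap R T c, ?_⟩
  rw [chiT_apply, ← map_natCast (algebraMap R T), ← map_sub, hc, map_mul, map_natCast]

end char

section proj
variable {p : ℕ} [Fact p.Prime] (u : R) (χ : (ZMod p)ˣ →* Rˣ)

theorem pw_baseChange (m : (ZMod p)ˣ) (a : A) :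
    pw T (T ⊗[R] A) m ((1 : T) ⊗ₜ[R] a) = (1 : T) ⊗ₜ[R] pw R A m a :=
  powConv_baseChange _ a

theorem smul_one_tmul (r : R) (a : A) :
    (algebraMap R T r) • ((1 : T) ⊗ₜ[R] a) = (1 : T) ⊗ₜ[R] (r • a) := by
  rw [TensorProduct.smul_tmul', Algebra.algebraMap_eq_smul_one, smul_assoc, one_smul,
    TensorProduct.smul_tmul]

theorem proj_baseChange (j : ℕ) (a : A) :
    OortTate.proj T (T ⊗[R] A) p (algebraMap R T u) (chiT T χ) j ((1 : T) ⊗ₜ[R] a) =
      (1 : T) ⊗ₜ[R] OortTate.proj R A p u χ j a := by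
  rw [proj_eq, proj_eq]
  simp only [LinearMap.smul_apply, LinearMap.sum_apply, pw_baseChange, chiT_apply, ← map_pow,
    smul_one_tmul, TensorProduct.tmul_sum]
  rw [← TensorProduct.tmul_sum, smul_one_tmul]

theorem counit_baseChange (a : A) :
    Coalgebra.counit (R := T) ((1 : T) ⊗ₜ[R] a) = algebraMap R T (Coalgebra.counit (R := R) a) := by
  rw [TensorProduct.counit_tmul]
  simp [Algebra.algebraMap_eq_smul_one]

theorem PJ_baseChange (hpA : (toConv (AlgHom.id R A)) ^ p = 1)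
    (hpB : (toConv (AlgHom.id T (T ⊗[R] A))) ^ p = 1) (j : ℕ) (a : A) :
    PJ hpB (algebraMap R T u) (chiT T χ) j ((1 : T) ⊗ₜ[R] a) =
      (1 : T) ⊗ₜ[R] PJ hpA u χ j a := by
  rw [PJ_apply, PJ_apply, counit_baseChange, ← proj_baseChange]
  congr 1
  rw [TensorProduct.tmul_sub]
  congr 1
  rw [Algebra.algebraMap_eq_smul_one (algebraMap R T _), Algebra.TensorProduct.one_def,
    smul_one_tmul, ← Algebra.algebraMap_eq_smul_one]

end proj

end Groth.Agent.H92.OTBase
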