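import Mathlib

/-!
# Orthogonality relations for a "strongly nontrivial" character `χ : (ZMod p)ˣ →* Rˣ`

`χ` with `χ m - 1` a unit for all `m ≠ 1` (Oort–Tate setting).
-/

set_option autoImplicit false
universe u

namespace Groth.Agent.H92.OTChar

variable {p : ℕ} [Fact p.Prime] {R : Type u} [CommRing R] (χ : (ZMod p)ˣ →* Rˣ)

theorem chi_pow_card (m : (ZMod p)ˣ) : χ m ^ (p - 1) = 1 := by
  rw [← map_pow, ZMod.units_pow_card_sub_one_eq_one, map_one]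

theorem chi_val_pow_card (m : (ZMod p)ˣ) : ((χ m : Rˣ) : R) ^ (p - 1) = 1 := by
  rw [← Units.val_pow_eq_pow_val, chi_pow_card, Units.val_one]

/-- `S k = Σ_m χ(m)^k` for an integer exponent. -/
noncomputable def S (k : ℤ) : R := ∑ m : (ZMod p)ˣ, ((χ m ^ k : Rˣ) : R)

variable {χ}

theorem exists_gen : ∃ g : (ZMod p)ˣ, (∀ x, x ∈ Subgroup.zpowers g) ∧ orderOf g = p - 1 := by
  obtain ⟨g, hg⟩ := IsCyclic.exists_generator (α := (ZMod p)ˣ)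
  refine ⟨g, hg, ?_⟩
  rw [orderOf_eq_card_of_forall_mem_zpowers hg, Nat.card_eq_fintype_card, ZMod.card_units]

theorem exists_zpow_ne_one {k : ℤ} (hk : ¬ ((p - 1 : ℕ) : ℤ) ∣ k) : ∃ g : (ZMod p)ˣ, g ^ k ≠ 1 := by
  obtain ⟨g, -, hg⟩ := exists_gen (p := p)
  refine ⟨g, fun h => hk ?_⟩
  rw [← hg]
  exact orderOf_dvd_iff_zpow_eq_one.mpr h

theorem S_eq_zero (hχ : ∀ m : (ZMod p)ˣ, m ≠ 1 → IsUnit ((χ m : R) - 1)) {k : ℤ}
    (hk : ¬ ((p - 1 : ℕ) : ℤ) ∣ k) : S χ k = 0 := by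
  obtain ⟨g, hg⟩ := exists_zpow_ne_one (p := p) hk
  have hu := hχ (g ^ k) hg
  have h1 : S χ k = ((χ g ^ k : Rˣ) : R) * S χ k := by
    unfold S
    rw [Finset.mul_sum, ← Equiv.sum_comp (Equiv.mulLeft g) (fun m => ((χ m ^ k : Rˣ) : R))]
    refine Finset.sum_congr rfl fun m _ => ?_
    rw [Equiv.coe_mulLeft, map_mul, mul_zpow, Units.val_mul]
  have h2 : ((χ (g ^ k) : R) - 1) * S χ k = 0 := by
    rw [sub_mul, one_mul, map_zpow, ← h1, sub_self]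
  exact (hu.mul_right_eq_zero).mp h2

theorem S_of_dvd {k : ℤ} (hk : ((p - 1 : ℕ) : ℤ) ∣ k) : S χ k = ((p - 1 : ℕ) : R) := by
  obtain ⟨c, rfl⟩ := hk
  unfold S
  have : ∀ m : (ZMod p)ˣ, ((χ m ^ (((p - 1 : ℕ) : ℤ) * c) : Rˣ) : R) = 1 := by
    intro m
    rw [zpow_mul, zpow_natCast, chi_pow_card, one_zpow, Units.val_one]
  simp only [this, Finset.sum_const, Finset.card_univ, ZMod.card_units, nsmul_eq_mul, mul_one]

/-- geometric sum of a nontrivial value vanishes. -/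
theorem geom_eq_zero (hχ : ∀ m : (ZMod p)ˣ, m ≠ 1 → IsUnit ((χ m : R) - 1)) {m : (ZMod p)ˣ}
    (hm : m ≠ 1) : ∑ i ∈ Finset.range (p - 1), ((χ m : Rˣ) : R) ^ i = 0 := by
  have h := mul_geom_sum ((χ m : Rˣ) : R) (p - 1)
  rw [chi_val_pow_card, sub_self] at h
  exact ((hχ m hm).mul_right_eq_zero).mp h

theorem geom_one : ∑ i ∈ Finset.range (p - 1), ((χ (1 : (ZMod p)ˣ) : Rˣ) : R) ^ i = ((p - 1 : ℕ) : R) := by
  simp

end Groth.Agent.H92.OTChar
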