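import Groth.Prelude.Def_W4c5ffgsreadingcourseOT
import Groth.Agent.H92.OTChar

/-!
# Power maps `[m]` on a commutative Hopf algebra killed by `p` and the averaging projectors
-/

set_option autoImplicit false
set_option linter.unusedSectionVars false
universe u

namespace Groth.Agent.H92.OTEigen
open Groth.Agent.H92.OTChar WithConv

variable {R : Type u} [CommRing R] {A : Type u} [CommRing A] [HopfAlgebra R A]

theorem comp_powConv {B : Type*} [CommRing B] [Algebra R B] (h : A →ₐ[R] B) (n : ℕ) :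
    h.comp (SGA3b.powConv R A n) = ofConv ((toConv h) ^ n) := by
  unfold SGA3b.powConv
  induction n with
  | zero =>
    rw [pow_zero, pow_zero]
    ext a
    simp [AlgHom.convOne_def]
  | succ n ih =>
    rw [pow_succ, pow_succ, AlgHom.comp_convMul_distrib, ih]
    simp only [toConv_ofConv, ofConv_toConv, AlgHom.comp_id]

theorem powConv_mul (m n : ℕ) :
    SGA3b.powConv R A (m * n) = (SGA3b.powConv R A m).comp (SGA3b.powConv R A n) := by
  rw [comp_powConv]
  unfold SGA3b.powConv
  rw [toConv_ofConv, ← pow_mul]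

theorem powConv_one : SGA3b.powConv R A 1 = AlgHom.id R A := by
  unfold SGA3b.powConv
  rw [pow_one, ofConv_toConv]

theorem counit_comp_powConv (n : ℕ) :
    (Bialgebra.counitAlgHom R A).comp (SGA3b.powConv R A n) = Bialgebra.counitAlgHom R A := by
  rw [comp_powConv]
  have : toConv (Bialgebra.counitAlgHom R A) = (1 : WithConv (A →ₐ[R] R)) := by
    rw [AlgHom.convOne_def]
    congr 1
  rw [this, one_pow, this.symm, ofConv_toConv]

theorem counit_powConv (n : ℕ) (a : A) :
    Bialgebra.counitAlgHom R A (SGA3b.powConv R A n a) = Bialgebra.counitAlgHom R A a :=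
  AlgHom.congr_fun (counit_comp_powConv n) a

section killed
variable {p : ℕ} [Fact p.Prime] (hp : (toConv (AlgHom.id R A)) ^ p = 1)

include hp in
theorem powConv_mod (a : ℕ) : SGA3b.powConv R A (a % p) = SGA3b.powConv R A a := by
  unfold SGA3b.powConv
  congr 1
  conv_rhs => rw [← Nat.mod_add_div a p, pow_add, pow_mul, hp, one_pow, mul_one]

include hp in
theorem powConv_units_mul (m n : (ZMod p)ˣ) :
    SGA3b.powConv R A ((m * n : (ZMod p)ˣ) : ZMod p).val =
      (SGA3b.powConv R A (m : ZMod p).val).comp (SGA3b.powConv R A (n : ZMod p).val) := by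
  rw [Units.val_mul, ZMod.val_mul, powConv_mod hp, powConv_mul]

theorem powConv_units_one : SGA3b.powConv R A ((1 : (ZMod p)ˣ) : ZMod p).val = AlgHom.id R A := by
  rw [Units.val_one, ZMod.val_one, powConv_one]

/-- the linear power maps -/
noncomputable def pw (R : Type u) [CommRing R] (A : Type u) [CommRing A] [HopfAlgebra R A]
    {p : ℕ} (m : (ZMod p)ˣ) : A →ₗ[R] A := (SGA3b.powConv R A (m : ZMod p).val).toLinearMap

include hp in
theorem pw_mul (m n : (ZMod p)ˣ) : pw R A (m * n) = pw R A m ∘ₗ pw R A n := by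
  unfold pw
  rw [powConv_units_mul hp]
  rfl

theorem pw_one : pw R A (1 : (ZMod p)ˣ) = LinearMap.id := by
  unfold pw
  rw [powConv_units_one]
  rfl

theorem counit_pw (m : (ZMod p)ˣ) (a : A) :
    Bialgebra.counitAlgHom R A (pw R A m a) = Bialgebra.counitAlgHom R A a :=
  counit_powConv _ a

variable (u : R) (hu : u * ((p - 1 : ℕ) : R) = 1) (χ : (ZMod p)ˣ →* Rˣ)
  (hχ : ∀ m : (ZMod p)ˣ, m ≠ 1 → IsUnit ((χ m : R) - 1))

theorem proj_eq (i : ℕ) : OortTate.proj R A p u χ i =
    u • ∑ m : (ZMod p)ˣ, (((χ m⁻¹ : Rˣ) : R) ^ i) • pw R A m := rfl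

include hp in
theorem pw_comp_proj (n : (ZMod p)ˣ) (i : ℕ) :
    pw R A n ∘ₗ OortTate.proj R A p u χ i = (((χ n : Rˣ) : R) ^ i) • OortTate.proj R A p u χ i := by
  rw [proj_eq, LinearMap.comp_smul, smul_comm _ u]
  congr 1
  rw [← Module.End.mul_eq_comp, Finset.mul_sum, Finset.smul_sum]
  simp only [mul_smul_comm, Module.End.mul_eq_comp, ← pw_mul hp]
  rw [← Equiv.sum_comp (Equiv.mulLeft n)
    (fun m => ((χ n : Rˣ) : R) ^ i • ((χ m⁻¹ : Rˣ) : R) ^ i • pw R A m)]
  refine Finset.sum_congr rfl fun m _ => ?_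
  have h : n * (n * m)⁻¹ = m⁻¹ := by rw [mul_inv_rev, mul_comm m⁻¹, mul_inv_cancel_left]
  simp only [Equiv.coe_mulLeft]
  rw [smul_smul, ← mul_pow, ← Units.val_mul, ← map_mul, h]

include hu hχ in
theorem sum_proj : ∑ i ∈ Finset.range (p - 1), OortTate.proj R A p u χ i = LinearMap.id := by
  simp only [proj_eq]
  rw [← Finset.smul_sum, Finset.sum_comm]
  simp only [← Finset.sum_smul]
  rw [Finset.sum_eq_single (1 : (ZMod p)ˣ)]
  · rw [inv_one, geom_one, pw_one, smul_smul, hu, one_smul]
  · intro m _ hm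
    rw [geom_eq_zero hχ (inv_ne_one.mpr hm), zero_smul]
  · intro h; exact absurd (Finset.mem_univ _) h

theorem mem_eigenAug_iff (i : ℕ) (f : A) : f ∈ OortTate.eigenAug R A p χ i ↔
    Bialgebra.counitAlgHom R A f = 0 ∧ ∀ m : (ZMod p)ˣ, pw R A m f = (((χ m : Rˣ) : R) ^ i) • f := by
  unfold OortTate.eigenAug
  rw [Submodule.mem_inf, Submodule.mem_iInf]
  simp only [LinearMap.mem_ker, Module.End.mem_eigenspace_iff]
  rfl

theorem proj_of_mem (i j : ℕ) (f : A) (hf : f ∈ OortTate.eigenAug R A p χ j) :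
    OortTate.proj R A p u χ i f = (u * S χ ((j : ℤ) - i)) • f := by
  rw [mem_eigenAug_iff] at hf
  rw [proj_eq, LinearMap.smul_apply, LinearMap.sum_apply, mul_smul]
  congr 1
  unfold S
  rw [Finset.sum_smul]
  refine Finset.sum_congr rfl fun m _ => ?_
  rw [LinearMap.smul_apply, hf.2 m, smul_smul]
  congr 1
  rw [zpow_sub, zpow_natCast, zpow_natCast, map_inv, Units.val_mul, ← inv_pow,
    Units.val_pow_eq_pow_val, Units.val_pow_eq_pow_val, mul_comm]

include hp in
theorem proj_mem (i : ℕ) (f : A) (hf : Bialgebra.counitAlgHom R A f = 0) :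
    OortTate.proj R A p u χ i f ∈ OortTate.eigenAug R A p χ i := by
  rw [mem_eigenAug_iff]
  constructor
  · rw [proj_eq, LinearMap.smul_apply, LinearMap.sum_apply, map_smul, map_sum]
    simp only [LinearMap.smul_apply, map_smul, counit_pw, hf, smul_zero, Finset.sum_const_zero]
  · intro m
    have := LinearMap.congr_fun (pw_comp_proj hp u χ m i) f
    simpa using this

end killed

end Groth.Agent.H92.OTEigen
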