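import Groth.Prelude.Def_W4c5ffgsreadingcourseOT
import Groth.Prelude.Def_CartDual
import Groth.Agent.H92.OTEigen

/-!
# Power maps on the Cartier dual are the transposes of the power maps
-/

set_option autoImplicit false
set_option linter.unusedSectionVars false
universe u

namespace Groth.Agent.H92.OTDual
open Groth.Agent.H92.OTChar Groth.Agent.H92.OTEigen WithConv CartDual TensorProduct

variable {R : Type u} [CommRing R] {A : Type u} [CommRing A] [HopfAlgebra R A]
  [Module.Finite R A] [Module.Projective R A]

/-- general transposition lemma (pattern of `CartDual.ofConv_mul'_rTensor_antipodeLin`). -/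
theorem ofConv_mul'_rTensor (TD : D R A →ₗ[R] D R A) (TA : A →ₗ[R] A)
    (hT : ∀ x : D R A, (TD x).ofConv = x.ofConv ∘ₗ TA) (y : D R A ⊗[R] D R A) :
    (LinearMap.mul' R (D R A) (TD.rTensor (D R A) y)).ofConv =
      ev₂ R A y ∘ₗ TA.rTensor A ∘ₗ Coalgebra.comul := by
  induction y using TensorProduct.induction_on with
  | zero => simp
  | add y₁ y₂ h₁ h₂ => simp only [map_add, WithConv.ofConv_add, h₁, h₂, LinearMap.add_comp]
  | tmul x z =>
    rw [LinearMap.rTensor_tmul, LinearMap.mul'_apply, LinearMap.convMul_def, WithConv.ofConv_toConv,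
      hT, ev₂_tmul_eq', LinearMap.comp_assoc]
    congr 1
    apply LinearMap.ext; intro a
    simp only [LinearMap.coe_comp, Function.comp_apply]
    generalize Coalgebra.comul (R := R) a = t
    induction t using TensorProduct.induction_on with
    | zero => simp only [map_zero]
    | tmul b c => rfl
    | add t t' ht ht' => simp only [map_add, ht, ht']

theorem powConv_succ_toLinearMap {B : Type u} [CommRing B] [HopfAlgebra R B] (n : ℕ) :
    (SGA3b.powConv R B (n + 1)).toLinearMap =
      LinearMap.mul' R B ∘ₗ (SGA3b.powConv R B n).toLinearMap.rTensor B ∘ₗ Coalgebra.comul := by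
  unfold SGA3b.powConv
  rw [pow_succ]
  have := AlgHom.toLinearMap_convMul ((toConv (AlgHom.id R B)) ^ n) (toConv (AlgHom.id R B))
  have h2 := congrArg ofConv this
  rw [ofConv_toConv, LinearMap.convMul_def, ofConv_toConv] at h2
  rw [h2]
  rfl

variable [Coalgebra.IsCocomm R A]

theorem powConv_dual (n : ℕ) (x : D R A) :
    (SGA3b.powConv R (D R A) n x).ofConv = x.ofConv ∘ₗ (SGA3b.powConv R A n).toLinearMap := by
  induction n generalizing x with
  | zero =>
    apply LinearMap.ext
    intro a
    have h1 : SGA3b.powConv R (D R A) 0 = ofConv (1 : WithConv (D R A →ₐ[R] D R A)) := by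
      unfold SGA3b.powConv; rw [pow_zero]
    have h2 : SGA3b.powConv R A 0 = ofConv (1 : WithConv (A →ₐ[R] A)) := by
      unfold SGA3b.powConv; rw [pow_zero]
    rw [h1, h2]
    simp only [LinearMap.comp_apply, AlgHom.toLinearMap_apply]
    change ((1 : WithConv (D R A →ₐ[R] D R A)) x).ofConv a = x.ofConv ((1 : WithConv (A →ₐ[R] A)) a)
    rw [AlgHom.convOne_apply, AlgHom.convOne_apply, Algebra.algebraMap_eq_smul_one,
      Algebra.algebraMap_eq_smul_one, map_smul]
    simp [LinearMap.convOne_def, CartDual.coe_apply, mul_comm]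
  | succ n ih =>
    have h1 : SGA3b.powConv R (D R A) (n + 1) x =
        LinearMap.mul' R (D R A) ((SGA3b.powConv R (D R A) n).toLinearMap.rTensor (D R A)
          (Coalgebra.comul x)) := by
      have := LinearMap.congr_fun (powConv_succ_toLinearMap (R := R) (B := D R A) n) x
      exact this
    rw [h1, ofConv_mul'_rTensor _ (SGA3b.powConv R A n).toLinearMap (fun y => ih y), CartDual.comul_def,
      CartDual.ev₂_comul, powConv_succ_toLinearMap, LinearMap.comp_assoc]

theorem powConv_dual_apply (n : ℕ) (x : D R A) (a : A) :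
    (SGA3b.powConv R (D R A) n x) a = x (SGA3b.powConv R A n a) := by
  have := LinearMap.congr_fun (powConv_dual n x) a
  exact this

section killed
variable {p : ℕ} [Fact p.Prime] (hp : (toConv (AlgHom.id R A)) ^ p = 1)

include hp in
theorem killed_dual : (toConv (AlgHom.id R (D R A))) ^ p = 1 := by
  apply ofConv_injective
  apply AlgHom.ext
  intro x
  apply WithConv.ext
  apply LinearMap.ext
  intro a
  have h1 := powConv_dual_apply p x a
  unfold SGA3b.powConv at h1
  rw [hp] at h1
  rw [CartDual.coe_apply] at h1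
  rw [h1]
  change x ((1 : WithConv (A →ₐ[R] A)) a) = ((1 : WithConv (D R A →ₐ[R] D R A)) x).ofConv a
  rw [AlgHom.convOne_apply, AlgHom.convOne_apply, Algebra.algebraMap_eq_smul_one,
    Algebra.algebraMap_eq_smul_one, map_smul]
  simp [LinearMap.convOne_def, CartDual.coe_apply, mul_comm]

theorem pw_dual_apply (m : (ZMod p)ˣ) (x : D R A) (a : A) :
    (pw R (D R A) m x) a = x (pw R A m a) := powConv_dual_apply _ x a

theorem proj_dual_apply (u : R) (χ : (ZMod p)ˣ →* Rˣ) (i : ℕ) (x : D R A) (a : A) :
    (OortTate.proj R (D R A) p u χ i x) a = x (OortTate.proj R A p u χ i a) := by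
  rw [proj_eq, proj_eq]
  simp only [LinearMap.smul_apply, LinearMap.sum_apply, map_smul, map_sum]
  rw [WithConv.ofConv_smul, LinearMap.smul_apply, WithConv.ofConv_sum, LinearMap.sum_apply]
  congr 1
  refine Finset.sum_congr rfl fun m _ => ?_
  rw [WithConv.ofConv_smul, LinearMap.smul_apply]
  congr 1
  exact pw_dual_apply m x a

end killed

end Groth.Agent.H92.OTDual
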