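import Groth.Agent.H92.OTGen

/-!
# Oort–Tate: building bialgebra isomorphisms from matching normal forms
-/

set_option autoImplicit false
set_option linter.unusedSectionVars false
universe u

namespace Groth.Agent.H92.OTIso
open WithConv CartDual TensorProduct

variable {R : Type u} [CommRing R]

/-- a linear map between algebras spanned by the powers of `s`, `s'` with `s^p = a s`,
`s'^p = a' s'`, sending `s^j ↦ (c s')^j` for `j < p`, is multiplicative as soon as
`c^{p-1} a' = a`. -/
theorem mulCompat {S S' : Type*} [CommRing S] [Algebra R S] [CommRing S'] [Algebra R S'] {p : ℕ}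
    (hp2 : 2 ≤ p) (s : S) (s' : S') (c a a' : R)
    (hs : s ^ p = a • s) (hs' : s' ^ p = a' • s') (hc : c ^ (p - 1) * a' = a)
    (L : S →ₗ[R] S') (hL : ∀ j : ℕ, j < p → L (s ^ j) = c ^ j • s' ^ j)
    (hspan : ⊤ ≤ Submodule.span R (Set.range (fun j : Fin p => s ^ (j : ℕ)))) :
    L 1 = 1 ∧ ∀ y z : S, L (y * z) = L y * L z := by
  have hcs : (c • s') ^ p = a • (c • s') := by
    have hpp : p = (p - 1) + 1 := by omega
    rw [smul_pow, hs', smul_smul, smul_smul, ← hc]
    congr 1
    conv_lhs => rw [hpp, pow_succ]
    ring
  have key : ∀ n : ℕ, L (s ^ n) = (c • s') ^ n := by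
    intro n
    induction n using Nat.strong_induction_on with
    | _ n ih =>
      by_cases hn : n < p
      · rw [hL n hn, smul_pow]
      · have hn' : n = p + (n - p) := by omega
        have e1 : s ^ n = a • s ^ (n - p + 1) := by
          conv_lhs => rw [hn', pow_add, hs]
          rw [pow_succ', smul_mul_assoc]
        have e2 : (c • s') ^ n = a • (c • s') ^ (n - p + 1) := by
          conv_lhs => rw [hn', pow_add, hcs]
          rw [pow_succ', smul_mul_assoc]
        rw [e1, map_smul, ih (n - p + 1) (by omega), e2]
  refine ⟨?_, ?_⟩
  · have := hL 0 (by omega)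
    simpa using this
  · intro y z
    have hy : y ∈ Submodule.span R (Set.range (fun j : Fin p => s ^ (j : ℕ))) := hspan trivial
    have hz : z ∈ Submodule.span R (Set.range (fun j : Fin p => s ^ (j : ℕ))) := hspan trivial
    induction hy using Submodule.span_induction with
    | mem y hy =>
      obtain ⟨i, rfl⟩ := hy
      induction hz using Submodule.span_induction with
      | mem z hz =>
        obtain ⟨j, rfl⟩ := hz
        simp only
        rw [← pow_add, key, key, key, pow_add]
      | zero => simp
      | add z z' _ _ h h' => rw [mul_add, map_add, map_add, mul_add, h, h']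
      | smul r z _ h => rw [mul_smul_comm, map_smul, map_smul, mul_smul_comm, h]
    | zero => simp
    | add y y' _ _ h h' => rw [add_mul, map_add, map_add, add_mul, h, h']
    | smul r y _ h => rw [smul_mul_assoc, map_smul, map_smul, smul_mul_assoc, h]

section transpose
variable {A : Type u} [CommRing A] [HopfAlgebra R A] [Module.Finite R A] [Module.Projective R A]
  {A' : Type u} [CommRing A'] [HopfAlgebra R A'] [Module.Finite R A'] [Module.Projective R A']

/-- the transpose of a linear map, on the Cartier duals -/
noncomputable def gT (g : A →ₗ[R] A') : D R A' →ₗ[R] D R A :=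
  (toDual R A).symm.toLinearMap ∘ₗ g.dualMap ∘ₗ (toDual R A').toLinearMap

theorem gT_apply (g : A →ₗ[R] A') (f : D R A') (a : A) : (gT g f).ofConv a = f.ofConv (g a) := rfl

/-- if the transpose is multiplicative, the map is comultiplicative -/
theorem comul_compat (g : A →ₗ[R] A')
    (hg : ∀ f₁ f₂ : D R A', gT g (f₁ * f₂) = gT g f₁ * gT g f₂) (a : A) :
    TensorProduct.map g g (Coalgebra.comul (R := R) a) = Coalgebra.comul (R := R) (g a) := by
  rw [← sub_eq_zero, ← Module.forall_dual_apply_eq_zero_iff R]
  intro φ
  obtain ⟨y, rfl⟩ := (ev₂ R A').surjective φ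
  rw [map_sub, sub_eq_zero]
  induction y using TensorProduct.induction_on with
  | zero => simp
  | add y y' h h' => rw [map_add, LinearMap.add_apply, LinearMap.add_apply, h, h']
  | tmul f₁ f₂ =>
    rw [ev₂_tmul_eq]
    have h1 : ∀ b : A', ((TensorProduct.lid R R : R ⊗[R] R →ₗ[R] R) ∘ₗ
        TensorProduct.map f₁.ofConv f₂.ofConv) (Coalgebra.comul (R := R) b) = (f₁ * f₂).ofConv b := by
      intro b
      rw [LinearMap.convMul_apply, LinearMap.comp_apply]
      generalize Coalgebra.comul (R := R) b = t
      induction t using TensorProduct.induction_on with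
      | zero => simp
      | tmul b c => simp
      | add t t' ht ht' => simp only [map_add, ht, ht']
    have h2 : (f₁ * f₂).ofConv (g a) = (gT g (f₁ * f₂)).ofConv a := rfl
    rw [h1, h2, hg, LinearMap.convMul_apply, LinearMap.comp_apply]
    generalize Coalgebra.comul (R := R) a = t
    induction t using TensorProduct.induction_on with
    | zero => simp
    | tmul b c => simp [gT_apply]
    | add t t' ht ht' => simp only [map_add, ht, ht']

end transpose

end Groth.Agent.H92.OTIso
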