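import Groth.Agent.H92.OTLoc
import Groth.Agent.H92.OTIso
import Groth.Agent.S18471

/-!
# Oort–Tate: the truncated exponential `Σ_j w_j⁻¹ Q^{*j}` of an isomorphism `θ : I_1(A) ≃ I_1(A')`
is an isomorphism of bialgebras when `θ` is compatible with the `p`-fold products.
-/

set_option autoImplicit false
set_option linter.unusedSectionVars false
universe u

namespace Groth.Agent.H92.OTExp
open Groth.Agent.H92.OTChar Groth.Agent.H92.OTEigen Groth.Agent.H92.OTDual Groth.Agent.H92.OTPair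
open Groth.Agent.H92.OTGen Groth.Agent.H92.OTField Groth.Agent.H92.OTRank Groth.Agent.H92.OTTheta
open Groth.Agent.H92.LocCyclic Groth.Agent.H92.OTPairing Groth.Agent.H92.OTLoc Groth.Agent.H92.OTIso
open WithConv CartDual TensorProduct Groth.Agent.S18473

section rkB
variable {R : Type u} [CommRing R] {A : Type u} [CommRing A] [HopfAlgebra R A]
  {A' : Type u} [CommRing A'] [Algebra R A']

/-- the rank one element `b ⊗ ξ` of the convolution algebra `Hom(A, A')`: `a ↦ ξ(a) • b`. -/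
noncomputable def rkB (ξ : D R A) (b : A') : WithConv (A →ₗ[R] A') := toConv ((ξ.ofConv).smulRight b)

theorem rkB_apply (ξ : D R A) (b : A') (a : A) : (rkB ξ b).ofConv a = ξ.ofConv a • b := rfl

theorem rkB_mul (ξ ξ' : D R A) (x x' : A') : rkB ξ x * rkB ξ' x' = rkB (ξ * ξ') (x * x') := by
  apply WithConv.ofConv_injective
  apply LinearMap.ext
  intro a
  rw [LinearMap.convMul_apply, rkB_apply, LinearMap.convMul_apply]
  generalize Coalgebra.comul (R := R) a = t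
  induction t using TensorProduct.induction_on with
  | zero => simp
  | tmul b c =>
    simp only [TensorProduct.map_tmul, LinearMap.mul'_apply, rkB_apply, smul_mul_smul_comm]
  | add t t' ht ht' => simp only [map_add, ht, ht', add_smul]

theorem rkB_one : rkB (1 : D R A) (1 : A') = 1 := by
  apply WithConv.ofConv_injective
  apply LinearMap.ext
  intro a
  rw [rkB_apply]
  simp [LinearMap.convOne_def, Algebra.algebraMap_eq_smul_one]

theorem rkB_pow (ξ : D R A) (x : A') (n : ℕ) : rkB ξ x ^ n = rkB (ξ ^ n) (x ^ n) := by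
  induction n with
  | zero => rw [pow_zero, pow_zero, pow_zero, rkB_one]
  | succ n ih => rw [pow_succ, pow_succ, pow_succ, ih, rkB_mul]

end rkB

section main
variable {R : Type u} [CommRing R] {A : Type u} [CommRing A] [HopfAlgebra R A]
  [Coalgebra.IsCocomm R A] [Module.Finite R A] [Module.Projective R A]
  {A' : Type u} [CommRing A'] [HopfAlgebra R A'] [Coalgebra.IsCocomm R A'] [Module.Finite R A']
  [Module.Projective R A']
  {p : ℕ} [Fact p.Prime] (hp : (toConv (AlgHom.id R A)) ^ p = 1)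
  (hp' : (toConv (AlgHom.id R A')) ^ p = 1)
  (u : R) (hu : u * ((p - 1 : ℕ) : R) = 1) (χ : (ZMod p)ˣ →* Rˣ)
  (hχ : ∀ m : (ZMod p)ˣ, m ≠ 1 → IsUnit ((χ m : R) - 1))
  (hχp : ∀ m : (ZMod p)ˣ, ((χ m : Rˣ) : R) - (((m : ZMod p).val : ℕ) : R) ∈
    Ideal.span ({(p : R)} : Set R))
  (hrk : ∀ q : PrimeSpectrum R, Module.rankAtStalk A q = p)
  (hrk' : ∀ q : PrimeSpectrum R, Module.rankAtStalk A' q = p)
  (θ : OortTate.eigenAug R A p χ 1 ≃ₗ[R] OortTate.eigenAug R A' p χ 1)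

/-- `Q = ι' ∘ θ ∘ π_1` -/
noncomputable def Q : WithConv (A →ₗ[R] A') :=
  toConv ((OortTate.eigenAug R A' p χ 1).subtype ∘ₗ θ.toLinearMap ∘ₗ toEigen hp u χ 1)

theorem Q_apply (a : A) : (Q hp u χ θ).ofConv a =
    ((θ (toEigen hp u χ 1 a) : OortTate.eigenAug R A' p χ 1) : A') := rfl

/-- the truncated exponential -/
noncomputable def G : WithConv (A →ₗ[R] A') :=
  ∑ j ∈ Finset.range p, Ring.inverse (Wc u χ j) • (Q hp u χ θ) ^ j

/-- the candidate isomorphism -/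
noncomputable def g : A →ₗ[R] A' := (G hp u χ θ).ofConv

section pair
variable (x : A) (hx : x ∈ OortTate.eigenAug R A p χ 1) (ξ : D R A)
  (hξ : ξ ∈ OortTate.eigenAug R (D R A) p χ 1)

include hu hχ hχp hrk hξ in
theorem smul_Q : ξ.ofConv x • Q hp u χ θ =
    rkB ξ ((θ ⟨x, hx⟩ : OortTate.eigenAug R A' p χ 1) : A') := by
  apply WithConv.ofConv_injective
  apply LinearMap.ext
  intro a
  rw [WithConv.ofConv_smul, LinearMap.smul_apply, Q_apply, rkB_apply]
  have h1 := congrArg (fun f : E R A => f.ofConv a) (rk_eq_smul hp u hu χ hχ hχp hrk x hx ξ hξ)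
  simp only [rk_apply, WithConv.ofConv_smul, LinearMap.smul_apply, WithConv.ofConv_toConv] at h1
  have h2 : ξ.ofConv a • (⟨x, hx⟩ : OortTate.eigenAug R A p χ 1) =
      ξ.ofConv x • toEigen hp u χ 1 a := Subtype.ext h1
  have h3 := congrArg (fun y => ((θ y : OortTate.eigenAug R A' p χ 1) : A')) h2
  simp only [map_smul, Submodule.coe_smul] at h3
  exact h3.symm

include hu hχ hχp hrk hξ in
theorem smul_Q_pow (j : ℕ) : ξ.ofConv x ^ j • (Q hp u χ θ) ^ j =
    rkB (ξ ^ j) (((θ ⟨x, hx⟩ : OortTate.eigenAug R A' p χ 1) : A') ^ j) := by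
  rw [← smul_pow, smul_Q hp u hu χ hχ hχp hrk θ x hx ξ hξ, rkB_pow]

include hu hχ hχp hrk hξ in
theorem Q_pow_apply (j n : ℕ) (hj : j < p) (hn : n < p) :
    ξ.ofConv x ^ j • ((Q hp u χ θ) ^ j).ofConv (x ^ n) =
      (if j = n then Wc u χ n * ξ.ofConv x ^ n else 0) •
        ((θ ⟨x, hx⟩ : OortTate.eigenAug R A' p χ 1) : A') ^ j := by
  have h1 := congrArg (fun f : WithConv (A →ₗ[R] A') => f.ofConv (x ^ n))
    (smul_Q_pow hp u hu χ hχ hχp hrk θ x hx ξ hξ j)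
  simp only [WithConv.ofConv_smul, LinearMap.smul_apply, rkB_apply] at h1
  rw [h1, pair_pow hp u hu χ hχ hχp hrk x hx ξ hξ j n hj hn]

include hu hχ hχp hrk hξ in
theorem g_pow_lt (n : ℕ) (hn : n < p) :
    ξ.ofConv x ^ (p - 1) • g hp u χ θ (x ^ n) =
      ξ.ofConv x ^ (p - 1) • ((θ ⟨x, hx⟩ : OortTate.eigenAug R A' p χ 1) : A') ^ n := by
  unfold g G
  rw [WithConv.ofConv_sum, LinearMap.sum_apply, Finset.smul_sum]
  have hsplit : ∀ j : ℕ, j < p → ξ.ofConv x ^ (p - 1) = ξ.ofConv x ^ (p - 1 - j) * ξ.ofConv x ^ j := by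
    intro j hj
    rw [← pow_add]; congr 1; omega
  have hterm : ∀ j : ℕ, j < p →
      ξ.ofConv x ^ (p - 1) • (Ring.inverse (Wc u χ j) • (Q hp u χ θ) ^ j).ofConv (x ^ n) =
        (ξ.ofConv x ^ (p - 1 - j) * Ring.inverse (Wc u χ j)) •
          ((if j = n then Wc u χ n * ξ.ofConv x ^ n else 0) •
            ((θ ⟨x, hx⟩ : OortTate.eigenAug R A' p χ 1) : A') ^ j) := by
    intro j hj
    rw [← Q_pow_apply hp u hu χ hχ hχp hrk θ x hx ξ hξ j n hj hn, WithConv.ofConv_smul,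
      LinearMap.smul_apply, smul_smul, smul_smul, hsplit j hj]
    congr 1
    ring
  rw [Finset.sum_eq_single n]
  · rw [hterm n hn, if_pos rfl, smul_smul, hsplit n hn]
    congr 1
    have hW := Wc_isUnit u hu χ hχ hχp n (by omega)
    calc ξ.ofConv x ^ (p - 1 - n) * Ring.inverse (Wc u χ n) * (Wc u χ n * ξ.ofConv x ^ n)
        = ξ.ofConv x ^ (p - 1 - n) * ξ.ofConv x ^ n * (Ring.inverse (Wc u χ n) * Wc u χ n) := by ring
      _ = ξ.ofConv x ^ (p - 1 - n) * ξ.ofConv x ^ n := by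
        rw [Ring.inverse_mul_cancel _ hW, mul_one]
  · intro j hj hjn
    rw [hterm j (Finset.mem_range.mp hj), if_neg hjn, zero_smul, smul_zero]
  · intro h
    exact absurd (Finset.mem_range.mpr hn) h

variable (hθ : ∀ (f : Fin p → OortTate.eigenAug R A p χ 1) (g : OortTate.eigenAug R A p χ 1),
      (g : A) = ∏ i, (f i : A) → ((θ g : OortTate.eigenAug R A' p χ 1) : A') = ∏ i, ((θ (f i)) : A'))

include hθ in
theorem theta_pow_p : ((θ ⟨x ^ p, pow_p_mem χ x hx⟩ : OortTate.eigenAug R A' p χ 1) : A') =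
    ((θ ⟨x, hx⟩ : OortTate.eigenAug R A' p χ 1) : A') ^ p := by
  have := hθ (fun _ => ⟨x, hx⟩) ⟨x ^ p, pow_p_mem χ x hx⟩ (by simp)
  simpa using this

include hp hu hχ hχp hrk hξ hθ in
theorem collapse' : ξ.ofConv x • ((θ ⟨x, hx⟩ : OortTate.eigenAug R A' p χ 1) : A') ^ p =
    ξ.ofConv (x ^ p) • ((θ ⟨x, hx⟩ : OortTate.eigenAug R A' p χ 1) : A') := by
  rw [← theta_pow_p χ θ x hx hθ]
  have h1 := collapse hp u hu χ hχ hχp hrk x hx ξ hξ
  have h2 : ξ.ofConv x • (⟨x ^ p, pow_p_mem χ x hx⟩ : OortTate.eigenAug R A p χ 1) =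
      ξ.ofConv (x ^ p) • ⟨x, hx⟩ := Subtype.ext h1
  have h3 := congrArg (fun y => ((θ y : OortTate.eigenAug R A' p χ 1) : A')) h2
  simpa only [map_smul, Submodule.coe_smul] using h3

include hu hχ hχp hrk hξ hθ in
theorem g_pow (n : ℕ) : Z (ξ.ofConv x)
    (g hp u χ θ (x ^ n) - ((θ ⟨x, hx⟩ : OortTate.eigenAug R A' p χ 1) : A') ^ n) := by
  have hp2 := (Fact.out : p.Prime).two_le
  exact powCompatLoc hp2 (ξ.ofConv x) (ξ.ofConv (x ^ p)) x _
    (collapse hp u hu χ hχ hχp hrk x hx ξ hξ)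
    (collapse' hp u hu χ hχ hχp hrk θ x hx ξ hξ hθ) (g hp u χ θ)
    (fun j hj => ⟨p - 1, by
      rw [smul_sub, g_pow_lt hp u hu χ hχ hχp hrk θ x hx ξ hξ j hj, sub_self]⟩) n

end pair

section glob
variable (hθ : ∀ (f : Fin p → OortTate.eigenAug R A p χ 1) (g : OortTate.eigenAug R A p χ 1),
      (g : A) = ∏ i, (f i : A) → ((θ g : OortTate.eigenAug R A' p χ 1) : A') = ∏ i, ((θ (f i)) : A'))

include hu hχ hχp hrk hθ in
theorem g_mul (a b : A) : g hp u χ θ (a * b) = g hp u χ θ a * g hp u χ θ b := by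
  rw [← sub_eq_zero]
  apply eq_zero_of_Z hp u hu χ hχ hχp hrk
  intro x hx ξ hξ
  exact mulCompatLoc _ x _ (g hp u χ θ) (g_pow hp u hu χ hχ hχp hrk θ x hx ξ hξ hθ)
    (span_loc hp u hu χ hχ hχp hrk x hx ξ hξ) a b

include hu hχ hχp hrk in
theorem g_one : g hp u χ θ 1 = 1 := by
  have hp2 := (Fact.out : p.Prime).two_le
  rw [← sub_eq_zero]
  apply eq_zero_of_Z hp u hu χ hχ hχp hrk
  intro x hx ξ hξ
  have := g_pow_lt hp u hu χ hχ hχp hrk θ x hx ξ hξ 0 (by omega)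
  rw [pow_zero, pow_zero] at this
  exact ⟨p - 1, by rw [smul_sub, this, sub_self]⟩

include hp' hu hχ in
theorem exists_dual (ξ : D R A) :
    ∃ ξ' ∈ OortTate.eigenAug R (D R A') p χ 1, ∀ y : OortTate.eigenAug R A p χ 1,
      (ξ' : D R A').ofConv ((θ y : OortTate.eigenAug R A' p χ 1) : A') = ξ.ofConv (y : A) := by
  obtain ⟨f, hf⟩ := (Groth.Agent.S18471.result p R u hu χ hχ A' hp' 1).2
    ((ξ.ofConv.comp (OortTate.eigenAug R A p χ 1).subtype).comp θ.symm.toLinearMap)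
  refine ⟨f, f.2, fun y => ?_⟩
  have := LinearMap.congr_fun hf (θ y)
  simpa using this

include hp' hu hχ hχp hrk hrk' hθ in
theorem g_surj : Function.Surjective (g hp u χ θ) := by
  intro a'
  have h0 : (LinearMap.range (g hp u χ θ)).mkQ a' = 0 := by
    apply eq_zero_of_Z hp u hu χ hχ hχp hrk
    intro x hx ξ hξ
    obtain ⟨ξ', hξ', hξξ'⟩ := exists_dual hp' u hu χ hχ θ ξ
    have hx' : ((θ ⟨x, hx⟩ : OortTate.eigenAug R A' p χ 1) : A') ∈ OortTate.eigenAug R A' p χ 1 :=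
      (θ ⟨x, hx⟩).2
    have he : ξ'.ofConv ((θ ⟨x, hx⟩ : OortTate.eigenAug R A' p χ 1) : A') = ξ.ofConv x :=
      hξξ' ⟨x, hx⟩
    have hexp := expand_loc hp' u hu χ hχ hχp hrk' _ hx' ξ' hξ' a'
    rw [he] at hexp
    apply Z_of_smul (p - 1)
    rw [← map_smul, hexp, map_sum]
    apply Z_sum
    intro j _
    rw [map_smul]
    apply Z_smul
    have h1 := Z_map (LinearMap.range (g hp u χ θ)).mkQ
      (g_pow hp u hu χ hχ hχp hrk θ x hx ξ hξ hθ j)
    rw [map_sub, Submodule.mkQ_apply, Submodule.mkQ_apply,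
      (Submodule.Quotient.mk_eq_zero _).mpr (LinearMap.mem_range_self (g hp u χ θ) (x ^ j)), zero_sub] at h1
    have h2 := Z_neg h1
    rwa [neg_neg] at h2
  rw [Submodule.mkQ_apply, Submodule.Quotient.mk_eq_zero] at h0
  exact h0

include hu hχ hχp hrk hθ in
theorem g_counit (a : A) :
    Coalgebra.counit (R := R) (g hp u χ θ a) = Coalgebra.counit (R := R) a := by
  have key : (toConv ((Coalgebra.counit (R := R) (A := A')) ∘ₗ g hp u χ θ -
      Coalgebra.counit (R := R) (A := A)) : D R A) = 0 := by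
    apply eq_zero_of_Z hp u hu χ hχ hχp hrk
    intro x hx ξ hξ
    apply Z_dual hp u hu χ hχ hχp hrk x hx ξ hξ
    intro j hj
    rw [WithConv.ofConv_toConv, LinearMap.sub_apply, LinearMap.comp_apply]
    have h1 := Z_map (Coalgebra.counit (R := R) (A := A'))
      (g_pow hp u hu χ hχ hχp hrk θ x hx ξ hξ hθ j)
    have h2 : Coalgebra.counit (R := R) (((θ ⟨x, hx⟩ : OortTate.eigenAug R A' p χ 1) : A') ^ j) =
        Coalgebra.counit (R := R) (x ^ j) := by
      by_cases hj0 : j = 0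
      · subst hj0
        rw [pow_zero, pow_zero, Bialgebra.counit_one, Bialgebra.counit_one]
      · rw [counit_of_mem χ (pow_mem_eigenAug χ x hx j (by omega)),
          counit_of_mem χ (pow_mem_eigenAug χ _ (θ ⟨x, hx⟩).2 j (by omega))]
    rwa [map_sub, h2] at h1
  have := congrArg (fun f : D R A => f.ofConv a) key
  simp only [WithConv.ofConv_toConv, LinearMap.sub_apply, LinearMap.comp_apply,
    WithConv.ofConv_zero, LinearMap.zero_apply] at this
  exact sub_eq_zero.mp this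

variable (hθD : ∀ (φ : Fin p → OortTate.eigenAug R (CartDual.D R A) p χ 1)
      (φ' : Fin p → OortTate.eigenAug R (CartDual.D R A') p χ 1)
      (ψ : OortTate.eigenAug R (CartDual.D R A) p χ 1) (ψ' : OortTate.eigenAug R (CartDual.D R A') p χ 1),
      (∀ i, ∀ x : OortTate.eigenAug R A p χ 1,
        CartDual.toDual R A (φ i : CartDual.D R A) (x : A) =
          CartDual.toDual R A' (φ' i : CartDual.D R A') ((θ x : OortTate.eigenAug R A' p χ 1) : A')) →
      (ψ : CartDual.D R A) = ∏ i, (φ i : CartDual.D R A) →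
      (ψ' : CartDual.D R A') = ∏ i, (φ' i : CartDual.D R A') →
      ∀ x : OortTate.eigenAug R A p χ 1,
        CartDual.toDual R A (ψ : CartDual.D R A) (x : A) =
          CartDual.toDual R A' (ψ' : CartDual.D R A') ((θ x : OortTate.eigenAug R A' p χ 1) : A'))

include hp' hu hχ hχp hrk hrk' hθ hθD in
theorem gT_pow (x : A) (hx : x ∈ OortTate.eigenAug R A p χ 1) (ξ : D R A)
    (hξ : ξ ∈ OortTate.eigenAug R (D R A) p χ 1) (ξ' : D R A')
    (hξ' : ξ' ∈ OortTate.eigenAug R (D R A') p χ 1)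
    (hξξ' : ∀ y : OortTate.eigenAug R A p χ 1,
      (ξ' : D R A').ofConv ((θ y : OortTate.eigenAug R A' p χ 1) : A') = ξ.ofConv (y : A)) (n : ℕ) :
    Z (ξ.ofConv x) (gT (g hp u χ θ) (ξ' ^ n) - ξ ^ n) := by
  have hp2 := (Fact.out : p.Prime).two_le
  have hx' : ((θ ⟨x, hx⟩ : OortTate.eigenAug R A' p χ 1) : A') ∈ OortTate.eigenAug R A' p χ 1 :=
    (θ ⟨x, hx⟩).2
  have he : ξ'.ofConv ((θ ⟨x, hx⟩ : OortTate.eigenAug R A' p χ 1) : A') = ξ.ofConv x :=
    hξξ' ⟨x, hx⟩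
  have hb : (ξ' ^ p).ofConv ((θ ⟨x, hx⟩ : OortTate.eigenAug R A' p χ 1) : A') =
      (ξ ^ p).ofConv x := by
    have := hθD (fun _ => ⟨ξ, hξ⟩) (fun _ => ⟨ξ', hξ'⟩) ⟨ξ ^ p, pow_p_mem χ ξ hξ⟩
      ⟨ξ' ^ p, pow_p_mem χ ξ' hξ'⟩ (fun _ y => (hξξ' y).symm) (by simp) (by simp) ⟨x, hx⟩
    exact this.symm
  have hs := dual_collapse hp' u hu χ hχ hχp hrk' _ hx' ξ' hξ'
  rw [he, hb] at hs
  refine powCompatLoc hp2 (ξ.ofConv x) ((ξ ^ p).ofConv x) ξ' ξ hs
    (dual_collapse hp u hu χ hχ hχp hrk x hx ξ hξ) (gT (g hp u χ θ)) ?_ n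
  intro j hj
  apply Z_dual hp u hu χ hχ hχp hrk x hx ξ hξ
  intro m hm
  rw [WithConv.ofConv_sub, LinearMap.sub_apply, gT_apply]
  have h1 := Z_map (ξ' ^ j).ofConv (g_pow hp u hu χ hχ hχp hrk θ x hx ξ hξ hθ m)
  have h2 : (ξ' ^ j).ofConv (((θ ⟨x, hx⟩ : OortTate.eigenAug R A' p χ 1) : A') ^ m) =
      (ξ ^ j).ofConv (x ^ m) := by
    rw [pair_pow hp' u hu χ hχ hχp hrk' _ hx' ξ' hξ' j m hj hm,
      pair_pow hp u hu χ hχ hχp hrk x hx ξ hξ j m hj hm, he]
  rwa [map_sub, h2] at h1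

include hp' hu hχ hχp hrk hrk' hθ hθD in
theorem gT_mul (ζ₁ ζ₂ : D R A') :
    gT (g hp u χ θ) (ζ₁ * ζ₂) = gT (g hp u χ θ) ζ₁ * gT (g hp u χ θ) ζ₂ := by
  rw [← sub_eq_zero]
  apply eq_zero_of_Z hp u hu χ hχ hχp hrk
  intro x hx ξ hξ
  obtain ⟨ξ', hξ', hξξ'⟩ := exists_dual hp' u hu χ hχ θ ξ
  have hx' : ((θ ⟨x, hx⟩ : OortTate.eigenAug R A' p χ 1) : A') ∈ OortTate.eigenAug R A' p χ 1 :=
    (θ ⟨x, hx⟩).2
  have he : ξ'.ofConv ((θ ⟨x, hx⟩ : OortTate.eigenAug R A' p χ 1) : A') = ξ.ofConv x :=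
    hξξ' ⟨x, hx⟩
  have hspan := span_dual_loc hp' u hu χ hχ hχp hrk' _ hx' ξ' hξ'
  rw [he] at hspan
  exact mulCompatLoc _ ξ' ξ (gT (g hp u χ θ))
    (gT_pow hp hp' u hu χ hχ hχp hrk hrk' θ hθ hθD x hx ξ hξ ξ' hξ' hξξ') hspan ζ₁ ζ₂

include hp hp' hu hχ hχp hrk hrk' hθ hθD in
theorem main_iso : Nonempty (A ≃ₐc[R] A') := by
  let gA : A →ₐ[R] A' := AlgHom.ofLinearMap (g hp u χ θ) (g_one hp u hu χ hχ hχp hrk θ)
    (g_mul hp u hu χ hχ hχp hrk θ hθ)
  have hbij : Function.Bijective gA := by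
    have hs : Function.Surjective (g hp u χ θ) := g_surj hp hp' u hu χ hχ hχp hrk hrk' θ hθ
    exact Module.bijective_of_surjective_of_rankAtStalk_eq hs (fun m _ => by rw [hrk, hrk'])
  have hcounit : (Bialgebra.counitAlgHom R A').comp (AlgEquiv.ofBijective gA hbij : A →ₐ[R] A') =
      Bialgebra.counitAlgHom R A := by
    apply AlgHom.ext
    intro a
    exact g_counit hp u hu χ hχ hχp hrk θ hθ a
  have hcomul : (Algebra.TensorProduct.map (AlgEquiv.ofBijective gA hbij : A →ₐ[R] A')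
        (AlgEquiv.ofBijective gA hbij : A →ₐ[R] A')).comp (Bialgebra.comulAlgHom R A) =
      (Bialgebra.comulAlgHom R A').comp (AlgEquiv.ofBijective gA hbij : A →ₐ[R] A') := by
    apply AlgHom.ext
    intro a
    exact comul_compat (g hp u χ θ) (gT_mul hp hp' u hu χ hχ hχp hrk hrk' θ hθ hθD) a
  exact ⟨BialgEquiv.ofAlgEquiv (AlgEquiv.ofBijective gA hbij) hcounit hcomul⟩

end glob

end main

end Groth.Agent.H92.OTExp
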