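import Mathlib

/-!
# A spanning family of `n` elements in a finite projective module of constant rank `n` is a basis
-/

set_option autoImplicit false
universe u v

namespace Groth.Agent.H92.RankBasis

theorem linearIndependent_of_span {R : Type u} [CommRing R] {M : Type v} [AddCommGroup M] [Module R M]
    [Module.Finite R M] [Module.Projective R M] (n : ℕ)
    (hrk : ∀ q : PrimeSpectrum R, Module.rankAtStalk M q = n) (v : Fin n → M)
    (hv : ⊤ ≤ Submodule.span R (Set.range v)) : LinearIndependent R v := by
  rw [linearIndependent_iff_injective_fintypeLinearCombination]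
  have hs : Function.Surjective (Fintype.linearCombination R v) := by
    rw [← LinearMap.range_eq_top, Fintype.range_linearCombination]
    exact top_le_iff.mp hv
  refine (Module.bijective_of_surjective_of_rankAtStalk_eq hs ?_).1
  intro m hm
  have : Nontrivial R := ⟨⟨0, 1, fun h => hm.ne_top (by
    rw [Ideal.eq_top_iff_one, ← h]; exact m.zero_mem)⟩⟩
  rw [hrk, Module.rankAtStalk_eq_finrank_of_free]
  simp

/-- the basis -/
noncomputable def basisOfSpan {R : Type u} [CommRing R] {M : Type v} [AddCommGroup M] [Module R M]
    [Module.Finite R M] [Module.Projective R M] (n : ℕ)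
    (hrk : ∀ q : PrimeSpectrum R, Module.rankAtStalk M q = n) (v : Fin n → M)
    (hv : ⊤ ≤ Submodule.span R (Set.range v)) : Module.Basis (Fin n) R M :=
  Module.Basis.mk (linearIndependent_of_span n hrk v hv) hv

theorem basisOfSpan_apply {R : Type u} [CommRing R] {M : Type v} [AddCommGroup M] [Module R M]
    [Module.Finite R M] [Module.Projective R M] (n : ℕ)
    (hrk : ∀ q : PrimeSpectrum R, Module.rankAtStalk M q = n) (v : Fin n → M)
    (hv : ⊤ ≤ Submodule.span R (Set.range v)) (i : Fin n) : basisOfSpan n hrk v hv i = v i := by
  unfold basisOfSpan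
  rw [Module.Basis.mk_apply]

end Groth.Agent.H92.RankBasis
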