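import Groth.Agent.H92.OTPair
import Groth.Agent.H92.RankBasis

/-!
# Oort–Tate: the case where the `χ`-eigenspaces of `A` and of its Cartier dual are generated by
`x`, `ξ` with `ξ(x) = 1`: `A` is free on `1, x, …, x^{p-1}` and `ξ^i(x^j) = w_j δ_ij`.
-/

set_option autoImplicit false
set_option linter.unusedSectionVars false
universe u

namespace Groth.Agent.H92.OTGen
open Groth.Agent.H92.OTChar Groth.Agent.H92.OTEigen Groth.Agent.H92.OTDual Groth.Agent.H92.OTPair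
open WithConv CartDual TensorProduct Groth.Agent.S18473 Groth.Agent.H92.RankBasis

variable {R : Type u} [CommRing R] {A : Type u} [CommRing A] [HopfAlgebra R A]
  [Coalgebra.IsCocomm R A] [Module.Finite R A] [Module.Projective R A]
  {p : ℕ} [Fact p.Prime] (hp : (toConv (AlgHom.id R A)) ^ p = 1)
  (u : R) (hu : u * ((p - 1 : ℕ) : R) = 1) (χ : (ZMod p)ˣ →* Rˣ)
  (hχ : ∀ m : (ZMod p)ˣ, m ≠ 1 → IsUnit ((χ m : R) - 1))

/-- a functional in the `χ^i`-eigenspace of the dual, evaluated on `P_j a` -/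
theorem dual_PJ (i j : ℕ) (ζ : D R A) (hζ : ζ ∈ OortTate.eigenAug R (D R A) p χ i) (a : A) :
    ζ.ofConv (PJ hp u χ j a) = (u * S χ ((i : ℤ) - j)) * ζ.ofConv a := by
  rw [PJ_apply]
  have h1 := proj_dual_apply (A := A) u χ j ζ (a - algebraMap R A (Coalgebra.counit a))
  rw [CartDual.coe_apply, CartDual.coe_apply] at h1
  rw [← h1, proj_of_mem u χ j i ζ hζ, WithConv.ofConv_smul, LinearMap.smul_apply, smul_eq_mul, map_sub]
  have h0 : ζ.ofConv 1 = 0 := counit_of_mem χ hζ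
  rw [Algebra.algebraMap_eq_smul_one, map_smul, h0, smul_zero, sub_zero]

include hu hχ in
theorem sum_PJ' (a : A) :
    ∑ j ∈ Finset.Ico 1 p, PJ hp u χ j a = a - algebraMap R A (Coalgebra.counit a) := by
  have hp2 := (Fact.out : p.Prime).two_le
  rw [← sum_PJ hp u hu χ hχ a, Finset.range_eq_Ico]
  have hR : ∑ i ∈ Finset.Ico 0 (p - 1), PJ hp u χ i a =
      PJ hp u χ 0 a + ∑ i ∈ Finset.Ico (0 + 1) (p - 1), PJ hp u χ i a :=
    Finset.sum_eq_sum_Ico_succ_bot (by omega) _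
  have hpp : Finset.Ico 1 p = Finset.Ico 1 ((p - 1) + 1) := by
    congr 1; omega
  have hL : ∑ j ∈ Finset.Ico 1 p, PJ hp u χ j a =
      ∑ j ∈ Finset.Ico 1 (p - 1), PJ hp u χ j a + PJ hp u χ (p - 1) a := by
    rw [hpp, Finset.sum_Ico_succ_top (by omega)]
  have h0 := PJ_periodic hp u χ 0
  rw [zero_add] at h0
  rw [hR, hL, h0, zero_add, add_comm]

section gen
variable (x : A) (hx : Submodule.span R {x} = OortTate.eigenAug R A p χ 1)
  (ξ : D R A) (hξ : ξ ∈ OortTate.eigenAug R (D R A) p χ 1) (hxξ : ξ.ofConv x = 1)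

include hu hx hξ hxξ in
theorem PJ_one_eq : toConv (PJ hp u χ 1) = rk ξ x := by
  apply WithConv.ofConv_injective
  apply LinearMap.ext
  intro a
  rw [WithConv.ofConv_toConv, rk_apply]
  have hm := PJ_mem hp u χ 1 a
  rw [← hx, Submodule.mem_span_singleton] at hm
  obtain ⟨c, hc⟩ := hm
  have h2 := dual_PJ hp u χ 1 1 ξ hξ a
  rw [sub_self, S_of_dvd (dvd_zero _), hu, one_mul, ← hc, map_smul, hxξ, smul_eq_mul, mul_one] at h2
  rw [← hc, h2]

include hu hχ hx hξ hxξ in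
theorem PJ_eq_rk (j : ℕ) (h1 : 1 ≤ j) (h2 : j ≤ p - 1) :
    Wc u χ j • toConv (PJ hp u χ j) = rk (ξ ^ j) (x ^ j) := by
  rw [← PJ_pow hp u hu χ hχ j h1 h2, PJ_one_eq hp u hu χ x hx ξ hξ hxξ, rk_pow]

include hu hχ hx hξ hxξ in
theorem PJ_eq_rk_apply (j : ℕ) (h1 : 1 ≤ j) (h2 : j ≤ p - 1) (a : A) :
    Wc u χ j • PJ hp u χ j a = (ξ ^ j).ofConv a • x ^ j := by
  have := congrArg (fun f : E R A => f.ofConv a) (PJ_eq_rk hp u hu χ hχ x hx ξ hξ hxξ j h1 h2)
  simpa only [WithConv.ofConv_smul, LinearMap.smul_apply, WithConv.ofConv_toConv, rk_apply] using this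

include hp hu hχ hx hξ hxξ in
theorem expand (hW : ∀ j : ℕ, j ≤ p - 1 → IsUnit (Wc u χ j)) (a : A) :
    a = ∑ j ∈ Finset.range p, (Ring.inverse (Wc u χ j) * (ξ ^ j).ofConv a) • x ^ j := by
  have hp2 := (Fact.out : p.Prime).two_le
  rw [Finset.range_eq_Ico, Finset.sum_eq_sum_Ico_succ_bot (by omega)]
  have h0 : (Ring.inverse (Wc u χ 0) * (ξ ^ 0).ofConv a) • x ^ 0 =
      algebraMap R A (Coalgebra.counit a) := by
    rw [Wc_zero, Ring.inverse_one, one_mul, pow_zero, pow_zero, Algebra.algebraMap_eq_smul_one]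
    rfl
  rw [h0]
  have h1 : ∀ j ∈ Finset.Ico (0 + 1) p,
      (Ring.inverse (Wc u χ j) * (ξ ^ j).ofConv a) • x ^ j = PJ hp u χ j a := by
    intro j hj
    rw [Finset.mem_Ico] at hj
    rw [mul_smul, ← PJ_eq_rk_apply hp u hu χ hχ x hx ξ hξ hxξ j (by omega) (by omega), smul_smul,
      Ring.inverse_mul_cancel _ (hW j (by omega)), one_smul]
  rw [Finset.sum_congr rfl h1, zero_add, sum_PJ' hp u hu χ hχ a]
  ring

include hp hu hχ hx hξ hxξ in
theorem span_pow (hW : ∀ j : ℕ, j ≤ p - 1 → IsUnit (Wc u χ j)) :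
    ⊤ ≤ Submodule.span R (Set.range (fun j : Fin p => x ^ (j : ℕ))) := by
  intro a _
  rw [expand hp u hu χ hχ x hx ξ hξ hxξ hW a]
  refine Submodule.sum_mem _ fun j hj => Submodule.smul_mem _ _ ?_
  exact Submodule.subset_span ⟨⟨j, Finset.mem_range.mp hj⟩, rfl⟩

variable (hrk : ∀ q : PrimeSpectrum R, Module.rankAtStalk A q = p)
  (hW : ∀ j : ℕ, j ≤ p - 1 → IsUnit (Wc u χ j))

/-- the basis `1, x, …, x^{p-1}` -/
noncomputable def powBasis : Module.Basis (Fin p) R A :=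
  basisOfSpan p hrk (fun j : Fin p => x ^ (j : ℕ)) (span_pow hp u hu χ hχ x hx ξ hξ hxξ hW)

theorem powBasis_apply (j : Fin p) :
    powBasis hp u hu χ hχ x hx ξ hξ hxξ hrk hW j = x ^ (j : ℕ) :=
  basisOfSpan_apply _ _ _ _ _

include hp hu hχ hx hξ hxξ hrk hW in
theorem xi_pow_x_pow (i j : Fin p) :
    (ξ ^ (i : ℕ)).ofConv (x ^ (j : ℕ)) = if i = j then Wc u χ j else 0 := by
  set b := powBasis hp u hu χ hχ x hx ξ hξ hxξ hrk hW with hb
  have hbj : ∀ l : Fin p, b l = x ^ (l : ℕ) := powBasis_apply hp u hu χ hχ x hx ξ hξ hxξ hrk hW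
  have h1 := expand hp u hu χ hχ x hx ξ hξ hxξ hW (x ^ (j : ℕ))
  rw [Finset.sum_range (fun l => (Ring.inverse (Wc u χ l) * (ξ ^ l).ofConv (x ^ (j : ℕ))) • x ^ l)] at h1
  simp only [← hbj] at h1
  have h2 := congrArg (fun y => b.repr y i) h1
  simp only [Module.Basis.repr_self] at h2
  rw [Module.Basis.repr_sum_self] at h2
  have hWi := hW i (by have := i.2; omega)
  have h3 : (ξ ^ (i : ℕ)).ofConv (b j) =
      Wc u χ i * (Ring.inverse (Wc u χ i) * (ξ ^ (i : ℕ)).ofConv (b j)) := by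
    rw [← mul_assoc, Ring.mul_inverse_cancel _ hWi, one_mul]
  rw [← hbj j, h3, ← h2, Finsupp.single_apply]
  by_cases hij : i = j
  · subst hij; simp
  · rw [if_neg (Ne.symm hij), if_neg hij, mul_zero]

end gen

end Groth.Agent.H92.OTGen
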