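import Groth.Agent.H92.OTPair

/-!
# The algebra isomorphism `A ⊗ A^D ≃ End(A)` (convolution algebra)
-/

set_option autoImplicit false
set_option linter.unusedSectionVars false
universe u

namespace Groth.Agent.H92.OTTheta
open Groth.Agent.H92.OTPair
open WithConv CartDual TensorProduct

variable {K : Type u} [CommRing K] {B : Type u} [CommRing B] [HopfAlgebra K B]
  [Module.Finite K B] [Module.Projective K B]

/-- the linear isomorphism `B ⊗ B^D ≃ End(B)` -/
noncomputable def thetaLin (K : Type u) [CommRing K] (B : Type u) [CommRing B] [HopfAlgebra K B]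
    [Module.Finite K B] [Module.Projective K B] : B ⊗[K] D K B ≃ₗ[K] E K B :=
  (TensorProduct.congr (LinearEquiv.refl K B) (toDual K B)) ≪≫ₗ (TensorProduct.comm K B (Module.Dual K B))
    ≪≫ₗ (dualTensorHomEquiv K B B) ≪≫ₗ (WithConv.linearEquiv K (B →ₗ[K] B)).symm

theorem thetaLin_tmul (a : B) (ξ : D K B) : thetaLin K B (a ⊗ₜ[K] ξ) = rk ξ a := by
  apply WithConv.ofConv_injective
  apply LinearMap.ext
  intro b
  simp [thetaLin, rk_apply, dualTensorHomEquiv, dualTensorHom_apply]

instance instRightDistribClassTensor' : RightDistribClass (B ⊗[K] D K B) := by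
  let _ : Semiring (B ⊗[K] D K B) := inferInstance
  infer_instance

instance instLeftDistribClassTensor' : LeftDistribClass (B ⊗[K] D K B) := by
  let _ : Semiring (B ⊗[K] D K B) := inferInstance
  infer_instance

noncomputable instance instMulZeroClassTensor' : MulZeroClass (B ⊗[K] D K B) := by
  let _ : Semiring (B ⊗[K] D K B) := inferInstance
  infer_instance

variable [Coalgebra.IsCocomm K B]

theorem thetaLin_mul (y y' : B ⊗[K] D K B) :
    thetaLin K B (y * y') = thetaLin K B y * thetaLin K B y' := by
  induction y using TensorProduct.induction_on with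
  | zero => simp
  | add y₁ y₂ h₁ h₂ => rw [add_mul, map_add, map_add, add_mul, h₁, h₂]
  | tmul a ξ =>
    induction y' using TensorProduct.induction_on with
    | zero => simp
    | add y₁ y₂ h₁ h₂ => rw [mul_add, map_add, map_add, mul_add, h₁, h₂]
    | tmul a' ξ' =>
      rw [Algebra.TensorProduct.tmul_mul_tmul, thetaLin_tmul, thetaLin_tmul, thetaLin_tmul, rk_mul]

theorem thetaLin_one : thetaLin K B 1 = 1 := by
  rw [Algebra.TensorProduct.one_def, thetaLin_tmul, rk_one]

theorem thetaLin_pow (y : B ⊗[K] D K B) (n : ℕ) :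
    thetaLin K B (y ^ n) = thetaLin K B y ^ n := by
  induction n with
  | zero => rw [pow_zero, pow_zero, thetaLin_one]
  | succ n ih => rw [pow_succ, pow_succ, thetaLin_mul, ih]


end Groth.Agent.H92.OTTheta
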