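import Groth.Agent.H92.OTPair

/-!
# The constant `w_p`: `y_1^p = -(w_{p-1} u p) y_1` in the group algebra of `ℤ/p`
-/

set_option autoImplicit false
set_option linter.unusedSectionVars false
universe u

namespace Groth.Agent.H92.OTW
open Groth.Agent.H92.OTChar Groth.Agent.H92.OTPair Groth.Agent.S18473

variable {p : ℕ} [Fact p.Prime] {R : Type u} [CommRing R]
  (u : R) (hu : u * ((p - 1 : ℕ) : R) = 1) (χ : (ZMod p)ˣ →* Rˣ)
  (hχ : ∀ m : (ZMod p)ˣ, m ≠ 1 → IsUnit ((χ m : R) - 1))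

theorem J_top : J χ (p - 1) = S χ (-1) - 1 := by
  unfold J
  rw [Finset.sum_comm]
  have h1 : ∀ n : (ZMod p)ˣ, ∑ m : (ZMod p)ˣ,
      (if (m : ZMod p) + (n : ZMod p) = 1 then ((χ m⁻¹ : Rˣ) : R) ^ (p - 1) * ((χ n⁻¹ : Rˣ) : R) else 0) =
      if n = 1 then 0 else ((χ n⁻¹ : Rˣ) : R) := by
    intro n
    by_cases hn : n = 1
    · subst hn
      rw [if_pos rfl]
      refine Finset.sum_eq_zero fun m _ => ?_
      rw [if_neg]
      intro h
      rw [Units.val_one, add_eq_right] at h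
      exact m.ne_zero h
    · rw [if_neg hn]
      have h0 : (1 : ZMod p) - (n : ZMod p) ≠ 0 := by
        intro h
        apply hn
        apply Units.ext
        rw [Units.val_one]
        exact (sub_eq_zero.mp h).symm
      rw [Finset.sum_eq_single (Units.mk0 _ h0)]
      · rw [if_pos (by simp), chi_val_pow_card, one_mul]
      · intro m _ hm
        rw [if_neg]
        intro h
        apply hm
        apply Units.ext
        rw [Units.val_mk0]
        exact eq_sub_of_add_eq h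
      · intro h; exact absurd (Finset.mem_univ _) h
  simp only [h1]
  have h2 := sum_inv_pow χ 1
  simp only [pow_one, Nat.cast_one] at h2
  rw [← h2]
  have e1 : ∑ x : (ZMod p)ˣ, ((χ x⁻¹ : Rˣ) : R) =
      ∑ x ∈ Finset.univ.erase (1 : (ZMod p)ˣ), ((χ x⁻¹ : Rˣ) : R) + 1 := by
    rw [← Finset.sum_erase_add _ _ (Finset.mem_univ (1 : (ZMod p)ˣ))]
    simp
  have e2 : ∑ x : (ZMod p)ˣ, (if x = 1 then (0 : R) else ((χ x⁻¹ : Rˣ) : R)) =
      ∑ x ∈ Finset.univ.erase (1 : (ZMod p)ˣ), ((χ x⁻¹ : Rˣ) : R) := by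
    rw [← Finset.sum_erase_add _ _ (Finset.mem_univ (1 : (ZMod p)ˣ))]
    simp only [if_true, add_zero]
    refine Finset.sum_congr rfl fun n hn => ?_
    rw [if_neg (Finset.ne_of_mem_erase hn)]
  rw [e1, e2, add_sub_cancel_right]

include hu in
theorem Y_top_mul : Y u χ (p - 1) * Y u χ 1 = (-(u * (p : R))) • Y u χ 1 := by
  have hp1 := (Fact.out : p.Prime).one_lt
  have h := eigen u hu χ 1 (Y u χ (p - 1) * Y u χ 1) (by rw [map_mul, counit_Y, zero_mul]) (by
    intro m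
    rw [map_mul, powConv_Y, powConv_Y, smul_mul_smul_comm, chi_val_pow_card, one_mul])
  rw [h]
  congr 1
  rw [ev_one_Y_mul_Y, J_top, S_of_dvd (k := -((p - 1 : ℕ) : ℤ)) (by simp)]
  have hpc : ((p - 1 : ℕ) : R) = (p : R) - 1 := by
    rw [Nat.cast_sub hp1.le, Nat.cast_one]
  have hu' : u * ((p : R) - 1) = 1 := by rw [← hpc, hu]
  rw [hpc]
  linear_combination (-(u * (p : R))) * hu'

include hu hχ in
theorem Y_pow_p : Y u χ 1 ^ p = (-(Wc u χ (p - 1) * (u * (p : R)))) • Y u χ 1 := by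
  have hp1 := (Fact.out : p.Prime).one_lt
  have hpp : Y u χ 1 ^ p = Y u χ 1 ^ (p - 1) * Y u χ 1 := by
    rw [← pow_succ]; congr 1; omega
  rw [hpp, Y_pow u hu χ hχ (p - 1) (by omega) le_rfl]
  rw [smul_mul_assoc, Y_top_mul u hu χ, smul_smul, mul_neg]

end Groth.Agent.H92.OTW
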