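import Groth.Agent.H92.OTPrim
import Groth.Agent.H92.OTW
import Groth.Agent.H92.OTGen
import Groth.Agent.H27.HopfEtale
import Groth.Agent.H92.OTTheta

/-!
# Oort–Tate over a field: all the eigenspaces `I_j` (`1 ≤ j ≤ p - 1`) are nonzero
-/

set_option autoImplicit false
set_option linter.unusedSectionVars false
universe u

namespace Groth.Agent.H92.OTField
open Groth.Agent.H92.OTChar Groth.Agent.H92.OTEigen Groth.Agent.H92.OTDual Groth.Agent.H92.OTPair
open Groth.Agent.H92.OTGen Groth.Agent.H92.OTPrim Groth.Agent.H92.OTW Groth.Agent.H92.OTTheta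
open WithConv CartDual TensorProduct Groth.Agent.S18473

section general
variable {R : Type u} [CommRing R] {A : Type u} [CommRing A] [HopfAlgebra R A]
  {p : ℕ} [Fact p.Prime] (hp : (toConv (AlgHom.id R A)) ^ p = 1)
  (u : R) (hu : u * ((p - 1 : ℕ) : R) = 1) (χ : (ZMod p)ˣ →* Rˣ)
  (hχ : ∀ m : (ZMod p)ˣ, m ≠ 1 → IsUnit ((χ m : R) - 1))

include hu in
theorem PJ_self_of_mem (j : ℕ) (f : A) (hf : f ∈ OortTate.eigenAug R A p χ j) :
    PJ hp u χ j f = f := by
  rw [PJ_of_mem hp u χ j j f hf, sub_self, S_of_dvd (dvd_zero _), hu, one_smul]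

include hu in
theorem eigenAug_eq_bot_iff (j : ℕ) : OortTate.eigenAug R A p χ j = ⊥ ↔ PJ hp u χ j = 0 := by
  constructor
  · intro h
    apply LinearMap.ext
    intro a
    have := PJ_mem hp u χ j a
    rw [h, Submodule.mem_bot] at this
    rw [this, LinearMap.zero_apply]
  · intro h
    rw [eq_bot_iff]
    intro f hf
    rw [Submodule.mem_bot, ← PJ_self_of_mem hp u hu χ j f hf, h, LinearMap.zero_apply]

include hu hχ in
theorem PJ_eq_zero_of_le (hW : ∀ j : ℕ, j ≤ p - 1 → IsUnit (Wc u χ j)) {i j : ℕ} (hi : 1 ≤ i)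
    (hij : i ≤ j) (hj : j ≤ p - 1) (h : PJ hp u χ i = 0) : PJ hp u χ j = 0 := by
  have h1 := PJ_pow hp u hu χ hχ i hi (by omega)
  have h2 := PJ_pow hp u hu χ hχ j (by omega) hj
  rw [h, WithConv.toConv_zero, smul_zero] at h1
  have hji : j = i + (j - i) := by omega
  rw [hji, pow_add, h1, zero_mul, ← hji] at h2
  obtain ⟨w, hw⟩ := hW j hj
  have h3 := congrArg (fun e : E R A => ((w⁻¹ : Rˣ) : R) • e) h2
  simp only [smul_zero, smul_smul, ← hw, Units.inv_mul, one_smul] at h3
  exact WithConv.toConv_injective h3.symm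

theorem pow_mem_eigenAug (x : A) (hx : x ∈ OortTate.eigenAug R A p χ 1) (j : ℕ) (hj : 1 ≤ j) :
    x ^ j ∈ OortTate.eigenAug R A p χ j := by
  rw [mem_eigenAug_iff] at hx ⊢
  constructor
  · rw [map_pow, hx.1, zero_pow (by omega)]
  · intro m
    have := hx.2 m
    unfold pw at this ⊢
    rw [AlgHom.toLinearMap_apply] at this ⊢
    rw [map_pow, this, smul_pow, pow_one]

include hu hχ in
theorem PJ_pow_p : (toConv (PJ hp u χ 1) : E R A) ^ p =
    (-(Wc u χ (p - 1) * (u * (p : R)))) • toConv (PJ hp u χ 1) := by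
  unfold PJ
  rw [WithConv.toConv_ofConv, ← map_pow, Y_pow_p u hu χ hχ, map_smul]

end general

section field
variable {K : Type u} [Field K] {B : Type u} [CommRing B] [HopfAlgebra K B] [Coalgebra.IsCocomm K B]
  [Module.Finite K B]
  {p : ℕ} [Fact p.Prime] (hp : (toConv (AlgHom.id K B)) ^ p = 1)
  (u : K) (hu : u * ((p - 1 : ℕ) : K) = 1) (χ : (ZMod p)ˣ →* Kˣ)
  (hχ : ∀ m : (ZMod p)ˣ, m ≠ 1 → IsUnit ((χ m : K) - 1))
  (hχp : ∀ m : (ZMod p)ˣ, ((χ m : Kˣ) : K) - (((m : ZMod p).val : ℕ) : K) ∈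
    Ideal.span ({(p : K)} : Set K))
  (hrk : Module.finrank K B = p)

include hu hχ hrk in
theorem not_all_zero (h : ∀ j ∈ Finset.range (p - 1), PJ hp u χ j = 0) : False := by
  have hp2 := (Fact.out : p.Prime).two_le
  have h1 : Module.finrank K B ≤ 1 := by
    apply finrank_le_one (1 : B)
    intro a
    refine ⟨Coalgebra.counit a, ?_⟩
    have h2 := sum_PJ hp u hu χ hχ a
    rw [Finset.sum_eq_zero (fun j hj => by rw [h j hj, LinearMap.zero_apply])] at h2
    rw [← Algebra.algebraMap_eq_smul_one]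
    exact (sub_eq_zero.mp h2.symm).symm
  omega

include hu hχ hrk in
theorem PJ_one_ne_zero (hW : ∀ j : ℕ, j ≤ p - 1 → IsUnit (Wc u χ j)) : PJ hp u χ 1 ≠ 0 := by
  have hp2 := (Fact.out : p.Prime).two_le
  intro h
  apply not_all_zero hp u hu χ hχ hrk
  intro j hj
  rw [Finset.mem_range] at hj
  by_cases hj0 : j = 0
  · subst hj0
    have h0 := PJ_periodic hp u χ 0
    rw [zero_add] at h0
    rw [← h0]
    exact PJ_eq_zero_of_le hp u hu χ hχ hW le_rfl (by omega) le_rfl h
  · exact PJ_eq_zero_of_le hp u hu χ hχ hW le_rfl (by omega) (by omega) h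

include hu hχ hrk in
/-- Case A: `p` invertible in `K`. -/
theorem top_ne_zero_of_ne (hW : ∀ j : ℕ, j ≤ p - 1 → IsUnit (Wc u χ j)) (hpK : (p : K) ≠ 0) :
    PJ hp u χ (p - 1) ≠ 0 := by
  have hp2 := (Fact.out : p.Prime).two_le
  intro h
  apply PJ_one_ne_zero hp u hu χ hχ hrk hW
  have h1 := PJ_pow hp u hu χ hχ (p - 1) (by omega) le_rfl
  rw [h, WithConv.toConv_zero, smul_zero] at h1
  have h2 := PJ_pow_p hp u hu χ hχ
  have hpp : (toConv (PJ hp u χ 1) : E K B) ^ p = toConv (PJ hp u χ 1) ^ (p - 1) * toConv (PJ hp u χ 1) := by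
    rw [← pow_succ]; congr 1; omega
  rw [hpp, h1, zero_mul] at h2
  have hu' : u ≠ 0 := fun h0 => by rw [h0, zero_mul] at hu; exact zero_ne_one hu
  have hw : -(Wc u χ (p - 1) * (u * (p : K))) ≠ 0 :=
    neg_ne_zero.mpr (mul_ne_zero (hW (p - 1) le_rfl).ne_zero (mul_ne_zero hu' hpK))
  have h3 := (smul_eq_zero.mp h2.symm).resolve_left hw
  exact WithConv.toConv_injective h3

include hχp in
theorem chi_eq_val (hpK : (p : K) = 0) (m : (ZMod p)ˣ) :
    ((χ m : Kˣ) : K) = (((m : ZMod p).val : ℕ) : K) := by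
  have h := hχp m
  rw [hpK, Ideal.span_singleton_eq_bot.mpr rfl, Ideal.mem_bot] at h
  exact sub_eq_zero.mp h

include hu hχp in
theorem PJ_one_sub_mem (hpK : (p : K) = 0) (x : B) (hx : x ∈ augI K B) :
    PJ hp u χ 1 x - x ∈ augI K B ^ 2 := by
  rw [PJ_apply, mem_augI.mp hx, map_zero, sub_zero, proj_eq]
  simp only [LinearMap.smul_apply, LinearMap.sum_apply, pow_one]
  have h1 : x = u • ∑ m : (ZMod p)ˣ, ((χ m⁻¹ : Kˣ) : K) • ((((m : ZMod p).val : ℕ) : K) • x) := by
    have : ∀ m : (ZMod p)ˣ, ((χ m⁻¹ : Kˣ) : K) • ((((m : ZMod p).val : ℕ) : K) • x) = x := by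
      intro m
      rw [← chi_eq_val χ hχp hpK m, smul_smul, ← Units.val_mul, ← map_mul, inv_mul_cancel, map_one,
        Units.val_one, one_smul]
    simp only [this]
    rw [Finset.sum_const, Finset.card_univ, ZMod.card_units_eq_totient, Nat.totient_prime Fact.out,
      ← Nat.cast_smul_eq_nsmul K, smul_smul, hu, one_smul]
  have h2 : u • ∑ m : (ZMod p)ˣ, ((χ m⁻¹ : Kˣ) : K) • pw K B m x - x =
      u • ∑ m : (ZMod p)ˣ, ((χ m⁻¹ : Kˣ) : K) • (pw K B m x - (((m : ZMod p).val : ℕ) : K) • x) := by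
    simp only [smul_sub, Finset.sum_sub_distrib]
    rw [← h1]
  rw [h2, Algebra.smul_def]
  refine Ideal.mul_mem_left _ _ (Ideal.sum_mem _ fun m _ => ?_)
  rw [Algebra.smul_def]
  refine Ideal.mul_mem_left _ _ ?_
  have := powConv_sub_nsmul_mem (R := K) (m : ZMod p).val x hx
  rw [← Nat.cast_smul_eq_nsmul K] at this
  exact this

include hp hu hχp in
/-- Case B1: the augmentation ideal is not idempotent (and `p = 0` in `K`). -/
theorem ne_bot_of_sq_ne (hpK : (p : K) = 0) (hI : augI K B ^ 2 ≠ augI K B) (j : ℕ) (hj1 : 1 ≤ j)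
    (hj : j ≤ p - 1) : OortTate.eigenAug K B p χ j ≠ ⊥ := by
  have hp2 := (Fact.out : p.Prime).two_le
  -- an element of `I_1` outside `I²`
  obtain ⟨x₀, hx₀, hx₀'⟩ := SetLike.exists_of_lt (lt_of_le_of_ne (Ideal.pow_le_self two_ne_zero) hI)
  set x := PJ hp u χ 1 x₀ with hxdef
  have hx1 : x ∈ OortTate.eigenAug K B p χ 1 := PJ_mem hp u χ 1 x₀
  have hxI : x ∉ augI K B ^ 2 := by
    intro h
    apply hx₀'
    have := Ideal.sub_mem _ h (PJ_one_sub_mem hp u hu χ hχp hpK x₀ hx₀)
    rwa [sub_sub_cancel] at this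
  have hx0 : Coalgebra.counit (R := K) x = 0 := counit_of_mem χ hx1
  -- the functional
  set V : Submodule K B := (augI K B ^ 2).restrictScalars K ⊔ Submodule.span K {(1 : B)} with hV
  have hxV : x ∉ V := by
    intro h
    rw [hV, Submodule.mem_sup] at h
    obtain ⟨y, hy, z, hz, hyz⟩ := h
    rw [Submodule.mem_span_singleton] at hz
    obtain ⟨c, rfl⟩ := hz
    have hy' : y ∈ augI K B ^ 2 := hy
    have hy0 : Coalgebra.counit (R := K) y = 0 := mem_augI.mp (Ideal.pow_le_self two_ne_zero hy')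
    have := congrArg (Coalgebra.counit (R := K)) hyz
    rw [map_add, hy0, zero_add, map_smul, Bialgebra.counit_one, smul_eq_mul, mul_one, hx0] at this
    rw [this, zero_smul, add_zero] at hyz
    exact hxI (hyz ▸ hy')
  obtain ⟨f, hfx, hVf⟩ := Submodule.exists_le_ker_of_notMem hxV
  set t : D K B := toConv ((f x)⁻¹ • f) with ht
  have ht1 : t.ofConv 1 = 0 := by
    have : (1 : B) ∈ V := Submodule.mem_sup_right (Submodule.mem_span_singleton_self 1)
    have := hVf this
    rw [LinearMap.mem_ker] at this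
    rw [ht, WithConv.ofConv_toConv, LinearMap.smul_apply, this, smul_zero]
  have ht2 : ∀ y ∈ augI K B ^ 2, t.ofConv y = 0 := by
    intro y hy
    have : y ∈ V := Submodule.mem_sup_left hy
    have := hVf this
    rw [LinearMap.mem_ker] at this
    rw [ht, WithConv.ofConv_toConv, LinearMap.smul_apply, this, smul_zero]
  have htx : t.ofConv x = 1 := by
    rw [ht, WithConv.ofConv_toConv, LinearMap.smul_apply, smul_eq_mul, inv_mul_cancel₀ hfx]
  have hprim : ∀ a b : B, t.ofConv (a * b) =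
      Coalgebra.counit (R := K) a * t.ofConv b + t.ofConv a * Coalgebra.counit (R := K) b := by
    intro a b
    have hab : a * b = (a - algebraMap K B (Coalgebra.counit a)) * (b - algebraMap K B (Coalgebra.counit b)) +
        (Coalgebra.counit (R := K) a) • b + (Coalgebra.counit (R := K) b) • a
        - (Coalgebra.counit (R := K) a * Coalgebra.counit (R := K) b) • (1 : B) := by
      simp only [Algebra.smul_def, map_mul]
      ring
    have h1 : t.ofConv ((a - algebraMap K B (Coalgebra.counit a)) *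
        (b - algebraMap K B (Coalgebra.counit b))) = 0 := by
      apply ht2
      rw [pow_two]
      exact Ideal.mul_mem_mul (sub_counit_mem a) (sub_counit_mem b)
    conv_lhs => rw [hab]
    rw [map_sub, map_add, map_add, h1, map_smul, map_smul, map_smul, ht1]
    simp only [smul_eq_mul]
    ring
  have hpair := pow_pair t hprim x hx0 htx j j le_rfl
  rw [if_pos rfl] at hpair
  have hfact : ((j.factorial : ℕ) : K) ≠ 0 := by
    haveI : CharP K p := (CharP.charP_iff_prime_eq_zero Fact.out).mpr hpK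
    rw [Ne, CharP.cast_eq_zero_iff K p, (Fact.out : p.Prime).dvd_factorial]
    omega
  have hxj : x ^ j ≠ 0 := by
    intro h
    rw [h, map_zero] at hpair
    exact hfact hpair.symm
  intro hbot
  have := pow_mem_eigenAug χ x hx1 j hj1
  rw [hbot, Submodule.mem_bot] at this
  exact hxj this

include hp hu in
/-- Case B2: transfer from the dual. -/
theorem ne_bot_of_dual_ne_bot (j : ℕ) (h : OortTate.eigenAug K (D K B) p χ j ≠ ⊥) :
    OortTate.eigenAug K B p χ j ≠ ⊥ := by
  intro hbot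
  apply h
  rw [eq_bot_iff]
  intro ζ hζ
  rw [Submodule.mem_bot]
  have hP : PJ hp u χ j = 0 := (eigenAug_eq_bot_iff hp u hu χ j).mp hbot
  apply WithConv.ofConv_injective
  apply LinearMap.ext
  intro a
  have := dual_PJ hp u χ j j ζ hζ a
  rw [hP, LinearMap.zero_apply, map_zero, sub_self, S_of_dvd (dvd_zero _), hu, one_mul] at this
  rw [← this]
  rfl

include hp hu hχ hrk in
/-- Case B3: both augmentation ideals idempotent is impossible when `p = 0` in `K`. -/
theorem false_of_idem (hW : ∀ j : ℕ, j ≤ p - 1 → IsUnit (Wc u χ j)) (hpK : (p : K) = 0)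
    (hI : augI K B ^ 2 = augI K B) (hI' : augI K (D K B) ^ 2 = augI K (D K B)) : False := by
  haveI : Algebra.Etale K B := (Groth.Agent.H27.HopfEtale.etale_iff K B).mpr hI
  haveI : Algebra.Etale K (D K B) := (Groth.Agent.H27.HopfEtale.etale_iff K (D K B)).mpr hI'
  haveI : Algebra.FormallyUnramified K (B ⊗[K] D K B) :=
    Algebra.FormallyUnramified.comp K B (B ⊗[K] D K B)
  haveI := Algebra.FormallyUnramified.isReduced_of_field K (B ⊗[K] D K B)
  apply PJ_one_ne_zero hp u hu χ hχ hrk hW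
  have h2 := PJ_pow_p hp u hu χ hχ
  rw [hpK, mul_zero, mul_zero, neg_zero, zero_smul] at h2
  obtain ⟨y, hy⟩ := (thetaLin K B).surjective (toConv (PJ hp u χ 1))
  have h3 : thetaLin K B (y ^ p) = 0 := by rw [thetaLin_pow, hy, h2]
  have h4 : y ^ p = 0 := (thetaLin K B).injective (by rw [h3, map_zero])
  have h5 : y = 0 := IsReduced.eq_zero y ⟨p, h4⟩
  rw [h5, map_zero] at hy
  exact WithConv.toConv_injective hy.symm

include hp hu hχ hχp hrk in
/-- **Field case**: all the eigenspaces `I_j`, `1 ≤ j ≤ p - 1`, are nonzero. -/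
theorem field_main (hW : ∀ j : ℕ, j ≤ p - 1 → IsUnit (Wc u χ j)) (j : ℕ) (hj1 : 1 ≤ j)
    (hj : j ≤ p - 1) : OortTate.eigenAug K B p χ j ≠ ⊥ := by
  by_cases hpK : (p : K) = 0
  · by_cases hI : augI K B ^ 2 = augI K B
    · by_cases hI' : augI K (D K B) ^ 2 = augI K (D K B)
      · exact (false_of_idem hp u hu χ hχ hrk hW hpK hI hI').elim
      · apply ne_bot_of_dual_ne_bot hp u hu χ j
        exact ne_bot_of_sq_ne (killed_dual hp) u hu χ hχp hpK hI' j hj1 hj
    · exact ne_bot_of_sq_ne hp u hu χ hχp hpK hI j hj1 hj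
  · rw [Ne, eigenAug_eq_bot_iff hp u hu χ j]
    intro h
    exact top_ne_zero_of_ne hp u hu χ hχ hrk hW hpK
      (PJ_eq_zero_of_le hp u hu χ hχ hW hj1 hj le_rfl h)

end field

end Groth.Agent.H92.OTField
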