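import Groth.Agent.H92.OTPairing

/-!
# Oort–Tate: local computations with a pair `x ∈ I_1(A)`, `ξ ∈ I_1(A^D)` up to powers of `e = ξ(x)`
-/

set_option autoImplicit false
set_option linter.unusedSectionVars false
universe u

namespace Groth.Agent.H92.OTLoc
open Groth.Agent.H92.OTChar Groth.Agent.H92.OTEigen Groth.Agent.H92.OTDual Groth.Agent.H92.OTPair
open Groth.Agent.H92.OTGen Groth.Agent.H92.OTField Groth.Agent.H92.OTRank Groth.Agent.H92.OTTheta
open Groth.Agent.H92.LocCyclic Groth.Agent.H92.OTPairing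
open WithConv CartDual TensorProduct Groth.Agent.S18473

section Zpred
variable {R : Type*} [CommRing R] {M : Type*} [AddCommGroup M] [Module R M]

/-- `m` is killed by a power of `e` -/
def Z (e : R) (m : M) : Prop := ∃ N : ℕ, e ^ N • m = 0

theorem Z_zero (e : R) : Z e (0 : M) := ⟨0, smul_zero _⟩

theorem Z_of_eq (e : R) {m : M} (h : m = 0) : Z e m := h ▸ Z_zero e

theorem Z_add {e : R} {m m' : M} (h : Z e m) (h' : Z e m') : Z e (m + m') := by
  obtain ⟨N, hN⟩ := h
  obtain ⟨N', hN'⟩ := h'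
  refine ⟨N + N', ?_⟩
  rw [smul_add]
  have h1 : e ^ (N + N') • m = e ^ N' • (e ^ N • m) := by rw [smul_smul, ← pow_add, add_comm]
  have h2 : e ^ (N + N') • m' = e ^ N • (e ^ N' • m') := by rw [smul_smul, ← pow_add]
  rw [h1, h2, hN, hN', smul_zero, smul_zero, add_zero]

theorem Z_smul {e : R} (r : R) {m : M} (h : Z e m) : Z e (r • m) := by
  obtain ⟨N, hN⟩ := h
  exact ⟨N, by rw [smul_comm, hN, smul_zero]⟩

theorem Z_smul_of_Z {e : R} {r : R} (h : Z e r) (m : M) : Z e (r • m) := by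
  obtain ⟨N, hN⟩ := h
  exact ⟨N, by rw [smul_smul, ← smul_eq_mul, hN, zero_smul]⟩

theorem Z_neg {e : R} {m : M} (h : Z e m) : Z e (-m) := by
  obtain ⟨N, hN⟩ := h
  exact ⟨N, by rw [smul_neg, hN, neg_zero]⟩

theorem Z_sub {e : R} {m m' : M} (h : Z e m) (h' : Z e m') : Z e (m - m') := by
  rw [sub_eq_add_neg]
  exact Z_add h (Z_neg h')

theorem Z_sum {e : R} {ι : Type*} (s : Finset ι) (f : ι → M) (h : ∀ i ∈ s, Z e (f i)) :
    Z e (∑ i ∈ s, f i) := by
  classical
  induction s using Finset.induction_on with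
  | empty => rw [Finset.sum_empty]; exact Z_zero e
  | insert i s hi ih =>
    rw [Finset.sum_insert hi]
    exact Z_add (h i (Finset.mem_insert_self i s)) (ih fun j hj => h j (Finset.mem_insert_of_mem hj))

theorem Z_of_smul {e : R} (k : ℕ) {m : M} (h : Z e (e ^ k • m)) : Z e m := by
  obtain ⟨N, hN⟩ := h
  exact ⟨N + k, by rw [pow_add, ← smul_smul, hN]⟩

theorem Z_map {e : R} {M' : Type*} [AddCommGroup M'] [Module R M'] (L : M →ₗ[R] M') {m : M}
    (h : Z e m) : Z e (L m) := by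
  obtain ⟨N, hN⟩ := h
  exact ⟨N, by rw [← map_smul, hN, map_zero]⟩

theorem Z_mul_left {S : Type*} [CommRing S] [Algebra R S] {e : R} (a : S) {m : S} (h : Z e m) :
    Z e (a * m) := by
  obtain ⟨N, hN⟩ := h
  exact ⟨N, by rw [← mul_smul_comm, hN, mul_zero]⟩

theorem Z_mul_right {S : Type*} [CommRing S] [Algebra R S] {e : R} (a : S) {m : S} (h : Z e m) :
    Z e (m * a) := by
  rw [mul_comm]
  exact Z_mul_left a h

/-- powers: if `L (s^j) ≈ s'^j` for `j < p` and `e s^p = a s`, `e s'^p = a s'` then for all `j`. -/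
theorem powCompatLoc {S S' : Type*} [CommRing S] [Algebra R S] [CommRing S'] [Algebra R S'] {p : ℕ}
    (hp2 : 2 ≤ p) (e a : R) (s : S) (s' : S')
    (hs : e • s ^ p = a • s) (hs' : e • s' ^ p = a • s')
    (L : S →ₗ[R] S') (hL : ∀ j : ℕ, j < p → Z e (L (s ^ j) - s' ^ j)) :
    ∀ n : ℕ, Z e (L (s ^ n) - s' ^ n) := by
  intro n
  induction n using Nat.strong_induction_on with
  | _ n ih =>
    by_cases hn : n < p
    · exact hL n hn
    · have hn' : n = p + (n - p) := by omega
      have e1 : e • s ^ n = a • s ^ (n - p + 1) := by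
        conv_lhs => rw [hn', pow_add, ← smul_mul_assoc, hs]
        rw [pow_succ', smul_mul_assoc]
      have e2 : e • s' ^ n = a • s' ^ (n - p + 1) := by
        conv_lhs => rw [hn', pow_add, ← smul_mul_assoc, hs']
        rw [pow_succ', smul_mul_assoc]
      apply Z_of_smul 1
      rw [pow_one, smul_sub, ← map_smul, e1, e2, map_smul, ← smul_sub]
      exact Z_smul a (ih (n - p + 1) (by omega))

/-- multiplicativity up to powers of `e` -/
theorem mulCompatLoc {S S' : Type*} [CommRing S] [Algebra R S] [CommRing S'] [Algebra R S']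
    (e : R) (s : S) (s' : S') (L : S →ₗ[R] S') (hL : ∀ n : ℕ, Z e (L (s ^ n) - s' ^ n))
    (hspan : ∀ y : S, ∃ N : ℕ, e ^ N • y ∈ Submodule.span R (Set.range (fun j : ℕ => s ^ j)))
    (y z : S) : Z e (L (y * z) - L y * L z) := by
  have key : ∀ y₁ ∈ Submodule.span R (Set.range (fun j : ℕ => s ^ j)),
      ∀ z₁ ∈ Submodule.span R (Set.range (fun j : ℕ => s ^ j)),
      Z e (L (y₁ * z₁) - L y₁ * L z₁) := by
    intro y₁ hy z₁ hz
    induction hy using Submodule.span_induction with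
    | mem y hy =>
      obtain ⟨i, rfl⟩ := hy
      induction hz using Submodule.span_induction with
      | mem z hz =>
        obtain ⟨j, rfl⟩ := hz
        simp only
        have h3 : L (s ^ i * s ^ j) - L (s ^ i) * L (s ^ j) =
            (L (s ^ (i + j)) - s' ^ (i + j)) - (L (s ^ i) - s' ^ i) * L (s ^ j) -
              s' ^ i * (L (s ^ j) - s' ^ j) := by
          rw [← pow_add, pow_add s' i j]
          ring
        rw [h3]
        exact Z_sub (Z_sub (hL _) (Z_mul_right _ (hL _))) (Z_mul_left _ (hL _))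
      | zero => simp only [mul_zero, map_zero, sub_zero]; exact Z_zero e
      | add z z' _ _ h h' =>
        have : L (s ^ i * (z + z')) - L (s ^ i) * L (z + z') =
            (L (s ^ i * z) - L (s ^ i) * L z) + (L (s ^ i * z') - L (s ^ i) * L z') := by
          rw [mul_add, map_add, map_add, mul_add]; abel
        simp only at this h h' ⊢
        rw [this]
        exact Z_add h h'
      | smul r z _ h =>
        have : L (s ^ i * (r • z)) - L (s ^ i) * L (r • z) =
            r • (L (s ^ i * z) - L (s ^ i) * L z) := by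
          rw [mul_smul_comm, map_smul, map_smul, mul_smul_comm, smul_sub]
        simp only at this h ⊢
        rw [this]
        exact Z_smul r h
    | zero => simp only [zero_mul, map_zero, sub_zero]; exact Z_zero e
    | add y y' _ _ h h' =>
      have : L ((y + y') * z₁) - L (y + y') * L z₁ =
          (L (y * z₁) - L y * L z₁) + (L (y' * z₁) - L y' * L z₁) := by
        rw [add_mul, map_add, map_add, add_mul]; abel
      rw [this]
      exact Z_add h h'
    | smul r y _ h =>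
      have : L ((r • y) * z₁) - L (r • y) * L z₁ = r • (L (y * z₁) - L y * L z₁) := by
        rw [smul_mul_assoc, map_smul, map_smul, smul_mul_assoc, smul_sub]
      rw [this]
      exact Z_smul r h
  obtain ⟨N, hN⟩ := hspan y
  obtain ⟨N', hN'⟩ := hspan z
  apply Z_of_smul (N + N')
  have : e ^ (N + N') • (L (y * z) - L y * L z) =
      L ((e ^ N • y) * (e ^ N' • z)) - L (e ^ N • y) * L (e ^ N' • z) := by
    rw [smul_mul_smul_comm, map_smul, map_smul, map_smul, smul_mul_smul_comm, ← pow_add, smul_sub]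
  rw [this]
  exact key _ hN _ hN'

end Zpred

section loc
variable {R : Type u} [CommRing R] {A : Type u} [CommRing A] [HopfAlgebra R A]
  [Coalgebra.IsCocomm R A] [Module.Finite R A] [Module.Projective R A]
  {p : ℕ} [Fact p.Prime] (hp : (toConv (AlgHom.id R A)) ^ p = 1)
  (u : R) (hu : u * ((p - 1 : ℕ) : R) = 1) (χ : (ZMod p)ˣ →* Rˣ)
  (hχ : ∀ m : (ZMod p)ˣ, m ≠ 1 → IsUnit ((χ m : R) - 1))
  (hχp : ∀ m : (ZMod p)ˣ, ((χ m : Rˣ) : R) - (((m : ZMod p).val : ℕ) : R) ∈
    Ideal.span ({(p : R)} : Set R))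
  (hrk : ∀ q : PrimeSpectrum R, Module.rankAtStalk A q = p)

theorem pow_p_mem {B : Type u} [CommRing B] [HopfAlgebra R B] (x : B)
    (hx : x ∈ OortTate.eigenAug R B p χ 1) : x ^ p ∈ OortTate.eigenAug R B p χ 1 := by
  have hp2 := (Fact.out : p.Prime).two_le
  have h := pow_mem_eigenAug χ x hx p (by omega)
  have e : OortTate.eigenAug R B p χ (1 + (p - 1)) = OortTate.eigenAug R B p χ 1 :=
    eigenAug_periodic χ 1
  have hpp : 1 + (p - 1) = p := by omega
  rw [hpp] at e
  rwa [e] at h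

variable (x : A) (hx : x ∈ OortTate.eigenAug R A p χ 1) (ξ : D R A)
  (hξ : ξ ∈ OortTate.eigenAug R (D R A) p χ 1)

include hp hu hχ hχp hrk hx hξ in
theorem rk_eq_smul : rk ξ x = ξ.ofConv x • (toConv (PJ hp u χ 1) : E R A) := by
  apply WithConv.ofConv_injective
  apply LinearMap.ext
  intro a
  rw [WithConv.ofConv_smul, LinearMap.smul_apply, WithConv.ofConv_toConv, rk_apply]
  have h1 := dual_PJ hp u χ 1 1 ξ hξ a
  rw [sub_self, S_of_dvd (dvd_zero _), hu, one_mul] at h1
  rw [← h1]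
  exact swap_eq hp u hu χ hχ hχp hrk 1 x (PJ hp u χ 1 a) hx (PJ_mem hp u χ 1 a) ξ

include hp hu hχ hχp hrk hx hξ in
theorem rk_pow_eq (j : ℕ) (h1 : 1 ≤ j) (h2 : j ≤ p - 1) :
    rk (ξ ^ j) (x ^ j) = (ξ.ofConv x ^ j * Wc u χ j) • (toConv (PJ hp u χ j) : E R A) := by
  rw [← rk_pow, rk_eq_smul hp u hu χ hχ hχp hrk x hx ξ hξ, smul_pow, PJ_pow hp u hu χ hχ j h1 h2,
    smul_smul]

include hp hu hχ hχp hrk hx hξ in
theorem pow_apply (j : ℕ) (h1 : 1 ≤ j) (h2 : j ≤ p - 1) (a : A) :
    (ξ ^ j).ofConv a • x ^ j = (ξ.ofConv x ^ j * Wc u χ j) • PJ hp u χ j a := by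
  have := congrArg (fun f : E R A => f.ofConv a) (rk_pow_eq hp u hu χ hχ hχp hrk x hx ξ hξ j h1 h2)
  simpa only [rk_apply, WithConv.ofConv_smul, LinearMap.smul_apply, WithConv.ofConv_toConv] using this

include hp hu hχ hχp hrk hx hξ in
theorem expand_loc (a : A) :
    ξ.ofConv x ^ (p - 1) • a = ∑ j ∈ Finset.range p,
      (ξ.ofConv x ^ (p - 1 - j) * Ring.inverse (Wc u χ j) * (ξ ^ j).ofConv a) • x ^ j := by
  have hp2 := (Fact.out : p.Prime).two_le
  rw [Finset.range_eq_Ico, Finset.sum_eq_sum_Ico_succ_bot (by omega)]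
  have h0 : (ξ.ofConv x ^ (p - 1 - 0) * Ring.inverse (Wc u χ 0) * (ξ ^ 0).ofConv a) • x ^ 0 =
      ξ.ofConv x ^ (p - 1) • algebraMap R A (Coalgebra.counit a) := by
    rw [Wc_zero, Ring.inverse_one, mul_one, pow_zero, pow_zero, Nat.sub_zero,
      Algebra.algebraMap_eq_smul_one, smul_smul]
    rfl
  rw [h0]
  have h1 : ∀ j ∈ Finset.Ico (0 + 1) p,
      (ξ.ofConv x ^ (p - 1 - j) * Ring.inverse (Wc u χ j) * (ξ ^ j).ofConv a) • x ^ j =
        ξ.ofConv x ^ (p - 1) • PJ hp u χ j a := by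
    intro j hj
    rw [Finset.mem_Ico] at hj
    have hW := Wc_isUnit u hu χ hχ hχp j (by omega)
    rw [mul_smul, pow_apply hp u hu χ hχ hχp hrk x hx ξ hξ j (by omega) (by omega), smul_smul]
    congr 1
    have e1 : ξ.ofConv x ^ (p - 1) = ξ.ofConv x ^ (p - 1 - j) * ξ.ofConv x ^ j := by
      rw [← pow_add]; congr 1; omega
    rw [e1]
    calc ξ.ofConv x ^ (p - 1 - j) * Ring.inverse (Wc u χ j) * (ξ.ofConv x ^ j * Wc u χ j)
        = ξ.ofConv x ^ (p - 1 - j) * ξ.ofConv x ^ j * (Ring.inverse (Wc u χ j) * Wc u χ j) := by ring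
      _ = ξ.ofConv x ^ (p - 1 - j) * ξ.ofConv x ^ j := by
        rw [Ring.inverse_mul_cancel _ hW, mul_one]
  rw [Finset.sum_congr rfl h1, ← Finset.smul_sum, zero_add, sum_PJ' hp u hu χ hχ a, ← smul_add]
  congr 1
  ring

include hp hu hχ hχp hrk hx hξ in
theorem pair_pow (j n : ℕ) (hj : j < p) (hn : n < p) :
    (ξ ^ j).ofConv (x ^ n) = if j = n then Wc u χ n * ξ.ofConv x ^ n else 0 := by
  have hp2 := (Fact.out : p.Prime).two_le
  by_cases hjn : j = n
  · subst hjn
    rw [if_pos rfl]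
    by_cases hj0 : j = 0
    · subst hj0
      rw [pow_zero, pow_zero, pow_zero, Wc_zero, mul_one]
      simp [LinearMap.convOne_def]
    · have hj1 : 1 ≤ j := by omega
      rw [← sub_eq_zero]
      apply faithful hp u hu χ hχ hχp hrk j
      intro f hf
      rw [sub_smul, sub_eq_zero]
      have h1 := swap_eq hp u hu χ hχ hχp hrk j (x ^ j) f (pow_mem_eigenAug χ x hx j hj1) hf (ξ ^ j)
      rw [← h1, pow_apply hp u hu χ hχ hχp hrk x hx ξ hξ j hj1 (by omega) f,
        PJ_self_of_mem hp u hu χ j f hf, mul_comm]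
  · rw [if_neg hjn]
    by_cases hn0 : n = 0
    · subst hn0
      have hj1 : 1 ≤ j := by omega
      rw [pow_zero]
      exact counit_of_mem χ (pow_mem_eigenAug χ ξ hξ j hj1)
    · have hn1 : 1 ≤ n := by omega
      have hxn := pow_mem_eigenAug χ x hx n hn1
      by_cases hj0 : j = 0
      · subst hj0
        rw [pow_zero]
        have : Coalgebra.counit (R := R) (x ^ n) = 0 := counit_of_mem χ hxn
        simp [LinearMap.convOne_def, this]
      · have hj1 : 1 ≤ j := by omega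
        have h1 := dual_PJ hp u χ j n (ξ ^ j) (pow_mem_eigenAug χ ξ hξ j hj1) (x ^ n)
        rw [PJ_self_of_mem hp u hu χ n _ hxn, S_eq_zero hχ, mul_zero, zero_mul] at h1
        · exact h1
        · rintro ⟨c, hc⟩
          have hc0 : c ≠ 0 := by
            rintro rfl
            apply hjn
            have : (j : ℤ) - n = 0 := by rw [hc, mul_zero]
            omega
          have h2 : (1 : ℤ) ≤ |c| := Int.one_le_abs hc0
          have h3 : |(j : ℤ) - n| = ((p - 1 : ℕ) : ℤ) * |c| := by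
            rw [hc, abs_mul, abs_of_nonneg (by positivity)]
          have h4 : |(j : ℤ) - n| < ((p - 1 : ℕ) : ℤ) := by
            rw [abs_lt]
            constructor <;> push_cast [Nat.cast_sub (by omega : 1 ≤ p)] <;> omega
          nlinarith

include hp hu hχ hχp hrk hx hξ in
theorem collapse : ξ.ofConv x • x ^ p = ξ.ofConv (x ^ p) • x :=
  (swap_eq hp u hu χ hχ hχp hrk 1 (x ^ p) x (pow_p_mem χ x hx) hx ξ)

include hp hu hχ hχp hrk hx hξ in
theorem dual_collapse : ξ.ofConv x • ξ ^ p = (ξ ^ p).ofConv x • ξ := by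
  apply WithConv.ofConv_injective
  apply LinearMap.ext
  intro a
  rw [WithConv.ofConv_smul, WithConv.ofConv_smul, LinearMap.smul_apply, LinearMap.smul_apply,
    smul_eq_mul, smul_eq_mul]
  have h1 := congrArg (fun f : E R A => f.ofConv a) (rk_eq_smul hp u hu χ hχ hχp hrk x hx ξ hξ)
  simp only [rk_apply, WithConv.ofConv_smul, LinearMap.smul_apply, WithConv.ofConv_toConv] at h1
  have h2 := congrArg (ξ ^ p).ofConv h1
  rw [map_smul, map_smul, smul_eq_mul, smul_eq_mul,
    dual_PJ hp u χ 1 1 (ξ ^ p) (pow_p_mem χ ξ hξ) a, sub_self, S_of_dvd (dvd_zero _), hu,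
    one_mul] at h2
  rw [← h2, mul_comm]

include hp hu hχ hχp hrk hx hξ in
theorem span_loc (a : A) :
    ∃ N : ℕ, ξ.ofConv x ^ N • a ∈ Submodule.span R (Set.range (fun j : ℕ => x ^ j)) := by
  refine ⟨p - 1, ?_⟩
  rw [expand_loc hp u hu χ hχ hχp hrk x hx ξ hξ a]
  exact Submodule.sum_mem _ fun j _ => Submodule.smul_mem _ _ (Submodule.subset_span ⟨j, rfl⟩)

include hp hu hχ hχp hrk hx hξ in
theorem expand_dual (ζ : D R A) :
    ξ.ofConv x ^ (p - 1) • ζ = ∑ j ∈ Finset.range p,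
      (ξ.ofConv x ^ (p - 1 - j) * Ring.inverse (Wc u χ j) * ζ.ofConv (x ^ j)) • ξ ^ j := by
  apply WithConv.ofConv_injective
  apply LinearMap.ext
  intro a
  rw [WithConv.ofConv_smul, LinearMap.smul_apply, WithConv.ofConv_sum, LinearMap.sum_apply]
  simp only [WithConv.ofConv_smul, LinearMap.smul_apply, smul_eq_mul]
  have h := congrArg ζ.ofConv (expand_loc hp u hu χ hχ hχp hrk x hx ξ hξ a)
  rw [map_smul, map_sum] at h
  simp only [map_smul, smul_eq_mul] at h
  rw [h]
  refine Finset.sum_congr rfl fun j _ => ?_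
  ring

include hp hu hχ hχp hrk hx hξ in
theorem span_dual_loc (ζ : D R A) :
    ∃ N : ℕ, ξ.ofConv x ^ N • ζ ∈ Submodule.span R (Set.range (fun j : ℕ => ξ ^ j)) := by
  refine ⟨p - 1, ?_⟩
  rw [expand_dual hp u hu χ hχ hχp hrk x hx ξ hξ ζ]
  exact Submodule.sum_mem _ fun j _ => Submodule.smul_mem _ _ (Submodule.subset_span ⟨j, rfl⟩)

include hp hu hχ hχp hrk hx hξ in
theorem Z_dual (ζ : D R A) (h : ∀ j : ℕ, j < p → Z (ξ.ofConv x) (ζ.ofConv (x ^ j))) :
    Z (ξ.ofConv x) ζ := by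
  apply Z_of_smul (p - 1)
  rw [expand_dual hp u hu χ hχ hχp hrk x hx ξ hξ ζ]
  apply Z_sum
  intro j hj
  rw [mul_comm, mul_smul]
  exact Z_smul_of_Z (h j (Finset.mem_range.mp hj)) _

include hp hu hχ hχp hrk in
/-- partition of unity: the values `ξ(x)` generate the unit ideal -/
theorem exists_pair (𝔪 : Ideal R) (h𝔪 : 𝔪.IsMaximal) :
    ∃ x ∈ OortTate.eigenAug R A p χ 1, ∃ ξ ∈ OortTate.eigenAug R (D R A) p χ 1,
      (ξ : D R A).ofConv x ∉ 𝔪 := by
  by_contra hcon
  push_neg at hcon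
  set y := (thetaLin R A).symm (toConv (PJ hp u χ 1)) with hy
  have hθy : thetaLin R A y = toConv (PJ hp u χ 1) := (thetaLin R A).apply_symm_apply _
  have e1 : TensorProduct.map (PJ hp u χ 1) (PJ (killed_dual hp) u χ 1 : D R A →ₗ[R] D R A) y = y := by
    apply (thetaLin R A).injective
    rw [theta_PP hp u hu χ, hθy, WithConv.ofConv_toConv]
    congr 1
    apply LinearMap.ext
    intro a
    rw [LinearMap.comp_apply, LinearMap.comp_apply, PJ_idem hp u hu χ, PJ_idem hp u hu χ]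
  have e2 : TensorProduct.map (PJ hp u χ 1) (PJ (killed_dual hp) u χ 1 : D R A →ₗ[R] D R A) =
      TensorProduct.map (OortTate.eigenAug R A p χ 1).subtype
        (OortTate.eigenAug R (D R A) p χ 1).subtype ∘ₗ
      TensorProduct.map (toEigen hp u χ 1) (toEigen (killed_dual hp) u χ 1) := by
    rw [← TensorProduct.map_comp]
    rfl
  have key : ∀ t : (OortTate.eigenAug R A p χ 1) ⊗[R] (OortTate.eigenAug R (D R A) p χ 1),
      ∃ c ∈ 𝔪, thetaLin R A (TensorProduct.map (OortTate.eigenAug R A p χ 1).subtype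
        (OortTate.eigenAug R (D R A) p χ 1).subtype t) = c • (toConv (PJ hp u χ 1) : E R A) := by
    intro t
    induction t using TensorProduct.induction_on with
    | zero => exact ⟨0, 𝔪.zero_mem, by rw [map_zero, map_zero, zero_smul]⟩
    | add t t' h h' =>
      obtain ⟨c, hc, h⟩ := h
      obtain ⟨c', hc', h'⟩ := h'
      exact ⟨c + c', 𝔪.add_mem hc hc', by rw [map_add, map_add, h, h', add_smul]⟩
    | tmul x ξ =>
      refine ⟨(ξ : D R A).ofConv (x : A), hcon x x.2 ξ ξ.2, ?_⟩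
      rw [TensorProduct.map_tmul, Submodule.subtype_apply, Submodule.subtype_apply, thetaLin_tmul]
      exact rk_eq_smul hp u hu χ hχ hχp hrk x x.2 ξ ξ.2
  obtain ⟨c, hc, h3⟩ := key (TensorProduct.map (toEigen hp u χ 1) (toEigen (killed_dual hp) u χ 1) y)
  rw [← LinearMap.comp_apply, ← e2, e1, hθy] at h3
  have h4 : 1 - c = 0 := by
    apply faithful hp u hu χ hχ hχp hrk 1
    intro f hf
    have h5 := congrArg (fun e : E R A => e.ofConv f) h3
    simp only [WithConv.ofConv_smul, LinearMap.smul_apply, WithConv.ofConv_toConv] at h5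
    rw [PJ_self_of_mem hp u hu χ 1 f hf] at h5
    rw [sub_smul, one_smul, ← h5, sub_self]
  have h5 : (1 : R) ∈ 𝔪 := by
    have : (1 : R) = c := by rw [← sub_eq_zero, h4]
    rw [this]; exact hc
  exact h𝔪.ne_top ((Ideal.eq_top_iff_one 𝔪).mpr h5)

include hp hu hχ hχp hrk in
/-- local to global -/
theorem eq_zero_of_Z {M : Type*} [AddCommGroup M] [Module R M] (z : M)
    (h : ∀ x ∈ OortTate.eigenAug R A p χ 1, ∀ ξ ∈ OortTate.eigenAug R (D R A) p χ 1,
      Z ((ξ : D R A).ofConv x) z) : z = 0 := by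
  apply eq_zero_of_forall_maximal (R := R)
  intro 𝔪 h𝔪
  obtain ⟨x, hx, ξ, hξ, hne⟩ := exists_pair hp u hu χ hχ hχp hrk 𝔪 h𝔪
  obtain ⟨N, hN⟩ := h x hx ξ hξ
  exact ⟨_, fun hmem => hne (h𝔪.isPrime.mem_of_pow_mem N hmem), hN⟩

end loc

end Groth.Agent.H92.OTLoc
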