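import Groth.Agent.S18473
import Groth.Agent.H92.OTDual

/-!
# The Cartier pairing `R[μ_p] → End(A)` (convolution algebra) for a commutative cocommutative
Hopf algebra killed by `p`, and the projectors `P_j = φ(y_j)`.
-/

set_option autoImplicit false
set_option linter.unusedSectionVars false
universe u

namespace Groth.Agent.H92.OTPair
open Groth.Agent.H92.OTChar Groth.Agent.H92.OTEigen Groth.Agent.H92.OTDual WithConv CartDual
open TensorProduct Groth.Agent.S18473

variable {R : Type u} [CommRing R] {A : Type u} [CommRing A] [HopfAlgebra R A]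

/-- the convolution algebra of linear endomorphisms -/
abbrev E (R : Type u) [CommRing R] (A : Type u) [CommRing A] [HopfAlgebra R A] :=
  WithConv (A →ₗ[R] A)

/-- the identity as an element of the convolution algebra -/
noncomputable def idE : E R A := toConv LinearMap.id

theorem idE_pow (n : ℕ) : (idE : E R A) ^ n = toConv (SGA3b.powConv R A n).toLinearMap := by
  unfold SGA3b.powConv idE
  have := AlgHom.toLinearMap_convPow (toConv (AlgHom.id R A)) n
  rw [this]
  rfl

/-- the rank one element `x ⊗ ξ` of the convolution algebra: `a ↦ ξ(a) • x`. -/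
noncomputable def rk (ξ : D R A) (x : A) : E R A := toConv ((ξ.ofConv).smulRight x)

theorem rk_apply (ξ : D R A) (x a : A) : (rk ξ x).ofConv a = ξ.ofConv a • x := rfl

theorem rk_mul (ξ ξ' : D R A) (x x' : A) : rk ξ x * rk ξ' x' = rk (ξ * ξ') (x * x') := by
  apply WithConv.ofConv_injective
  apply LinearMap.ext
  intro a
  rw [LinearMap.convMul_apply, rk_apply, LinearMap.convMul_apply]
  generalize Coalgebra.comul (R := R) a = t
  induction t using TensorProduct.induction_on with
  | zero => simp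
  | tmul b c =>
    simp only [TensorProduct.map_tmul, LinearMap.mul'_apply, rk_apply, smul_mul_smul_comm]
  | add t t' ht ht' => simp only [map_add, ht, ht', add_smul]

theorem rk_one : rk (1 : D R A) (1 : A) = 1 := by
  apply WithConv.ofConv_injective
  apply LinearMap.ext
  intro a
  rw [rk_apply]
  simp [LinearMap.convOne_def, Algebra.algebraMap_eq_smul_one]

theorem rk_pow (ξ : D R A) (x : A) (n : ℕ) : rk ξ x ^ n = rk (ξ ^ n) (x ^ n) := by
  induction n with
  | zero => rw [pow_zero, pow_zero, pow_zero, rk_one]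
  | succ n ih => rw [pow_succ, pow_succ, pow_succ, ih, rk_mul]

theorem rk_smul (r : R) (ξ : D R A) (x : A) : r • rk ξ x = rk (r • ξ) x := by
  apply WithConv.ofConv_injective
  apply LinearMap.ext
  intro a
  rw [WithConv.ofConv_smul, LinearMap.smul_apply, rk_apply, rk_apply, WithConv.ofConv_smul,
    LinearMap.smul_apply, smul_eq_mul, mul_smul]

section killed
variable {p : ℕ} [Fact p.Prime] (hp : (toConv (AlgHom.id R A)) ^ p = 1)

include hp in
theorem idE_pow_p : (idE : E R A) ^ p = 1 := by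
  rw [idE_pow]
  unfold SGA3b.powConv
  rw [hp]
  rfl

include hp in
theorem idE_pow_mod (a : ℕ) : (idE : E R A) ^ (a % p) = idE ^ a := by
  conv_rhs => rw [← Nat.mod_add_div a p, pow_add, pow_mul, idE_pow_p hp, one_pow, mul_one]

/-- the monoid hom `ℤ/p → E`, `a ↦ id^a` -/
noncomputable def phiMon : Multiplicative (ZMod p) →* E R A where
  toFun a := idE ^ (Multiplicative.toAdd a).val
  map_one' := by simp
  map_mul' a b := by
    rw [toAdd_mul, ZMod.val_add, idE_pow_mod hp, pow_add]

/-- the Cartier pairing `R[ℤ/p] → End(A)`, `T ↦ id`. -/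
noncomputable def phi : GA R p →ₐ[R] E R A := MonoidAlgebra.lift R (E R A) _ (phiMon hp)

theorem phi_T (a : ZMod p) : phi hp (T R a) = idE ^ a.val := by
  unfold phi T
  rw [MonoidAlgebra.lift_single, one_smul]
  rfl

variable (u : R) (hu : u * ((p - 1 : ℕ) : R) = 1) (χ : (ZMod p)ˣ →* Rˣ)
  (hχ : ∀ m : (ZMod p)ˣ, m ≠ 1 → IsUnit ((χ m : R) - 1))

/-- `ηε` as a linear endomorphism -/
noncomputable def etaEps (R : Type u) [CommRing R] (A : Type u) [CommRing A] [HopfAlgebra R A] :
    A →ₗ[R] A := Algebra.linearMap R A ∘ₗ Coalgebra.counit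

theorem etaEps_apply (a : A) : etaEps R A a = algebraMap R A (Coalgebra.counit a) := rfl

theorem phi_e (m : (ZMod p)ˣ) : (phi hp (e R m)).ofConv = pw R A m - etaEps R A := by
  unfold e
  rw [map_sub, map_one, phi_T, idE_pow]
  rfl

/-- the projector `P_j = φ(y_j)` -/
noncomputable def PJ (j : ℕ) : A →ₗ[R] A := (phi hp (Y u χ j)).ofConv

theorem PJ_apply (j : ℕ) (a : A) :
    PJ hp u χ j a = OortTate.proj R A p u χ j (a - algebraMap R A (Coalgebra.counit a)) := by
  unfold PJ Y
  rw [map_smul, map_sum, proj_eq]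
  simp only [map_smul, WithConv.ofConv_smul, WithConv.ofConv_sum, phi_e, LinearMap.smul_apply,
    LinearMap.sum_apply, LinearMap.sub_apply, etaEps_apply, map_sub]
  have : ∀ m : (ZMod p)ˣ,
      pw R A m (algebraMap R A (Coalgebra.counit a)) = algebraMap R A (Coalgebra.counit a) := by
    intro m
    unfold pw
    rw [AlgHom.toLinearMap_apply, AlgHom.commutes]
  simp only [this, smul_sub, Finset.sum_sub_distrib]

include hp in
theorem PJ_mem (j : ℕ) (a : A) : PJ hp u χ j a ∈ OortTate.eigenAug R A p χ j := by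
  rw [PJ_apply]
  apply proj_mem hp
  rw [map_sub, Bialgebra.counitAlgHom_apply, AlgHom.commutes]
  simp

theorem counit_of_mem {i : ℕ} {f : A} (hf : f ∈ OortTate.eigenAug R A p χ i) :
    Coalgebra.counit (R := R) f = 0 := ((mem_eigenAug_iff χ i f).mp hf).1

theorem PJ_of_mem (i j : ℕ) (f : A) (hf : f ∈ OortTate.eigenAug R A p χ i) :
    PJ hp u χ j f = (u * S χ ((i : ℤ) - j)) • f := by
  rw [PJ_apply, counit_of_mem χ hf, map_zero, sub_zero, proj_of_mem u χ j i f hf]

include hu hχ in
theorem sum_PJ (a : A) : ∑ i ∈ Finset.range (p - 1), PJ hp u χ i a =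
    a - algebraMap R A (Coalgebra.counit a) := by
  simp only [PJ_apply]
  rw [← LinearMap.sum_apply, sum_proj u hu χ hχ]
  rfl

theorem PJ_periodic (j : ℕ) : PJ hp u χ (j + (p - 1)) = PJ hp u χ j := by
  unfold PJ
  rw [Y_periodic]

/-- the universal constants `w_j = ∏_{t<j} u J_t` -/
noncomputable def Wc (j : ℕ) : R := ∏ t ∈ Finset.Ico 1 j, (u * J χ t)

theorem Wc_zero : Wc u χ 0 = 1 := by unfold Wc; simp

theorem Wc_one : Wc u χ 1 = 1 := by unfold Wc; simp

theorem Wc_succ (j : ℕ) (hj : 1 ≤ j) : Wc u χ (j + 1) = Wc u χ j * (u * J χ j) := by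
  unfold Wc
  rw [Finset.prod_Ico_succ_top hj]

include hu hχ in
theorem Wc_isUnit
    (hχp : ∀ m : (ZMod p)ˣ, ((χ m : Rˣ) : R) - (((m : ZMod p).val : ℕ) : R) ∈
      Ideal.span ({(p : R)} : Set R)) (j : ℕ) (hj : j ≤ p - 1) : IsUnit (Wc u χ j) := by
  unfold Wc
  have hu' : IsUnit u := IsUnit.of_mul_eq_one _ hu
  rw [IsUnit.prod_iff]
  intro t ht
  rw [Finset.mem_Ico] at ht
  exact hu'.mul (J_isUnit χ hχ hχp t ht.1 (by omega))

include hu hχ in
theorem Y_pow (j : ℕ) (h1 : 1 ≤ j) (h2 : j ≤ p - 1) : Y u χ 1 ^ j = Wc u χ j • Y u χ j := by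
  induction j, h1 using Nat.le_induction with
  | base => rw [pow_one, Wc_one, one_smul]
  | succ j h1 ih =>
    rw [pow_succ, ih (by omega), smul_mul_assoc, Y_mul_Y u hu χ hχ j h1 (by omega), smul_smul,
      Wc_succ u χ j h1]

include hu hχ in
theorem PJ_pow (j : ℕ) (h1 : 1 ≤ j) (h2 : j ≤ p - 1) :
    (toConv (PJ hp u χ 1) : E R A) ^ j = Wc u χ j • toConv (PJ hp u χ j) := by
  unfold PJ
  rw [WithConv.toConv_ofConv, WithConv.toConv_ofConv, ← map_pow, Y_pow u hu χ hχ j h1 h2, map_smul]

end killed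

end Groth.Agent.H92.OTPair
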