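import Groth.Agent.H92.OTRank
import Groth.Agent.H92.OTTheta
import Groth.Agent.H92.LocCyclic

/-!
# Oort–Tate: the Cartier pairing element `ϕ(y_1)` generates `I_1(A) ⊗ I_1(A^D)` freely
-/

set_option autoImplicit false
set_option linter.unusedSectionVars false
universe u

namespace Groth.Agent.H92.OTPairing
open Groth.Agent.H92.OTChar Groth.Agent.H92.OTEigen Groth.Agent.H92.OTDual Groth.Agent.H92.OTPair
open Groth.Agent.H92.OTGen Groth.Agent.H92.OTField Groth.Agent.H92.OTRank Groth.Agent.H92.OTTheta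
open Groth.Agent.H92.LocCyclic
open WithConv CartDual TensorProduct Groth.Agent.S18473

variable {R : Type u} [CommRing R] {A : Type u} [CommRing A] [HopfAlgebra R A]
  [Coalgebra.IsCocomm R A] [Module.Finite R A] [Module.Projective R A]
  {p : ℕ} [Fact p.Prime] (hp : (toConv (AlgHom.id R A)) ^ p = 1)
  (u : R) (hu : u * ((p - 1 : ℕ) : R) = 1) (χ : (ZMod p)ˣ →* Rˣ)
  (hχ : ∀ m : (ZMod p)ˣ, m ≠ 1 → IsUnit ((χ m : R) - 1))

theorem theta_eval (y : A ⊗[R] D R A) (a : A) :
    (thetaLin R A y).ofConv a = TensorProduct.rid R A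
      (LinearMap.lTensor A ((Module.Dual.eval R A a) ∘ₗ (CartDual.toDual R A).toLinearMap) y) := by
  induction y using TensorProduct.induction_on with
  | zero => simp
  | add y y' h h' => simp only [map_add, WithConv.ofConv_add, LinearMap.add_apply, h, h']
  | tmul b ξ =>
    rw [thetaLin_tmul, rk_apply]
    simp

theorem theta_delta (δ : A ⊗[R] D R A)
    (hδ : ∀ a : A, TensorProduct.rid R A
      (LinearMap.lTensor A ((Module.Dual.eval R A a) ∘ₗ (CartDual.toDual R A).toLinearMap) δ) = a) :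
    thetaLin R A δ = idE := by
  apply WithConv.ofConv_injective
  apply LinearMap.ext
  intro a
  rw [theta_eval, hδ]
  rfl

theorem T_pow (n : ℕ) : (T R (1 : ZMod p)) ^ n = T R (n : ZMod p) := by
  induction n with
  | zero => rw [pow_zero, Nat.cast_zero]; rfl
  | succ n ih => rw [pow_succ, ih, T_mul_T, Nat.cast_succ]

theorem algHom_pow (ϕ : GA R p →ₐ[R] A ⊗[R] D R A) (x : GA R p) (n : ℕ) :
    ϕ (x ^ n) = ϕ x ^ n := by
  induction n with
  | zero =>
    rw [pow_zero, pow_zero]
    exact ϕ.toRingHom.map_one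
  | succ n ih => rw [pow_succ, pow_succ, map_mul, ih]

include hp in
theorem theta_phi (δ : A ⊗[R] D R A)
    (hδ : ∀ a : A, TensorProduct.rid R A
      (LinearMap.lTensor A ((Module.Dual.eval R A a) ∘ₗ (CartDual.toDual R A).toLinearMap) δ) = a)
    (ϕ : GA R p →ₐ[R] A ⊗[R] D R A) (hϕ : ϕ (OortTate.muT R p) = δ) (x : GA R p) :
    thetaLin R A (ϕ x) = phi hp x := by
  have hT : ∀ a : ZMod p, thetaLin R A (ϕ (T R a)) = phi hp (T R a) := by
    intro a
    have h1 : T R a = (T R (1 : ZMod p)) ^ a.val := by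
      rw [T_pow, ZMod.natCast_zmod_val]
    have h2 : OortTate.muT R p = T R (1 : ZMod p) := rfl
    rw [phi_T]
    conv_lhs => rw [h1, algHom_pow, ← h2, hϕ, thetaLin_pow, theta_delta δ hδ]
  rw [expand x, map_sum, map_sum, map_sum]
  refine Finset.sum_congr rfl fun a _ => ?_
  rw [map_smul, map_smul, map_smul, hT]

theorem counit_proj (j : ℕ) (b : A) :
    Coalgebra.counit (R := R) (OortTate.proj R A p u χ j b) =
      (u * ∑ m : (ZMod p)ˣ, ((χ m⁻¹ : Rˣ) : R) ^ j) * Coalgebra.counit (R := R) b := by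
  rw [proj_eq]
  simp only [LinearMap.smul_apply, LinearMap.sum_apply, map_smul, map_sum, smul_eq_mul]
  have : ∀ m : (ZMod p)ˣ, Coalgebra.counit (R := R) (pw R A m b) = Coalgebra.counit (R := R) b :=
    fun m => counit_pw m b
  simp only [this]
  rw [← Finset.sum_mul, mul_assoc]

theorem proj_one (j : ℕ) :
    OortTate.proj R A p u χ j (1 : A) = (u * ∑ m : (ZMod p)ˣ, ((χ m⁻¹ : Rˣ) : R) ^ j) • (1 : A) := by
  rw [proj_eq]
  simp only [LinearMap.smul_apply, LinearMap.sum_apply]
  have : ∀ m : (ZMod p)ˣ, pw R A m (1 : A) = 1 := fun m => by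
    unfold pw; rw [AlgHom.toLinearMap_apply, map_one]
  simp only [this]
  rw [← Finset.sum_smul, smul_smul]

/-- the projector on the dual is the transpose of the projector -/
theorem PJ_dual_apply (j : ℕ) (ζ : D R A) (b : A) :
    (PJ (killed_dual hp) u χ j ζ).ofConv b = ζ.ofConv (PJ hp u χ j b) := by
  rw [PJ_apply, PJ_apply]
  have h1 := proj_dual_apply (A := A) u χ j (ζ - algebraMap R (D R A) (Coalgebra.counit ζ)) b
  rw [CartDual.coe_apply, CartDual.coe_apply] at h1
  rw [h1, map_sub, map_sub, WithConv.ofConv_sub, LinearMap.sub_apply]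
  congr 1
  rw [Algebra.algebraMap_eq_smul_one, Algebra.algebraMap_eq_smul_one, WithConv.ofConv_smul,
    LinearMap.smul_apply, map_smul, map_smul, proj_one, map_smul]
  have h2 : (1 : D R A).ofConv (OortTate.proj R A p u χ j b) =
      Coalgebra.counit (R := R) (OortTate.proj R A p u χ j b) := by
    simp [LinearMap.convOne_def]
  rw [h2, counit_proj, CartDual.coalgebra_counit_apply, CartDual.coe_apply]
  simp only [smul_eq_mul]
  ring

include hu in
theorem PJ_idem (j : ℕ) (a : A) : PJ hp u χ j (PJ hp u χ j a) = PJ hp u χ j a :=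
  PJ_self_of_mem hp u hu χ j _ (PJ_mem hp u χ j a)

include hu in
theorem theta_PP (y : A ⊗[R] D R A) :
    thetaLin R A (TensorProduct.map (PJ hp u χ 1)
      (PJ (killed_dual hp) u χ 1 : D R A →ₗ[R] D R A) y) =
      toConv (PJ hp u χ 1 ∘ₗ (thetaLin R A y).ofConv ∘ₗ PJ hp u χ 1) := by
  induction y using TensorProduct.induction_on with
  | zero => simp
  | add y y' h h' =>
    rw [map_add, map_add, h, h', map_add, WithConv.ofConv_add, LinearMap.add_comp, LinearMap.comp_add,
      WithConv.toConv_add]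
  | tmul a ζ =>
    rw [TensorProduct.map_tmul, thetaLin_tmul, thetaLin_tmul]
    apply WithConv.ofConv_injective
    apply LinearMap.ext
    intro b
    rw [rk_apply, WithConv.ofConv_toConv, LinearMap.comp_apply, LinearMap.comp_apply, rk_apply, map_smul,
      PJ_dual_apply]

section main
variable (hχp : ∀ m : (ZMod p)ˣ, ((χ m : Rˣ) : R) - (((m : ZMod p).val : ℕ) : R) ∈
    Ideal.span ({(p : R)} : Set R))
  (hrk : ∀ q : PrimeSpectrum R, Module.rankAtStalk A q = p)

include hp hu hχ hχp hrk in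
/-- rank one: `ξ(f) x = ξ(x) f` for `x, f ∈ I_i` -/
theorem swap_eq (i : ℕ) (x f : A) (hx : x ∈ OortTate.eigenAug R A p χ i)
    (hf : f ∈ OortTate.eigenAug R A p χ i) (ξ : D R A) :
    ξ.ofConv f • x = ξ.ofConv x • f := by
  haveI := finite_eigenAug hp u hu χ i
  haveI := projective_eigenAug hp u hu χ i
  rw [← sub_eq_zero]
  apply eq_zero_of_forall_maximal (R := R)
  intro 𝔪 h𝔪
  obtain ⟨g, hg, -⟩ := exists_local_generator (M := OortTate.eigenAug R A p χ i)
    ⟨𝔪, h𝔪.isPrime⟩ (rank_eq_one hp u hu χ hχ hχp hrk _ i)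
  obtain ⟨s₁, hs₁, c₁, h₁⟩ := hg ⟨x, hx⟩
  obtain ⟨s₂, hs₂, c₂, h₂⟩ := hg ⟨f, hf⟩
  have h₁' : s₁ • x = c₁ • (g : A) := congrArg Subtype.val h₁
  have h₂' : s₂ • f = c₂ • (g : A) := congrArg Subtype.val h₂
  refine ⟨s₁ * s₂, h𝔪.isPrime.mul_notMem hs₁ hs₂, ?_⟩
  have e1 : (s₁ * s₂) • (ξ.ofConv f • x) = ξ.ofConv (s₂ • f) • (s₁ • x) := by
    rw [map_smul, smul_eq_mul, smul_smul, smul_smul]
    congr 1; ring
  have e2 : (s₁ * s₂) • (ξ.ofConv x • f) = ξ.ofConv (s₁ • x) • (s₂ • f) := by
    rw [map_smul, smul_eq_mul, smul_smul, smul_smul]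
    congr 1; ring
  rw [smul_sub, e1, e2, h₁', h₂', map_smul, map_smul, smul_eq_mul, smul_eq_mul, smul_smul, smul_smul]
  rw [sub_eq_zero]
  congr 1; ring

include hp hu hχ hχp hrk in
/-- rank one: the eigenspaces are faithful -/
theorem faithful (i : ℕ) (r : R) (hr : ∀ f ∈ OortTate.eigenAug R A p χ i, r • f = 0) : r = 0 := by
  haveI := finite_eigenAug hp u hu χ i
  haveI := projective_eigenAug hp u hu χ i
  by_contra hne
  have hne' : Ideal.torsionOf R R r ≠ ⊤ := by
    intro htop
    apply hne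
    have : (1 : R) ∈ Ideal.torsionOf R R r := by rw [htop]; trivial
    simpa using this
  obtain ⟨𝔪, h𝔪, hle⟩ := Ideal.exists_le_maximal _ hne'
  obtain ⟨g, -, hg⟩ := exists_local_generator (M := OortTate.eigenAug R A p χ i)
    ⟨𝔪, h𝔪.isPrime⟩ (rank_eq_one hp u hu χ hχ hχp hrk _ i)
  obtain ⟨s, hs, hsr⟩ := hg r (Subtype.ext (hr g g.2))
  exact hs (hle ((Ideal.mem_torsionOf_iff r s).mpr hsr))

include hp hu hχ hχp hrk in
theorem pairing_main (δ : A ⊗[R] D R A)
    (hδ : ∀ a : A, TensorProduct.rid R A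
      (LinearMap.lTensor A ((Module.Dual.eval R A a) ∘ₗ (CartDual.toDual R A).toLinearMap) δ) = a)
    (ϕ : GA R p →ₐ[R] A ⊗[R] D R A) (hϕ : ϕ (OortTate.muT R p) = δ) :
    Submodule.span R {ϕ (OortTate.ygen R p u χ 1)} =
        LinearMap.range (TensorProduct.map (OortTate.eigenAug R A p χ 1).subtype
          (OortTate.eigenAug R (D R A) p χ 1).subtype) ∧
      ∀ r : R, r • ϕ (OortTate.ygen R p u χ 1) = 0 → r = 0 := by
  rw [ygen_eq]
  have hθ : thetaLin R A (ϕ (Y u χ 1)) = toConv (PJ hp u χ 1) := by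
    rw [theta_phi hp δ hδ ϕ hϕ]
    rfl
  refine ⟨le_antisymm ?_ ?_, ?_⟩
  · -- `ϕ(y₁)` lies in the image
    rw [Submodule.span_singleton_le_iff_mem]
    have e1 : TensorProduct.map (PJ hp u χ 1) (PJ (killed_dual hp) u χ 1 : D R A →ₗ[R] D R A)
        (ϕ (Y u χ 1)) = ϕ (Y u χ 1) := by
      apply (thetaLin R A).injective
      rw [theta_PP hp u hu χ, hθ, WithConv.ofConv_toConv]
      congr 1
      apply LinearMap.ext
      intro a
      rw [LinearMap.comp_apply, LinearMap.comp_apply, PJ_idem hp u hu χ, PJ_idem hp u hu χ]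
    have e2 : TensorProduct.map (PJ hp u χ 1) (PJ (killed_dual hp) u χ 1 : D R A →ₗ[R] D R A) =
        TensorProduct.map (OortTate.eigenAug R A p χ 1).subtype
          (OortTate.eigenAug R (D R A) p χ 1).subtype ∘ₗ
        TensorProduct.map (toEigen hp u χ 1) (toEigen (killed_dual hp) u χ 1) := by
      rw [← TensorProduct.map_comp]
      rfl
    rw [← e1, e2]
    exact ⟨_, rfl⟩
  · -- the image is generated by `ϕ(y₁)`
    rintro _ ⟨t, rfl⟩
    induction t using TensorProduct.induction_on with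
    | zero => rw [map_zero]; exact Submodule.zero_mem _
    | add t t' h h' => rw [map_add]; exact Submodule.add_mem _ h h'
    | tmul x ξ =>
      rw [TensorProduct.map_tmul, Submodule.subtype_apply, Submodule.subtype_apply,
        Submodule.mem_span_singleton]
      refine ⟨(ξ : D R A).ofConv (x : A), ?_⟩
      apply (thetaLin R A).injective
      rw [map_smul, hθ, thetaLin_tmul]
      apply WithConv.ofConv_injective
      apply LinearMap.ext
      intro a
      rw [WithConv.ofConv_smul, LinearMap.smul_apply, WithConv.ofConv_toConv, rk_apply]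
      have h1 := dual_PJ hp u χ 1 1 (ξ : D R A) ξ.2 a
      rw [sub_self, S_of_dvd (dvd_zero _), hu, one_mul] at h1
      rw [← h1]
      exact (swap_eq hp u hu χ hχ hχp hrk 1 (x : A) (PJ hp u χ 1 a) x.2 (PJ_mem hp u χ 1 a)
        (ξ : D R A)).symm
  · intro r hr
    apply faithful hp u hu χ hχ hχp hrk 1 r
    intro f hf
    have h1 := congrArg (thetaLin R A) hr
    rw [map_smul, hθ, map_zero] at h1
    have h2 := congrArg (fun e : E R A => e.ofConv f) h1
    simp only [WithConv.ofConv_smul, LinearMap.smul_apply, WithConv.ofConv_toConv,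
      WithConv.ofConv_zero, LinearMap.zero_apply] at h2
    rwa [PJ_self_of_mem hp u hu χ 1 f hf] at h2

end main

end Groth.Agent.H92.OTPairing
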