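import Groth.Agent.H92.OTPairing

/-!
# Oort–Tate: the powers of the submodule `I_1` are the eigenspaces `I_t`
-/

set_option autoImplicit false
set_option linter.unusedSectionVars false
universe u

namespace Groth.Agent.H92.OTPowers
open Groth.Agent.H92.OTChar Groth.Agent.H92.OTEigen Groth.Agent.H92.OTDual Groth.Agent.H92.OTPair
open Groth.Agent.H92.OTGen Groth.Agent.H92.OTField Groth.Agent.H92.OTRank
open WithConv CartDual TensorProduct Groth.Agent.S18473

variable {R : Type u} [CommRing R] {A : Type u} [CommRing A] [HopfAlgebra R A]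
  {p : ℕ} [Fact p.Prime] (hp : (toConv (AlgHom.id R A)) ^ p = 1)
  (u : R) (hu : u * ((p - 1 : ℕ) : R) = 1) (χ : (ZMod p)ˣ →* Rˣ)
  (hχ : ∀ m : (ZMod p)ˣ, m ≠ 1 → IsUnit ((χ m : R) - 1))

theorem mul_mem_eigenAug (i j : ℕ) (a b : A) (ha : a ∈ OortTate.eigenAug R A p χ i)
    (hb : b ∈ OortTate.eigenAug R A p χ j) : a * b ∈ OortTate.eigenAug R A p χ (i + j) := by
  rw [mem_eigenAug_iff] at ha hb ⊢
  constructor
  · rw [map_mul, ha.1, zero_mul]
  · intro m
    have h1 := ha.2 m
    have h2 := hb.2 m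
    unfold pw at h1 h2 ⊢
    rw [AlgHom.toLinearMap_apply] at h1 h2 ⊢
    rw [map_mul, h1, h2, smul_mul_smul_comm, pow_add]

theorem pow_le (t : ℕ) (ht : 1 ≤ t) :
    (OortTate.eigenAug R A p χ 1) ^ t ≤ OortTate.eigenAug R A p χ t := by
  induction t, ht using Nat.le_induction with
  | base => rw [pow_one]
  | succ t ht ih =>
    rw [pow_succ, Submodule.mul_le]
    intro a ha b hb
    exact mul_mem_eigenAug χ t 1 a b (ih ha) hb

theorem prod_mem_pow {n : ℕ} (f : Fin n → OortTate.eigenAug R A p χ 1) :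
    ∏ i, (f i : A) ∈ (OortTate.eigenAug R A p χ 1) ^ n := by
  induction n with
  | zero =>
    rw [Fin.prod_univ_zero, pow_zero]
    exact Submodule.one_le.mp le_rfl
  | succ n ih =>
    rw [Fin.prod_univ_succ, pow_succ']
    exact Submodule.mul_mem_mul (f 0).2 (ih _)

include hp in
theorem convpow_mem (t : ℕ) (ht : 1 ≤ t) (a : A) :
    ((toConv (PJ hp u χ 1) : E R A) ^ t).ofConv a ∈ (OortTate.eigenAug R A p χ 1) ^ t := by
  induction t, ht using Nat.le_induction generalizing a with
  | base => rw [pow_one, pow_one, WithConv.ofConv_toConv]; exact PJ_mem hp u χ 1 a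
  | succ t ht ih =>
    rw [pow_succ, pow_succ, LinearMap.convMul_apply]
    generalize Coalgebra.comul (R := R) a = y
    induction y using TensorProduct.induction_on with
    | zero => rw [map_zero, map_zero]; exact Submodule.zero_mem _
    | tmul b c =>
      rw [TensorProduct.map_tmul, LinearMap.mul'_apply, WithConv.ofConv_toConv]
      exact Submodule.mul_mem_mul (ih b) (PJ_mem hp u χ 1 c)
    | add y y' h h' => rw [map_add, map_add]; exact Submodule.add_mem _ h h'

include hp hu hχ in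
theorem pow_eq
    (hχp : ∀ m : (ZMod p)ˣ, ((χ m : Rˣ) : R) - (((m : ZMod p).val : ℕ) : R) ∈
      Ideal.span ({(p : R)} : Set R)) (t : ℕ) (ht : 1 ≤ t) (ht' : t ≤ p - 1) :
    (OortTate.eigenAug R A p χ 1) ^ t = OortTate.eigenAug R A p χ t := by
  apply le_antisymm (pow_le χ t ht)
  intro f hf
  have h1 := congrArg (fun e : E R A => e.ofConv f) (PJ_pow hp u hu χ hχ t ht ht')
  simp only [WithConv.ofConv_smul, LinearMap.smul_apply, WithConv.ofConv_toConv] at h1
  rw [PJ_self_of_mem hp u hu χ t f hf] at h1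
  have hW := Wc_isUnit u hu χ hχ hχp t ht'
  have h2 : f = Ring.inverse (Wc u χ t) • ((toConv (PJ hp u χ 1) : E R A) ^ t).ofConv f := by
    rw [h1, smul_smul, Ring.inverse_mul_cancel _ hW, one_smul]
  rw [h2]
  exact Submodule.smul_mem _ _ (convpow_mem hp u χ t ht f)

end Groth.Agent.H92.OTPowers
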