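import Groth.Agent.H92.OTPair

/-!
# Primitive elements of the dual and the power maps modulo the square of the augmentation ideal
-/

set_option autoImplicit false
set_option linter.unusedSectionVars false
universe u

namespace Groth.Agent.H92.OTPrim
open Groth.Agent.H92.OTEigen Groth.Agent.H92.OTDual Groth.Agent.H92.OTPair
open WithConv CartDual TensorProduct Coalgebra

variable {R : Type u} [CommRing R] {A : Type u} [CommRing A] [HopfAlgebra R A]

/-- the augmentation ideal -/
abbrev augI (R : Type u) [CommRing R] (A : Type u) [CommRing A] [HopfAlgebra R A] : Ideal A :=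
  RingHom.ker (Bialgebra.counitAlgHom R A)

theorem mem_augI {a : A} : a ∈ augI R A ↔ Coalgebra.counit (R := R) a = 0 := by
  rw [RingHom.mem_ker]; rfl

theorem sub_counit_mem (a : A) : a - algebraMap R A (Coalgebra.counit a) ∈ augI R A := by
  rw [mem_augI, map_sub, Bialgebra.counit_algebraMap, sub_self]

theorem sum_smul_counit {a : A} {ι : Type*} (𝓡 : Coalgebra.Repr R a ι) :
    ∑ i ∈ 𝓡.index, Coalgebra.counit (R := R) (𝓡.right i) • 𝓡.left i = a := by
  have h := congrArg (TensorProduct.lift (LinearMap.lsmul R A).flip) (sum_tmul_counit_eq (R := R) 𝓡)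
  simpa only [map_sum, TensorProduct.lift.tmul, LinearMap.flip_apply, LinearMap.lsmul_apply, one_smul]
    using h

theorem powConv_succ_sub_mem (n : ℕ) (x : A) (hx : x ∈ augI R A) :
    SGA3b.powConv R A (n + 1) x - SGA3b.powConv R A n x - x ∈ augI R A ^ 2 := by
  rw [mem_augI] at hx
  set f := SGA3b.powConv R A n with hf
  have h1 : SGA3b.powConv R A (n + 1) x =
      ∑ i ∈ (ℛ R x).index, f ((ℛ R x).left i) * (ℛ R x).right i := by
    have := LinearMap.congr_fun (powConv_succ_toLinearMap (R := R) (B := A) n) x
    rw [AlgHom.toLinearMap_apply] at this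
    rw [this, LinearMap.comp_apply, LinearMap.comp_apply, ← (ℛ R x).eq, map_sum, map_sum]
    rfl
  have h2 : f x = ∑ i ∈ (ℛ R x).index,
      algebraMap R A (Coalgebra.counit (R := R) ((ℛ R x).right i)) * f ((ℛ R x).left i) := by
    conv_lhs => rw [← sum_smul_counit (ℛ R x), map_sum]
    refine Finset.sum_congr rfl fun i _ => ?_
    rw [map_smul, Algebra.smul_def]
  have h3 : x = ∑ i ∈ (ℛ R x).index,
      algebraMap R A (Coalgebra.counit (R := R) ((ℛ R x).left i)) * (ℛ R x).right i := by
    conv_lhs => rw [← sum_counit_smul (ℛ R x)]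
    refine Finset.sum_congr rfl fun i _ => ?_
    rw [Algebra.smul_def]
  have h4 : (0 : A) = ∑ i ∈ (ℛ R x).index,
      algebraMap R A (Coalgebra.counit (R := R) ((ℛ R x).left i)) *
        algebraMap R A (Coalgebra.counit (R := R) ((ℛ R x).right i)) := by
    have := congrArg (fun y => algebraMap R A (Coalgebra.counit (R := R) y)) (sum_counit_smul (ℛ R x))
    simp only [map_sum, map_smul, smul_eq_mul, map_mul, hx, map_zero] at this
    exact this.symm
  have h5 : SGA3b.powConv R A (n + 1) x - f x - x =
      ∑ i ∈ (ℛ R x).index,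
        (f ((ℛ R x).left i) - algebraMap R A (Coalgebra.counit (R := R) ((ℛ R x).left i))) *
        ((ℛ R x).right i - algebraMap R A (Coalgebra.counit (R := R) ((ℛ R x).right i))) := by
    have e : ∑ i ∈ (ℛ R x).index,
        (f ((ℛ R x).left i) - algebraMap R A (Coalgebra.counit (R := R) ((ℛ R x).left i))) *
        ((ℛ R x).right i - algebraMap R A (Coalgebra.counit (R := R) ((ℛ R x).right i))) =
        ∑ i ∈ (ℛ R x).index, f ((ℛ R x).left i) * (ℛ R x).right i -
        ∑ i ∈ (ℛ R x).index,
          algebraMap R A (Coalgebra.counit (R := R) ((ℛ R x).right i)) * f ((ℛ R x).left i) -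
        ∑ i ∈ (ℛ R x).index,
          algebraMap R A (Coalgebra.counit (R := R) ((ℛ R x).left i)) * (ℛ R x).right i +
        ∑ i ∈ (ℛ R x).index,
          algebraMap R A (Coalgebra.counit (R := R) ((ℛ R x).left i)) *
            algebraMap R A (Coalgebra.counit (R := R) ((ℛ R x).right i)) := by
      rw [← Finset.sum_sub_distrib, ← Finset.sum_sub_distrib, ← Finset.sum_add_distrib]
      refine Finset.sum_congr rfl fun i _ => ?_
      ring
    rw [e, ← h1, ← h2, ← h3, ← h4, add_zero]
  rw [h5, pow_two]
  refine Ideal.sum_mem _ fun i _ => Ideal.mul_mem_mul ?_ (sub_counit_mem _)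
  rw [mem_augI, map_sub, Bialgebra.counit_algebraMap, hf]
  have := counit_powConv (R := R) n ((ℛ R x).left i)
  rw [Bialgebra.counitAlgHom_apply, Bialgebra.counitAlgHom_apply] at this
  rw [this, sub_self]

theorem powConv_sub_nsmul_mem (n : ℕ) (x : A) (hx : x ∈ augI R A) :
    SGA3b.powConv R A n x - n • x ∈ augI R A ^ 2 := by
  induction n with
  | zero =>
    have h0 : SGA3b.powConv R A 0 x = algebraMap R A (Coalgebra.counit x) := by
      unfold SGA3b.powConv
      rw [pow_zero]
      rfl
    rw [h0, mem_augI.mp hx, map_zero, zero_smul, sub_zero]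
    exact Ideal.zero_mem _
  | succ n ih =>
    have := Ideal.add_mem _ (powConv_succ_sub_mem n x hx) ih
    convert this using 1
    rw [succ_nsmul]
    ring

section prim
variable [Coalgebra.IsCocomm R A] [Module.Finite R A] [Module.Projective R A]

/-- a functional vanishing on `1` and on the square of the augmentation ideal is primitive -/
theorem comul_of_prim (t : D R A)
    (ht : ∀ a b : A, t.ofConv (a * b) =
      Coalgebra.counit (R := R) a * t.ofConv b + t.ofConv a * Coalgebra.counit (R := R) b) :
    Coalgebra.comul (R := R) t = t ⊗ₜ[R] (1 : D R A) + (1 : D R A) ⊗ₜ[R] t := by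
  apply (ev₂ R A).injective
  apply TensorProduct.ext'
  intro a b
  rw [ev₂_coalgebra_comul_tmul, map_add, LinearMap.add_apply, ev₂_tmul, ev₂_tmul]
  simp only [CartDual.coe_apply]
  rw [ht]
  have h1 : ∀ c : A, (1 : D R A).ofConv c = Coalgebra.counit (R := R) c := fun c => by
    simp [LinearMap.convOne_def]
  rw [h1, h1]
  ring

theorem leibniz (t : D R A)
    (ht : ∀ a b : A, t.ofConv (a * b) =
      Coalgebra.counit (R := R) a * t.ofConv b + t.ofConv a * Coalgebra.counit (R := R) b)
    (i : ℕ) (a b : A) :
    (t ^ i).ofConv (a * b) =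
      ∑ l ∈ Finset.range (i + 1), (t ^ l).ofConv a * (t ^ (i - l)).ofConv b * (i.choose l : R) := by
  have h1 : Coalgebra.comul (R := R) (t ^ i) =
      ∑ l ∈ Finset.range (i + 1), (i.choose l : R) • ((t ^ l) ⊗ₜ[R] (t ^ (i - l))) := by
    have hc : Commute (t ⊗ₜ[R] (1 : D R A)) ((1 : D R A) ⊗ₜ[R] t) := by
      rw [Commute, SemiconjBy, Algebra.TensorProduct.tmul_mul_tmul, Algebra.TensorProduct.tmul_mul_tmul,
        one_mul, mul_one]
    rw [Bialgebra.comul_pow, comul_of_prim t ht, hc.add_pow]
    refine Finset.sum_congr rfl fun l _ => ?_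
    rw [Algebra.TensorProduct.tmul_pow, Algebra.TensorProduct.tmul_pow,
      Algebra.TensorProduct.tmul_mul_tmul, one_pow, one_pow, mul_one, one_mul,
      ← (Nat.cast_commute (i.choose l) _).eq, ← nsmul_eq_mul, Nat.cast_smul_eq_nsmul]
  have h2 := ev₂_coalgebra_comul_tmul R A (t ^ i) a b
  rw [CartDual.coe_apply] at h2
  rw [← h2, h1, map_sum, LinearMap.sum_apply]
  refine Finset.sum_congr rfl fun l _ => ?_
  rw [map_smul, LinearMap.smul_apply, ev₂_tmul, CartDual.coe_apply, CartDual.coe_apply, smul_eq_mul,
    mul_comm]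

theorem pow_pair (t : D R A)
    (ht : ∀ a b : A, t.ofConv (a * b) =
      Coalgebra.counit (R := R) a * t.ofConv b + t.ofConv a * Coalgebra.counit (R := R) b)
    (x : A) (hx0 : Coalgebra.counit (R := R) x = 0) (htx : t.ofConv x = 1) :
    ∀ j i : ℕ, i ≤ j → (t ^ i).ofConv (x ^ j) = if i = j then (j.factorial : R) else 0 := by
  have h1 : ∀ c : A, (1 : D R A).ofConv c = Coalgebra.counit (R := R) c := fun c => by
    simp [LinearMap.convOne_def]
  intro j
  induction j with
  | zero =>
    intro i hi
    have : i = 0 := by omega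
    subst this
    rw [pow_zero, pow_zero, h1, if_pos rfl, Nat.factorial_zero, Nat.cast_one, Bialgebra.counit_one]
  | succ j ih =>
    intro i hi
    rw [pow_succ', leibniz t ht]
    by_cases hij : i = j + 1
    · subst hij
      rw [if_pos rfl, Finset.sum_eq_single 1]
      · rw [pow_one, htx, one_mul, Nat.add_sub_cancel, ih j le_rfl, if_pos rfl, Nat.choose_one_right,
          Nat.factorial_succ]
        push_cast
        ring
      · intro l hl hl1
        rw [Finset.mem_range] at hl
        by_cases hl0 : l = 0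
        · subst hl0
          rw [pow_zero, h1, hx0, zero_mul, zero_mul]
        · rw [ih (j + 1 - l) (by omega), if_neg (by omega), mul_zero, zero_mul]
      · intro h
        exact absurd (Finset.mem_range.mpr (by omega)) h
    · rw [if_neg hij]
      refine Finset.sum_eq_zero fun l hl => ?_
      rw [Finset.mem_range] at hl
      by_cases hl0 : l = 0
      · subst hl0
        rw [pow_zero, h1, hx0, zero_mul, zero_mul]
      · rw [ih (i - l) (by omega), if_neg (by omega), mul_zero, zero_mul]

end prim

end Groth.Agent.H92.OTPrim
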