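import Groth.Agent.H92.OTBase
import Groth.Agent.H92.OTField
import Groth.Agent.S15048

/-!
# Oort–Tate: the eigenspaces `I_j` are invertible modules (cocommutative case)
-/

set_option autoImplicit false
set_option linter.unusedSectionVars false
universe u

namespace Groth.Agent.H92.OTRank
open Groth.Agent.H92.OTChar Groth.Agent.H92.OTEigen Groth.Agent.H92.OTDual Groth.Agent.H92.OTPair
open Groth.Agent.H92.OTGen Groth.Agent.H92.OTField Groth.Agent.H92.OTBase
open WithConv CartDual TensorProduct Groth.Agent.S18473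

variable {R : Type u} [CommRing R] {A : Type u} [CommRing A] [HopfAlgebra R A]
  {p : ℕ} [Fact p.Prime] (hp : (toConv (AlgHom.id R A)) ^ p = 1)
  (u : R) (hu : u * ((p - 1 : ℕ) : R) = 1) (χ : (ZMod p)ˣ →* Rˣ)
  (hχ : ∀ m : (ZMod p)ˣ, m ≠ 1 → IsUnit ((χ m : R) - 1))

theorem eigenAug_periodic (j : ℕ) :
    OortTate.eigenAug R A p χ (j + (p - 1)) = OortTate.eigenAug R A p χ j := by
  ext f
  rw [mem_eigenAug_iff, mem_eigenAug_iff]
  simp only [pow_add, chi_val_pow_card, mul_one]

theorem eigenAug_mod (i : ℕ) :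
    OortTate.eigenAug R A p χ i = OortTate.eigenAug R A p χ (i % (p - 1)) := by
  conv_lhs => rw [← Nat.mod_add_div i (p - 1)]
  generalize i / (p - 1) = k
  induction k with
  | zero => rw [mul_zero, add_zero]
  | succ k ih => rw [Nat.mul_succ, ← add_assoc, eigenAug_periodic, ih]

/-- the projection onto the eigenspace -/
noncomputable def toEigen (j : ℕ) : A →ₗ[R] OortTate.eigenAug R A p χ j :=
  (PJ hp u χ j).codRestrict _ (PJ_mem hp u χ j)

theorem toEigen_apply (j : ℕ) (a : A) : ((toEigen hp u χ j a : OortTate.eigenAug R A p χ j) : A) =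
    PJ hp u χ j a := rfl

include hu in
theorem toEigen_comp_subtype (j : ℕ) :
    toEigen hp u χ j ∘ₗ (OortTate.eigenAug R A p χ j).subtype = LinearMap.id := by
  apply LinearMap.ext
  intro f
  apply Subtype.ext
  rw [LinearMap.comp_apply, toEigen_apply, Submodule.subtype_apply,
    PJ_self_of_mem hp u hu χ j f f.2]
  rfl

include hp hu in
theorem finite_eigenAug [Module.Finite R A] (j : ℕ) : Module.Finite R (OortTate.eigenAug R A p χ j) := by
  refine Module.Finite.of_surjective (toEigen hp u χ j) ?_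
  intro f
  exact ⟨f, LinearMap.congr_fun (toEigen_comp_subtype hp u hu χ j) f⟩

include hp hu in
theorem projective_eigenAug [Module.Projective R A] (j : ℕ) :
    Module.Projective R (OortTate.eigenAug R A p χ j) :=
  Module.Projective.of_split _ _ (toEigen_comp_subtype hp u hu χ j)

section rank
variable [Coalgebra.IsCocomm R A] [Module.Finite R A] [Module.Projective R A]
  (hχp : ∀ m : (ZMod p)ˣ, ((χ m : Rˣ) : R) - (((m : ZMod p).val : ℕ) : R) ∈
    Ideal.span ({(p : R)} : Set R))
  (hrk : ∀ q : PrimeSpectrum R, Module.rankAtStalk A q = p)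

include hp hu hχ hχp hrk in
theorem rank_pos (q : PrimeSpectrum R) (j : ℕ) (hj1 : 1 ≤ j) (hj : j ≤ p - 1) :
    0 < Module.rankAtStalk (OortTate.eigenAug R A p χ j) q := by
  haveI := finite_eigenAug hp u hu χ j
  haveI := projective_eigenAug hp u hu χ j
  by_contra h0
  have h0' : Module.rankAtStalk (OortTate.eigenAug R A p χ j) q = 0 := by omega
  set K := q.asIdeal.ResidueField with hK
  rw [Module.rankAtStalk_eq] at h0'
  have hsub : Subsingleton (K ⊗[R] OortTate.eigenAug R A p χ j) := Module.finrank_zero_iff.mp h0'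
  have hrkB : Module.finrank K (K ⊗[R] A) = p := by
    rw [← hrk q, Module.rankAtStalk_eq]
  have hrkB' : ∀ q' : PrimeSpectrum K, Module.rankAtStalk (K ⊗[R] A) q' = p := by
    intro q'
    rw [Module.rankAtStalk_eq_finrank_of_free]
    exact hrkB
  have hpB : (toConv (AlgHom.id K (K ⊗[R] A))) ^ p = 1 := Groth.Agent.S15048.result K (K ⊗[R] A) p hrkB'
  have huK := hu_T K u hu
  have hχK := hχ_T K χ hχ
  have hχpK := hχp_T K χ hχp
  have hWK := Wc_isUnit (algebraMap R K u) huK (chiT K χ) hχK hχpK
  have hne := field_main hpB (algebraMap R K u) huK (chiT K χ) hχK hχpK hrkB hWK j hj1 hj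
  apply hne
  rw [eigenAug_eq_bot_iff hpB (algebraMap R K u) huK (chiT K χ) j]
  apply LinearMap.ext
  intro b
  rw [LinearMap.zero_apply]
  induction b using TensorProduct.induction_on with
  | zero => rw [map_zero]
  | add b b' h h' => rw [map_add, h, h', add_zero]
  | tmul k a =>
    have h1 : k ⊗ₜ[R] a = k • ((1 : K) ⊗ₜ[R] a) := by
      rw [TensorProduct.smul_tmul', smul_eq_mul, mul_one]
    rw [h1, map_smul, PJ_baseChange u χ hp hpB j a]
    have h2 : (1 : K) ⊗ₜ[R] PJ hp u χ j a =
        LinearMap.lTensor K (OortTate.eigenAug R A p χ j).subtype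
          ((1 : K) ⊗ₜ[R] toEigen hp u χ j a) := by
      rw [LinearMap.lTensor_tmul]
      rfl
    rw [h2, Subsingleton.elim ((1 : K) ⊗ₜ[R] toEigen hp u χ j a) 0, map_zero, smul_zero]

include hu hχ in
theorem PJ_fin (i j : Fin (p - 1)) (f : A) (hf : f ∈ OortTate.eigenAug R A p χ (j : ℕ)) :
    PJ hp u χ (i : ℕ) f = if i = j then f else 0 := by
  rw [PJ_of_mem hp u χ (j : ℕ) (i : ℕ) f hf]
  by_cases hij : i = j
  · subst hij
    rw [if_pos rfl, sub_self, S_of_dvd (dvd_zero _), hu, one_smul]
  · rw [if_neg hij, S_eq_zero hχ, mul_zero, zero_smul]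
    rw [dvd_sub_iff_fin]
    exact hij

theorem PJ_algebraMap (j : ℕ) (r : R) : PJ hp u χ j (algebraMap R A r) = 0 := by
  rw [PJ_apply, Bialgebra.counit_algebraMap, sub_self, map_zero]

/-- the decomposition `A = R ⊕ ⨁ I_j` -/
noncomputable def decomp :
    A ≃ₗ[R] R × (∀ j : Fin (p - 1), OortTate.eigenAug R A p χ (j : ℕ)) where
  toFun a := (Coalgebra.counit a, fun j => toEigen hp u χ (j : ℕ) a)
  map_add' a b := by
    ext
    · simp
    · simp
  map_smul' r a := by
    ext
    · simp
    · simp
  invFun x := algebraMap R A x.1 + ∑ j : Fin (p - 1), ((x.2 j : OortTate.eigenAug R A p χ (j : ℕ)) : A)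
  left_inv a := by
    simp only [toEigen_apply]
    rw [← Finset.sum_range (fun j => PJ hp u χ j a), sum_PJ hp u hu χ hχ a]
    ring
  right_inv x := by
    obtain ⟨r, f⟩ := x
    ext
    · simp only [map_add, Bialgebra.counit_algebraMap, map_sum]
      rw [Finset.sum_eq_zero (fun j _ => counit_of_mem χ (f j).2), add_zero]
    · rename_i i
      simp only [map_add, map_sum]
      rw [Submodule.coe_add, Submodule.coe_sum]
      simp only [toEigen_apply, PJ_algebraMap, zero_add]
      rw [Finset.sum_congr rfl (fun j _ => PJ_fin hp u hu χ hχ i j _ (f j).2),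
        Finset.sum_ite_eq Finset.univ i]
      simp

include hp hu hχ hχp hrk in
theorem rank_eq_one (q : PrimeSpectrum R) (i : ℕ) :
    Module.rankAtStalk (OortTate.eigenAug R A p χ i) q = 1 := by
  have hp2 := (Fact.out : p.Prime).two_le
  haveI : Nontrivial R := ⟨⟨0, 1, fun h => q.isPrime.ne_top (by
    rw [Ideal.eq_top_iff_one, ← h]; exact q.asIdeal.zero_mem)⟩⟩
  haveI : ∀ j : Fin (p - 1), Module.Finite R (OortTate.eigenAug R A p χ (j : ℕ)) :=
    fun j => finite_eigenAug hp u hu χ _
  haveI : ∀ j : Fin (p - 1), Module.Projective R (OortTate.eigenAug R A p χ (j : ℕ)) :=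
    fun j => projective_eigenAug hp u hu χ _
  haveI : Module.Flat R (∀ j : Fin (p - 1), OortTate.eigenAug R A p χ (j : ℕ)) :=
    Module.Flat.of_linearEquiv (DFinsupp.linearEquivFunOnFintype (R := R)
      (M := fun j : Fin (p - 1) => OortTate.eigenAug R A p χ (j : ℕ))).symm
  -- positivity for every residue class
  have hpos : ∀ j : Fin (p - 1), 1 ≤ Module.rankAtStalk (OortTate.eigenAug R A p χ (j : ℕ)) q := by
    intro j
    by_cases hj0 : (j : ℕ) = 0
    · have h1 := rank_pos hp u hu χ hχ hχp hrk q (p - 1) (by omega) le_rfl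
      have h2 := eigenAug_periodic (A := A) χ 0
      rw [zero_add] at h2
      rw [hj0, ← h2]
      exact h1
    · exact rank_pos hp u hu χ hχ hχp hrk q (j : ℕ) (by omega) (by have := j.2; omega)
  -- the sum of the ranks
  have hsum : 1 + ∑ j : Fin (p - 1), Module.rankAtStalk (OortTate.eigenAug R A p χ (j : ℕ)) q = p := by
    have h1 := Module.rankAtStalk_eq_of_equiv (decomp hp u hu χ hχ)
    have h2 := congrFun h1 q
    rw [hrk q, Module.rankAtStalk_prod, Pi.add_apply, Module.rankAtStalk_self, Pi.one_apply,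
      Module.rankAtStalk_pi, finsum_eq_sum_of_fintype] at h2
    exact h2.symm
  -- conclude
  have hall : ∀ j : Fin (p - 1), Module.rankAtStalk (OortTate.eigenAug R A p χ (j : ℕ)) q = 1 := by
    intro j
    by_contra hne
    have h2 : 2 ≤ Module.rankAtStalk (OortTate.eigenAug R A p χ (j : ℕ)) q := by
      have := hpos j; omega
    have h3 : ∑ j : Fin (p - 1), Module.rankAtStalk (OortTate.eigenAug R A p χ (j : ℕ)) q ≥
        ∑ i : Fin (p - 1), (if i = j then 2 else 1) := by
      refine Finset.sum_le_sum fun i _ => ?_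
      by_cases hij : i = j
      · rw [if_pos hij, hij]; exact h2
      · rw [if_neg hij]; exact hpos i
    have h4 : ∑ i : Fin (p - 1), (if i = j then 2 else 1) = (p - 1) + 1 := by
      have : ∀ i : Fin (p - 1), (if i = j then 2 else 1) = 1 + (if i = j then 1 else 0) := by
        intro i; split_ifs <;> rfl
      simp only [this, Finset.sum_add_distrib, Finset.sum_const, Finset.card_univ, Fintype.card_fin,
        smul_eq_mul, mul_one, Finset.sum_ite_eq', Finset.mem_univ, if_true]
    omega
  rw [eigenAug_mod χ i]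
  exact hall ⟨i % (p - 1), Nat.mod_lt _ (by omega)⟩

end rank

end Groth.Agent.H92.OTRank
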