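import Groth.Agent.H92.OTPowers
import Groth.Agent.H92.OTLoc

/-!
# Oort–Tate: `A` is the quotient of the tensor algebra of `I_1` by the relations
`x_1 ⋯ x_p = g` (`g = x_1 ⋯ x_p ∈ I_1`).
-/

set_option autoImplicit false
set_option linter.unusedSectionVars false
universe u

namespace Groth.Agent.H92.OTSym
open Groth.Agent.H92.OTChar Groth.Agent.H92.OTEigen Groth.Agent.H92.OTDual Groth.Agent.H92.OTPair
open Groth.Agent.H92.OTGen Groth.Agent.H92.OTField Groth.Agent.H92.OTRank Groth.Agent.H92.OTPowers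
open Groth.Agent.H92.LocCyclic Groth.Agent.H92.OTPairing Groth.Agent.H92.OTLoc
open WithConv CartDual TensorProduct Groth.Agent.S18473

variable {R : Type u} [CommRing R] {A : Type u} [CommRing A] [HopfAlgebra R A]
  [Coalgebra.IsCocomm R A] [Module.Finite R A] [Module.Projective R A]
  {p : ℕ} [Fact p.Prime] (hp : (toConv (AlgHom.id R A)) ^ p = 1)
  (u : R) (hu : u * ((p - 1 : ℕ) : R) = 1) (χ : (ZMod p)ˣ →* Rˣ)
  (hχ : ∀ m : (ZMod p)ˣ, m ≠ 1 → IsUnit ((χ m : R) - 1))
  (hχp : ∀ m : (ZMod p)ˣ, ((χ m : Rˣ) : R) - (((m : ZMod p).val : ℕ) : R) ∈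
    Ideal.span ({(p : R)} : Set R))
  (hrk : ∀ q : PrimeSpectrum R, Module.rankAtStalk A q = p)

variable (A) in
/-- the canonical map from the tensor algebra -/
noncomputable def piA : TensorAlgebra R (OortTate.eigenAug R A p χ 1) →ₐ[R] A :=
  TensorAlgebra.lift R (OortTate.eigenAug R A p χ 1).subtype

theorem piA_ι (x : OortTate.eigenAug R A p χ 1) : piA A χ (TensorAlgebra.ι R x) = (x : A) := by
  unfold piA
  rw [TensorAlgebra.lift_ι_apply]
  rfl

variable (A) in
/-- the degree one part -/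
noncomputable def Mι : Submodule R (TensorAlgebra R (OortTate.eigenAug R A p χ 1)) :=
  LinearMap.range (TensorAlgebra.ι R)

theorem map_Mι : Submodule.map (piA A χ).toLinearMap (Mι A χ) = OortTate.eigenAug R A p χ 1 := by
  unfold Mι
  rw [← LinearMap.range_comp]
  have : (piA A χ).toLinearMap ∘ₗ TensorAlgebra.ι R = (OortTate.eigenAug R A p χ 1).subtype := by
    apply LinearMap.ext
    intro x
    exact piA_ι χ x
  rw [this, Submodule.range_subtype]

theorem map_Mι_pow (j : ℕ) :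
    Submodule.map (piA A χ).toLinearMap (Mι A χ ^ j) = (OortTate.eigenAug R A p χ 1) ^ j := by
  rw [Submodule.map_pow, map_Mι]

theorem prod_mem (f : Fin p → OortTate.eigenAug R A p χ 1) :
    ∏ i, (f i : A) ∈ OortTate.eigenAug R A p χ 1 := by
  have hp2 := (Fact.out : p.Prime).two_le
  have h := pow_le χ p (by omega) (prod_mem_pow χ f)
  have e : OortTate.eigenAug R A p χ (1 + (p - 1)) = OortTate.eigenAug R A p χ 1 :=
    eigenAug_periodic χ 1
  have hpp : 1 + (p - 1) = p := by omega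
  rw [hpp] at e
  rwa [e] at h

variable (A) in
/-- the set of relations -/
def Rel : Set (TensorAlgebra R (OortTate.eigenAug R A p χ 1)) :=
  {x | ∃ (f : Fin p → OortTate.eigenAug R A p χ 1) (g : OortTate.eigenAug R A p χ 1),
    (g : A) = ∏ i, (f i : A) ∧
    x = (List.ofFn fun i => TensorAlgebra.ι R (f i)).prod - TensorAlgebra.ι R g}

theorem rel_le_ker : Ideal.span (Rel A χ) ≤ RingHom.ker (piA A χ) := by
  rw [Ideal.span_le]
  rintro x ⟨f, g, hg, rfl⟩
  rw [SetLike.mem_coe, RingHom.mem_ker, map_sub, map_list_prod, List.map_ofFn, piA_ι, hg,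
    sub_eq_zero, List.prod_ofFn]
  refine Finset.prod_congr rfl fun i _ => ?_
  exact piA_ι χ (f i)

theorem Mp_le : Mι A χ ^ p ≤ (Ideal.span (Rel A χ)).restrictScalars R ⊔ Mι A χ ^ 1 := by
  rw [Submodule.pow_eq_span_pow_set, Submodule.span_le]
  intro z hz
  obtain ⟨f, rfl⟩ := Set.mem_pow.mp hz
  choose x hx using fun i => (f i).2
  have hf : (fun i => ((f i : Mι A χ) : TensorAlgebra R (OortTate.eigenAug R A p χ 1))) =
      fun i => TensorAlgebra.ι R (x i) := funext fun i => (hx i).symm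
  rw [hf]
  set g : OortTate.eigenAug R A p χ 1 := ⟨∏ i, (x i : A), prod_mem χ x⟩ with hg
  have h1 : (List.ofFn fun i => TensorAlgebra.ι R (x i)).prod =
      ((List.ofFn fun i => TensorAlgebra.ι R (x i)).prod - TensorAlgebra.ι R g) +
        TensorAlgebra.ι R g := by abel
  rw [SetLike.mem_coe, h1]
  refine Submodule.add_mem_sup ?_ ?_
  · exact Ideal.subset_span ⟨x, g, rfl, rfl⟩
  · rw [pow_one]
    exact ⟨g, rfl⟩

theorem pow_le_sup (n : ℕ) : Mι A χ ^ n ≤ (Ideal.span (Rel A χ)).restrictScalars R ⊔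
    ⨆ j ∈ Finset.range p, Mι A χ ^ j := by
  have hp2 := (Fact.out : p.Prime).two_le
  induction n using Nat.strong_induction_on with
  | _ n ih =>
    by_cases hn : n < p
    · exact le_sup_of_le_right (le_iSup₂_of_le n (Finset.mem_range.mpr hn) le_rfl)
    · have hn' : n = (n - p) + p := by omega
      rw [hn', pow_add, Submodule.mul_le]
      intro y hy z hz
      obtain ⟨z₁, hz₁, z₂, hz₂, rfl⟩ := Submodule.mem_sup.mp (Mp_le χ hz)
      rw [mul_add]
      refine Submodule.add_mem _ (Submodule.mem_sup_left ?_) ?_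
      · exact (Ideal.span (Rel A χ)).mul_mem_left y hz₁
      · apply ih (n - p + 1) (by omega)
        rw [pow_succ]
        rw [pow_one] at hz₂
        exact Submodule.mul_mem_mul hy hz₂

theorem iSup_pow_eq_top : ⨆ n : ℕ, Mι A χ ^ n = ⊤ := by
  have := (DirectSum.Decomposition.isInternal
    (fun i : ℕ => (LinearMap.range (TensorAlgebra.ι R :
      OortTate.eigenAug R A p χ 1 →ₗ[R] TensorAlgebra R (OortTate.eigenAug R A p χ 1))) ^ i))
  exact this.submodule_iSup_eq_top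

theorem top_le_sup : ⊤ ≤ (Ideal.span (Rel A χ)).restrictScalars R ⊔
    ⨆ j ∈ Finset.range p, Mι A χ ^ j := by
  rw [← iSup_pow_eq_top χ]
  exact iSup_le fun n => pow_le_sup χ n

include hp hu hχ hχp hrk in
theorem piA_surjective : Function.Surjective (piA A χ) := by
  intro a
  have h := sum_PJ' hp u hu χ hχ a
  have ha : a = algebraMap R A (Coalgebra.counit a) + ∑ j ∈ Finset.Ico 1 p, PJ hp u χ j a := by
    rw [h]; ring
  have hmem : a ∈ LinearMap.range (piA A χ).toLinearMap := by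
    rw [ha]
    refine Submodule.add_mem _ ⟨algebraMap R _ (Coalgebra.counit a), by simp⟩
      (Submodule.sum_mem _ fun j hj => ?_)
    rw [Finset.mem_Ico] at hj
    have hm : PJ hp u χ j a ∈ (OortTate.eigenAug R A p χ 1) ^ j := by
      rw [pow_eq hp u hu χ hχ hχp j hj.1 (by omega)]
      exact PJ_mem hp u χ j a
    rw [← map_Mι_pow χ j] at hm
    obtain ⟨y, -, hy⟩ := hm
    exact ⟨y, hy⟩
  obtain ⟨y, hy⟩ := hmem
  exact ⟨y, hy⟩

/-- every element of degree `n` is, near a maximal ideal, a multiple of the `n`-th power of a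
local generator -/
theorem local_mult (𝔪 : Ideal R) [𝔪.IsPrime] (g : OortTate.eigenAug R A p χ 1)
    (hg : ∀ x : OortTate.eigenAug R A p χ 1, ∃ s : R, s ∉ 𝔪 ∧ ∃ c : R, s • x = c • g)
    (n : ℕ) (y : TensorAlgebra R (OortTate.eigenAug R A p χ 1)) (hy : y ∈ Mι A χ ^ n) :
    ∃ s : R, s ∉ 𝔪 ∧ ∃ c : R, s • y = c • (TensorAlgebra.ι R g) ^ n := by
  induction hy using Submodule.pow_induction_on_left' with
  | algebraMap r =>
    exact ⟨1, fun h => (Ideal.IsPrime.ne_top ‹_›) ((Ideal.eq_top_iff_one 𝔪).mpr h), r, by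
      rw [one_smul, pow_zero, Algebra.algebraMap_eq_smul_one]⟩
  | add x y i hx hy h h' =>
    obtain ⟨s, hs, c, h⟩ := h
    obtain ⟨s', hs', c', h'⟩ := h'
    refine ⟨s * s', Ideal.IsPrime.mul_notMem ‹_› hs hs', s' * c + s * c', ?_⟩
    rw [smul_add, mul_comm s s', mul_smul, h, mul_comm s' s, mul_smul, h', add_smul, mul_smul, mul_smul]
  | mem_mul m hm i x hx h =>
    obtain ⟨s, hs, c, h⟩ := h
    obtain ⟨x₀, rfl⟩ := hm
    obtain ⟨s₀, hs₀, c₀, h₀⟩ := hg x₀
    refine ⟨s₀ * s, Ideal.IsPrime.mul_notMem ‹_› hs₀ hs, c₀ * c, ?_⟩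
    rw [← smul_mul_smul_comm, h, ← map_smul, h₀, map_smul, smul_mul_smul_comm, ← pow_succ']

include hp hu hχ hχp hrk in
theorem inj_piece (j : ℕ) (hj1 : 1 ≤ j) (hj : j ≤ p - 1)
    (y : TensorAlgebra R (OortTate.eigenAug R A p χ 1)) (hy : y ∈ Mι A χ ^ j)
    (hπ : piA A χ y = 0) : y = 0 := by
  haveI := finite_eigenAug hp u hu χ 1
  haveI := projective_eigenAug hp u hu χ 1
  haveI := finite_eigenAug hp u hu χ j
  haveI := projective_eigenAug hp u hu χ j
  apply eq_zero_of_forall_maximal (R := R)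
  intro 𝔪 h𝔪
  haveI := h𝔪.isPrime
  obtain ⟨g, hg1, -⟩ := exists_local_generator (M := OortTate.eigenAug R A p χ 1)
    ⟨𝔪, h𝔪.isPrime⟩ (rank_eq_one hp u hu χ hχ hχp hrk _ 1)
  obtain ⟨gj, hgj1, hgj2⟩ := exists_local_generator (M := OortTate.eigenAug R A p χ j)
    ⟨𝔪, h𝔪.isPrime⟩ (rank_eq_one hp u hu χ hχ hχp hrk _ j)
  -- `g^j ∈ I_j`
  have hgmem : ((g : A)) ^ j ∈ OortTate.eigenAug R A p χ j := pow_mem_eigenAug χ _ g.2 j hj1
  obtain ⟨s₁, hs₁, c₁, h₁⟩ := hgj1 ⟨(g : A) ^ j, hgmem⟩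
  have h₁' : s₁ • (g : A) ^ j = c₁ • (gj : A) := congrArg Subtype.val h₁
  -- `gj` is a multiple of `g^j`
  have hgj : (gj : A) ∈ (OortTate.eigenAug R A p χ 1) ^ j := by
    rw [pow_eq hp u hu χ hχ hχp j hj1 hj]; exact gj.2
  rw [← map_Mι_pow χ j] at hgj
  obtain ⟨y', hy', hy'g⟩ := hgj
  obtain ⟨s₂, hs₂, c₂, h₂⟩ := local_mult χ 𝔪 g hg1 j y' hy'
  have h₂' : s₂ • (gj : A) = c₂ • (g : A) ^ j := by
    have := congrArg (piA A χ) h₂
    rwa [map_smul, map_smul, map_pow, piA_ι, ← AlgHom.toLinearMap_apply, hy'g] at this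
  -- `c₁ ∉ 𝔪`
  have h3 : (s₁ * s₂ - c₁ * c₂) • gj = 0 := by
    apply Subtype.ext
    rw [Submodule.coe_smul, Submodule.coe_zero, sub_smul, mul_smul, h₂', smul_comm, h₁', smul_smul,
      mul_comm c₂ c₁, sub_self]
  obtain ⟨s₃, hs₃, h3'⟩ := hgj2 _ h3
  have hc₁ : c₁ ∉ 𝔪 := by
    intro hc
    have h4 : s₃ * (s₁ * s₂) = s₃ * (c₁ * c₂) := by
      rw [← sub_eq_zero, ← mul_sub, h3']
    have h5 : s₃ * (s₁ * s₂) ∈ 𝔪 := by
      rw [h4]
      exact 𝔪.mul_mem_left _ (𝔪.mul_mem_right _ hc)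
    exact (h𝔪.isPrime.mul_notMem hs₃ (h𝔪.isPrime.mul_notMem hs₁ hs₂)) h5
  -- now `y`
  obtain ⟨s, hs, c, h⟩ := local_mult χ 𝔪 g hg1 j y hy
  have h6 : c • (g : A) ^ j = 0 := by
    have := congrArg (piA A χ) h
    rw [map_smul, map_smul, map_pow, piA_ι, hπ, smul_zero] at this
    exact this.symm
  have h7 : (c * c₁) • gj = 0 := by
    apply Subtype.ext
    rw [Submodule.coe_smul, Submodule.coe_zero, mul_smul, ← h₁', smul_comm, h6, smul_zero]
  obtain ⟨s₄, hs₄, h7'⟩ := hgj2 _ h7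
  refine ⟨s₄ * c₁ * s, h𝔪.isPrime.mul_notMem (h𝔪.isPrime.mul_notMem hs₄ hc₁) hs, ?_⟩
  rw [mul_smul, h, smul_smul]
  have : s₄ * c₁ * c = 0 := by rw [mul_assoc, mul_comm c₁ c, h7']
  rw [this, zero_smul]

include hp hu hχ hχp hrk in
theorem inj_low (y : TensorAlgebra R (OortTate.eigenAug R A p χ 1))
    (hy : y ∈ ⨆ j ∈ Finset.range p, Mι A χ ^ j) (hπ : piA A χ y = 0) : y = 0 := by
  have hp2 := (Fact.out : p.Prime).two_le
  rw [Submodule.mem_iSup_finset_iff_exists_sum] at hy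
  obtain ⟨μ, rfl⟩ := hy
  -- the images of the components
  have hf : ∀ i : ℕ, 1 ≤ i → piA A χ (μ i : TensorAlgebra R (OortTate.eigenAug R A p χ 1)) ∈
      OortTate.eigenAug R A p χ i := by
    intro i hi
    apply pow_le χ i hi
    rw [← map_Mι_pow χ i]
    exact ⟨_, (μ i).2, rfl⟩
  have h0 : ∃ r : R, (μ 0 : TensorAlgebra R (OortTate.eigenAug R A p χ 1)) = algebraMap R _ r := by
    have h1 : (μ 0 : TensorAlgebra R (OortTate.eigenAug R A p χ 1)) ∈
        (1 : Submodule R (TensorAlgebra R (OortTate.eigenAug R A p χ 1))) := by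
      have := (μ 0).2
      simpa only [pow_zero] using this
    rw [Submodule.mem_one] at h1
    obtain ⟨r, hr⟩ := h1
    exact ⟨r, hr.symm⟩
  obtain ⟨r, hr⟩ := h0
  rw [map_sum] at hπ
  -- components of positive degree vanish
  have hpos : ∀ j : ℕ, 1 ≤ j → j ≤ p - 1 →
      piA A χ (μ j : TensorAlgebra R (OortTate.eigenAug R A p χ 1)) = 0 := by
    intro j hj1 hj
    have h1 := congrArg (PJ hp u χ j) hπ
    rw [map_sum, map_zero, Finset.sum_eq_single j] at h1
    · rwa [PJ_self_of_mem hp u hu χ j _ (hf j hj1)] at h1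
    · intro i hi hij
      rw [Finset.mem_range] at hi
      by_cases hi0 : i = 0
      · subst hi0
        rw [hr, AlgHom.commutes, PJ_algebraMap]
      · rw [PJ_of_mem hp u χ i j _ (hf i (by omega)), S_eq_zero hχ, mul_zero, zero_smul]
        rintro ⟨c, hc⟩
        have hc0 : c ≠ 0 := by
          rintro rfl
          apply hij
          have : (i : ℤ) - j = 0 := by rw [hc, mul_zero]
          omega
        have h2 : (1 : ℤ) ≤ |c| := Int.one_le_abs hc0
        have h3 : |(i : ℤ) - j| = ((p - 1 : ℕ) : ℤ) * |c| := by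
          rw [hc, abs_mul, abs_of_nonneg (by positivity)]
        have h4 : |(i : ℤ) - j| < ((p - 1 : ℕ) : ℤ) := by
          rw [abs_lt]
          constructor <;> push_cast [Nat.cast_sub (by omega : 1 ≤ p)] <;> omega
        nlinarith
    · intro h
      exact absurd (Finset.mem_range.mpr (by omega)) h
  -- the component of degree zero
  have hzero : piA A χ (μ 0 : TensorAlgebra R (OortTate.eigenAug R A p χ 1)) = 0 := by
    rw [Finset.sum_eq_single 0] at hπ
    · exact hπ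
    · intro i hi hi0
      rw [Finset.mem_range] at hi
      exact hpos i (by omega) (by omega)
    · intro h
      exact absurd (Finset.mem_range.mpr (by omega)) h
  refine Finset.sum_eq_zero fun j hj => ?_
  rw [Finset.mem_range] at hj
  by_cases hj0 : j = 0
  · subst hj0
    rw [hr] at hzero ⊢
    rw [AlgHom.commutes] at hzero
    have h1 := congrArg (Coalgebra.counit (R := R)) hzero
    rw [Bialgebra.counit_algebraMap, map_zero] at h1
    rw [h1, map_zero]
  · exact inj_piece hp u hu χ hχ hχp hrk j (by omega) (by omega) _ (μ j).2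
      (hpos j (by omega) (by omega))

include hp hu hχ hχp hrk in
theorem ker_eq : RingHom.ker (piA A χ) = Ideal.span (Rel A χ) := by
  apply le_antisymm _ (rel_le_ker χ)
  intro y hy
  have hy' : y ∈ (Ideal.span (Rel A χ)).restrictScalars R ⊔ ⨆ j ∈ Finset.range p, Mι A χ ^ j :=
    top_le_sup χ Submodule.mem_top
  obtain ⟨y₁, hy₁, y₂, hy₂, rfl⟩ := Submodule.mem_sup.mp hy'
  have hy₁' : y₁ ∈ Ideal.span (Rel A χ) := hy₁
  have h1 : piA A χ y₁ = 0 := rel_le_ker χ hy₁'
  have h2 : piA A χ y₂ = 0 := by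
    have := (RingHom.mem_ker).mp hy
    rwa [map_add, h1, zero_add] at this
  rw [inj_low hp u hu χ hχ hχp hrk y₂ hy₂ h2, add_zero]
  exact hy₁'

end Groth.Agent.H92.OTSym
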