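import Mathlib.RingTheory.HopfAlgebra.Basic
import Mathlib.RingTheory.Bialgebra.Equiv
import Mathlib.RingTheory.TensorProduct.Basic
import Mathlib.Tactic.LinearCombination
import Mathlib.Tactic.Ring
import Mathlib.Tactic.Abel

set_option autoImplicit false

namespace Groth.Agent.H92

universe u v

open scoped TensorProduct
open Coalgebra

section

variable (R : Type u) [CommRing R] (A : Type v) [CommRing A] [Bialgebra R A]

/-- `x` freely generates the augmentation ideal `ker ε` as an `R`-module. -/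
structure IsAugGen (x : A) : Prop where
  aug : Coalgebra.counit (R := R) x = 0
  gen : ∀ f : A, Coalgebra.counit (R := R) f = 0 → ∃ r : R, f = r • x
  free : ∀ r : R, r • x = 0 → r = 0

variable {R A}

namespace IsAugGen

variable {x : A} (h : IsAugGen R A x)
include h

theorem exists_repr (f : A) : ∃ s : R, f = algebraMap R A (Coalgebra.counit (R := R) f) + s • x := by
  have h0 : Coalgebra.counit (R := R) (f - algebraMap R A (Coalgebra.counit (R := R) f)) = 0 := by
    rw [map_sub, Bialgebra.counit_algebraMap, sub_self]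
  obtain ⟨s, hs⟩ := h.gen _ h0
  exact ⟨s, by rw [← hs]; ring⟩

theorem repr_unique {r r' s s' : R}
    (e : algebraMap R A r + s • x = algebraMap R A r' + s' • x) : r = r' ∧ s = s' := by
  have h1 := congrArg (Coalgebra.counit (R := R)) e
  simp only [map_add, Bialgebra.counit_algebraMap, map_smul, h.aug, smul_zero, add_zero] at h1
  refine ⟨h1, ?_⟩
  rw [h1] at e
  have h2 : (s - s') • x = 0 := by
    rw [sub_smul, sub_eq_zero]
    exact add_left_cancel e
  exact sub_eq_zero.mp (h.free _ h2)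

/-- `R × R ≃ A`, `(r, s) ↦ r • 1 + s • x`. -/
noncomputable def equivProd : (R × R) ≃ₗ[R] A :=
  LinearEquiv.ofBijective ((Algebra.linearMap R A).coprod (LinearMap.toSpanSingleton R A x))
    ⟨fun p q e => by
      have := h.repr_unique (r := p.1) (s := p.2) (r' := q.1) (s' := q.2)
        (by simpa [LinearMap.coprod_apply, LinearMap.toSpanSingleton_apply] using e)
      exact Prod.ext this.1 this.2,
    fun f => by
      obtain ⟨s, hs⟩ := h.exists_repr f
      exact ⟨(Coalgebra.counit (R := R) f, s), by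
        simpa [LinearMap.coprod_apply, LinearMap.toSpanSingleton_apply] using hs.symm⟩⟩

theorem equivProd_apply (p : R × R) : h.equivProd p = algebraMap R A p.1 + p.2 • x := by
  simp [equivProd, LinearMap.coprod_apply, LinearMap.toSpanSingleton_apply]

/-- The `x`-coordinate as a linear functional. -/
noncomputable def coef : A →ₗ[R] R :=
  (LinearMap.snd R R R).comp h.equivProd.symm.toLinearMap

theorem repr (f : A) : f = algebraMap R A (Coalgebra.counit (R := R) f) + h.coef f • x := by
  have h1 : f = algebraMap R A (h.equivProd.symm f).1 + (h.equivProd.symm f).2 • x := by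
    rw [← h.equivProd_apply, LinearEquiv.apply_symm_apply]
  have h2 := congrArg (Coalgebra.counit (R := R)) h1
  simp only [map_add, Bialgebra.counit_algebraMap, map_smul, h.aug, smul_zero, add_zero] at h2
  rw [h2]
  exact h1

theorem coef_eq {f : A} {r s : R} (e : f = algebraMap R A r + s • x) : h.coef f = s := by
  subst e
  have := h.repr (algebraMap R A r + s • x)
  exact (h.repr_unique this).2.symm

theorem coef_self : h.coef x = 1 :=
  h.coef_eq (r := 0) (by rw [map_zero, zero_add, one_smul])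

theorem coef_algebraMap (r : R) : h.coef (algebraMap R A r) = 0 :=
  h.coef_eq (r := r) (by rw [zero_smul, add_zero])

theorem coef_one : h.coef (1 : A) = 0 := by
  rw [← map_one (algebraMap R A)]; exact h.coef_algebraMap 1

/-- The functional on `A ⊗ A` reading the coefficient of `x ⊗ x`. -/
noncomputable def coef2 : A ⊗[R] A →ₗ[R] R :=
  (LinearMap.mul' R R).comp (TensorProduct.map h.coef h.coef)

theorem coef2_tmul (f g : A) : h.coef2 (f ⊗ₜ[R] g) = h.coef f * h.coef g := by
  simp [coef2]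

theorem tmul_free {r : R} (e : r • (x ⊗ₜ[R] x) = 0) : r = 0 := by
  have := congrArg h.coef2 e
  rw [map_smul, coef2_tmul, coef_self, map_zero] at this
  simpa using this

/-- Two linear maps out of `A` agreeing on `1` and `x` are equal. -/
theorem linearMap_ext {N : Type*} [AddCommGroup N] [Module R N] {F G : A →ₗ[R] N}
    (h1 : F 1 = G 1) (hx : F x = G x) : F = G := by
  ext f
  rw [h.repr f, map_add, map_add, map_smul, map_smul, hx, Algebra.algebraMap_eq_smul_one,
    map_smul, map_smul, h1]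

theorem exists_mul_self : ∃ a : R, x * x = a • x :=
  h.gen _ (by rw [Bialgebra.counit_mul, h.aug, mul_zero])

/-- every tensor is a combination of `1⊗1`, `x⊗1`, `1⊗x`, `x⊗x`. -/
theorem exists_repr2 (t : A ⊗[R] A) : ∃ c₀ c₁ c₂ c₃ : R,
    t = c₀ • ((1 : A) ⊗ₜ[R] (1 : A)) + c₁ • (x ⊗ₜ[R] (1 : A)) + c₂ • ((1 : A) ⊗ₜ[R] x) +
      c₃ • (x ⊗ₜ[R] x) := by
  induction t using TensorProduct.induction_on with
  | zero => exact ⟨0, 0, 0, 0, by simp⟩
  | tmul f g =>
    refine ⟨Coalgebra.counit (R := R) f * Coalgebra.counit (R := R) g, h.coef f * Coalgebra.counit (R := R) g,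
      Coalgebra.counit (R := R) f * h.coef g, h.coef f * h.coef g, ?_⟩
    conv_lhs => rw [h.repr f, h.repr g]
    simp only [Algebra.algebraMap_eq_smul_one, TensorProduct.add_tmul, TensorProduct.tmul_add,
      TensorProduct.smul_tmul_smul]
    abel
  | add t t' ht ht' =>
    obtain ⟨c₀, c₁, c₂, c₃, e⟩ := ht
    obtain ⟨d₀, d₁, d₂, d₃, e'⟩ := ht'
    refine ⟨c₀ + d₀, c₁ + d₁, c₂ + d₂, c₃ + d₃, ?_⟩
    rw [e, e']
    simp only [add_smul]
    abel

theorem exists_comul : ∃ b : R,
    comul (R := R) x = x ⊗ₜ[R] (1 : A) + (1 : A) ⊗ₜ[R] x + b • (x ⊗ₜ[R] x) := by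
  obtain ⟨c₀, c₁, c₂, c₃, e⟩ := h.exists_repr2 (comul (R := R) x)
  have h1 := rTensor_counit_comul (R := R) x
  have h2 := lTensor_counit_comul (R := R) x
  rw [e] at h1 h2
  simp only [map_add, map_smul, LinearMap.rTensor_tmul, LinearMap.lTensor_tmul, h.aug,
    Bialgebra.counit_one, TensorProduct.zero_tmul, TensorProduct.tmul_zero, smul_zero,
    add_zero] at h1 h2
  -- h1 : c₀ • 1 ⊗ 1 + c₂ • 1 ⊗ x = 1 ⊗ x  in R ⊗ A ;  h2 : c₀ • 1 ⊗ 1 + c₁ • x ⊗ 1 = x ⊗ 1 in A ⊗ R
  have h1' := congrArg (TensorProduct.lid R A) h1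
  have h2' := congrArg (TensorProduct.rid R A) h2
  simp only [map_add, map_smul, TensorProduct.lid_tmul, TensorProduct.rid_tmul, one_smul] at h1' h2'
  have e1 : algebraMap R A c₀ + c₂ • x = algebraMap R A 0 + (1 : R) • x := by
    rw [map_zero, zero_add, one_smul, Algebra.algebraMap_eq_smul_one]; exact h1'
  have e2 : algebraMap R A c₀ + c₁ • x = algebraMap R A 0 + (1 : R) • x := by
    rw [map_zero, zero_add, one_smul, Algebra.algebraMap_eq_smul_one]; exact h2'
  obtain ⟨hc0, hc2⟩ := h.repr_unique e1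
  obtain ⟨-, hc1⟩ := h.repr_unique e2
  refine ⟨c₃, ?_⟩
  rw [e, hc0, hc1, hc2, zero_smul, zero_add, one_smul, one_smul]

/-- From multiplicativity of the comultiplication: `(ab + 1)(ab + 2) = 0`. -/
theorem quad_eq {a b : R} (ha : x * x = a • x)
    (hb : comul (R := R) x = x ⊗ₜ[R] (1 : A) + (1 : A) ⊗ₜ[R] x + b • (x ⊗ₜ[R] x)) :
    a ^ 2 * b ^ 2 + 3 * (a * b) + 2 = 0 := by
  have hmul : comul (R := R) (x * x) = comul (R := R) x * comul (R := R) x :=
    Bialgebra.comul_mul x x
  rw [ha, map_smul, hb] at hmul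
  set X : A ⊗[R] A := x ⊗ₜ[R] (1 : A) with hX
  set Y : A ⊗[R] A := (1 : A) ⊗ₜ[R] x with hY
  have hXY : x ⊗ₜ[R] x = X * Y := by
    rw [hX, hY, Algebra.TensorProduct.tmul_mul_tmul, mul_one, one_mul]
  have hXX : X * X = algebraMap R (A ⊗[R] A) a * X := by
    rw [hX, Algebra.TensorProduct.tmul_mul_tmul, mul_one, ha, ← Algebra.smul_def,
      TensorProduct.smul_tmul']
  have hYY : Y * Y = algebraMap R (A ⊗[R] A) a * Y := by
    rw [hY, Algebra.TensorProduct.tmul_mul_tmul, mul_one, ha, ← Algebra.smul_def,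
      TensorProduct.tmul_smul]
  rw [hXY, Algebra.smul_def, Algebra.smul_def] at hmul
  set α := algebraMap R (A ⊗[R] A) a
  set β := algebraMap R (A ⊗[R] A) b
  have key : (α ^ 2 * β ^ 2 + 3 * (α * β) + 2) * (X * Y) = 0 := by
    linear_combination (-1 : A ⊗[R] A) * hmul - (1 + 2 * β * Y + β ^ 2 * Y ^ 2) * hXX -
      (1 + α * β ^ 2 * X + 2 * β * X) * hYY
  apply h.tmul_free
  rw [hXY, Algebra.smul_def]
  have e : algebraMap R (A ⊗[R] A) (a ^ 2 * b ^ 2 + 3 * (a * b) + 2) =
      α ^ 2 * β ^ 2 + 3 * (α * β) + 2 := by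
    simp only [map_add, map_mul, map_pow, map_ofNat, α, β]
  rw [e]
  exact key

end IsAugGen

end

section Hopf

variable {R : Type u} [CommRing R] {A : Type v} [CommRing A] [HopfAlgebra R A]

theorem IsAugGen.mul_eq {x : A} (h : IsAugGen R A x) {a b : R} (ha : x * x = a • x)
    (hb : comul (R := R) x = x ⊗ₜ[R] (1 : A) + (1 : A) ⊗ₜ[R] x + b • (x ⊗ₜ[R] x)) :
    a * b = -2 := by
  have hq := h.quad_eq ha hb
  -- antipode
  obtain ⟨s, hs⟩ := h.gen (HopfAlgebra.antipode R x)
    (by rw [HopfAlgebra.counit_antipode, h.aug])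
  have hant := HopfAlgebra.mul_antipode_rTensor_comul_apply (R := R) x
  rw [hb, h.aug, map_zero] at hant
  simp only [map_add, map_smul, LinearMap.rTensor_tmul, LinearMap.mul'_apply,
    HopfAlgebra.antipode_one, mul_one, one_mul, hs] at hant
  -- hant : s • x + x + b • (s • x * x) = 0
  have h1 : (s + 1 + b * (s * a)) • x = 0 := by
    rw [← hant, smul_mul_assoc, ha, add_smul, add_smul, one_smul, mul_smul, mul_smul]
  have h2 := h.free _ h1
  -- s (1 + a b) = -1
  have : a * b + 2 = 0 := by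
    have e : (a * b + 2) = -s * (a ^ 2 * b ^ 2 + 3 * (a * b) + 2) +
        (a * b + 2) * (s + 1 + b * (s * a)) := by ring
    rw [hq, h2] at e
    simpa using e
  linear_combination this

end Hopf

end Groth.Agent.H92
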