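import Groth.Agent.H92.Ord2

set_option autoImplicit false

namespace Groth.Agent.H92

universe u v

open scoped TensorProduct
open Coalgebra

section

variable {R : Type u} [CommRing R] {A : Type v} [CommRing A] [Bialgebra R A]
  {A' : Type v} [CommRing A'] [Bialgebra R A']

namespace IsAugGen

variable {x : A} (h : IsAugGen R A x) {x' : A'} (h' : IsAugGen R A' x')

/-- the linear map `1 ↦ 1`, `x ↦ s • x'`. -/
noncomputable def twistLin (x' : A') (s : R) : A →ₗ[R] A' :=
  (Algebra.linearMap R A').comp (Coalgebra.counit (R := R) (A := A)) +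
    (LinearMap.toSpanSingleton R A' (s • x')).comp h.coef

theorem twistLin_apply (s : R) (f : A) :
    h.twistLin x' s f = algebraMap R A' (Coalgebra.counit (R := R) f) + h.coef f • s • x' := by
  simp [twistLin, LinearMap.toSpanSingleton_apply]

theorem twistLin_one (s : R) : h.twistLin x' s 1 = 1 := by
  rw [twistLin_apply, Bialgebra.counit_one, map_one, h.coef_one, zero_smul, add_zero]

theorem twistLin_self (s : R) : h.twistLin x' s x = s • x' := by
  rw [twistLin_apply, h.aug, map_zero, h.coef_self, one_smul, zero_add]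

theorem twistLin_mul {a a' s : R} (ha : x * x = a • x) (ha' : x' * x' = a' • x')
    (e : a = a' * s) (f g : A) :
    h.twistLin x' s (f * g) = h.twistLin x' s f * h.twistLin x' s g := by
  have key : (LinearMap.mul R A).compr₂ (h.twistLin x' s) =
      (LinearMap.mul R A').compl₁₂ (h.twistLin x' s) (h.twistLin x' s) := by
    apply h.linearMap_ext
    · apply h.linearMap_ext
      · simp [twistLin_one]
      · simp [twistLin_one]
    · apply h.linearMap_ext
      · simp [twistLin_one]
      · simp only [LinearMap.compr₂_apply, LinearMap.mul_apply', LinearMap.compl₁₂_apply,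
          twistLin_self, ha, map_smul, LinearMap.smul_apply]
        rw [ha', smul_smul, smul_smul, smul_smul, e]
        congr 1
        ring
  have := congrArg (fun F => F f g) key
  simpa using this

/-- the algebra map `x ↦ s • x'`, defined when `a = a' s`. -/
noncomputable def twistAlgHom {a a' s : R} (ha : x * x = a • x) (ha' : x' * x' = a' • x')
    (e : a = a' * s) : A →ₐ[R] A' :=
  AlgHom.ofLinearMap (h.twistLin x' s) (h.twistLin_one s) (h.twistLin_mul ha ha' e)

theorem twistAlgHom_self {a a' s : R} (ha : x * x = a • x) (ha' : x' * x' = a' • x')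
    (e : a = a' * s) : h.twistAlgHom ha ha' e x = s • x' :=
  h.twistLin_self s

include h in
theorem algHom_ext {B : Type*} [Ring B] [Algebra R B] {F G : A →ₐ[R] B} (hx : F x = G x) :
    F = G := by
  apply AlgHom.toLinearMap_injective
  apply h.linearMap_ext
  · simp
  · simpa using hx

/-- the algebra equivalence `x ↦ s • x'` for a unit `s` with `a = a' s`. -/
noncomputable def twistAlgEquiv {a a' : R} (s : Rˣ) (ha : x * x = a • x) (ha' : x' * x' = a' • x')
    (e : a = a' * (s : R)) : A ≃ₐ[R] A' :=
  AlgEquiv.ofAlgHom (h.twistAlgHom ha ha' e)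
    (h'.twistAlgHom (s := ((s⁻¹ : Rˣ) : R)) ha' ha (by rw [e, mul_assoc, Units.mul_inv, mul_one]))
    (by
      apply h'.algHom_ext
      simp only [AlgHom.comp_apply, twistAlgHom_self, map_smul, AlgHom.id_apply]
      rw [smul_smul, Units.inv_mul, one_smul])
    (by
      apply h.algHom_ext
      simp only [AlgHom.comp_apply, twistAlgHom_self, map_smul, AlgHom.id_apply]
      rw [smul_smul, Units.mul_inv, one_smul])

theorem twistAlgEquiv_self {a a' : R} (s : Rˣ) (ha : x * x = a • x) (ha' : x' * x' = a' • x')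
    (e : a = a' * (s : R)) : h.twistAlgEquiv h' s ha ha' e x = (s : R) • x' :=
  h.twistLin_self _

/-- the bialgebra equivalence `x ↦ s • x'` for a unit `s` with `a = a' s`, `b' = b s`. -/
noncomputable def twistBialgEquiv {a a' b b' : R} (s : Rˣ) (ha : x * x = a • x)
    (ha' : x' * x' = a' • x')
    (hb : comul (R := R) x = x ⊗ₜ[R] (1 : A) + (1 : A) ⊗ₜ[R] x + b • (x ⊗ₜ[R] x))
    (hb' : comul (R := R) x' = x' ⊗ₜ[R] (1 : A') + (1 : A') ⊗ₜ[R] x' + b' • (x' ⊗ₜ[R] x'))
    (e : a = a' * (s : R)) (e' : b' = b * (s : R)) : A ≃ₐc[R] A' :=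
  BialgEquiv.ofAlgEquiv (h.twistAlgEquiv h' s ha ha' e)
    (by
      apply h.algHom_ext
      simp only [AlgHom.comp_apply, AlgEquiv.coe_toAlgHom, twistAlgEquiv_self, map_smul]
      rw [Bialgebra.counitAlgHom_apply, Bialgebra.counitAlgHom_apply, h.aug, h'.aug, smul_zero])
    (by
      apply h.algHom_ext
      simp only [AlgHom.comp_apply, AlgEquiv.coe_toAlgHom, twistAlgEquiv_self, map_smul]
      rw [Bialgebra.comulAlgHom_apply, Bialgebra.comulAlgHom_apply, hb, hb', e']
      simp only [map_add, map_smul, Algebra.TensorProduct.map_tmul, AlgEquiv.coe_toAlgHom,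
        twistAlgEquiv_self, map_one, smul_add, TensorProduct.smul_tmul', TensorProduct.tmul_smul,
        smul_smul])

include h h' in
/-- A bialgebra isomorphism forces `a = a' s`, `b' = b s` for a unit `s`. -/
theorem exists_unit_of_bialgEquiv {a a' b b' : R} (ha : x * x = a • x)
    (ha' : x' * x' = a' • x')
    (hb : comul (R := R) x = x ⊗ₜ[R] (1 : A) + (1 : A) ⊗ₜ[R] x + b • (x ⊗ₜ[R] x))
    (hb' : comul (R := R) x' = x' ⊗ₜ[R] (1 : A') + (1 : A') ⊗ₜ[R] x' + b' • (x' ⊗ₜ[R] x'))
    (φ : A ≃ₐc[R] A') : ∃ s : Rˣ, a = a' * (s : R) ∧ b' = b * (s : R) := by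
  obtain ⟨s, hs⟩ := h'.gen (φ x) (by rw [CoalgHomClass.counit_comp_apply, h.aug])
  obtain ⟨t, ht⟩ := h.gen (φ.symm x') (by rw [CoalgHomClass.counit_comp_apply, h'.aug])
  have hst : s * t = 1 := by
    apply sub_eq_zero.mp
    apply h.free
    have : x = φ.symm (φ x) := (φ.symm_apply_apply x).symm
    rw [hs, map_smul, ht, smul_smul] at this
    rw [sub_smul, one_smul, ← this, sub_self]
  have hts : t * s = 1 := by rw [mul_comm]; exact hst
  refine ⟨⟨s, t, hst, hts⟩, ?_, ?_⟩
  · -- compare φ (x * x)
    have e1 : φ (x * x) = φ x * φ x := map_mul φ x x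
    rw [ha, map_smul, hs, smul_mul_smul_comm, ha', smul_smul, smul_smul] at e1
    have e2 : a * s - s * s * a' = 0 := h'.free _ (by rw [sub_smul, e1, sub_self])
    change a = a' * s
    linear_combination t * e2 - (a - s * a') * hst
  · -- compare comultiplications
    have e1 : TensorProduct.map (φ : A →ₗ[R] A') (φ : A →ₗ[R] A') (comul (R := R) x) =
        comul (R := R) (φ x) := CoalgHomClass.map_comp_comul_apply φ x
    rw [hb, hs, map_smul, hb'] at e1
    simp only [map_add, map_smul, TensorProduct.map_tmul, smul_add] at e1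
    have e3 : (φ : A →ₗ[R] A') x = s • x' := hs
    have e4 : (φ : A →ₗ[R] A') 1 = 1 := map_one φ
    rw [e3, e4] at e1
    simp only [TensorProduct.smul_tmul', TensorProduct.tmul_smul, smul_smul] at e1
    have e5 := add_left_cancel e1
    rw [← TensorProduct.smul_tmul', ← TensorProduct.smul_tmul'] at e5
    have e6 : b * (s * s) - s * b' = 0 := h'.tmul_free (by rw [sub_smul, e5, sub_self])
    change b' = b * s
    linear_combination (-t) * e6 + (b * s - b') * hst

end IsAugGen

end

end Groth.Agent.H92
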