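import Mathlib.RingTheory.Prime
import Mathlib.RingTheory.Multiplicity
import Mathlib.Tactic

set_option autoImplicit false

namespace Groth.Agent.H92.PrimeUnits

variable {R : Type*} [CommRing R] [IsDomain R] {ι : Type*} [DecidableEq ι]

/-- If `x * y = a * ∏ f i ^ N i` with the `f i` prime then `x = b * ∏ f i ^ e i` with `b ∣ a`. -/
theorem exists_eq_mul_prod_pow (f : ι → R) (hf : ∀ i, Prime (f i)) (N : ι → ℕ) (s : Finset ι) :
    ∀ x y a : R, x * y = a * ∏ i ∈ s, f i ^ N i →
      ∃ (b : R) (e : ι → ℕ), b ∣ a ∧ x = b * ∏ i ∈ s, f i ^ e i := by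
  induction s using Finset.induction with
  | empty =>
    intro x y a h
    exact ⟨x, fun _ => 0, ⟨y, by simpa using h.symm⟩, by simp⟩
  | insert i s his ih =>
    intro x y a h
    rw [Finset.prod_insert his, mul_comm (f i ^ N i), ← mul_assoc] at h
    obtain ⟨k, l, b', c', -, hbc, hx, -⟩ := mul_eq_mul_prime_pow (hf i) h
    obtain ⟨b, e, hba, hb'⟩ := ih b' c' a hbc.symm
    refine ⟨b, Function.update e i k, hba, ?_⟩
    rw [Finset.prod_insert his, Function.update_self, hx, hb']
    have : ∏ j ∈ s, f j ^ Function.update e i k j = ∏ j ∈ s, f j ^ e j := by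
      refine Finset.prod_congr rfl (fun j hj => ?_)
      have hji : j ≠ i := fun h => his (h ▸ hj)
      rw [Function.update_of_ne hji]
    rw [this]
    ring

omit [DecidableEq ι] in
/-- multiplicity of `f j` in `v * ∏ f i ^ m i`. -/
theorem emultiplicity_unit_mul_prod [Fintype ι] (f : ι → R) (hf : ∀ i, Prime (f i))
    (hfa : ∀ i j, Associated (f i) (f j) → i = j) (v : Rˣ) (m : ι → ℕ) (j : ι) :
    emultiplicity (f j) ((v : R) * ∏ i, f i ^ m i) = m j := by
  classical
  rw [emultiplicity_mul (hf j), Finset.emultiplicity_prod (hf j)]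
  have h0 : emultiplicity (f j) (v : R) = 0 := by
    rw [emultiplicity_eq_zero]
    intro h
    exact (hf j).not_isUnit (isUnit_of_dvd_unit h v.isUnit)
  have h1 : ∀ i, emultiplicity (f j) (f i ^ m i) = if i = j then (m j : ℕ∞) else 0 := by
    intro i
    rw [emultiplicity_pow (hf j)]
    split_ifs with h
    · subst h
      have : emultiplicity (f i) (f i) = ((1 : ℕ) : ℕ∞) := by
        rw [emultiplicity_eq_coe]
        refine ⟨by simp, ?_⟩
        rintro ⟨c, hc⟩
        have h2 : f i * 1 = f i * (f i * c) := by rw [mul_one]; conv_lhs => rw [hc]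
                                                  ring
        have h3 := mul_left_cancel₀ (hf i).ne_zero h2
        exact (hf i).not_isUnit (IsUnit.of_mul_eq_one c h3.symm)
      rw [this]; simp
    · have : emultiplicity (f j) (f i) = 0 := by
        rw [emultiplicity_eq_zero]
        intro hd
        exact h (hfa _ _ ((hf j).associated_of_dvd (hf i) hd)).symm
      rw [this, mul_zero]
  rw [h0, zero_add, Finset.sum_congr rfl (fun i _ => h1 i), Finset.sum_ite_eq' Finset.univ j]
  simp

omit [DecidableEq ι] in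
theorem unit_mul_prod_injective [Fintype ι] (f : ι → R) (hf : ∀ i, Prime (f i))
    (hfa : ∀ i j, Associated (f i) (f j) → i = j) {v v' : Rˣ} {m m' : ι → ℕ}
    (h : (v : R) * ∏ i, f i ^ m i = (v' : R) * ∏ i, f i ^ m' i) : v = v' ∧ m = m' := by
  have hm : m = m' := by
    funext j
    have h1 := emultiplicity_unit_mul_prod f hf hfa v m j
    have h2 := emultiplicity_unit_mul_prod f hf hfa v' m' j
    rw [h, h2] at h1
    exact_mod_cast h1.symm
  subst hm
  refine ⟨?_, rfl⟩
  have hne : ∏ i, f i ^ m i ≠ 0 :=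
    Finset.prod_ne_zero_iff.mpr (fun i _ => pow_ne_zero _ (hf i).ne_zero)
  exact Units.ext (mul_right_cancel₀ hne h)

end Groth.Agent.H92.PrimeUnits
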