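import Groth.Prelude.Def_W4c5quivmodgenus0Quiv
import Mathlib

set_option autoImplicit false
set_option linter.unusedSectionVars false
universe u v

namespace Groth.Agent.H92.PtQuiv
open _root_.PtQuiv

variable {K : Type u} [Field K] {κ : Type v} [Fintype κ] [DecidableEq κ] {a b : κ}
  {s : κ → (Fin 2 → K)} {θ : κ → ℚ} (hab : a ≠ b)

abbrev κ' (a b : κ) := {i : κ // i ≠ a ∧ i ≠ b}

abbrev emb (a b : κ) : κ' a b ↪ κ := Function.Embedding.subtype _

abbrev cc (θ : κ → ℚ) (a b : κ) : ℚ := (2 - θ a - θ b)⁻¹

abbrev η' (θ : κ → ℚ) (a b : κ) : Fin 2 → ℚ := ![cc θ a b * (θ a - 1), cc θ a b * (θ b - 1)]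

abbrev θ' (θ : κ → ℚ) (a b : κ) : κ' a b → ℚ := fun i => cc θ a b * θ i.1

theorem finrank_bot' : Module.finrank K (⊥ : Submodule K K) = 0 := finrank_bot K K

theorem finrank_top' : Module.finrank K (⊤ : Submodule K K) = 1 := by
  rw [finrank_top, Module.finrank_self]

theorem sa_ne (hli : LinearIndependent K ![s a, s b]) : s a ≠ 0 := by
  have := hli.ne_zero 0
  simpa using this

theorem sb_ne (hli : LinearIndependent K ![s a, s b]) : s b ≠ 0 := by
  have := hli.ne_zero 1
  simpa using this

theorem PWt_eq (U0 U1 : Submodule K K) (I' : Finset (κ' a b)) :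
    PWt K (η' θ a b) (θ' θ a b) ![U0, U1] I' =
      cc θ a b * ((θ a - 1) * (Module.finrank K U0 : ℚ) + (θ b - 1) * (Module.finrank K U1 : ℚ)
        + ∑ i ∈ I'.map (emb a b), θ i) := by
  unfold PWt
  rw [Fin.sum_univ_two, Finset.sum_map]
  have h : ∑ i ∈ I', θ' θ a b i = cc θ a b * ∑ x ∈ I', θ ((emb a b) x) := by
    rw [Finset.mul_sum]
    rfl
  rw [h]
  change cc θ a b * (θ a - 1) * (Module.finrank K U0 : ℚ)
    + cc θ a b * (θ b - 1) * (Module.finrank K U1 : ℚ) + _ = _
  generalize (Module.finrank K U0 : ℚ) = d0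
  generalize (Module.finrank K U1 : ℚ) = d1
  ring

theorem emb_ne_a (i : κ' a b) : (emb a b) i ≠ a := i.2.1
theorem emb_ne_b (i : κ' a b) : (emb a b) i ≠ b := i.2.2

theorem a_notMem_map (I' : Finset (κ' a b)) : a ∉ I'.map (emb a b) := by
  intro h
  obtain ⟨i, -, hi⟩ := Finset.mem_map.mp h
  exact emb_ne_a i hi

theorem b_notMem_map (I' : Finset (κ' a b)) : b ∉ I'.map (emb a b) := by
  intro h
  obtain ⟨i, -, hi⟩ := Finset.mem_map.mp h
  exact emb_ne_b i hi

theorem sb_notMem (hli : LinearIndependent K ![s a, s b]) : s b ∉ K ∙ s a := by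
  intro h
  obtain ⟨c, hc⟩ := Submodule.mem_span_singleton.mp h
  have := (LinearIndependent.pair_iff.mp hli) c (-1) (by rw [hc]; simp)
  exact one_ne_zero (neg_eq_zero.mp this.2)

theorem sa_notMem (hli : LinearIndependent K ![s a, s b]) : s a ∉ K ∙ s b := by
  intro h
  obtain ⟨c, hc⟩ := Submodule.mem_span_singleton.mp h
  have := (LinearIndependent.pair_iff.mp hli) (-1) c (by rw [hc]; simp)
  exact one_ne_zero (neg_eq_zero.mp this.1)

theorem finrank_plane_top : Module.finrank K (⊤ : Submodule K (Fin 2 → K)) = 2 := by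
  rw [finrank_top, Module.finrank_fin_fun]

theorem U_eq (U : Fin 2 → Submodule K K) : U = ![U 0, U 1] := by
  funext j; fin_cases j <;> rfl

include hab in
theorem fwd (hli : LinearIndependent K ![s a, s b]) (t : κ' a b → Fin 2 → K)
    (hs : ∀ i : κ' a b, s i.1 = t i 0 • s a + t i 1 • s b)
    (U : Fin 2 → Submodule K K) (I' : Finset (κ' a b)) (hsub : PSubrep t U I') :
    ∃ (L : Submodule K (Fin 2 → K)) (I : Finset κ), QSubrep s L I ∧
      PWt K (η' θ a b) (θ' θ a b) U I' = cc θ a b * QWt K (-1) θ L I ∧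
      ((L = ⊥ ∧ I = ∅) → (U = ⊥ ∧ I' = ∅)) ∧
      ((L = ⊤ ∧ I = Finset.univ) → (U = ⊤ ∧ I' = Finset.univ)) := by
  have hU := U_eq U
  rcases eq_bot_or_eq_top (U 0) with h0 | h0 <;> rcases eq_bot_or_eq_top (U 1) with h1 | h1
  · -- ⊥ ⊥
    refine ⟨⊥, I'.map (emb a b), ?_, ?_, ?_, ?_⟩
    · intro i hi
      obtain ⟨i', hi', rfl⟩ := Finset.mem_map.mp hi
      have e0 : t i' 0 = 0 := by have := hsub i' hi' 0; rwa [h0, Submodule.mem_bot] at this
      have e1 : t i' 1 = 0 := by have := hsub i' hi' 1; rwa [h1, Submodule.mem_bot] at this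
      change s i'.1 ∈ _
      rw [hs i', e0, e1]; simp
    · rw [hU, PWt_eq, h0, h1, finrank_bot']
      unfold QWt
      rw [finrank_bot]
      simp
    · rintro ⟨-, hI⟩
      refine ⟨?_, Finset.map_eq_empty.mp hI⟩
      funext j; fin_cases j
      · exact h0
      · exact h1
    · rintro ⟨hL, -⟩
      exact absurd hL bot_ne_top
  · -- ⊥ ⊤
    refine ⟨K ∙ s b, insert b (I'.map (emb a b)), ?_, ?_, ?_, ?_⟩
    · intro i hi
      rcases Finset.mem_insert.mp hi with rfl | hi
      · exact Submodule.mem_span_singleton_self _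
      · obtain ⟨i', hi', rfl⟩ := Finset.mem_map.mp hi
        have e0 : t i' 0 = 0 := by have := hsub i' hi' 0; rwa [h0, Submodule.mem_bot] at this
        change s i'.1 ∈ _
        rw [hs i', e0, zero_smul, zero_add]
        exact Submodule.smul_mem _ _ (Submodule.mem_span_singleton_self _)
    · rw [hU, PWt_eq, h0, h1, finrank_bot', finrank_top']
      unfold QWt
      rw [finrank_span_singleton (sb_ne hli), Finset.sum_insert (b_notMem_map I')]
      push_cast
      ring
    · rintro ⟨hL, -⟩
      exact absurd (Submodule.span_singleton_eq_bot.mp hL) (sb_ne hli)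
    · rintro ⟨hL, -⟩
      exfalso
      apply sa_notMem hli
      rw [hL]; exact Submodule.mem_top
  · -- ⊤ ⊥
    refine ⟨K ∙ s a, insert a (I'.map (emb a b)), ?_, ?_, ?_, ?_⟩
    · intro i hi
      rcases Finset.mem_insert.mp hi with rfl | hi
      · exact Submodule.mem_span_singleton_self _
      · obtain ⟨i', hi', rfl⟩ := Finset.mem_map.mp hi
        have e1 : t i' 1 = 0 := by have := hsub i' hi' 1; rwa [h1, Submodule.mem_bot] at this
        change s i'.1 ∈ _
        rw [hs i', e1, zero_smul, add_zero]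
        exact Submodule.smul_mem _ _ (Submodule.mem_span_singleton_self _)
    · rw [hU, PWt_eq, h0, h1, finrank_bot', finrank_top']
      unfold QWt
      rw [finrank_span_singleton (sa_ne hli), Finset.sum_insert (a_notMem_map I')]
      push_cast
      ring
    · rintro ⟨hL, -⟩
      exact absurd (Submodule.span_singleton_eq_bot.mp hL) (sa_ne hli)
    · rintro ⟨hL, -⟩
      exfalso
      apply sb_notMem hli
      rw [hL]; exact Submodule.mem_top
  · -- ⊤ ⊤
    refine ⟨⊤, insert a (insert b (I'.map (emb a b))), ?_, ?_, ?_, ?_⟩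
    · intro i _
      exact Submodule.mem_top
    · rw [hU, PWt_eq, h0, h1, finrank_top']
      unfold QWt
      rw [finrank_plane_top, Finset.sum_insert, Finset.sum_insert (b_notMem_map I')]
      · push_cast
        ring
      · intro h
        rcases Finset.mem_insert.mp h with h | h
        · exact hab h
        · exact a_notMem_map I' h
    · rintro ⟨hL, -⟩
      exact absurd hL.symm bot_ne_top
    · rintro ⟨-, hI⟩
      refine ⟨?_, ?_⟩
      · funext j; fin_cases j
        · exact h0
        · exact h1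
      · apply Finset.eq_univ_of_forall
        intro i'
        have : i'.1 ∈ insert a (insert b (I'.map (emb a b))) := by rw [hI]; exact Finset.mem_univ _
        rcases Finset.mem_insert.mp this with h | h
        · exact absurd h i'.2.1
        rcases Finset.mem_insert.mp h with h | h
        · exact absurd h i'.2.2
        obtain ⟨j', hj', hj⟩ := Finset.mem_map.mp h
        have : j' = i' := Subtype.ext hj
        rwa [← this]

theorem filter_map (I : Finset κ) :
    (I.subtype (fun i => i ≠ a ∧ i ≠ b)).map (emb a b) = I.filter (fun i => i ≠ a ∧ i ≠ b) :=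
  Finset.subtype_map _

theorem sum_S1 (I : Finset κ) (ha : a ∉ I) (hb : b ∉ I) :
    I.filter (fun i => i ≠ a ∧ i ≠ b) = I := by
  apply Finset.filter_true_of_mem
  intro i hi
  exact ⟨fun h => ha (h ▸ hi), fun h => hb (h ▸ hi)⟩

theorem sum_S2 (I : Finset κ) (ha : a ∈ I) (hb : b ∉ I) :
    ∑ i ∈ I, θ i = θ a + ∑ i ∈ I.filter (fun i => i ≠ a ∧ i ≠ b), θ i := by
  have : I = insert a (I.filter (fun i => i ≠ a ∧ i ≠ b)) := by
    ext i
    simp only [Finset.mem_insert, Finset.mem_filter]
    constructor
    · intro hi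
      by_cases h : i = a
      · exact Or.inl h
      · exact Or.inr ⟨hi, h, fun h' => hb (h' ▸ hi)⟩
    · rintro (h | h)
      · exact h ▸ ha
      · exact h.1
  conv_lhs => rw [this]
  rw [Finset.sum_insert]
  simp

theorem sum_S3 (I : Finset κ) (ha : a ∉ I) (hb : b ∈ I) :
    ∑ i ∈ I, θ i = θ b + ∑ i ∈ I.filter (fun i => i ≠ a ∧ i ≠ b), θ i := by
  have : I = insert b (I.filter (fun i => i ≠ a ∧ i ≠ b)) := by
    ext i
    simp only [Finset.mem_insert, Finset.mem_filter]
    constructor
    · intro hi
      by_cases h : i = b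
      · exact Or.inl h
      · exact Or.inr ⟨hi, fun h' => ha (h' ▸ hi), h⟩
    · rintro (h | h)
      · exact h ▸ hb
      · exact h.1
  conv_lhs => rw [this]
  rw [Finset.sum_insert]
  simp

include hab in
theorem sum_S4 (h0 : ∀ i, 0 ≤ θ i) (I : Finset κ) :
    ∑ i ∈ I, θ i ≤ θ a + θ b + ∑ i ∈ I.filter (fun i => i ≠ a ∧ i ≠ b), θ i := by
  rw [← Finset.sum_filter_add_sum_filter_not I (fun i => i ≠ a ∧ i ≠ b), add_comm]
  apply add_le_add_left
  calc ∑ i ∈ I.filter (fun i => ¬ (i ≠ a ∧ i ≠ b)), θ i ≤ ∑ i ∈ ({a, b} : Finset κ), θ i := by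
        apply Finset.sum_le_sum_of_subset_of_nonneg
        · intro i hi
          simp only [Finset.mem_filter] at hi
          simp only [Finset.mem_insert, Finset.mem_singleton]
          by_contra hcon
          push Not at hcon
          exact hi.2 hcon
        · intro i _ _; exact h0 i
    _ = θ a + θ b := Finset.sum_pair hab

theorem sum_S5 (h0 : ∀ i, 0 ≤ θ i) (h2 : ∑ i, θ i = 2) (I : Finset κ) (c : κ) (hc : c ∉ I) :
    ∑ i ∈ I, θ i ≤ 2 - θ c := by
  calc ∑ i ∈ I, θ i ≤ ∑ i ∈ Finset.univ.erase c, θ i := by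
        apply Finset.sum_le_sum_of_subset_of_nonneg
        · intro i hi
          exact Finset.mem_erase.mpr ⟨fun h => hc (h ▸ hi), Finset.mem_univ _⟩
        · intro i _ _; exact h0 i
    _ = 2 - θ c := by
        rw [← h2, ← Finset.add_sum_erase Finset.univ θ (Finset.mem_univ c)]
        ring

theorem top_ne_bot' : (⊤ : Submodule K K) ≠ ⊥ := top_ne_bot

theorem coords_zero (hli : LinearIndependent K ![s a, s b]) (x y : K)
    (h : x • s a + y • s b = 0) : x = 0 ∧ y = 0 :=
  (LinearIndependent.pair_iff.mp hli) x y h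

include hab in
theorem bwd (hli : LinearIndependent K ![s a, s b]) (h0 : ∀ i, 0 ≤ θ i) (h1 : ∀ i, θ i ≤ 1)
    (h2 : ∑ i, θ i = 2) (hθ : 1 < θ a + θ b) (hθ' : θ a + θ b < 2)
    (t : κ' a b → Fin 2 → K) (hs : ∀ i : κ' a b, s i.1 = t i 0 • s a + t i 1 • s b)
    (L : Submodule K (Fin 2 → K)) (I : Finset κ) (hsub : QSubrep s L I) :
    ∃ (U : Fin 2 → Submodule K K) (I' : Finset (κ' a b)), PSubrep t U I' ∧
      cc θ a b * QWt K (-1) θ L I ≤ PWt K (η' θ a b) (θ' θ a b) U I' ∧
      (QWt K (-1) θ L I = 0 → PWt K (η' θ a b) (θ' θ a b) U I' ≤ 0 →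
        ((U = ⊥ ∧ I' = ∅) ∨ (U = ⊤ ∧ I' = Finset.univ)) →
        ((L = ⊥ ∧ I = ∅) ∨ (L = ⊤ ∧ I = Finset.univ))) := by
  have hc : 0 < cc θ a b := inv_pos.mpr (by linarith)
  have hθa : 0 < θ a := by have := h1 b; linarith
  have hθb : 0 < θ b := by have := h1 a; linarith
  set I' : Finset (κ' a b) := I.subtype (fun i => i ≠ a ∧ i ≠ b) with hI'
  have hmap : I'.map (emb a b) = I.filter (fun i => i ≠ a ∧ i ≠ b) := filter_map I
  have hmemI' : ∀ i' : κ' a b, i' ∈ I' ↔ i'.1 ∈ I := fun i' => by
    rw [hI', Finset.mem_subtype]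
  by_cases hL : L = ⊤
  · -- L = ⊤
    refine ⟨![⊤, ⊤], I', ?_, ?_, ?_⟩
    · intro i _ j
      fin_cases j <;> exact Submodule.mem_top
    · rw [PWt_eq, hmap, finrank_top']
      unfold QWt
      rw [hL, finrank_plane_top]
      have := sum_S4 hab h0 I
      push_cast
      nlinarith
    · intro hq _ htriv
      right
      refine ⟨hL, ?_⟩
      rcases htriv with ⟨hU, -⟩ | ⟨-, hI'u⟩
      · exfalso
        have := congrFun hU 0
        exact top_ne_bot' this
      · unfold QWt at hq
        rw [hL, finrank_plane_top] at hq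
        have hsum : ∑ i ∈ I, θ i = 2 := by push_cast at hq; linarith
        have haI : a ∈ I := by
          by_contra hcon
          have := sum_S5 h0 h2 I a hcon
          linarith
        have hbI : b ∈ I := by
          by_contra hcon
          have := sum_S5 h0 h2 I b hcon
          linarith
        apply Finset.eq_univ_of_forall
        intro i
        by_cases hia : i = a
        · exact hia ▸ haI
        by_cases hib : i = b
        · exact hib ▸ hbI
        have : (⟨i, hia, hib⟩ : κ' a b) ∈ I' := by rw [hI'u]; exact Finset.mem_univ _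
        exact (hmemI' _).mp this
  · have hfr : Module.finrank K L < 2 := by
      have := Submodule.finrank_lt hL
      rwa [Module.finrank_fin_fun] at this
    by_cases ha : a ∈ I
    · -- L = K ∙ s a
      have hLa : L = K ∙ s a := by
        symm
        apply Submodule.eq_of_le_of_finrank_le
        · rw [Submodule.span_singleton_le_iff_mem]; exact hsub a ha
        · rw [finrank_span_singleton (sa_ne hli)]; omega
      have hb : b ∉ I := by
        intro hb
        apply sb_notMem hli
        rw [← hLa]; exact hsub b hb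
      refine ⟨![⊤, ⊥], I', ?_, ?_, ?_⟩
      · intro i hi j
        fin_cases j
        · exact Submodule.mem_top
        · change t i 1 ∈ (⊥ : Submodule K K)
          rw [Submodule.mem_bot]
          have hmem : s i.1 ∈ K ∙ s a := by rw [← hLa]; exact hsub _ ((hmemI' i).mp hi)
          obtain ⟨x, hx⟩ := Submodule.mem_span_singleton.mp hmem
          have := coords_zero hli (t i 0 - x) (t i 1) (by
            rw [sub_smul, hx, sub_add_eq_add_sub, ← hs i, sub_self])
          exact this.2
      · rw [PWt_eq, hmap, finrank_top', finrank_bot']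
        unfold QWt
        rw [hLa, finrank_span_singleton (sa_ne hli), sum_S2 I ha hb]
        push_cast
        apply le_of_eq
        ring
      · intro _ _ htriv
        exfalso
        rcases htriv with ⟨hU, -⟩ | ⟨hU, -⟩
        · exact top_ne_bot' (congrFun hU 0)
        · exact top_ne_bot' (congrFun hU 1).symm
    · by_cases hb : b ∈ I
      · have hLb : L = K ∙ s b := by
          symm
          apply Submodule.eq_of_le_of_finrank_le
          · rw [Submodule.span_singleton_le_iff_mem]; exact hsub b hb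
          · rw [finrank_span_singleton (sb_ne hli)]; omega
        refine ⟨![⊥, ⊤], I', ?_, ?_, ?_⟩
        · intro i hi j
          fin_cases j
          · change t i 0 ∈ (⊥ : Submodule K K)
            rw [Submodule.mem_bot]
            have hmem : s i.1 ∈ K ∙ s b := by rw [← hLb]; exact hsub _ ((hmemI' i).mp hi)
            obtain ⟨x, hx⟩ := Submodule.mem_span_singleton.mp hmem
            have := coords_zero hli (t i 0) (t i 1 - x) (by
              rw [sub_smul, hx, ← add_sub_assoc, ← hs i, sub_self])
            exact this.1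
          · exact Submodule.mem_top
        · rw [PWt_eq, hmap, finrank_top', finrank_bot']
          unfold QWt
          rw [hLb, finrank_span_singleton (sb_ne hli), sum_S3 I ha hb]
          push_cast
          apply le_of_eq
          ring
        · intro _ _ htriv
          exfalso
          rcases htriv with ⟨hU, -⟩ | ⟨hU, -⟩
          · exact top_ne_bot' (congrFun hU 1)
          · exact top_ne_bot' (congrFun hU 0).symm
      · -- a, b ∉ I
        have hfil := sum_S1 I ha hb
        by_cases hL0 : L = ⊥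
        · refine ⟨![⊥, ⊥], I', ?_, ?_, ?_⟩
          · intro i hi j
            have hmem : s i.1 = 0 := by
              have := hsub _ ((hmemI' i).mp hi)
              rwa [hL0, Submodule.mem_bot] at this
            have := coords_zero hli (t i 0) (t i 1) (by rw [← hs i, hmem])
            fin_cases j
            · change t i 0 ∈ (⊥ : Submodule K K)
              rw [Submodule.mem_bot]; exact this.1
            · change t i 1 ∈ (⊥ : Submodule K K)
              rw [Submodule.mem_bot]; exact this.2
          · rw [PWt_eq, hmap, hfil, finrank_bot']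
            unfold QWt
            rw [hL0, finrank_bot]
            push_cast
            apply le_of_eq
            ring
          · intro _ _ htriv
            rcases htriv with ⟨-, hI'e⟩ | ⟨hU, -⟩
            · left
              refine ⟨hL0, ?_⟩
              rw [← hfil, ← hmap, hI'e, Finset.map_empty]
            · exact absurd (congrFun hU 0).symm top_ne_bot'
        · have hfr1 : Module.finrank K L = 1 := by
            have : Module.finrank K L ≠ 0 := by
              intro h
              exact hL0 (Submodule.finrank_eq_zero.mp h)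
            omega
          refine ⟨![⊤, ⊤], I', ?_, ?_, ?_⟩
          · intro i _ j
            fin_cases j <;> exact Submodule.mem_top
          · rw [PWt_eq, hmap, hfil, finrank_top']
            unfold QWt
            rw [hfr1]
            push_cast
            nlinarith
          · intro hq hP _
            exfalso
            rw [PWt_eq, hmap, hfil, finrank_top'] at hP
            unfold QWt at hq
            rw [hfr1] at hq
            push_cast at hq hP
            have hsum : ∑ i ∈ I, θ i = 1 := by linarith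
            rw [hsum] at hP
            have : 0 < cc θ a b * ((θ a - 1) * 1 + (θ b - 1) * 1 + 1) := by
              apply mul_pos hc; linarith
            linarith

include hab in
theorem sum_compl : ∑ i : κ' a b, θ i.1 = (∑ i, θ i) - θ a - θ b := by
  have e1 : ∑ i : κ' a b, θ i.1 = ∑ i ∈ Finset.univ.filter (fun i => i ≠ a ∧ i ≠ b), θ i := by
    symm
    apply Finset.sum_subtype
    intro x; simp
  have e2 : Finset.univ.filter (fun i : κ => ¬ (i ≠ a ∧ i ≠ b)) = {a, b} := by
    ext i
    simp only [Finset.mem_filter, Finset.mem_univ, true_and, Finset.mem_insert,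
      Finset.mem_singleton]
    constructor
    · intro h
      by_contra hcon
      push Not at hcon
      exact h hcon
    · rintro (h | h) hcon
      · exact hcon.1 h
      · exact hcon.2 h
  have e3 := Finset.sum_filter_add_sum_filter_not Finset.univ (fun i : κ => i ≠ a ∧ i ≠ b) θ
  rw [e2, Finset.sum_pair hab] at e3
  rw [e1]
  linarith

include hab in
theorem hli_of_semistable (hθ : 1 < θ a + θ b) (hss : QSemistable (-1) θ s) :
    LinearIndependent K ![s a, s b] := by
  by_contra hli
  have hcard : (Set.range ![s a, s b]).finrank K ≤ Fintype.card (Fin 2) := finrank_range_le_card _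
  have hne : Fintype.card (Fin 2) ≠ (Set.range ![s a, s b]).finrank K := fun h =>
    hli (linearIndependent_iff_card_eq_finrank_span.mpr h)
  have hlt : (Set.range ![s a, s b]).finrank K ≤ 1 := by
    rw [Fintype.card_fin] at hcard hne
    omega
  have hsub : QSubrep s (Submodule.span K (Set.range ![s a, s b])) {a, b} := by
    intro i hi
    rcases Finset.mem_insert.mp hi with rfl | hi
    · exact Submodule.subset_span ⟨0, rfl⟩
    · rw [Finset.mem_singleton] at hi
      subst hi
      exact Submodule.subset_span ⟨1, rfl⟩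
  have := hss.2 _ _ hsub
  unfold QWt at this
  rw [Finset.sum_pair hab] at this
  have h' : (Module.finrank K (Submodule.span K (Set.range ![s a, s b])) : ℚ) ≤ 1 := by
    exact_mod_cast hlt
  linarith

theorem exists_t (hli : LinearIndependent K ![s a, s b]) :
    ∃ t : κ' a b → Fin 2 → K, ∀ i : κ' a b, s i.1 = t i 0 • s a + t i 1 • s b := by
  let B := basisOfLinearIndependentOfCardEqFinrank hli (by simp)
  have hB : ⇑B = ![s a, s b] := coe_basisOfLinearIndependentOfCardEqFinrank hli _
  refine ⟨fun i j => B.repr (s i.1) j, fun i => ?_⟩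
  conv_lhs => rw [← B.sum_repr (s i.1)]
  rw [Fin.sum_univ_two, hB]
  rfl

include hab in
theorem psum_zero (h2 : ∑ i, θ i = 2) (hθ' : θ a + θ b < 2) :
    (∑ j, η' θ a b j) + ∑ i, θ' θ a b i = 0 := by
  have hne : (2 - θ a - θ b) ≠ 0 := by linarith
  have e1 : ∑ i, θ' θ a b i = cc θ a b * ∑ i : κ' a b, θ i.1 := by
    rw [Finset.mul_sum]
  rw [e1, sum_compl hab, h2, Fin.sum_univ_two]
  change cc θ a b * (θ a - 1) + cc θ a b * (θ b - 1) + _ = 0
  field_simp
  ring

include hab in
theorem semistable_fwd (h2 : ∑ i, θ i = 2) (hθ' : θ a + θ b < 2)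
    (hss : QSemistable (-1) θ s) (hli : LinearIndependent K ![s a, s b])
    (t : κ' a b → Fin 2 → K) (hs : ∀ i : κ' a b, s i.1 = t i 0 • s a + t i 1 • s b) :
    PSemistable (η' θ a b) (θ' θ a b) t := by
  have hc : 0 < cc θ a b := inv_pos.mpr (by linarith)
  refine ⟨psum_zero hab h2 hθ', fun U I' hsub => ?_⟩
  obtain ⟨L, I, hQ, hW, -, -⟩ := fwd (θ := θ) hab hli t hs U I' hsub
  rw [hW]
  exact mul_nonpos_of_nonneg_of_nonpos hc.le (hss.2 L I hQ)

include hab in
theorem semistable_bwd (h0 : ∀ i, 0 ≤ θ i) (h1 : ∀ i, θ i ≤ 1)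
    (h2 : ∑ i, θ i = 2) (hθ : 1 < θ a + θ b) (hθ' : θ a + θ b < 2)
    (hli : LinearIndependent K ![s a, s b])
    (t : κ' a b → Fin 2 → K) (hs : ∀ i : κ' a b, s i.1 = t i 0 • s a + t i 1 • s b)
    (hP : PSemistable (η' θ a b) (θ' θ a b) t) : QSemistable (-1) θ s := by
  have hc : 0 < cc θ a b := inv_pos.mpr (by linarith)
  refine ⟨by rw [h2]; norm_num, fun L I hsub => ?_⟩
  obtain ⟨U, I', hPsub, hle, -⟩ := bwd hab hli h0 h1 h2 hθ hθ' t hs L I hsub
  have := hP.2 U I' hPsub
  by_contra hcon
  push Not at hcon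
  have := mul_pos hc hcon
  linarith

include hab in
theorem stable_fwd (h2 : ∑ i, θ i = 2) (hθ' : θ a + θ b < 2)
    (hst : QStable (-1) θ s) (hli : LinearIndependent K ![s a, s b])
    (t : κ' a b → Fin 2 → K) (hs : ∀ i : κ' a b, s i.1 = t i 0 • s a + t i 1 • s b) :
    PStable (η' θ a b) (θ' θ a b) t := by
  have hc : 0 < cc θ a b := inv_pos.mpr (by linarith)
  refine ⟨semistable_fwd hab h2 hθ' hst.1 hli t hs, fun U I' hsub hW0 => ?_⟩
  obtain ⟨L, I, hQ, hW, hbot, htop⟩ := fwd (θ := θ) hab hli t hs U I' hsub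
  have hq : QWt K (-1) θ L I = 0 := by
    rw [hW0] at hW
    rcases mul_eq_zero.mp hW.symm with h | h
    · exact absurd h hc.ne'
    · exact h
  rcases hst.2 L I hQ hq with h | h
  · exact Or.inl (hbot h)
  · exact Or.inr (htop h)

include hab in
theorem stable_bwd (h0 : ∀ i, 0 ≤ θ i) (h1 : ∀ i, θ i ≤ 1)
    (h2 : ∑ i, θ i = 2) (hθ : 1 < θ a + θ b) (hθ' : θ a + θ b < 2)
    (hli : LinearIndependent K ![s a, s b])
    (t : κ' a b → Fin 2 → K) (hs : ∀ i : κ' a b, s i.1 = t i 0 • s a + t i 1 • s b)
    (hP : PStable (η' θ a b) (θ' θ a b) t) : QStable (-1) θ s := by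
  refine ⟨semistable_bwd hab h0 h1 h2 hθ hθ' hli t hs hP.1, fun L I hsub hq => ?_⟩
  obtain ⟨U, I', hPsub, hle, h3⟩ := bwd hab hli h0 h1 h2 hθ hθ' t hs L I hsub
  have hle0 := hP.1.2 U I' hPsub
  rw [hq, mul_zero] at hle
  have hW0 : PWt K (η' θ a b) (θ' θ a b) U I' = 0 := le_antisymm hle0 hle
  exact h3 hq hle0 (hP.2 U I' hPsub hW0)

end Groth.Agent.H92.PtQuiv
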