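import Mathlib
import Groth.Prelude.Def_Desc
import Groth.Agent.H92.WittDescFF
import Groth.Agent.H92.DescGen

/-!
# Descent data of modules relative to a ring map, on elements (helper92)

Unwinds Mathlib's `Pseudofunctor.DescentData` for the prelude pseudofunctor `Desc.ringModPF`
(`R ↦ ModuleCat R`, extension of scalars) on elements.
-/

set_option autoImplicit false

universe u

open CategoryTheory Opposite TensorProduct ChangeOfRings Limits

namespace Groth.Agent.H92.RingDesc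

attribute [-instance] CategoryTheory.catToReflQuiver

open Groth.Agent.H92.WittDescFF Groth.Agent.H92.DescGen Desc

/-- extension of scalars along `f` -/
noncomputable abbrev extR {A B : CommRingCat.{u}} (f : A ⟶ B) (M : ModuleCat.{u} A) :
    ModuleCat.{u} B :=
  (ModuleCat.extendScalars f.hom).obj M

/-- The comparison isomorphism `mapComp'` of `ringModPF`, with readable source and target. -/
noncomputable def rcompIso' {A B T : CommRingCat.{u}} (a : A ⟶ B) (b : B ⟶ T) (c : A ⟶ T)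
    (h' : CompCond a.op b.op c.op) (M : ModuleCat.{u} A) :
    extR c M ≅ extR b (extR a M) :=
  mcIso ringModPF.{u} a.op b.op c.op h' M

set_option backward.isDefEq.respectTransparency false in
theorem rcompIso'_hom_oneT {A B T : CommRingCat.{u}} (a : A ⟶ B) (b : B ⟶ T) (c : A ⟶ T)
    (h : a ≫ b = c) (h' : CompCond a.op b.op c.op) (M : ModuleCat.{u} A) (m : M) :
    (rcompIso' a b c h' M).hom (oneT c.hom M m) = oneT b.hom _ (oneT a.hom M m) := by
  subst h
  simp only [rcompIso', mcIso, Pseudofunctor.mapComp', ringModPF, oneT]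
  simp
  exact ModuleCat.extendScalarsComp_hom_app_one_tmul _ _ M m

theorem exists_rcompIso {A B T : CommRingCat.{u}} (a : A ⟶ B) (b : B ⟶ T) (c : A ⟶ T)
    (h' : CompCond a.op b.op c.op) (M : ModuleCat.{u} A) :
    ∃ e : extR c M ≅ extR b (extR a M), e = rcompIso' a b c h' M := ⟨_, rfl⟩

/-- The comparison isomorphism, made opaque (so that the kernel never unfolds the pseudofunctor). -/
noncomputable def rcompIso {A B T : CommRingCat.{u}} (a : A ⟶ B) (b : B ⟶ T) (c : A ⟶ T)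
    (h' : CompCond a.op b.op c.op) (M : ModuleCat.{u} A) :
    extR c M ≅ extR b (extR a M) :=
  (exists_rcompIso a b c h' M).choose

theorem rcompIso_eq {A B T : CommRingCat.{u}} (a : A ⟶ B) (b : B ⟶ T) (c : A ⟶ T)
    (h' : CompCond a.op b.op c.op) (M : ModuleCat.{u} A) :
    rcompIso a b c h' M = rcompIso' a b c h' M :=
  (exists_rcompIso a b c h' M).choose_spec

theorem rcompIso_hom_oneT {A B T : CommRingCat.{u}} (a : A ⟶ B) (b : B ⟶ T) (c : A ⟶ T)
    (h : a ≫ b = c) (h' : CompCond a.op b.op c.op) (M : ModuleCat.{u} A) (m : M) :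
    (rcompIso a b c h' M).hom (oneT c.hom M m) = oneT b.hom _ (oneT a.hom M m) := by
  rw [rcompIso_eq]
  exact rcompIso'_hom_oneT a b c h h' M m

theorem rcompIso_inv_oneT {A B T : CommRingCat.{u}} (a : A ⟶ B) (b : B ⟶ T) (c : A ⟶ T)
    (h : a ≫ b = c) (h' : CompCond a.op b.op c.op) (M : ModuleCat.{u} A) (m : M) :
    (rcompIso a b c h' M).inv (oneT b.hom _ (oneT a.hom M m)) = oneT c.hom M m := by
  rw [← rcompIso_hom_oneT a b c h h' M m]
  exact Iso.hom_inv_id_apply (rcompIso a b c h' M) _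

/-- the generic comparison isomorphism for `ringModPF` is `rcompIso` -/
theorem rmcIso_eq {A B T : CommRingCat.{u}} (a : A ⟶ B) (b : B ⟶ T) (c : A ⟶ T)
    (h' : CompCond a.op b.op c.op) (M : ModuleCat.{u} A) :
    mcIso ringModPF.{u} a.op b.op c.op h' M = rcompIso a b c h' M :=
  (rcompIso_eq a b c h' M).symm

theorem rpull_map_eq {A B : CommRingCat.{u}} (f : A ⟶ B) {X Y : ModuleCat.{u} A} (k : X ⟶ Y) :
    (pull ringModPF.{u} f.op).map k = (ModuleCat.extendScalars f.hom).map k := rfl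

theorem hcR {A B T : CommRingCat.{u}} (a : A ⟶ B) (b : B ⟶ T) (c : A ⟶ T) (h : a ≫ b = c) :
    b.hom.comp a.hom = c.hom := by
  subst h
  rfl

/-- `x ↦ (rcompIso).inv (1 ⊗ x)` is the base change map -/
theorem rL_eq_bc {A B T : CommRingCat.{u}} (a : A ⟶ B) (b : B ⟶ T) (c : A ⟶ T)
    (h : a ≫ b = c) (h' : CompCond a.op b.op c.op) (N : ModuleCat.{u} A) (x : extR a N) :
    (rcompIso a b c h' N).inv (oneT b.hom (extR a N) x) =
      bc a.hom b.hom c.hom (hcR a b c h) N x := by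
  induction x using ext_induction with
  | zero =>
    rw [oneT_zero, map_zero, map_zero]
  | tmul w m =>
    rw [oneT_smul, map_smul, rcompIso_inv_oneT a b c h h' N m, bc_smul_oneT]
  | add x y hx hy =>
    rw [oneT_add, map_add, map_add, hx, hy]

section theta

variable {A B : CommRingCat.{u}} {t : A ⟶ B}
  (D : ringModPF.{u}.DescentData (fun _ : PUnit.{u + 1} => t.op))

/-- the underlying `B`-module of a descent datum relative to `t : A ⟶ B` (a `def`, so that its type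
is syntactically a `ModuleCat`) -/
noncomputable def dmod : ModuleCat.{u} B := dobj ringModPF.{u} t.op D

theorem dmod_eq : dmod D = dobj ringModPF.{u} t.op D := rfl

theorem exists_homE {Y : CommRingCat.{u}} (q : A ⟶ Y) (g₁ g₂ : B ⟶ Y)
    (h₁ : g₁.op ≫ t.op = q.op) (h₂ : g₂.op ≫ t.op = q.op) :
    ∃ k : extR g₁ (dmod D) ⟶ extR g₂ (dmod D),
      k = dhom ringModPF.{u} t.op D q.op g₁.op g₂.op h₁ h₂ := ⟨_, rfl⟩

/-- the comparison morphism of a descent datum for a pair of ring maps `g₁ g₂ : B ⟶ Y` agreeing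
on `A`, as a morphism between extensions of scalars (opaque) -/
noncomputable def homE {Y : CommRingCat.{u}} (q : A ⟶ Y) (g₁ g₂ : B ⟶ Y)
    (h₁ : g₁.op ≫ t.op = q.op) (h₂ : g₂.op ≫ t.op = q.op) :
    extR g₁ (dmod D) ⟶ extR g₂ (dmod D) :=
  (exists_homE D q g₁ g₂ h₁ h₂).choose

theorem homE_eq {Y : CommRingCat.{u}} (q : A ⟶ Y) (g₁ g₂ : B ⟶ Y)
    (h₁ : g₁.op ≫ t.op = q.op) (h₂ : g₂.op ≫ t.op = q.op) :
    dhom ringModPF.{u} t.op D q.op g₁.op g₂.op h₁ h₂ = homE D q g₁ g₂ h₁ h₂ :=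
  (exists_homE D q g₁ g₂ h₁ h₂).choose_spec.symm

theorem homE_self {Y : CommRingCat.{u}} (q : A ⟶ Y) (g : B ⟶ Y)
    (h : g.op ≫ t.op = q.op) (x : extR g (dmod D)) : homE D q g g h h x = x := by
  have e := dhom_self D q.op g.op h
  rw [homE_eq] at e
  rw [e]
  rfl

theorem homE_comp {Y : CommRingCat.{u}} (q : A ⟶ Y) (g₁ g₂ g₃ : B ⟶ Y)
    (h₁ : g₁.op ≫ t.op = q.op) (h₂ : g₂.op ≫ t.op = q.op) (h₃ : g₃.op ≫ t.op = q.op)
    (x : extR g₁ (dmod D)) :
    homE D q g₂ g₃ h₂ h₃ (homE D q g₁ g₂ h₁ h₂ x) = homE D q g₁ g₃ h₁ h₃ x := by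
  have e := dhom_comp D q.op g₁.op g₂.op g₃.op h₁ h₂ h₃
  rw [homE_eq, homE_eq, homE_eq] at e
  rw [← e]
  rfl

theorem homE_pull {Y Y' : CommRingCat.{u}} (k : Y ⟶ Y') (q : A ⟶ Y) (q' : A ⟶ Y')
    (hq : q ≫ k = q') (g₁ g₂ : B ⟶ Y) (h₁ : g₁.op ≫ t.op = q.op) (h₂ : g₂.op ≫ t.op = q.op)
    (g₁' g₂' : B ⟶ Y') (hg₁ : g₁ ≫ k = g₁') (hg₂ : g₂ ≫ k = g₂')
    (h₁' : g₁'.op ≫ t.op = q'.op) (h₂' : g₂'.op ≫ t.op = q'.op) (n : dmod D) :
    homE D q' g₁' g₂' h₁' h₂' (oneT g₁'.hom (dmod D) n) =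
      bc g₂.hom k.hom g₂'.hom (hcR g₂ k g₂' hg₂) (dmod D)
        (homE D q g₁ g₂ h₁ h₂ (oneT g₁.hom (dmod D) n)) := by
  have c₁ : CompCond g₁.op k.op g₁'.op := by subst hg₁; rfl
  have c₂ : CompCond g₂.op k.op g₂'.op := by subst hg₂; rfl
  have e : dhom ringModPF.{u} t.op D q'.op g₁'.op g₂'.op h₁' h₂' =
      (mcIso ringModPF.{u} g₁.op k.op g₁'.op c₁ (dmod D : ModuleCat.{u} B)).hom ≫
        (pull ringModPF.{u} k.op).map (dhom ringModPF.{u} t.op D q.op g₁.op g₂.op h₁ h₂) ≫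
          (mcIso ringModPF.{u} g₂.op k.op g₂'.op c₂ (dmod D : ModuleCat.{u} B)).inv :=
    dhom_pull D k.op q.op q'.op (by rw [← hq]; rfl) g₁.op g₂.op h₁ h₂ g₁'.op g₂'.op
      (by rw [← hg₁]; rfl) (by rw [← hg₂]; rfl) c₁ c₂ h₁' h₂'
  rw [rmcIso_eq g₁ k g₁' c₁ (dmod D), rmcIso_eq g₂ k g₂' c₂ (dmod D), homE_eq, homE_eq] at e
  erw [rpull_map_eq k (homE D q g₁ g₂ h₁ h₂)] at e
  rw [e]
  change (rcompIso g₂ k g₂' c₂ (dmod D)).inv
    ((ModuleCat.extendScalars k.hom).map (homE D q g₁ g₂ h₁ h₂)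
      ((rcompIso g₁ k g₁' c₁ (dmod D)).hom (oneT g₁'.hom (dmod D) n))) = _
  rw [rcompIso_hom_oneT _ _ _ hg₁, map_oneT, rL_eq_bc _ _ _ hg₂]

end theta

end Groth.Agent.H92.RingDesc
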