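import Mathlib
import Groth.Agent.H92.WittDescFF

/-!
# The base change isomorphism `(B ⊗[A] C) ⊗[C] N ≃ B ⊗[A] N` for extensions of scalars (helper92)

For `A`-algebras `B`, `C` and a `C`-module `N`, we construct by hand the additive maps
`psi : (extendScalars (C → B ⊗[A] C)).obj N →+ (extendScalars (A → B)).obj (restrictScalars N)` and its
inverse `chi`, in terms of the element `oneT` (`1 ⊗ n`).  Also `extLift`, additive maps out of an
extension of scalars from balanced biadditive maps.
-/

set_option autoImplicit false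
universe u
open CategoryTheory Opposite TensorProduct ChangeOfRings Limits
namespace Groth.Agent.H92.RingSquare
attribute [-instance] CategoryTheory.catToReflQuiver
open Groth.Agent.H92.WittDescFF

section lift

variable {A B : Type u} [CommRing A] [CommRing B] (f : A →+* B) (M : ModuleCat.{u} A)
  {P : Type*} [AddCommMonoid P]

set_option backward.isDefEq.respectTransparency false in
/-- additive maps out of an extension of scalars, from balanced biadditive maps -/
noncomputable def extLift (β : B →+ M →+ P)
    (hβ : ∀ (a : A) (b : B) (m : M), β (f a * b) m = β b (a • m)) :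
    (ModuleCat.extendScalars f).obj M →+ P :=
  letI := Module.compHom B f
  TensorProduct.liftAddHom β hβ

set_option backward.isDefEq.respectTransparency false in
theorem extLift_smul_oneT (β : B →+ M →+ P)
    (hβ : ∀ (a : A) (b : B) (m : M), β (f a * b) m = β b (a • m)) (b : B) (m : M) :
    extLift f M β hβ (b • oneT f M m) = β b m := by
  simp only [oneT]
  rw [ModuleCat.ExtendScalars.smul_tmul, mul_one]
  rfl

end lift

section square

variable (A B C : Type u) [CommRing A] [CommRing B] [CommRing C] [Algebra A B] [Algebra A C]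

/-- the inclusion `C → B ⊗[A] C` -/
noncomputable abbrev iR : C →+* B ⊗[A] C :=
  (Algebra.TensorProduct.includeRight (R := A) (A := B) (B := C)).toRingHom

/-- the inclusion `B → B ⊗[A] C` -/
noncomputable abbrev iL : B →+* B ⊗[A] C :=
  (Algebra.TensorProduct.includeLeftRingHom : B →+* B ⊗[A] C)

variable {C} (N : ModuleCat.{u} C)

/-- `B ⊗[A] N`, as extension of scalars of the restriction of scalars -/
noncomputable abbrev GN : ModuleCat.{u} B :=
  (ModuleCat.extendScalars (algebraMap A B)).obj
    ((ModuleCat.restrictScalars (algebraMap A C)).obj N)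

/-- `(B ⊗[A] C) ⊗[C] N` -/
noncomputable abbrev EN : ModuleCat.{u} (B ⊗[A] C) :=
  (ModuleCat.extendScalars (iR A B C)).obj N

/-- `1 ⊗ n ∈ B ⊗[A] N` -/
noncomputable abbrev oneG (n : N) : GN A B N :=
  oneT (algebraMap A B) ((ModuleCat.restrictScalars (algebraMap A C)).obj N) n

/-- `1 ⊗ n ∈ (B ⊗[A] C) ⊗[C] N` -/
noncomputable abbrev oneE (n : N) : EN A B N := oneT (iR A B C) N n

variable {A B}

theorem oneG_add (n n' : N) : oneG A B N (n + n') = oneG A B N n + oneG A B N n' :=
  oneT_add (algebraMap A B) ((ModuleCat.restrictScalars (algebraMap A C)).obj N) n n'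

theorem oneG_smul (a : A) (n : N) :
    oneG A B N (algebraMap A C a • n) = algebraMap A B a • oneG A B N n :=
  oneT_smul (algebraMap A B) ((ModuleCat.restrictScalars (algebraMap A C)).obj N) a n

theorem oneE_add (n n' : N) : oneE A B N (n + n') = oneE A B N n + oneE A B N n' :=
  oneT_add (iR A B C) N n n'

theorem oneE_smul (c : C) (n : N) : oneE A B N (c • n) = iR A B C c • oneE A B N n :=
  oneT_smul (iR A B C) N c n

/-- `(b, c) ↦ b ⊗ c n` -/
noncomputable def muAux (n : N) : B →+ C →+ GN A B N :=
  AddMonoidHom.mk' (fun b => AddMonoidHom.mk' (fun c => b • oneG A B N (c • n))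
    (fun c c' => by rw [add_smul, oneG_add, smul_add]))
    (fun b b' => by
      ext c
      simp only [AddMonoidHom.mk'_apply, AddMonoidHom.add_apply]
      rw [add_smul])

theorem muAux_apply (n : N) (b : B) (c : C) :
    muAux N n b c = b • oneG A B N (c • n) := rfl

/-- `b ⊗ c ↦ b ⊗ c n` -/
noncomputable def mu (n : N) : B ⊗[A] C →+ GN A B N :=
  TensorProduct.liftAddHom (muAux N n) (fun a b c => by
    rw [muAux_apply, muAux_apply, Algebra.smul_def a b, Algebra.smul_def a c,
      mul_smul (algebraMap A C a) c n, oneG_smul, smul_smul, mul_comm b])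

theorem mu_tmul (n : N) (b : B) (c : C) :
    mu N n (b ⊗ₜ[A] c) = b • oneG A B N (c • n) := rfl

theorem mu_add (n n' : N) (x : B ⊗[A] C) :
    mu N (n + n') x = mu N n x + mu N n' x := by
  induction x using TensorProduct.induction_on with
  | zero => simp
  | tmul b c => rw [mu_tmul, mu_tmul, mu_tmul, smul_add, oneG_add, smul_add]
  | add x y hx hy => rw [map_add, map_add, map_add, hx, hy]; abel

theorem iR_mul_tmul (c c' : C) (b : B) :
    iR A B C c * (b ⊗ₜ[A] c') = b ⊗ₜ[A] (c * c') := by
  change ((1 : B) ⊗ₜ[A] c) * (b ⊗ₜ[A] c') = _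
  rw [Algebra.TensorProduct.tmul_mul_tmul, one_mul]

theorem iL_mul_tmul (b b' : B) (c : C) :
    iL A B C b * (b' ⊗ₜ[A] c) = (b * b') ⊗ₜ[A] c := by
  change (b ⊗ₜ[A] (1 : C)) * (b' ⊗ₜ[A] c) = _
  rw [Algebra.TensorProduct.tmul_mul_tmul, one_mul]

theorem iL_mul_iR (b : B) (c : C) : iL A B C b * iR A B C c = b ⊗ₜ[A] c := by
  change (b ⊗ₜ[A] (1 : C)) * ((1 : B) ⊗ₜ[A] c) = _
  rw [Algebra.TensorProduct.tmul_mul_tmul, mul_one, one_mul]

theorem iL_algebraMap (a : A) : iL A B C (algebraMap A B a) = iR A B C (algebraMap A C a) := by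
  change (Algebra.TensorProduct.includeLeft : B →ₐ[A] B ⊗[A] C) (algebraMap A B a) =
    (Algebra.TensorProduct.includeRight : C →ₐ[A] B ⊗[A] C) (algebraMap A C a)
  rw [AlgHom.commutes, AlgHom.commutes]

theorem mu_iR_mul (n : N) (c : C) (x : B ⊗[A] C) :
    mu N n (iR A B C c * x) = mu N (c • n) x := by
  induction x using TensorProduct.induction_on with
  | zero => simp
  | tmul b c' => rw [iR_mul_tmul, mu_tmul, mu_tmul, mul_comm, mul_smul]
  | add x y hx hy => rw [mul_add, map_add, map_add, hx, hy]

theorem mu_iL_mul (n : N) (b : B) (x : B ⊗[A] C) :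
    mu N n (iL A B C b * x) = b • mu N n x := by
  induction x using TensorProduct.induction_on with
  | zero => simp
  | tmul b' c => rw [iL_mul_tmul, mu_tmul, mu_tmul, mul_smul]
  | add x y hx hy => rw [mul_add, map_add, map_add, hx, hy, smul_add]

/-- `(x, n) ↦ mu n x` -/
noncomputable def psiAux : (B ⊗[A] C) →+ N →+ GN A B N :=
  AddMonoidHom.mk' (fun x => AddMonoidHom.mk' (fun n => mu N n x) (fun n n' => mu_add N n n' x))
    (fun x y => by
      ext n
      simp only [AddMonoidHom.mk'_apply, AddMonoidHom.add_apply]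
      rw [map_add])

/-- the base change isomorphism `(B ⊗[A] C) ⊗[C] N → B ⊗[A] N`, `(b ⊗ c) ⊗ n ↦ b ⊗ c n` -/
noncomputable def psi : EN A B N →+ GN A B N :=
  extLift (iR A B C) N (psiAux N) (fun c x n => mu_iR_mul N n c x)

theorem psi_smul_oneE (x : B ⊗[A] C) (n : N) :
    psi N (x • oneE A B N n) = mu N n x :=
  extLift_smul_oneT (iR A B C) N (psiAux N) _ x n

theorem psi_oneE (n : N) : psi N (oneE A B N n) = oneG A B N n := by
  have h := psi_smul_oneE (A := A) (B := B) N 1 n
  rw [one_smul] at h
  rw [h]
  change mu N n ((1 : B) ⊗ₜ[A] (1 : C)) = _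
  rw [mu_tmul, one_smul, one_smul]

theorem psi_iL_smul (b : B) (w : EN A B N) :
    psi N (iL A B C b • w) = b • psi N w := by
  induction w using ext_induction with
  | zero => rw [smul_zero, map_zero, smul_zero]
  | tmul x n => rw [smul_smul, psi_smul_oneE, psi_smul_oneE, mu_iL_mul]
  | add x y hx hy => rw [smul_add, map_add, map_add, hx, hy, smul_add]

/-- `(b, n) ↦ (b ⊗ 1) ⊗ n` -/
noncomputable def chiAux :
    B →+ ((ModuleCat.restrictScalars (algebraMap A C)).obj N) →+ EN A B N :=
  AddMonoidHom.mk' (fun b => AddMonoidHom.mk' (fun n => iL A B C b • oneE A B N n)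
    (fun n n' => (congrArg (fun z => iL A B C b • z) (oneE_add N n n')).trans (smul_add _ _ _)))
    (fun b b' => by
      ext n
      simp only [AddMonoidHom.mk'_apply, AddMonoidHom.add_apply]
      rw [map_add]
      exact add_smul _ _ _)

theorem chi_bal (a : A) (b : B) (n : N) :
    iL A B C (algebraMap A B a * b) • oneE A B N n =
      iL A B C b • oneE A B N (algebraMap A C a • n) := by
  rw [oneE_smul, smul_smul, map_mul, mul_comm, iL_algebraMap]

/-- the inverse of `psi`, `b ⊗ n ↦ (b ⊗ 1) ⊗ n` -/
noncomputable def chi : GN A B N →+ EN A B N :=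
  extLift (algebraMap A B) _ (chiAux N) (fun a b n => chi_bal N a b n)

theorem chi_smul_oneG (b : B) (n : N) :
    chi N (b • oneG A B N n) = iL A B C b • oneE A B N n :=
  extLift_smul_oneT (algebraMap A B) _ (chiAux N) _ b n

theorem chi_mu (n : N) (x : B ⊗[A] C) : chi N (mu N n x) = x • oneE A B N n := by
  induction x using TensorProduct.induction_on with
  | zero => simp
  | tmul b c => rw [mu_tmul, chi_smul_oneG, oneE_smul, smul_smul, iL_mul_iR]
  | add x y hx hy => rw [map_add, map_add, hx, hy, add_smul]

theorem chi_psi (w : EN A B N) : chi N (psi N w) = w := by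
  induction w using ext_induction with
  | zero => rw [map_zero, map_zero]
  | tmul x n => rw [psi_smul_oneE, chi_mu]
  | add x y hx hy => rw [map_add, map_add, hx, hy]

theorem psi_injective : Function.Injective (psi (A := A) (B := B) N) :=
  Function.LeftInverse.injective (chi_psi N)

end square

end Groth.Agent.H92.RingSquare
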