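import Mathlib
import Groth.Prelude.Def_Desc
import Groth.Agent.H92.RingDesc
import Groth.Agent.H92.RingSquare

/-!
# Faithfully flat descent of modules is effective (helper92)

For a ring map `R → S` and a descent datum `D` (Mathlib's `Pseudofunctor.DescentData` for the prelude
pseudofunctor `Desc.ringModPF`, relative to the single morphism `(R → S).op`), we construct the
coalgebra `coalg D` over the comonad `S ⊗[R] -` on `S`-modules: the coaction is
`n ↦ ψ(φ(1 ⊗ n))` for `φ` the comparison isomorphism over `S ⊗[R] S`; the counit axiom comes from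
`hom_self` pulled back along the multiplication `S ⊗[R] S → S`, coassociativity from the cocycle
condition over `S ⊗[R] (S ⊗[R] S)`.  When `R → S` is faithfully flat, Mathlib's comonadicity of
extension of scalars gives an `R`-module `M` with `S ⊗[R] M ≅ N` as coalgebras, and
`Groth.Agent.H92.DescGen.nonempty_iso_of_comm'` turns this into an isomorphism of descent data.
-/

set_option autoImplicit false
universe u
open CategoryTheory Opposite TensorProduct ChangeOfRings Limits

namespace Groth.Agent.H92.RingCoalg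

attribute [-instance] CategoryTheory.catToReflQuiver

open Groth.Agent.H92.WittDescFF (oneT bc CompCond pull mcIso oneT_add oneT_smul oneT_zero map_oneT
  hom_ext_oneT ext_induction bc_smul_oneT)
open Groth.Agent.H92.DescGen Groth.Agent.H92.RingDesc Groth.Agent.H92.RingSquare Desc

variable (R S : Type u) [CommRing R] [CommRing S] [Algebra R S]

/-- `R → S` -/
noncomputable abbrev rt : CommRingCat.of R ⟶ CommRingCat.of S := CommRingCat.ofHom (algebraMap R S)
/-- `S ⊗[R] S` -/
noncomputable abbrev T2 : CommRingCat.{u} := CommRingCat.of (S ⊗[R] S)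
/-- `S ⊗[R] (S ⊗[R] S)` -/
noncomputable abbrev T3 : CommRingCat.{u} := CommRingCat.of (S ⊗[R] (S ⊗[R] S))
/-- the identity of `S` -/
noncomputable abbrev rid : CommRingCat.of S ⟶ CommRingCat.of S := 𝟙 (CommRingCat.of S)
/-- `s ↦ s ⊗ 1` -/
noncomputable abbrev ri1 : CommRingCat.of S ⟶ T2 R S := CommRingCat.ofHom (iL R S S)
/-- `s ↦ 1 ⊗ s` -/
noncomputable abbrev ri2 : CommRingCat.of S ⟶ T2 R S := CommRingCat.ofHom (iR R S S)
/-- multiplication `S ⊗[R] S → S` -/
noncomputable abbrev rΔ : T2 R S ⟶ CommRingCat.of S :=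
  CommRingCat.ofHom (Algebra.TensorProduct.lmul' (S := S) R).toRingHom
/-- `x ↦ 1 ⊗ x` -/
noncomputable abbrev p23 : T2 R S ⟶ T3 R S := CommRingCat.ofHom (iR R S (S ⊗[R] S))
/-- `a ⊗ b ↦ a ⊗ (b ⊗ 1)` -/
noncomputable abbrev p12 : T2 R S ⟶ T3 R S :=
  CommRingCat.ofHom (Algebra.TensorProduct.map (AlgHom.id R S)
    (Algebra.TensorProduct.includeLeft : S →ₐ[R] S ⊗[R] S)).toRingHom
/-- `a ⊗ b ↦ a ⊗ (1 ⊗ b)` -/
noncomputable abbrev p13 : T2 R S ⟶ T3 R S :=
  CommRingCat.ofHom (Algebra.TensorProduct.map (AlgHom.id R S)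
    (Algebra.TensorProduct.includeRight : S →ₐ[R] S ⊗[R] S)).toRingHom
/-- `s ↦ s ⊗ (1 ⊗ 1)` -/
noncomputable abbrev j1 : CommRingCat.of S ⟶ T3 R S := CommRingCat.ofHom (iL R S (S ⊗[R] S))
/-- `s ↦ 1 ⊗ (s ⊗ 1)` -/
noncomputable abbrev j2 : CommRingCat.of S ⟶ T3 R S := ri1 R S ≫ p23 R S
/-- `s ↦ 1 ⊗ (1 ⊗ s)` -/
noncomputable abbrev j3 : CommRingCat.of S ⟶ T3 R S := ri2 R S ≫ p23 R S

theorem rt_ri2 : rt R S ≫ ri2 R S = rt R S ≫ ri1 R S := by
  ext r
  exact (iL_algebraMap (A := R) (B := S) (C := S) r).symm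

theorem ri1_Δ : ri1 R S ≫ rΔ R S = rid S := by
  ext s
  change Algebra.TensorProduct.lmul' (S := S) R (s ⊗ₜ[R] (1 : S)) = s
  rw [Algebra.TensorProduct.lmul'_apply_tmul, mul_one]

theorem ri2_Δ : ri2 R S ≫ rΔ R S = rid S := by
  ext s
  change Algebra.TensorProduct.lmul' (S := S) R ((1 : S) ⊗ₜ[R] s) = s
  rw [Algebra.TensorProduct.lmul'_apply_tmul, one_mul]

theorem ri1_p12 : ri1 R S ≫ p12 R S = j1 R S := by
  ext s
  change Algebra.TensorProduct.map (AlgHom.id R S)
    (Algebra.TensorProduct.includeLeft : S →ₐ[R] S ⊗[R] S) (s ⊗ₜ[R] (1 : S)) = s ⊗ₜ[R] (1 : S ⊗[R] S)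
  rw [Algebra.TensorProduct.map_tmul, map_one]
  rfl

theorem ri2_p12 : ri2 R S ≫ p12 R S = j2 R S := by
  ext s
  change Algebra.TensorProduct.map (AlgHom.id R S)
    (Algebra.TensorProduct.includeLeft : S →ₐ[R] S ⊗[R] S) ((1 : S) ⊗ₜ[R] s) =
      (1 : S) ⊗ₜ[R] (s ⊗ₜ[R] (1 : S))
  rw [Algebra.TensorProduct.map_tmul, map_one]
  rfl

theorem ri1_p13 : ri1 R S ≫ p13 R S = j1 R S := by
  ext s
  change Algebra.TensorProduct.map (AlgHom.id R S)
    (Algebra.TensorProduct.includeRight : S →ₐ[R] S ⊗[R] S) (s ⊗ₜ[R] (1 : S)) = s ⊗ₜ[R] (1 : S ⊗[R] S)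
  rw [Algebra.TensorProduct.map_tmul, map_one]
  rfl

theorem ri2_p13 : ri2 R S ≫ p13 R S = j3 R S := by
  ext s
  change Algebra.TensorProduct.map (AlgHom.id R S)
    (Algebra.TensorProduct.includeRight : S →ₐ[R] S ⊗[R] S) ((1 : S) ⊗ₜ[R] s) =
      (1 : S) ⊗ₜ[R] ((1 : S) ⊗ₜ[R] s)
  rw [Algebra.TensorProduct.map_tmul, map_one]
  rfl

section coalg

variable {R S}
variable (D : ringModPF.{u}.DescentData (fun _ : PUnit.{u + 1} => (rt R S).op))

theorem hop {Y : CommRingCat.{u}} (g : CommRingCat.of S ⟶ Y) (q : CommRingCat.of R ⟶ Y)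
    (h : rt R S ≫ g = q) : g.op ≫ (rt R S).op = q.op := by
  rw [← op_comp, h]

/-- `n ↦ φ(1 ⊗ n)`, for `φ` the comparison isomorphism over `S ⊗[R] S` -/
noncomputable def phiFlat (n : dmod D) : extR (ri2 R S) (dmod D) :=
  homE D (rt R S ≫ ri1 R S) (ri1 R S) (ri2 R S) (hop _ _ rfl) (hop _ _ (rt_ri2 R S))
    (oneT (ri1 R S).hom (dmod D) n)

/-- the coaction `N → S ⊗[R] N` of a descent datum -/
noncomputable def coact (n : dmod D) : GN R S (dmod D) := psi (dmod D) (phiFlat D n)

theorem phiFlat_add (n n' : dmod D) : phiFlat D (n + n') = phiFlat D n + phiFlat D n' := by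
  unfold phiFlat
  rw [oneT_add, map_add]

theorem phiFlat_smul (s : S) (n : dmod D) :
    phiFlat D (s • n) = iL R S S s • phiFlat D n := by
  unfold phiFlat
  rw [oneT_smul, map_smul]
  rfl

theorem coact_add (n n' : dmod D) : coact D (n + n') = coact D n + coact D n' := by
  unfold coact
  rw [phiFlat_add, map_add]

theorem coact_smul (s : S) (n : dmod D) : coact D (s • n) = s • coact D n := by
  unfold coact
  rw [phiFlat_smul]
  exact psi_iL_smul (dmod D) s (phiFlat D n)

/-- `S ⊗[S] N → N` -/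
noncomputable def kap : extR (rid S) (dmod D) →+ dmod D :=
  extLift (rid S).hom (dmod D) (smulAddHom S (dmod D)) (fun a b m => by
    change (a * b) • m = b • a • m
    rw [mul_comm, mul_smul])

theorem kap_smul_oneT (s : S) (n : dmod D) :
    kap D (s • oneT (rid S).hom (dmod D) n) = s • n :=
  extLift_smul_oneT _ _ _ _ s n

theorem kap_oneT (n : dmod D) : kap D (oneT (rid S).hom (dmod D) n) = n := by
  have h := kap_smul_oneT D 1 n
  rwa [one_smul, one_smul] at h

/-- the counit `S ⊗[R] N → N` of the adjunction -/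
noncomputable abbrev eps : GN R S (dmod D) ⟶ dmod D :=
  (ModuleCat.extendRestrictScalarsAdj (algebraMap R S)).counit.app (dmod D)

theorem eps_oneG (n : dmod D) : eps D (oneG R S (dmod D) n) = n :=
  ModuleCat.extendRestrictScalarsAdj_counit_app_apply_one_tmul (algebraMap R S) (dmod D) n

theorem eps_mu (n : dmod D) (x : S ⊗[R] S) :
    eps D (mu (dmod D) n x) = (Algebra.TensorProduct.lmul' (S := S) R x) • n := by
  induction x using TensorProduct.induction_on with
  | zero => simp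
  | tmul b c =>
    rw [mu_tmul, map_smul, eps_oneG, Algebra.TensorProduct.lmul'_apply_tmul, mul_smul]
  | add x y hx hy => rw [map_add, map_add, map_add, hx, hy, add_smul]

theorem psi_smul_oneT' (x : S ⊗[R] S) (n : dmod D) :
    psi (dmod D) (x • oneT (ri2 R S).hom (dmod D) n) = mu (dmod D) n x :=
  psi_smul_oneE (dmod D) x n

theorem kap_bc_eq (w : extR (ri2 R S) (dmod D)) :
    kap D (bc (ri2 R S).hom (rΔ R S).hom (rid S).hom
      (hcR (ri2 R S) (rΔ R S) (rid S) (ri2_Δ R S)) (dmod D) w) = eps D (psi (dmod D) w) := by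
  induction w using ext_induction with
  | zero => rw [map_zero, map_zero, map_zero, map_zero]
  | tmul x n =>
    rw [bc_smul_oneT, kap_smul_oneT, psi_smul_oneT', eps_mu]
    rfl
  | add x y hx hy => rw [map_add, map_add, map_add, map_add, hx, hy]

theorem eps_coact (n : dmod D) : eps D (coact D n) = n := by
  have h1 := homE_pull D (rΔ R S) (rt R S ≫ ri1 R S) (rt R S)
    (by rw [Category.assoc, ri1_Δ, Category.comp_id]) (ri1 R S) (ri2 R S)
    (hop _ _ rfl) (hop _ _ (rt_ri2 R S)) (rid S) (rid S) (ri1_Δ R S) (ri2_Δ R S)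
    (hop _ _ (Category.comp_id _)) (hop _ _ (Category.comp_id _)) n
  rw [homE_self] at h1
  unfold coact
  rw [← kap_bc_eq]
  unfold phiFlat
  rw [← h1, kap_oneT]

/-! ### coassociativity -/

/-- the adjunction `S ⊗[R] - ⊣ restriction` -/
noncomputable abbrev radj := ModuleCat.extendRestrictScalarsAdj.{u} (algebraMap R S)

/-- `P = (S ⊗[R] S) ⊗[S] N` -/
noncomputable abbrev PP : ModuleCat.{u} (S ⊗[R] S) := extR (ri2 R S) (dmod D)

/-- `S ⊗[R] (S ⊗[R] N)` -/
noncomputable abbrev GGN : ModuleCat.{u} S := GN R S (GN R S (dmod D))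

theorem algebraMap_T2 (r : R) :
    algebraMap R (S ⊗[R] S) r = iL R S S (algebraMap R S r) := rfl

theorem GpsiAux_add (s : S) (w w' : PP D) :
    s • oneG R S (GN R S (dmod D)) (psi (dmod D) (w + w')) =
      s • oneG R S (GN R S (dmod D)) (psi (dmod D) w) +
        s • oneG R S (GN R S (dmod D)) (psi (dmod D) w') := by
  rw [map_add, oneG_add, smul_add]

/-- `(s, w) ↦ s ⊗ ψ(w)` -/
noncomputable def GpsiAux : S →+ ((ModuleCat.restrictScalars (algebraMap R (S ⊗[R] S))).obj (PP D)) →+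
    GGN D :=
  AddMonoidHom.mk' (fun s => AddMonoidHom.mk'
    (fun w => s • oneG R S (GN R S (dmod D)) (psi (dmod D) w))
    (fun w w' => GpsiAux_add D s w w'))
    (fun s s' => by
      ext w
      simp only [AddMonoidHom.mk'_apply, AddMonoidHom.add_apply]
      exact add_smul _ _ _)

theorem Gpsi_bal (r : R) (s : S) (w : PP D) :
    (algebraMap R S r * s) • oneG R S (GN R S (dmod D)) (psi (dmod D) w) =
      s • oneG R S (GN R S (dmod D)) (psi (dmod D) (algebraMap R (S ⊗[R] S) r • w)) := by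
  rw [algebraMap_T2, psi_iL_smul, oneG_smul, smul_smul, mul_comm]

/-- `S ⊗[R] ψ : S ⊗[R] ((S ⊗[R] S) ⊗[S] N) → S ⊗[R] (S ⊗[R] N)` -/
noncomputable def Gpsi : GN R S (PP D) →+ GGN D :=
  extLift (algebraMap R S) _ (GpsiAux D) (fun r s w => Gpsi_bal D r s w)

theorem Gpsi_smul_oneG (s : S) (w : PP D) :
    Gpsi D (s • oneG R S (PP D) w) = s • oneG R S (GN R S (dmod D)) (psi (dmod D) w) :=
  extLift_smul_oneT (algebraMap R S) _ (GpsiAux D) _ s w

theorem c23 : CompCond (ri2 R S).op (p23 R S).op (j3 R S).op := rfl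

/-- `(S ⊗[R] (S ⊗[R] S)) ⊗[S] N → S ⊗[R] (S ⊗[R] N)` -/
noncomputable def Psi3 (z : extR (j3 R S) (dmod D)) : GGN D :=
  Gpsi D (psi (PP D) ((rcompIso (ri2 R S) (p23 R S) (j3 R S) c23 (dmod D)).hom z))

theorem Psi3_add (z z' : extR (j3 R S) (dmod D)) : Psi3 D (z + z') = Psi3 D z + Psi3 D z' := by
  unfold Psi3
  rw [map_add, map_add, map_add]

theorem Psi3_zero : Psi3 D 0 = 0 := by
  unfold Psi3
  rw [map_zero, map_zero, map_zero]

theorem psi2_smul_oneT (y : S ⊗[R] (S ⊗[R] S)) (w : PP D) :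
    psi (PP D) (y • oneT (p23 R S).hom (PP D) w) = mu (PP D) w y :=
  psi_smul_oneE (PP D) y w

theorem Psi3_smul_oneT (y : S ⊗[R] (S ⊗[R] S)) (n : dmod D) :
    Psi3 D (y • oneT (j3 R S).hom (dmod D) n) =
      Gpsi D (mu (PP D) (oneT (ri2 R S).hom (dmod D) n) y) := by
  unfold Psi3
  rw [map_smul, rcompIso_hom_oneT _ _ _ rfl, psi2_smul_oneT]

theorem Psi3_smul_bc (y : S ⊗[R] (S ⊗[R] S)) (w : PP D) :
    Psi3 D (y • bc (ri2 R S).hom (p23 R S).hom (j3 R S).hom (hcR _ _ _ rfl) (dmod D) w) =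
      Gpsi D (mu (PP D) w y) := by
  unfold Psi3
  rw [← rL_eq_bc (ri2 R S) (p23 R S) (j3 R S) rfl c23 (dmod D) w, map_smul,
    Iso.inv_hom_id_apply, psi2_smul_oneT]

theorem p13_tmul (b c : S) :
    (p13 R S).hom (b ⊗ₜ[R] c) = b ⊗ₜ[R] (iR R S S c) := by
  change Algebra.TensorProduct.map (AlgHom.id R S)
    (Algebra.TensorProduct.includeRight : S →ₐ[R] S ⊗[R] S) (b ⊗ₜ[R] c) = _
  rw [Algebra.TensorProduct.map_tmul]
  rfl

theorem p12_tmul (b c : S) :
    (p12 R S).hom (b ⊗ₜ[R] c) = b ⊗ₜ[R] (iL R S S c) := by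
  change Algebra.TensorProduct.map (AlgHom.id R S)
    (Algebra.TensorProduct.includeLeft : S →ₐ[R] S ⊗[R] S) (b ⊗ₜ[R] c) = _
  rw [Algebra.TensorProduct.map_tmul]
  rfl

/-- the comonad `S ⊗[R] -` on `S`-modules -/
noncomputable abbrev GG : Comonad (ModuleCat.{u} S) := (radj (R := R) (S := S)).toComonad

/-- the coaction, as a linear map -/
noncomputable def coactLin : dmod D →ₗ[S] GN R S (dmod D) where
  toFun := coact D
  map_add' := coact_add D
  map_smul' := coact_smul D

/-- the coaction, as a morphism of `S`-modules -/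
noncomputable def coactHom : dmod D ⟶ GN R S (dmod D) :=
  (ModuleCat.ofHom (coactLin D) :
    ModuleCat.of S (dmod D) ⟶ ModuleCat.of S (GN R S (dmod D)))

theorem coactHom_apply (n : dmod D) : coactHom D n = coact D n := rfl

/-- the comultiplication of the comonad at `N` -/
noncomputable def deltaN : GN R S (dmod D) ⟶ GGN D := (GG (R := R) (S := S)).δ.app (dmod D)

/-- the comonad applied to the coaction -/
noncomputable def GmapN : GN R S (dmod D) ⟶ GGN D := (GG (R := R) (S := S)).map (coactHom D)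

theorem deltaN_smul_oneG (s : S) (n : dmod D) :
    deltaN D (s • oneG R S (dmod D) n) =
      s • oneG R S (GN R S (dmod D)) (oneG R S (dmod D) n) := by
  rw [map_smul]
  rfl

theorem GmapN_smul_oneG (s : S) (n : dmod D) :
    GmapN D (s • oneG R S (dmod D) n) = s • oneG R S (GN R S (dmod D)) (coact D n) := by
  rw [map_smul]
  rfl

theorem oneT_ri2_smul (c : S) (n : dmod D) :
    iR R S S c • oneT (ri2 R S).hom (dmod D) n = oneT (ri2 R S).hom (dmod D) (c • n) :=
  (oneT_smul (ri2 R S).hom (dmod D) c n).symm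

theorem psi_oneT' (n : dmod D) :
    psi (dmod D) (oneT (ri2 R S).hom (dmod D) n) = oneG R S (dmod D) n :=
  psi_oneE (dmod D) n

/-- (A) -/
theorem delta_psi (w : extR (ri2 R S) (dmod D)) :
    deltaN D (psi (dmod D) w) =
      Psi3 D (bc (ri2 R S).hom (p13 R S).hom (j3 R S).hom
        (hcR _ _ _ (ri2_p13 R S)) (dmod D) w) := by
  induction w using ext_induction with
  | zero => rw [map_zero, map_zero, map_zero, Psi3_zero]
  | tmul x n =>
    rw [bc_smul_oneT, Psi3_smul_oneT, psi_smul_oneT']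
    induction x using TensorProduct.induction_on with
    | zero => simp
    | tmul b c =>
      rw [mu_tmul, deltaN_smul_oneG, p13_tmul, mu_tmul, Gpsi_smul_oneG, oneT_ri2_smul, psi_oneT']
    | add x y hx hy => rw [map_add, map_add, map_add, map_add, map_add, hx, hy]
  | add x y hx hy => rw [map_add, map_add, map_add, Psi3_add, hx, hy]

theorem q3_1 : (j1 R S).op ≫ (rt R S).op = (rt R S ≫ j1 R S).op := hop _ _ rfl

theorem rt_j2 : rt R S ≫ j2 R S = rt R S ≫ j1 R S := by
  rw [← ri1_p12, ← ri2_p12, ← Category.assoc, ← Category.assoc, rt_ri2]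

theorem rt_j3 : rt R S ≫ j3 R S = rt R S ≫ j1 R S := by
  rw [← ri1_p13, ← ri2_p13, ← Category.assoc, ← Category.assoc, rt_ri2]

/-- the comparison isomorphism of `D` for the pair `(j2, j3)` of maps `S → S ⊗ S ⊗ S` -/
noncomputable abbrev h23 : extR (j2 R S) (dmod D) ⟶ extR (j3 R S) (dmod D) :=
  homE D (rt R S ≫ j1 R S) (j2 R S) (j3 R S) (hop _ _ (rt_j2 (R := R) (S := S)))
    (hop _ _ (rt_j3 (R := R) (S := S)))

theorem h23_oneT (n : dmod D) :
    h23 D (oneT (j2 R S).hom (dmod D) n) =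
      bc (ri2 R S).hom (p23 R S).hom (j3 R S).hom (hcR _ _ _ rfl) (dmod D) (phiFlat D n) :=
  homE_pull D (p23 R S) (rt R S ≫ ri1 R S) (rt R S ≫ j1 R S)
    (by rw [Category.assoc]; exact rt_j2 (R := R) (S := S)) (ri1 R S) (ri2 R S)
    (hop _ _ rfl) (hop _ _ (rt_ri2 R S)) (j2 R S) (j3 R S) rfl rfl _ _ n

/-- (B) -/
theorem Gmap_psi (w : extR (ri2 R S) (dmod D)) :
    Psi3 D (h23 D (bc (ri2 R S).hom (p12 R S).hom (j2 R S).hom
      (hcR _ _ _ (ri2_p12 R S)) (dmod D) w)) = GmapN D (psi (dmod D) w) := by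
  induction w using ext_induction with
  | zero => rw [map_zero, map_zero, map_zero, map_zero, Psi3_zero]
  | tmul x n =>
    rw [bc_smul_oneT, map_smul, h23_oneT, Psi3_smul_bc, psi_smul_oneT']
    induction x using TensorProduct.induction_on with
    | zero => simp
    | tmul b c =>
      rw [mu_tmul, GmapN_smul_oneG, p12_tmul, mu_tmul, Gpsi_smul_oneG, psi_iL_smul, coact_smul]
      rfl
    | add x y hx hy => rw [map_add, map_add, map_add, map_add, map_add, hx, hy]
  | add x y hx hy => rw [map_add, map_add, map_add, map_add, Psi3_add, hx, hy]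

theorem coassoc_apply (n : dmod D) : deltaN D (coact D n) = GmapN D (coact D n) := by
  have e13 := homE_pull D (p13 R S) (rt R S ≫ ri1 R S) (rt R S ≫ j1 R S)
    (by rw [Category.assoc, ri1_p13]) (ri1 R S) (ri2 R S)
    (hop _ _ rfl) (hop _ _ (rt_ri2 R S)) (j1 R S) (j3 R S) (ri1_p13 R S) (ri2_p13 R S)
    (hop _ _ rfl) (hop _ _ (rt_j3 (R := R) (S := S))) n
  have e12 := homE_pull D (p12 R S) (rt R S ≫ ri1 R S) (rt R S ≫ j1 R S)
    (by rw [Category.assoc, ri1_p12]) (ri1 R S) (ri2 R S)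
    (hop _ _ rfl) (hop _ _ (rt_ri2 R S)) (j1 R S) (j2 R S) (ri1_p12 R S) (ri2_p12 R S)
    (hop _ _ rfl) (hop _ _ (rt_j2 (R := R) (S := S))) n
  have ec := homE_comp D (rt R S ≫ j1 R S) (j1 R S) (j2 R S) (j3 R S) (hop _ _ rfl)
    (hop _ _ (rt_j2 (R := R) (S := S))) (hop _ _ (rt_j3 (R := R) (S := S)))
    (oneT (j1 R S).hom (dmod D) n)
  unfold coact
  rw [delta_psi, ← Gmap_psi]
  congr 1
  change _ = h23 D _
  unfold phiFlat
  rw [← e13, ← e12, ec]

/-! ### the coalgebra of a descent datum, and effectivity -/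

/-- the coalgebra (for the comonad `S ⊗[R] -`) of a descent datum -/
noncomputable def coalg : Comonad.Coalgebra (GG (R := R) (S := S)) where
  A := dmod D
  a := coactHom D
  counit := by
    ext n
    exact eps_coact D n
  coassoc := by
    ext n
    exact coassoc_apply D n

end coalg

section main

variable [Module.FaithfullyFlat R S]

theorem comparison_isEquivalence :
    (Comonad.comparison (radj (R := R) (S := S))).IsEquivalence := by
  have hf : (algebraMap R S).FaithfullyFlat :=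
    (RingHom.faithfullyFlat_algebraMap_iff).mpr inferInstance
  have := ModuleCat.preservesFiniteLimits_extendScalars_of_flat.{u} hf.flat
  have := ModuleCat.reflectsIsomorphisms_extendScalars_of_faithfullyFlat.{u} hf
  haveI : Comonad.HasEqualizerOfIsCosplitPair (ModuleCat.extendScalars.{u, u, u} (algebraMap R S)) :=
    ⟨inferInstance⟩
  haveI : Comonad.PreservesLimitOfIsCosplitPair
      (ModuleCat.extendScalars.{u, u, u} (algebraMap R S)) := ⟨inferInstance⟩
  exact (Comonad.comonadicOfHasPreservesFSplitEqualizersOfReflectsIsomorphisms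
    (radj (R := R) (S := S))).eqv

variable {R S}

/-- the iso of coalgebras gives the key identity `φ(1 ⊗ x) = 1 ⊗ x` on the image of `M` -/
theorem phiFlat_eq_of_iso (D : ringModPF.{u}.DescentData (fun _ : PUnit.{u + 1} => (rt R S).op))
    (M : ModuleCat.{u} R)
    (e : (Comonad.comparison (radj (R := R) (S := S))).obj M ≅ coalg D) (m : M) :
    phiFlat D (e.hom.f (oneT (algebraMap R S) M m)) =
      oneT (ri2 R S).hom (dmod D) (e.hom.f (oneT (algebraMap R S) M m)) := by
  apply psi_injective (dmod D)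
  have h := congrArg (fun (k : extR (rt R S) M ⟶ GN R S (dmod D)) =>
    k (oneT (algebraMap R S) M m)) e.hom.h
  have h' : psi (dmod D) (phiFlat D (e.hom.f (oneT (algebraMap R S) M m))) =
      oneG R S (dmod D) (e.hom.f (oneT (algebraMap R S) M m)) := h.symm
  exact h'.trans (psi_oneT' D _).symm

theorem c_ri1 : CompCond (rt R S).op (ri1 R S).op (rt R S ≫ ri1 R S).op := rfl

theorem c_ri2 : CompCond (rt R S).op (ri2 R S).op (rt R S ≫ ri1 R S).op := by
  rw [← rt_ri2]
  rfl

/-- the comparison isomorphism of the canonical descent datum, on `1 ⊗ (1 ⊗ m)` -/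
theorem can_oneT (M : ModuleCat.{u} R) (m : M) :
    (rcompIso (rt R S) (ri2 R S) (rt R S ≫ ri1 R S) c_ri2 M).hom
      ((rcompIso (rt R S) (ri1 R S) (rt R S ≫ ri1 R S) c_ri1 M).inv
        (oneT (ri1 R S).hom _ (oneT (rt R S).hom M m))) =
      oneT (ri2 R S).hom _ (oneT (rt R S).hom M m) := by
  rw [rcompIso_inv_oneT _ _ _ rfl, rcompIso_hom_oneT _ _ _ (rt_ri2 R S)]

theorem comm_ext (D : ringModPF.{u}.DescentData (fun _ : PUnit.{u + 1} => (rt R S).op))
    (M : ModuleCat.{u} R) (ε : extR (rt R S) M ≅ dmod D)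
    (key : ∀ m : M, phiFlat D (ε.hom (oneT (rt R S).hom M m)) =
      oneT (ri2 R S).hom (dmod D) (ε.hom (oneT (rt R S).hom M m))) :
    (ModuleCat.extendScalars (ri1 R S).hom).map ε.hom ≫
        homE D (rt R S ≫ ri1 R S) (ri1 R S) (ri2 R S) (hop _ _ rfl) (hop _ _ (rt_ri2 R S)) =
      ((rcompIso (rt R S) (ri1 R S) (rt R S ≫ ri1 R S) c_ri1 M).inv ≫
          (rcompIso (rt R S) (ri2 R S) (rt R S ≫ ri1 R S) c_ri2 M).hom) ≫
        (ModuleCat.extendScalars (ri2 R S).hom).map ε.hom := by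
  apply hom_ext_oneT
  intro x
  induction x using ext_induction with
  | zero => rw [oneT_zero, map_zero, map_zero]
  | tmul s m =>
    rw [oneT_smul, map_smul, map_smul]
    congr 1
    change homE D (rt R S ≫ ri1 R S) (ri1 R S) (ri2 R S) (hop _ _ rfl) (hop _ _ (rt_ri2 R S))
      ((ModuleCat.extendScalars (ri1 R S).hom).map ε.hom
        (oneT (ri1 R S).hom _ (oneT (rt R S).hom M m))) =
      (ModuleCat.extendScalars (ri2 R S).hom).map ε.hom
        ((rcompIso (rt R S) (ri2 R S) (rt R S ≫ ri1 R S) c_ri2 M).hom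
          ((rcompIso (rt R S) (ri1 R S) (rt R S ≫ ri1 R S) c_ri1 M).inv
            (oneT (ri1 R S).hom _ (oneT (rt R S).hom M m))))
    rw [map_oneT, can_oneT, map_oneT]
    exact key m
  | add x y hx hy => rw [oneT_add, map_add, map_add, hx, hy]

theorem nonempty_iso_of_key (D : ringModPF.{u}.DescentData (fun _ : PUnit.{u + 1} => (rt R S).op))
    (M : ModuleCat.{u} R) (ε : extR (rt R S) M ≅ dmod D)
    (key : ∀ m : M, phiFlat D (ε.hom (oneT (rt R S).hom M m)) =
      oneT (ri2 R S).hom (dmod D) (ε.hom (oneT (rt R S).hom M m))) :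
    Nonempty ((ringModPF.{u}.toDescentData (fun _ : PUnit.{u + 1} => (rt R S).op)).obj M ≅ D) := by
  have hpb : IsPullback (ri1 R S).op (ri2 R S).op (rt R S).op (rt R S).op :=
    (CommRingCat.isPushout_tensorProduct R S S).op.flip
  refine nonempty_iso_of_comm' (F := ringModPF.{u}) (t := (rt R S).op) (ri1 R S).op (ri2 R S).op
    (rt R S ≫ ri1 R S).op (hop _ _ rfl) (hop _ _ (rt_ri2 R S)) hpb _ D ε ?_
  rw [dhom_toDescentData (F := ringModPF.{u}) (t := (rt R S).op) M (rt R S ≫ ri1 R S).op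
      (ri1 R S).op (ri2 R S).op (hop _ _ rfl) (hop _ _ (rt_ri2 R S)) c_ri1 c_ri2, homE_eq,
    rmcIso_eq (rt R S) (ri1 R S) _ c_ri1 M, rmcIso_eq (rt R S) (ri2 R S) _ c_ri2 M]
  erw [rpull_map_eq (ri1 R S) ε.hom, rpull_map_eq (ri2 R S) ε.hom]
  exact comm_ext D M ε key

variable (R S) in
/-- **Faithfully flat descent of modules is effective** (for Mathlib's descent data of the
pseudofunctor `Desc.ringModPF`, relative to a faithfully flat ring map `R → S`). -/
theorem effective (D : ringModPF.{u}.DescentData (fun _ : PUnit.{u + 1} => (rt R S).op)) :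
    ∃ M : ModuleCat.{u} R,
      Nonempty ((ringModPF.{u}.toDescentData (fun _ : PUnit.{u + 1} => (rt R S).op)).obj M ≅ D) := by
  haveI := comparison_isEquivalence R S
  let M := (Comonad.comparison (radj (R := R) (S := S))).objPreimage (coalg D)
  let e : (Comonad.comparison (radj (R := R) (S := S))).obj M ≅ coalg D :=
    (Comonad.comparison (radj (R := R) (S := S))).objObjPreimageIso (coalg D)
  let ε : extR (rt R S) M ≅ dmod D := (Comonad.forget (GG (R := R) (S := S))).mapIso e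
  exact ⟨M, nonempty_iso_of_key D M ε (fun m => phiFlat_eq_of_iso D M e m)⟩

end main

end Groth.Agent.H92.RingCoalg
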