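import Mathlib
import Groth.Prelude.Def_Desc
import Groth.Prelude.Def_Pi1
import Groth.Agent.H92.RingCoalg
import Groth.Agent.H92.PureSplit

/-!
# Descent of modules along universally injective ring maps (helper92)

Effectivity of descent data (for `Desc.ringModPF`) along a universally injective ring map `R → S`
(Stacks 08XA), via the coalgebra of a descent datum (`Groth.Agent.H92.RingCoalg`) and the
character-module splitting trick (`Groth.Agent.H92.PureSplit`).
-/

set_option autoImplicit false
universe u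
open CategoryTheory Opposite TensorProduct ChangeOfRings Limits

namespace Groth.Agent.H92.PureDesc

attribute [-instance] CategoryTheory.catToReflQuiver

open Groth.Agent.H92.WittDescFF (oneT bc CompCond pull mcIso oneT_add oneT_smul oneT_zero map_oneT
  hom_ext_oneT ext_induction bc_smul_oneT)
open Groth.Agent.H92.DescGen Groth.Agent.H92.RingDesc Groth.Agent.H92.RingSquare Desc
open Groth.Agent.H92.RingCoalg Groth.Agent.H92.PureSplit

variable (R S : Type u) [CommRing R] [CommRing S] [Algebra R S]

/-- `S` as an `R`-module through `algebraMap R S`: the first factor of the tensor product underlying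
an extension of scalars -/
abbrev QS : Type u := ((ModuleCat.restrictScalars (algebraMap R S)).obj (ModuleCat.of S S))

/-- the identity, as an `R`-linear equivalence `S ≃ QS` -/
noncomputable def e₀ : S ≃ₗ[R] QS R S where
  toFun s := s
  invFun s := s
  left_inv _ := rfl
  right_inv _ := rfl
  map_add' _ _ := rfl
  map_smul' r s := Algebra.smul_def r s

/-- `1 : S`, as an element of `QS` -/
def oneQ : QS R S := (1 : S)

theorem univInj_of (h : Pi1.UnivInjective R S) : UnivInj R (oneQ R S) := by
  intro P _ _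
  have h1 := h P
  have : LinearMap.lTensor P (iota R (oneQ R S)) =
      (LinearMap.lTensor P (e₀ R S).toLinearMap) ∘ₗ LinearMap.lTensor P (Algebra.linearMap R S) := by
    rw [← LinearMap.lTensor_comp]
    congr 1
    ext
    change (1 : R) • (oneQ R S) = algebraMap R S 1
    rw [one_smul, map_one]
    rfl
  rw [this]
  exact (LinearEquiv.lTensor P (e₀ R S)).injective.comp h1

section glue

variable {R S}

set_option backward.isDefEq.respectTransparency false in
/-- an element of an extension of scalars, as an element of the underlying plain tensor product -/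
def toT (M : ModuleCat.{u} R) (z : (ModuleCat.extendScalars (algebraMap R S)).obj M) :
    QS R S ⊗[R] M := z

set_option backward.isDefEq.respectTransparency false in
/-- an element of the plain tensor product, as an element of the extension of scalars -/
def ofT (M : ModuleCat.{u} R) (z : QS R S ⊗[R] M) :
    (ModuleCat.extendScalars (algebraMap R S)).obj M := z

theorem ofT_toT (M : ModuleCat.{u} R) (z : (ModuleCat.extendScalars (algebraMap R S)).obj M) :
    ofT M (toT M z) = z := rfl

theorem toT_ofT (M : ModuleCat.{u} R) (z : QS R S ⊗[R] M) : toT M (ofT M z) = z := rfl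

theorem toT_add (M : ModuleCat.{u} R) (z z' : (ModuleCat.extendScalars (algebraMap R S)).obj M) :
    toT M (z + z') = toT M z + toT M z' := rfl

theorem toT_zero (M : ModuleCat.{u} R) :
    toT M (0 : (ModuleCat.extendScalars (algebraMap R S)).obj M) = 0 := rfl

set_option backward.isDefEq.respectTransparency false in
/-- `s ⊗ m`, as an element of the plain tensor product underlying the extension of scalars -/
theorem toT_smul_oneT (M : ModuleCat.{u} R) (s : S) (m : M) :
    toT M (s • oneT (algebraMap R S) M m) = e₀ R S s ⊗ₜ[R] m := by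
  simp only [oneT, toT]
  rw [ModuleCat.ExtendScalars.smul_tmul, mul_one]
  rfl

/-- on an extension of scalars, the `R`-action through `S` is the `R`-action of the tensor product -/
theorem toT_algebraMap_smul (M : ModuleCat.{u} R) (r : R)
    (z : (ModuleCat.extendScalars (algebraMap R S)).obj M) :
    toT M ((algebraMap R S r) • z) = r • toT M z := by
  induction z using ext_induction with
  | zero => rw [smul_zero, toT_zero, smul_zero]
  | tmul s m =>
    rw [smul_smul, toT_smul_oneT, toT_smul_oneT, TensorProduct.smul_tmul', ← map_smul,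
      Algebra.smul_def]
  | add x y hx hy => rw [smul_add, toT_add, hx, hy, toT_add, smul_add]

end glue

section eff

variable {R S}
variable (D : ringModPF.{u}.DescentData (fun _ : PUnit.{u + 1} => (rt R S).op))

/-- the module of the descent datum, as an `R`-module -/
noncomputable abbrev NR : ModuleCat.{u} R :=
  (ModuleCat.restrictScalars (algebraMap R S)).obj (dmod D)

/-- `S ⊗[R] N`, as an `R`-module -/
noncomputable abbrev GR : ModuleCat.{u} R :=
  (ModuleCat.restrictScalars (algebraMap R S)).obj (GN R S (dmod D))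

/-- an element of `N` as an `R`-module, as an element of `N` -/
def toN (n : NR D) : dmod D := n

/-- an element of an `S`-module, as an element of its restriction of scalars -/
def toRes (N : ModuleCat.{u} S) (n : N) : (ModuleCat.restrictScalars (algebraMap R S)).obj N := n

theorem toN_add (n n' : NR D) : toN D (n + n') = toN D n + toN D n' := rfl

theorem toN_smul (r : R) (n : NR D) : toN D (r • n) = algebraMap R S r • toN D n := rfl

/-- the coaction, as an `R`-linear map into the plain tensor product -/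
noncomputable def thetaP : NR D →ₗ[R] QS R S ⊗[R] NR D where
  toFun n := toT (NR D) (coact D (toN D n))
  map_add' n n' := by
    rw [toN_add, coact_add]
    rfl
  map_smul' r n := by
    rw [toN_smul, coact_smul, toT_algebraMap_smul]
    rfl

theorem thetaP_apply (n : NR D) : thetaP D n = toT (NR D) (coact D (toN D n)) := rfl

/-- `n ↦ 1 ⊗ n` -/
noncomputable abbrev etaP : NR D →ₗ[R] QS R S ⊗[R] NR D :=
  TensorProduct.mk R (QS R S) (NR D) (oneQ R S)

/-- the identity `S ⊗[R] N → S ⊗[R] N`, from the module structure through `S` to the one of the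
tensor product -/
noncomputable def iotaP : GR D ≃ₗ[R] QS R S ⊗[R] NR D where
  toFun := toT (NR D)
  invFun := ofT (NR D)
  left_inv _ := rfl
  right_inv _ := rfl
  map_add' _ _ := rfl
  map_smul' r z := toT_algebraMap_smul (NR D) r z

theorem iotaP_apply (z : GN R S (dmod D)) : iotaP D z = toT (NR D) z := rfl

theorem lemA (z : GN R S (dmod D)) :
    (iotaP D).toLinearMap.lTensor (QS R S) (toT (GR D) (GmapN D z)) =
      (thetaP D).lTensor (QS R S) (toT (NR D) z) := by
  induction z using ext_induction with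
  | zero => rw [map_zero, toT_zero, toT_zero, map_zero, map_zero]
  | tmul s n =>
    have h1 := GmapN_smul_oneG D s n
    have h2 : toT (GR D) (s • oneG R S (GN R S (dmod D)) (coact D n)) =
        e₀ R S s ⊗ₜ[R] toRes (GN R S (dmod D)) (coact D n) := toT_smul_oneT (GR D) s (coact D n)
    rw [h1, h2, toT_smul_oneT, LinearMap.lTensor_tmul, LinearMap.lTensor_tmul]
    rfl
  | add x y hx hy => rw [map_add, toT_add, toT_add, map_add, map_add, hx, hy]

theorem lemB (z : GN R S (dmod D)) :
    (iotaP D).toLinearMap.lTensor (QS R S) (toT (GR D) (deltaN D z)) =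
      (etaP D).lTensor (QS R S) (toT (NR D) z) := by
  induction z using ext_induction with
  | zero => rw [map_zero, toT_zero, toT_zero, map_zero, map_zero]
  | tmul s n =>
    have h1 := deltaN_smul_oneG D s n
    have h2 : toT (GR D) (s • oneG R S (GN R S (dmod D)) (oneG R S (dmod D) n)) =
        e₀ R S s ⊗ₜ[R] toRes (GN R S (dmod D)) (oneG R S (dmod D) n) :=
      toT_smul_oneT (GR D) s (oneG R S (dmod D) n)
    rw [h1, h2, toT_smul_oneT, LinearMap.lTensor_tmul, LinearMap.lTensor_tmul]
    rfl
  | add x y hx hy => rw [map_add, toT_add, toT_add, map_add, map_add, hx, hy]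

theorem coassocP (n : NR D) :
    (thetaP D).lTensor (QS R S) (thetaP D n) = (etaP D).lTensor (QS R S) (thetaP D n) := by
  rw [thetaP_apply, ← lemA, ← lemB, coassoc_apply]

/-- the descended module: the equalizer of `n ↦ 1 ⊗ n` and the coaction -/
noncomputable abbrev Meq : Submodule R (NR D) := LinearMap.ker (etaP D - thetaP D)

/-- the descended module, as an object -/
noncomputable abbrev Mcat : ModuleCat.{u} R := ModuleCat.of R (Meq D)

/-- the inclusion `M → N`, as a morphism of `R`-modules -/
noncomputable def incl : Mcat D ⟶ NR D :=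
  ModuleCat.ofHom (X := Meq D) (Y := NR D) (Meq D).subtype

theorem incl_mem (m : Mcat D) : etaP D (incl D m) = thetaP D (incl D m) := by
  have hm : (incl D m) ∈ Meq D := Subtype.property (p := fun x => x ∈ Meq D) m
  rw [LinearMap.mem_ker, LinearMap.sub_apply, sub_eq_zero] at hm
  exact hm

/-- `S ⊗[R] M` -/
noncomputable abbrev FM : ModuleCat.{u} S := (ModuleCat.extendScalars (algebraMap R S)).obj (Mcat D)

/-- `S ⊗[R] M → N`, `s ⊗ m ↦ s m` -/
noncomputable def kappa : FM D ⟶ dmod D :=
  (ModuleCat.extendScalars (algebraMap R S)).map (incl D) ≫ eps D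

theorem kappa_apply (z : FM D) :
    kappa D z = eps D ((ModuleCat.extendScalars (algebraMap R S)).map (incl D) z) := rfl

theorem coact_mem (m : Mcat D) :
    coact D (toN D (incl D m)) = oneG R S (dmod D) (toN D (incl D m)) := by
  have hm := incl_mem D m
  have h1 : toT (NR D) (coact D (toN D (incl D m))) =
      toT (NR D) (oneG R S (dmod D) (toN D (incl D m))) := by
    rw [← thetaP_apply, ← hm]
    have := toT_smul_oneT (NR D) (1 : S) (incl D m)
    rw [one_smul] at this
    exact this.symm
  exact h1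

theorem coact_kappa (z : FM D) :
    coact D (kappa D z) = (ModuleCat.extendScalars (algebraMap R S)).map (incl D) z := by
  induction z using ext_induction with
  | zero => rw [map_zero, map_zero]; exact (coactLin D).map_zero
  | tmul s m =>
    rw [kappa_apply, map_smul, map_smul, map_oneT]
    have h1 : eps D (oneT (algebraMap R S) (NR D) (incl D m)) = toN D (incl D m) :=
      eps_oneG D (toN D (incl D m))
    rw [h1, coact_smul, coact_mem]
    rfl
  | add x y hx hy => rw [map_add, map_add, coact_add, hx, hy]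

theorem toT_map_incl (z : FM D) :
    toT (NR D) ((ModuleCat.extendScalars (algebraMap R S)).map (incl D) z) =
      (Meq D).subtype.lTensor (QS R S) (toT (Mcat D) z) := by
  induction z using ext_induction with
  | zero => rw [map_zero, toT_zero, toT_zero, map_zero]
  | tmul s m =>
    rw [map_smul, map_oneT, toT_smul_oneT, toT_smul_oneT, LinearMap.lTensor_tmul]
    rfl
  | add x y hx hy => rw [map_add, toT_add, toT_add, map_add, hx, hy]

theorem coact_injective : Function.Injective (coact D) := by
  intro n n' hn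
  rw [← eps_coact D n, ← eps_coact D n', hn]

theorem kappa_bijective (h : Pi1.UnivInjective R S) : Function.Bijective (kappa D) := by
  obtain ⟨σ, hσ⟩ := exists_sigma (univInj_of R S h)
  obtain ⟨hinj, hex⟩ := main_split σ (oneQ R S) hσ (thetaP D) (coassocP D)
  constructor
  · intro z z' hz
    have h1 : (ModuleCat.extendScalars (algebraMap R S)).map (incl D) z =
        (ModuleCat.extendScalars (algebraMap R S)).map (incl D) z' := by
      rw [← coact_kappa, ← coact_kappa, hz]
    have h2 := congrArg (toT (NR D)) h1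
    rw [toT_map_incl, toT_map_incl] at h2
    exact hinj h2
  · intro n
    have h0 : (etaP D - thetaP D).lTensor (QS R S) (thetaP D (toRes (dmod D) n)) = 0 := by
      rw [LinearMap.lTensor_sub, LinearMap.sub_apply, coassocP, sub_self]
    obtain ⟨z', hz'⟩ := hex _ h0
    refine ⟨ofT (Mcat D) z', ?_⟩
    apply coact_injective D
    rw [coact_kappa]
    have : toT (NR D) ((ModuleCat.extendScalars (algebraMap R S)).map (incl D) (ofT (Mcat D) z')) =
        toT (NR D) (coact D n) := by
      rw [toT_map_incl, toT_ofT, hz']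
      rfl
    exact this

/-! ### copies of the lemmas of `RingCoalg` (`section main`) without the faithful flatness instance -/

theorem c_ri1' : CompCond (rt R S).op (ri1 R S).op (rt R S ≫ ri1 R S).op := rfl

theorem c_ri2' : CompCond (rt R S).op (ri2 R S).op (rt R S ≫ ri1 R S).op := by
  rw [← rt_ri2]
  rfl

/-- the comparison isomorphism of the canonical descent datum, on `1 ⊗ (1 ⊗ m)` -/
theorem can_oneT' (M : ModuleCat.{u} R) (m : M) :
    (rcompIso (rt R S) (ri2 R S) (rt R S ≫ ri1 R S) c_ri2' M).hom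
      ((rcompIso (rt R S) (ri1 R S) (rt R S ≫ ri1 R S) c_ri1' M).inv
        (oneT (ri1 R S).hom _ (oneT (rt R S).hom M m))) =
      oneT (ri2 R S).hom _ (oneT (rt R S).hom M m) := by
  rw [rcompIso_inv_oneT _ _ _ rfl, rcompIso_hom_oneT _ _ _ (rt_ri2 R S)]

theorem comm_ext' (M : ModuleCat.{u} R) (ε : extR (rt R S) M ≅ dmod D)
    (key : ∀ m : M, phiFlat D (ε.hom (oneT (rt R S).hom M m)) =
      oneT (ri2 R S).hom (dmod D) (ε.hom (oneT (rt R S).hom M m))) :
    (ModuleCat.extendScalars (ri1 R S).hom).map ε.hom ≫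
        homE D (rt R S ≫ ri1 R S) (ri1 R S) (ri2 R S) (hop _ _ rfl) (hop _ _ (rt_ri2 R S)) =
      ((rcompIso (rt R S) (ri1 R S) (rt R S ≫ ri1 R S) c_ri1' M).inv ≫
          (rcompIso (rt R S) (ri2 R S) (rt R S ≫ ri1 R S) c_ri2' M).hom) ≫
        (ModuleCat.extendScalars (ri2 R S).hom).map ε.hom := by
  apply hom_ext_oneT
  intro x
  induction x using ext_induction with
  | zero => rw [oneT_zero, map_zero, map_zero]
  | tmul s m =>
    rw [oneT_smul, map_smul, map_smul]
    congr 1
    change homE D (rt R S ≫ ri1 R S) (ri1 R S) (ri2 R S) (hop _ _ rfl) (hop _ _ (rt_ri2 R S))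
      ((ModuleCat.extendScalars (ri1 R S).hom).map ε.hom
        (oneT (ri1 R S).hom _ (oneT (rt R S).hom M m))) =
      (ModuleCat.extendScalars (ri2 R S).hom).map ε.hom
        ((rcompIso (rt R S) (ri2 R S) (rt R S ≫ ri1 R S) c_ri2' M).hom
          ((rcompIso (rt R S) (ri1 R S) (rt R S ≫ ri1 R S) c_ri1' M).inv
            (oneT (ri1 R S).hom _ (oneT (rt R S).hom M m))))
    rw [map_oneT, can_oneT', map_oneT]
    exact key m
  | add x y hx hy => rw [oneT_add, map_add, map_add, hx, hy]

theorem nonempty_iso_of_key' (M : ModuleCat.{u} R) (ε : extR (rt R S) M ≅ dmod D)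
    (key : ∀ m : M, phiFlat D (ε.hom (oneT (rt R S).hom M m)) =
      oneT (ri2 R S).hom (dmod D) (ε.hom (oneT (rt R S).hom M m))) :
    Nonempty ((ringModPF.{u}.toDescentData (fun _ : PUnit.{u + 1} => (rt R S).op)).obj M ≅ D) := by
  have hpb : IsPullback (ri1 R S).op (ri2 R S).op (rt R S).op (rt R S).op :=
    (CommRingCat.isPushout_tensorProduct R S S).op.flip
  refine nonempty_iso_of_comm' (F := ringModPF.{u}) (t := (rt R S).op) (ri1 R S).op (ri2 R S).op
    (rt R S ≫ ri1 R S).op (hop _ _ rfl) (hop _ _ (rt_ri2 R S)) hpb _ D ε ?_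
  rw [dhom_toDescentData (F := ringModPF.{u}) (t := (rt R S).op) M (rt R S ≫ ri1 R S).op
      (ri1 R S).op (ri2 R S).op (hop _ _ rfl) (hop _ _ (rt_ri2 R S)) c_ri1' c_ri2', homE_eq,
    rmcIso_eq (rt R S) (ri1 R S) _ c_ri1' M, rmcIso_eq (rt R S) (ri2 R S) _ c_ri2' M]
  erw [rpull_map_eq (ri1 R S) ε.hom, rpull_map_eq (ri2 R S) ε.hom]
  exact comm_ext' D M ε key

theorem kappa_oneT (m : Mcat D) :
    kappa D (oneT (algebraMap R S) (Mcat D) m) = toN D (incl D m) := by
  rw [kappa_apply, map_oneT]
  exact eps_oneG D (toN D (incl D m))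

theorem phiFlat_mem (m : Mcat D) :
    phiFlat D (toN D (incl D m)) = oneT (ri2 R S).hom (dmod D) (toN D (incl D m)) := by
  apply psi_injective (dmod D)
  rw [psi_oneT']
  exact coact_mem D m

/-- **Descent data along a universally injective ring map are effective.** -/
theorem effective_of_univInjective (h : Pi1.UnivInjective R S) :
    ∃ M : ModuleCat.{u} R,
      Nonempty ((ringModPF.{u}.toDescentData (fun _ : PUnit.{u + 1} => (rt R S).op)).obj M ≅ D) := by
  let ε : extR (rt R S) (Mcat D) ≅ dmod D :=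
    (LinearEquiv.ofBijective (kappa D).hom (kappa_bijective D h)).toModuleIso
  refine ⟨Mcat D, nonempty_iso_of_key' D (Mcat D) ε ?_⟩
  intro m
  have h1 : ε.hom (oneT (rt R S).hom (Mcat D) m) = toN D (incl D m) := kappa_oneT D m
  rw [h1]
  exact phiFlat_mem D m

end eff

/-! ### full faithfulness -/

section ff

variable {A B T : CommRingCat.{u}} (t : A ⟶ B) (i₁ i₂ : B ⟶ T)

theorem rptwise (q : A ⟶ T) (hq₁ : t ≫ i₁ = q) (hq₂ : t ≫ i₂ = q)
    (h1' : CompCond t.op i₁.op q.op) (h2' : CompCond t.op i₂.op q.op)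
    (M N : ModuleCat.{u} A) (G : extR t M ⟶ extR t N)
    (comm : (ModuleCat.extendScalars i₁.hom).map G ≫
      (rcompIso t i₁ q h1' N).inv ≫ (rcompIso t i₂ q h2' N).hom =
      (rcompIso t i₁ q h1' M).inv ≫ (rcompIso t i₂ q h2' M).hom ≫
        (ModuleCat.extendScalars i₂.hom).map G) (m : M) :
    bc t.hom i₁.hom q.hom (hcR t i₁ q hq₁) N (G (oneT t.hom M m)) =
      bc t.hom i₂.hom q.hom (hcR t i₂ q hq₂) N (G (oneT t.hom M m)) := by
  rw [← rL_eq_bc t i₁ q hq₁ h1' N, ← rL_eq_bc t i₂ q hq₂ h2' N]
  have e := congrArg (fun (k : extR i₁ (extR t M) ⟶ extR i₂ (extR t N)) =>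
      k (oneT i₁.hom _ (oneT t.hom M m))) comm
  have e' : (rcompIso t i₂ q h2' N).hom
        ((rcompIso t i₁ q h1' N).inv
          ((ModuleCat.extendScalars i₁.hom).map G
            (oneT i₁.hom _ (oneT t.hom M m)))) =
        (ModuleCat.extendScalars i₂.hom).map G
          ((rcompIso t i₂ q h2' M).hom
            ((rcompIso t i₁ q h1' M).inv
              (oneT i₁.hom _ (oneT t.hom M m)))) := e
  rw [rcompIso_inv_oneT t i₁ q hq₁ h1' M m,
      rcompIso_hom_oneT t i₂ q hq₂ h2' M m, map_oneT, map_oneT] at e'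
  have e'' := congrArg (fun y => (rcompIso t i₂ q h2' N).inv y) e'
  simp only [Iso.hom_inv_id_apply] at e''
  exact e''

theorem rptwiseF (q : A ⟶ T) (hq₁ : t ≫ i₁ = q) (hq₂ : t ≫ i₂ = q)
    (h1' : CompCond t.op i₁.op q.op) (h2' : CompCond t.op i₂.op q.op)
    (M N : ModuleCat.{u} A)
    (G : (pull ringModPF.{u} t.op).obj M ⟶ (pull ringModPF.{u} t.op).obj N)
    (comm : Groth.Agent.H92.WittDescFF.CommCond ringModPF.{u} t.op i₁.op i₂.op q.op M N h1' h2' G)
    (m : M) :
    ∃ G' : extR t M ⟶ extR t N, G' = G ∧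
    bc t.hom i₁.hom q.hom (hcR t i₁ q hq₁) N (G' (oneT t.hom M m)) =
      bc t.hom i₂.hom q.hom (hcR t i₂ q hq₂) N (G' (oneT t.hom M m)) := by
  unfold Groth.Agent.H92.WittDescFF.CommCond at comm
  rw [rmcIso_eq t i₁ q h1' N, rmcIso_eq t i₂ q h2' N,
    rmcIso_eq t i₁ q h1' M, rmcIso_eq t i₂ q h2' M] at comm
  rw [rpull_map_eq i₁ G, rpull_map_eq i₂ G] at comm
  erw [Category.assoc] at comm
  exact ⟨G, rfl, rptwise t i₁ i₂ q hq₁ hq₂ h1' h2' M N G comm m⟩

variable (hq : t ≫ i₂ = t ≫ i₁) (N : ModuleCat.{u} A)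
  (hinjN : Function.Injective (oneT t.hom N))
  (hexN : ∀ x : extR t N,
    bc t.hom i₁.hom (t ≫ i₁).hom (hcR _ _ _ rfl) N x =
      bc t.hom i₂.hom (t ≫ i₁).hom (hcR _ _ _ hq) N x → ∃ m : N, x = oneT t.hom N m)

include hinjN in
theorem rinj_abs (M : ModuleCat.{u} A) :
    Function.Injective (fun φ : M ⟶ N =>
      (ringModPF.{u}.toDescentData (fun _ : PUnit.{u + 1} => t.op)).map φ) := by
  intro φ ψ h
  have key : (ModuleCat.extendScalars t.hom).map φ = (ModuleCat.extendScalars t.hom).map ψ :=
    congrArg (fun k => Pseudofunctor.DescentData.Hom.hom k PUnit.unit) h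
  ext m
  apply hinjN
  have := congrArg (fun (k : extR t M ⟶ extR t N) => k (oneT t.hom M m)) key
  simp only [map_oneT] at this
  exact this

include hinjN hexN in
theorem rsurj_abs (M : ModuleCat.{u} A) :
    Function.Surjective (fun φ : M ⟶ N =>
      (ringModPF.{u}.toDescentData (fun _ : PUnit.{u + 1} => t.op)).map φ) := by
  have hf₁ : i₁.op ≫ t.op = (t ≫ i₁).op := rfl
  have hf₂ : i₂.op ≫ t.op = (t ≫ i₁).op := by
    rw [← op_comp, hq]
  have h1' : CompCond t.op i₁.op (t ≫ i₁).op := rfl
  have h2' : CompCond t.op i₂.op (t ≫ i₁).op := by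
    rw [← hq]; rfl
  refine Groth.Agent.H92.WittDescFF.surj_of ringModPF.{u} t.op i₁.op i₂.op (t ≫ i₁).op hf₁ hf₂
    M N h1' h2' ?_
  intro G comm
  obtain ⟨G', hG'⟩ : ∃ G' : extR t M ⟶ extR t N, G' = G := ⟨G, rfl⟩
  have key : ∀ m : M, ∃ m' : N, G' (oneT t.hom M m) = oneT t.hom N m' := by
    intro m
    obtain ⟨G'', hG'', hbc⟩ := rptwiseF t i₁ i₂ (t ≫ i₁) rfl hq h1' h2' M N G comm m
    obtain rfl : G'' = G' := hG''.trans hG'.symm
    exact hexN _ hbc
  choose φ₀ hφ₀ using key
  have hadd : ∀ m m', φ₀ (m + m') = φ₀ m + φ₀ m' := by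
    intro m m'
    apply hinjN
    rw [← hφ₀, oneT_add, oneT_add, map_add, hφ₀, hφ₀]
  have hsmul : ∀ (a : A) (m : M), φ₀ (a • m) = a • φ₀ m := by
    intro a m
    apply hinjN
    rw [← hφ₀, oneT_smul, oneT_smul, map_smul, hφ₀]
  let φ : M ⟶ N := ModuleCat.ofHom { toFun := φ₀, map_add' := hadd, map_smul' := hsmul }
  refine ⟨φ, ?_⟩
  rw [← hG']
  rw [rpull_map_eq]
  apply hom_ext_oneT
  intro m
  rw [map_oneT, hφ₀]
  rfl

end ff

section amitsurConcrete

/-- `S ⊗[R] S` as an `R`-module through `r ↦ r ⊗ 1`: the first factor of the tensor product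
underlying an extension of scalars along `R → S ⊗[R] S` -/
abbrev Q2 : Type u :=
  ((ModuleCat.restrictScalars (rt R S ≫ ri1 R S).hom).obj (ModuleCat.of (S ⊗[R] S) (S ⊗[R] S)))

/-- the identity, as an `R`-linear equivalence `S ⊗[R] S ≃ Q2` -/
noncomputable def e₂ : (S ⊗[R] S) ≃ₗ[R] Q2 R S where
  toFun z := z
  invFun z := z
  left_inv _ := rfl
  right_inv _ := rfl
  map_add' _ _ := rfl
  map_smul' r z := Algebra.smul_def r z

/-- the projection `S → S / R` -/
noncomputable abbrev piQ : QS R S →ₗ[R] QS R S ⧸ LinearMap.range (iota R (oneQ R S)) :=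
  (LinearMap.range (iota R (oneQ R S))).mkQ

/-- `a ⊗ b ↦ [a] ⊗ b` -/
noncomputable def Xi : Q2 R S →ₗ[R] (QS R S ⧸ LinearMap.range (iota R (oneQ R S))) ⊗[R] QS R S :=
  (TensorProduct.map (piQ R S ∘ₗ (e₀ R S).toLinearMap) (e₀ R S).toLinearMap) ∘ₗ
    (e₂ R S).symm.toLinearMap

theorem hc1 : (ri1 R S).hom.comp (algebraMap R S) = (rt R S ≫ ri1 R S).hom := rfl

theorem hc2 : (ri2 R S).hom.comp (algebraMap R S) = (rt R S ≫ ri1 R S).hom :=
  hcR (rt R S) (ri2 R S) (rt R S ≫ ri1 R S) (rt_ri2 R S)

/-- `s ↦ s ⊗ 1` -/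
noncomputable abbrev jj1 : QS R S →ₗ[R] Q2 R S :=
  Groth.Agent.H92.WittDescFF.linOf (algebraMap R S) (ri1 R S).hom (rt R S ≫ ri1 R S).hom (hc1 R S)

/-- `s ↦ 1 ⊗ s` -/
noncomputable abbrev jj2 : QS R S →ₗ[R] Q2 R S :=
  Groth.Agent.H92.WittDescFF.linOf (algebraMap R S) (ri2 R S).hom (rt R S ≫ ri1 R S).hom (hc2 R S)

theorem Xi_jj1 (q : QS R S) : Xi R S (jj1 R S q) = piQ R S q ⊗ₜ[R] oneQ R S := rfl

theorem piQ_oneQ : piQ R S (oneQ R S) = 0 := by
  rw [Submodule.mkQ_apply, Submodule.Quotient.mk_eq_zero]
  exact ⟨1, one_smul R _⟩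

theorem Xi_jj2 (q : QS R S) : Xi R S (jj2 R S q) = 0 := by
  have : Xi R S (jj2 R S q) = piQ R S (oneQ R S) ⊗ₜ[R] q := rfl
  rw [this, piQ_oneQ, TensorProduct.zero_tmul]

variable {R S}

theorem oneT_injective_of (h : Pi1.UnivInjective R S) (N : ModuleCat.{u} R) :
    Function.Injective (oneT (algebraMap R S) N) := by
  intro n n' hn
  have h1 := congrArg (toT N) hn
  have e1 : ∀ k : N, toT N (oneT (algebraMap R S) N k) =
      TensorProduct.mk R (QS R S) N (oneQ R S) k := by
    intro k
    have := toT_smul_oneT N (1 : S) k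
    rw [one_smul] at this
    exact this
  rw [e1, e1] at h1
  exact mk_injective (univInj_of R S h) N h1

set_option backward.isDefEq.respectTransparency false in
theorem amitsur_concrete (h : Pi1.UnivInjective R S) (N : ModuleCat.{u} R)
    (x : (ModuleCat.extendScalars (algebraMap R S)).obj N)
    (hx : bc (algebraMap R S) (ri1 R S).hom (rt R S ≫ ri1 R S).hom (hc1 R S) N x =
      bc (algebraMap R S) (ri2 R S).hom (rt R S ≫ ri1 R S).hom (hc2 R S) N x) :
    ∃ n : N, x = oneT (algebraMap R S) N n := by
  have hx' : (jj1 R S).rTensor N (toT N x) = (jj2 R S).rTensor N (toT N x) := hx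
  obtain ⟨n, hn⟩ := amitsur (univInj_of R S h) N (jj1 R S) (jj2 R S) (Xi R S) (Xi_jj1 R S)
    (Xi_jj2 R S) (toT N x) hx'
  refine ⟨n, ?_⟩
  have := toT_smul_oneT N (1 : S) n
  rw [one_smul] at this
  have h2 : toT N x = toT N (oneT (algebraMap R S) N n) := by
    rw [hn, this]
    rfl
  exact h2

end amitsurConcrete

section final

/-- the canonical descent datum functor of `R → S` -/
noncomputable abbrev canF : ModuleCat.{u} R ⥤
    ringModPF.{u}.DescentData (fun _ : PUnit.{u + 1} => (rt R S).op) :=
  ringModPF.{u}.toDescentData (fun _ : PUnit.{u + 1} => (rt R S).op)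

variable {R S}

theorem faithful_of_univInjective (h : Pi1.UnivInjective R S) : (canF R S).Faithful :=
  ⟨fun {M N} => rinj_abs (rt R S) N (oneT_injective_of h N) M⟩

theorem full_of_univInjective (h : Pi1.UnivInjective R S) : (canF R S).Full :=
  ⟨fun {M N} => rsurj_abs (rt R S) (ri1 R S) (ri2 R S) (rt_ri2 R S) N (oneT_injective_of h N)
    (fun x hx => amitsur_concrete h N x hx) M⟩

/-- **Descent along a universally injective ring map**: the canonical descent datum functor is an
equivalence. -/
theorem isEquivalence_of_univInjective (h : Pi1.UnivInjective R S) : (canF R S).IsEquivalence :=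
  { faithful := faithful_of_univInjective h
    full := full_of_univInjective h
    essSurj := ⟨fun D => effective_of_univInjective D h⟩ }

variable (R S) in
/-- conversely, faithfulness of the canonical descent datum functor forces universal injectivity -/
theorem univInjective_of_faithful [(canF R S).Faithful] : Pi1.UnivInjective R S := by
  intro P _ _
  rw [injective_iff_map_eq_zero]
  intro z hz
  obtain ⟨p, rfl⟩ : ∃ p : P, z = p ⊗ₜ[R] (1 : R) :=
    ⟨TensorProduct.rid R P z, ((TensorProduct.rid R P).symm_apply_apply z).symm⟩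
  rw [LinearMap.lTensor_tmul, Algebra.linearMap_apply, map_one] at hz
  -- `1 ⊗ p = 0` in the extension of scalars
  have h0 : oneT (algebraMap R S) (ModuleCat.of R P) p = 0 := by
    have h1 := congrArg
      (fun w => TensorProduct.comm R P (QS R S) (LinearMap.lTensor P (e₀ R S).toLinearMap w)) hz
    simp only [LinearMap.lTensor_tmul, TensorProduct.comm_tmul, map_zero] at h1
    have h2 := toT_smul_oneT (ModuleCat.of R P) (1 : S) p
    rw [one_smul] at h2
    have h3 : toT (ModuleCat.of R P) (oneT (algebraMap R S) (ModuleCat.of R P) p) =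
        toT (ModuleCat.of R P) 0 := by
      rw [h2, toT_zero]
      exact h1
    exact h3
  let φ : ModuleCat.of R R ⟶ ModuleCat.of R P :=
    ModuleCat.ofHom (LinearMap.toSpanSingleton R P p)
  have hφ : (canF R S).map φ = (canF R S).map 0 := by
    ext ⟨⟩
    change (ModuleCat.extendScalars (rt R S).hom).map φ = (ModuleCat.extendScalars (rt R S).hom).map 0
    apply hom_ext_oneT
    intro r
    rw [map_oneT, map_oneT]
    change oneT (algebraMap R S) (ModuleCat.of R P) (r • p) = oneT (algebraMap R S) (ModuleCat.of R P) 0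
    rw [oneT_smul, h0, smul_zero, oneT_zero]
  have hφ0 : φ = 0 := (canF R S).map_injective hφ
  have h1 : φ (1 : R) = p := one_smul R p
  have hp : p = 0 := by
    rw [← h1, hφ0]
    rfl
  rw [hp, TensorProduct.zero_tmul]

end final

end Groth.Agent.H92.PureDesc
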