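import Mathlib

/-!
# The bialgebra map `A ⧸ K → A ⧸ J` for Hopf ideals `K ≤ J`
-/

set_option autoImplicit false
universe u v
open TensorProduct

namespace Groth.Agent.H92.QuotFactor

variable {R : Type u} [CommRing R] {A : Type v} [CommRing A] [HopfAlgebra R A]
  (K J : Ideal A) [K.IsHopfIdeal R] [J.IsHopfIdeal R] (hKJ : K ≤ J)

/-- the quotient map between quotients, as an algebra map -/
noncomputable def factorAlg : (A ⧸ K) →ₐ[R] (A ⧸ J) :=
  Ideal.Quotient.liftₐ K (Ideal.Quotient.mkₐ R J) (fun a ha =>
    Ideal.Quotient.eq_zero_iff_mem.mpr (hKJ ha))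

theorem factorAlg_mk (a : A) :
    factorAlg (R := R) K J hKJ (Ideal.Quotient.mk K a) = Ideal.Quotient.mk J a := rfl

/-- the quotient map between quotients, as a bialgebra map -/
noncomputable def factor : (A ⧸ K) →ₐc[R] (A ⧸ J) :=
  BialgHom.ofAlgHom (factorAlg K J hKJ)
    (by
      apply Ideal.Quotient.algHom_ext
      apply AlgHom.ext
      intro a
      rfl)
    (by
      apply Ideal.Quotient.algHom_ext
      apply AlgHom.ext
      intro a
      change Algebra.TensorProduct.map (factorAlg K J hKJ) (factorAlg K J hKJ)
        (Coalgebra.comul (R := R) (Ideal.Quotient.mk K a)) =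
        Coalgebra.comul (R := R) (Ideal.Quotient.mk J a)
      rw [Bialgebra.Quotient.comul_mk, Bialgebra.Quotient.comul_mk]
      induction Coalgebra.comul (R := R) a using TensorProduct.induction_on with
      | zero => simp
      | add z w hz hw => simp only [map_add, hz, hw]
      | tmul x y => rfl)

theorem factor_mk (a : A) :
    factor (R := R) K J hKJ (Ideal.Quotient.mk K a) = Ideal.Quotient.mk J a := rfl

end Groth.Agent.H92.QuotFactor
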