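import Mathlib
import Groth.Agent.H80.TraceFilt

/-!
helper92: linear algebra for traces on spectral sequences of vector spaces with an endomorphism:
* `trace_add_of_exact`: additivity of the trace on a short exact sequence of finite-dimensional
  spaces with compatible endomorphisms;
* `hasEigenvalue_of_injective`, `hasEigenvalue_of_surjective`: eigenvalues of sub and quotient;
* `norm_trace_le`: `‖tr T‖ ≤ dim · B` when all eigenvalues have norm `≤ B` (over `ℂ`).
-/

set_option autoImplicit false
open Module

namespace Groth.Agent.H92.SpecTr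

section Field

variable {K : Type*} [Field K] {A B C : Type*} [AddCommGroup A] [Module K A] [AddCommGroup B]
  [Module K B] [AddCommGroup C] [Module K C]

/-- additivity of the trace on a short exact sequence with compatible endomorphisms -/
theorem trace_add_of_exact [FiniteDimensional K B] (f : A →ₗ[K] B) (g : B →ₗ[K] C)
    (hf : Function.Injective f) (hg : Function.Surjective g) (hfg : Function.Exact f g)
    (a : A →ₗ[K] A) (b : B →ₗ[K] B) (c : C →ₗ[K] C) (hab : ∀ x, f (a x) = b (f x))
    (hbc : ∀ y, g (b y) = c (g y)) :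
    LinearMap.trace K B b = LinearMap.trace K A a + LinearMap.trace K C c := by
  have hst : LinearMap.range f ≤ (LinearMap.range f).comap b := by
    rintro _ ⟨x, rfl⟩
    exact ⟨a x, hab x⟩
  rw [Groth.Agent.H80.TraceFilt.trace_eq_add_of_stable (LinearMap.range f) b hst]
  congr 1
  · -- `A ≃ range f`
    let e : A ≃ₗ[K] LinearMap.range f := LinearEquiv.ofInjective f hf
    have : e.conj a = b.restrict hst := by
      apply LinearMap.ext
      intro y
      obtain ⟨x, rfl⟩ : ∃ x, e x = y := e.surjective y
      rw [LinearEquiv.conj_apply]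
      apply Subtype.ext
      simp only [LinearMap.coe_comp, LinearEquiv.coe_coe, Function.comp_apply,
        LinearEquiv.symm_apply_apply, LinearMap.coe_restrict_apply]
      change f (a x) = b (f x)
      exact hab x
    rw [← this, LinearMap.trace_conj']
  · -- `B ⧸ range f ≃ C`
    have hker : LinearMap.ker g = LinearMap.range f := (LinearMap.exact_iff.1 hfg)
    let e0 : (B ⧸ LinearMap.ker g) ≃ₗ[K] C := g.quotKerEquivOfSurjective hg
    let e1 : (B ⧸ LinearMap.range f) ≃ₗ[K] (B ⧸ LinearMap.ker g) :=
      Submodule.quotEquivOfEq _ _ hker.symm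
    let e : (B ⧸ LinearMap.range f) ≃ₗ[K] C := e1.trans e0
    have : e.conj ((LinearMap.range f).mapQ (LinearMap.range f) b hst) = c := by
      apply LinearMap.ext
      intro z
      obtain ⟨y, rfl⟩ : ∃ y, e y = z := e.surjective z
      obtain ⟨y, rfl⟩ := Submodule.Quotient.mk_surjective _ y
      rw [LinearEquiv.conj_apply]
      simp only [LinearMap.coe_comp, LinearEquiv.coe_coe, Function.comp_apply,
        LinearEquiv.symm_apply_apply, Submodule.mapQ_apply]
      change g (b y) = c (g y)
      exact hbc y
    rw [← this, LinearMap.trace_conj']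

/-- an eigenvalue of a sub is an eigenvalue of the whole -/
theorem hasEigenvalue_of_injective (f : A →ₗ[K] B) (hf : Function.Injective f)
    (a : A →ₗ[K] A) (b : B →ₗ[K] B) (hab : ∀ x, f (a x) = b (f x)) (μ : K)
    (h : Module.End.HasEigenvalue a μ) : Module.End.HasEigenvalue b μ := by
  obtain ⟨v, hv⟩ := h.exists_hasEigenvector
  refine Module.End.hasEigenvalue_of_hasEigenvector (x := f v) ⟨?_, ?_⟩
  · rw [Module.End.mem_eigenspace_iff, ← hab, Module.End.mem_eigenspace_iff.1 hv.1, map_smul]
  · intro h0
    exact hv.2 (hf (by rw [h0, map_zero]))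

/-- an eigenvalue of a quotient is an eigenvalue of the whole (finite dimension) -/
theorem hasEigenvalue_of_surjective [FiniteDimensional K B] (g : B →ₗ[K] C)
    (hg : Function.Surjective g) (b : B →ₗ[K] B) (c : C →ₗ[K] C)
    (hbc : ∀ y, g (b y) = c (g y)) (μ : K)
    (h : Module.End.HasEigenvalue c μ) : Module.End.HasEigenvalue b μ := by
  have : FiniteDimensional K C := Module.Finite.of_surjective g hg
  by_contra hb
  rw [Module.End.hasEigenvalue_iff, not_not, Module.End.eigenspace_def, LinearMap.ker_eq_bot] at hb
  have hsb : Function.Surjective (b - algebraMap K (Module.End K B) μ) :=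
    LinearMap.injective_iff_surjective.1 hb
  have hsc : Function.Surjective (c - algebraMap K (Module.End K C) μ) := by
    intro z
    obtain ⟨y, rfl⟩ := hg z
    obtain ⟨y', rfl⟩ := hsb y
    refine ⟨g y', ?_⟩
    simp only [LinearMap.sub_apply, Module.algebraMap_end_apply, map_sub, map_smul, hbc]
  have hic : Function.Injective (c - algebraMap K (Module.End K C) μ) :=
    LinearMap.injective_iff_surjective.2 hsc
  rw [Module.End.hasEigenvalue_iff, Module.End.eigenspace_def] at h
  exact h (LinearMap.ker_eq_bot.2 hic)

end Field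

/-- the trace is bounded by the dimension times a bound for the eigenvalues -/
theorem norm_trace_le {V : Type*} [AddCommGroup V] [Module ℂ V] [FiniteDimensional ℂ V]
    (T : V →ₗ[ℂ] V) (Bd : ℝ) (h : ∀ μ : ℂ, Module.End.HasEigenvalue T μ → ‖μ‖ ≤ Bd) :
    ‖LinearMap.trace ℂ V T‖ ≤ (Module.finrank ℂ V : ℝ) * Bd := by
  have hsp : (LinearMap.charpoly T).Splits := IsAlgClosed.splits _
  have htr : LinearMap.trace ℂ V T = (LinearMap.charpoly T).roots.sum :=
    Module.End.trace_eq_sum_roots_charpoly_of_splits hsp
  rw [htr]
  have h1 : ‖(LinearMap.charpoly T).roots.sum‖ ≤ ((LinearMap.charpoly T).roots.map (‖·‖)).sum :=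
    norm_multiset_sum_le _
  have h2 : ((LinearMap.charpoly T).roots.map (‖·‖)).sum ≤
      Multiset.card ((LinearMap.charpoly T).roots.map (‖·‖)) • Bd := by
    apply Multiset.sum_le_card_nsmul
    intro x hx
    obtain ⟨μ, hμ, rfl⟩ := Multiset.mem_map.1 hx
    apply h
    rw [Module.End.hasEigenvalue_iff_isRoot_charpoly]
    exact (Polynomial.mem_roots'.1 hμ).2
  rw [Multiset.card_map, nsmul_eq_mul] at h2
  have hB : 0 ≤ Bd ∨ Multiset.card (LinearMap.charpoly T).roots = 0 := by
    by_cases hc : Multiset.card (LinearMap.charpoly T).roots = 0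
    · exact Or.inr hc
    · left
      obtain ⟨μ, hμ⟩ := Multiset.card_pos_iff_exists_mem.1 (Nat.pos_of_ne_zero hc)
      refine le_trans (norm_nonneg μ) (h μ ?_)
      rw [Module.End.hasEigenvalue_iff_isRoot_charpoly]
      exact (Polynomial.mem_roots'.1 hμ).2
  have h3 : (Multiset.card (LinearMap.charpoly T).roots : ℝ) * Bd ≤
      (Module.finrank ℂ V : ℝ) * Bd := by
    rcases hB with hB | hB
    · apply mul_le_mul_of_nonneg_right _ hB
      have := Polynomial.card_roots' (LinearMap.charpoly T)
      rw [LinearMap.charpoly_natDegree] at this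
      exact_mod_cast this
    · rw [hB]
      have hsplit : Multiset.card (LinearMap.charpoly T).roots =
          (LinearMap.charpoly T).natDegree := (Polynomial.splits_iff_card_roots.1 hsp)
      rw [LinearMap.charpoly_natDegree, hB] at hsplit
      rw [← hsplit]
  exact le_trans h1 (le_trans h2 h3)

end Groth.Agent.H92.SpecTr
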