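import Mathlib
import Groth.Agent.H92.SpecTrA

/-!
helper92: `ℂ[X]`-modules as vector spaces with an endomorphism (multiplication by `X`): trace `tr`,
boundedness package `IsBd` (finite dimension, dimension bound, eigenvalue bound), behaviour under
mono/epi/iso/short exact sequences, and the formula
`tr H(S) = tr S.X₂ - tr (range S.g) - tr (range S.f)` for a short complex `S`.
-/

set_option autoImplicit false
set_option linter.style.haveILetI false
open CategoryTheory CategoryTheory.Limits Polynomial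

namespace Groth.Agent.H92.SpecTr

universe u

/-- restriction of scalars `ℂ[X]`-modules → `ℂ`-vector spaces -/
noncomputable abbrev rs : ModuleCat.{u} ℂ[X] ⥤ ModuleCat.{u} ℂ :=
  ModuleCat.restrictScalars (algebraMap ℂ ℂ[X])

/-- the endomorphism "multiplication by `X`" of the underlying vector space -/
noncomputable abbrev Φ (N : ModuleCat.{u} ℂ[X]) : rs.obj N →ₗ[ℂ] rs.obj N :=
  (rs.map ((X : ℂ[X]) • 𝟙 N)).hom

/-- the trace of multiplication by `X` -/
noncomputable abbrev tr (N : ModuleCat.{u} ℂ[X]) : ℂ := LinearMap.trace ℂ _ (Φ N)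

/-- the linear map underlying a morphism -/
noncomputable abbrev lin {N N' : ModuleCat.{u} ℂ[X]} (f : N ⟶ N') : rs.obj N →ₗ[ℂ] rs.obj N' :=
  (rs.map f).hom

lemma lin_apply {N N' : ModuleCat.{u} ℂ[X]} (f : N ⟶ N') (x : rs.obj N) :
    lin f x = f.hom x := rfl

lemma Φ_apply (N : ModuleCat.{u} ℂ[X]) (x : rs.obj N) : Φ N x = (X : ℂ[X]) • (show N from x) := rfl

lemma lin_Φ {N N' : ModuleCat.{u} ℂ[X]} (f : N ⟶ N') (x : rs.obj N) :
    lin f (Φ N x) = Φ N' (lin f x) := by
  rw [lin_apply, Φ_apply, Φ_apply, lin_apply]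
  exact map_smul f.hom X _

lemma lin_injective {N N' : ModuleCat.{u} ℂ[X]} (f : N ⟶ N') [Mono f] :
    Function.Injective (lin f) := (ModuleCat.mono_iff_injective f).1 inferInstance

lemma lin_surjective {N N' : ModuleCat.{u} ℂ[X]} (f : N ⟶ N') [Epi f] :
    Function.Surjective (lin f) := (ModuleCat.epi_iff_surjective f).1 inferInstance

/-- finite dimension, dimension at most `n`, all eigenvalues of norm at most `B` -/
structure IsBd (N : ModuleCat.{u} ℂ[X]) (n : ℕ) (B : ℝ) : Prop where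
  fin : Module.Finite ℂ (rs.obj N)
  rank : Module.finrank ℂ (rs.obj N) ≤ n
  eig : ∀ μ : ℂ, Module.End.HasEigenvalue (Φ N) μ → ‖μ‖ ≤ B

variable {N N' : ModuleCat.{u} ℂ[X]} {n : ℕ} {B : ℝ}

lemma finite_of_mono (f : N ⟶ N') [Mono f] (h : Module.Finite ℂ (rs.obj N')) :
    Module.Finite ℂ (rs.obj N) :=
  Module.Finite.of_injective (lin f) (lin_injective f)

lemma finite_of_epi (f : N ⟶ N') [Epi f] (h : Module.Finite ℂ (rs.obj N)) :
    Module.Finite ℂ (rs.obj N') :=
  Module.Finite.of_surjective (lin f) (lin_surjective f)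

lemma IsBd.of_mono (f : N ⟶ N') [Mono f] (h : IsBd N' n B) : IsBd N n B := by
  haveI := h.fin
  refine ⟨finite_of_mono f h.fin, ?_, ?_⟩
  · exact le_trans (LinearMap.finrank_le_finrank_of_injective (lin_injective f)) h.rank
  · intro μ hμ
    exact h.eig μ (hasEigenvalue_of_injective (lin f) (lin_injective f) _ _ (lin_Φ f) μ hμ)

lemma IsBd.of_epi (f : N ⟶ N') [Epi f] (h : IsBd N n B) : IsBd N' n B := by
  haveI := h.fin
  refine ⟨finite_of_epi f h.fin, ?_, ?_⟩
  · exact le_trans (LinearMap.finrank_le_finrank_of_surjective (lin_surjective f)) h.rank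
  · intro μ hμ
    exact h.eig μ (hasEigenvalue_of_surjective (lin f) (lin_surjective f) _ _ (lin_Φ f) μ hμ)

lemma IsBd.of_iso (e : N ≅ N') (h : IsBd N n B) : IsBd N' n B := h.of_epi e.hom

lemma subsingleton_of_isZero (hN : IsZero N) : Subsingleton (rs.obj N) :=
  (ModuleCat.subsingleton_of_isZero hN : Subsingleton N)

lemma isBd_of_isZero (hN : IsZero N) (n : ℕ) (B : ℝ) : IsBd N n B := by
  haveI := subsingleton_of_isZero hN
  refine ⟨inferInstance, ?_, ?_⟩
  · rw [Module.finrank_zero_of_subsingleton]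
    exact Nat.zero_le _
  · intro μ hμ
    obtain ⟨v, hv⟩ := hμ.exists_hasEigenvector
    exact absurd (Subsingleton.elim v 0) hv.2

lemma IsBd.norm_tr_le (h : IsBd N n B) (hB : 0 ≤ B) : ‖tr N‖ ≤ (n : ℝ) * B := by
  haveI := h.fin
  refine le_trans (norm_trace_le (Φ N) B h.eig) ?_
  exact mul_le_mul_of_nonneg_right (by exact_mod_cast h.rank) hB

lemma tr_of_iso (e : N ≅ N') : tr N = tr N' := by
  let e' : rs.obj N ≃ₗ[ℂ] rs.obj N' := (rs.mapIso e).toLinearEquiv
  have : e'.conj (Φ N) = Φ N' := by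
    apply LinearMap.ext
    intro y
    obtain ⟨x, rfl⟩ := e'.surjective y
    rw [LinearEquiv.conj_apply]
    simp only [LinearMap.coe_comp, LinearEquiv.coe_coe, Function.comp_apply,
      LinearEquiv.symm_apply_apply]
    exact lin_Φ e.hom x
  change LinearMap.trace ℂ _ (Φ N) = LinearMap.trace ℂ _ (Φ N')
  rw [← this, LinearMap.trace_conj']

lemma tr_of_isZero (hN : IsZero N) : tr N = 0 := by
  haveI := subsingleton_of_isZero hN
  have : Φ N = 0 := LinearMap.ext (fun x => Subsingleton.elim _ _)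
  change LinearMap.trace ℂ _ (Φ N) = 0
  rw [this, map_zero]

/-- additivity of the trace on short exact sequences -/
theorem tr_add (S : ShortComplex (ModuleCat.{u} ℂ[X])) (hS : S.ShortExact)
    (h : Module.Finite ℂ (rs.obj S.X₂)) : tr S.X₂ = tr S.X₁ + tr S.X₃ := by
  haveI := h
  haveI := hS.mono_f
  haveI := hS.epi_g
  refine trace_add_of_exact (lin S.f) (lin S.g) (lin_injective S.f) (lin_surjective S.g) ?_
    (Φ S.X₁) (Φ S.X₂) (Φ S.X₃) (lin_Φ S.f) (lin_Φ S.g)
  exact (ShortComplex.ShortExact.moduleCat_exact_iff_function_exact S).1 hS.exact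

/-- the range of a morphism, as an object -/
noncomputable abbrev rangeObj {N N' : ModuleCat.{u} ℂ[X]} (f : N ⟶ N') : ModuleCat.{u} ℂ[X] :=
  ModuleCat.of ℂ[X] (LinearMap.range f.hom)

/-- the canonical epimorphism onto the range -/
noncomputable abbrev toRange {N N' : ModuleCat.{u} ℂ[X]} (f : N ⟶ N') : N ⟶ rangeObj f :=
  ModuleCat.ofHom f.hom.rangeRestrict

instance {N N' : ModuleCat.{u} ℂ[X]} (f : N ⟶ N') : Epi (toRange f) :=
  (ModuleCat.epi_iff_surjective _).2 f.hom.surjective_rangeRestrict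

lemma IsBd.rangeObj (f : N ⟶ N') (h : IsBd N n B) : IsBd (rangeObj f) n B := h.of_epi (toRange f)

lemma isZero_rangeObj_of_eq_zero (f : N ⟶ N') (hf : f = 0) : IsZero (rangeObj f) := by
  subst hf
  haveI : Subsingleton (rangeObj (0 : N ⟶ N')) := by
    constructor
    rintro ⟨_, x, rfl⟩ ⟨_, y, rfl⟩
    rfl
  exact ModuleCat.isZero_of_subsingleton _

lemma tr_rangeObj_of_eq_zero (f : N ⟶ N') (hf : f = 0) : tr (rangeObj f) = 0 :=
  tr_of_isZero (isZero_rangeObj_of_eq_zero f hf)

lemma tr_rangeObj_of_isZero_src (f : N ⟶ N') (hN : IsZero N) : tr (rangeObj f) = 0 :=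
  tr_rangeObj_of_eq_zero f (hN.eq_of_src _ _)

lemma tr_rangeObj_of_isZero_tgt (f : N ⟶ N') (hN : IsZero N') : tr (rangeObj f) = 0 :=
  tr_rangeObj_of_eq_zero f (hN.eq_of_tgt _ _)

end Groth.Agent.H92.SpecTr
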