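import Mathlib
import Groth.Agent.H92.SpecTrB

/-!
helper92: the trace of multiplication by `X` on the homology of a short complex of `ℂ[X]`-modules:
`tr H(S) = tr S.X₂ - tr (range S.g) - tr (range S.f)`, and the bounds `IsBd` pass to homology.
-/

set_option autoImplicit false
set_option linter.style.haveILetI false
open CategoryTheory CategoryTheory.Limits Polynomial

namespace Groth.Agent.H92.SpecTr

universe u

variable (S : ShortComplex (ModuleCat.{u} ℂ[X]))

/-- the bounds pass to homology -/
lemma IsBd.homology {n : ℕ} {B : ℝ} (h : IsBd S.X₂ n B) : IsBd S.homology n B :=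
  (h.of_mono S.iCycles).of_epi S.homologyπ

/-- the short exact sequence `0 → ker g → X₂ → range g → 0` -/
noncomputable def sesKer : ShortComplex (ModuleCat.{u} ℂ[X]) :=
  ShortComplex.mk (ModuleCat.ofHom (LinearMap.ker S.g.hom).subtype) (toRange S.g) (by
    ext x
    exact x.2)

lemma sesKer_shortExact : (sesKer S).ShortExact := by
  refine ModuleCat.shortComplex_shortExact _ ?_ (LinearMap.ker S.g.hom).injective_subtype
    S.g.hom.surjective_rangeRestrict
  intro y
  constructor
  · intro hy
    refine ⟨⟨y, ?_⟩, rfl⟩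
    have := congrArg Subtype.val hy
    exact this
  · rintro ⟨x, rfl⟩
    apply Subtype.ext
    exact x.2

/-- the short exact sequence `0 → im(X₁ → ker g) → ker g → H → 0` -/
noncomputable def sesHom : ShortComplex (ModuleCat.{u} ℂ[X]) :=
  ShortComplex.mk (ModuleCat.ofHom (LinearMap.range S.moduleCatToCycles).subtype)
    (ModuleCat.ofHom (LinearMap.range S.moduleCatToCycles).mkQ) (by
    ext x
    exact (Submodule.Quotient.mk_eq_zero _).2 x.2)

lemma sesHom_shortExact : (sesHom S).ShortExact := by
  refine ModuleCat.shortComplex_shortExact _ ?_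
    (LinearMap.range S.moduleCatToCycles).injective_subtype
    (Submodule.mkQ_surjective _)
  intro y
  constructor
  · intro hy
    exact ⟨⟨y, (Submodule.Quotient.mk_eq_zero _).1 hy⟩, rfl⟩
  · rintro ⟨x, rfl⟩
    exact (Submodule.Quotient.mk_eq_zero _).2 x.2

/-- `im(X₁ → ker g) ≃ range f` -/
noncomputable def rangeToCyclesEquiv :
    LinearMap.range S.moduleCatToCycles ≃ₗ[ℂ[X]] LinearMap.range S.f.hom :=
  LinearEquiv.ofBijective
    (((LinearMap.ker S.g.hom).subtype.comp (LinearMap.range S.moduleCatToCycles).subtype).codRestrict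
      (LinearMap.range S.f.hom) (by
        rintro ⟨_, x, rfl⟩
        exact ⟨x, rfl⟩))
    ⟨by
      intro a b hab
      apply Subtype.ext
      apply Subtype.ext
      exact congrArg (fun z : LinearMap.range S.f.hom => (z : S.X₂)) hab,
     by
      rintro ⟨_, x, rfl⟩
      exact ⟨⟨S.moduleCatToCycles x, x, rfl⟩, rfl⟩⟩

/-- **the trace on homology** -/
theorem tr_homology (h : Module.Finite ℂ (rs.obj S.X₂)) :
    tr S.homology = tr S.X₂ - tr (rangeObj S.g) - tr (rangeObj S.f) := by
  have h1 := tr_add (sesKer S) (sesKer_shortExact S) h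
  have hker : Module.Finite ℂ (rs.obj (sesHom S).X₂) := by
    exact @finite_of_mono _ _ (sesKer S).f (sesKer_shortExact S).mono_f h
  have h2 := tr_add (sesHom S) (sesHom_shortExact S) hker
  have h3 : tr (sesHom S).X₁ = tr (rangeObj S.f) :=
    tr_of_iso (rangeToCyclesEquiv S).toModuleIso
  have h4 : tr S.homology = tr (sesHom S).X₃ := tr_of_iso S.moduleCatHomologyIso
  have e12 : tr (sesKer S).X₁ = tr (sesHom S).X₂ := rfl
  have e13 : tr (sesKer S).X₃ = tr (rangeObj S.g) := rfl
  have e14 : tr (sesKer S).X₂ = tr S.X₂ := rfl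
  rw [h4]
  rw [e14, e12, e13, h2, h3] at h1
  rw [h1]
  ring

end Groth.Agent.H92.SpecTr
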