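import Mathlib
import Groth.Agent.H92.SpecTrC

/-!
helper92: complexes of `ℂ[X]`-modules indexed by `ℤ × ℤ` with differential of bidegree `v`,
`v.1 + v.2 = 1`, concentrated in the first quadrant with summable bounds: the alternating sum of the
traces of multiplication by `X` on the homology equals that on the terms.
-/

set_option autoImplicit false
set_option linter.style.haveILetI false
open CategoryTheory CategoryTheory.Limits Polynomial

namespace Groth.Agent.H92.SpecTr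

universe u

variable {v : ℤ × ℤ} (K : HomologicalComplex (ModuleCat.{u} ℂ[X]) (ComplexShape.up' v))

/-- the trace on the image of the differential starting at `pq` -/
noncomputable def β (pq : ℤ × ℤ) : ℂ := tr (rangeObj (K.d pq (pq + v)))

lemma tr_rangeObj_d_congr {i i' j j' : ℤ × ℤ} (hi : i = i') (hj : j = j') :
    tr (rangeObj (K.d i j)) = tr (rangeObj (K.d i' j')) := by
  subst hi hj
  rfl

lemma next_eq (pq : ℤ × ℤ) : (ComplexShape.up' v).next pq = pq + v :=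
  (ComplexShape.up' v).next_eq' rfl

lemma prev_eq (pq : ℤ × ℤ) : (ComplexShape.up' v).prev pq = pq - v :=
  (ComplexShape.up' v).prev_eq' (sub_add_cancel pq v)

/-- the trace on homology at `pq` -/
theorem tr_homology_eq (pq : ℤ × ℤ) (h : Module.Finite ℂ (rs.obj (K.X pq))) :
    tr (K.homology pq) = tr (K.X pq) - β K pq - β K (pq - v) := by
  have h1 := tr_homology (K.sc pq) h
  have h2 : tr (rangeObj (K.sc pq).g) = β K pq :=
    tr_rangeObj_d_congr K rfl (next_eq pq)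
  have h3 : tr (rangeObj (K.sc pq).f) = β K (pq - v) :=
    tr_rangeObj_d_congr K (prev_eq pq) (sub_add_cancel pq v).symm
  rw [h2, h3] at h1
  exact h1

/-- the sign `(-1)^(p+q)` -/
noncomputable def sgn (pq : ℤ × ℤ) : ℂ := (-1 : ℂ) ^ (pq.1 + pq.2)

lemma sgn_sub (hv : v.1 + v.2 = 1) (pq : ℤ × ℤ) : sgn (pq - v) = - sgn pq := by
  unfold sgn
  have : (pq - v).1 + (pq - v).2 = (pq.1 + pq.2) - 1 := by
    simp only [Prod.fst_sub, Prod.snd_sub]
    omega
  rw [this, zpow_sub₀ (by norm_num : (-1 : ℂ) ≠ 0), zpow_one, div_neg, div_one]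

lemma sgn_natCast (p q : ℕ) : sgn ((p : ℤ), (q : ℤ)) = (-1 : ℂ) ^ (p + q) := by
  unfold sgn
  rw [← Nat.cast_add, zpow_natCast]

lemma norm_sgn (pq : ℤ × ℤ) : ‖sgn pq‖ = 1 := by
  unfold sgn
  rw [norm_zpow]
  simp

/-- the embedding of the first quadrant -/
def quad : ℕ × ℕ → ℤ × ℤ := fun pq => ((pq.1 : ℤ), (pq.2 : ℤ))

lemma quad_injective : Function.Injective quad := by
  intro a b h
  have h1 := congrArg Prod.fst h
  have h2 := congrArg Prod.snd h
  simp only [quad] at h1 h2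
  exact Prod.ext (by exact_mod_cast h1) (by exact_mod_cast h2)

lemma not_mem_range_quad {pq : ℤ × ℤ} (h : pq ∉ Set.range quad) : pq.1 < 0 ∨ pq.2 < 0 := by
  by_contra hcon
  push Not at hcon
  apply h
  refine ⟨(pq.1.toNat, pq.2.toNat), ?_⟩
  simp only [quad]
  exact Prod.ext (Int.toNat_of_nonneg hcon.1) (Int.toNat_of_nonneg hcon.2)

/-- summability of a family supported in the first quadrant and bounded there by a summable
majorant -/
lemma summable_of_quad (G : ℕ × ℕ → ℝ) (hG : Summable G) (f : ℤ × ℤ → ℂ)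
    (h0 : ∀ pq : ℤ × ℤ, pq.1 < 0 ∨ pq.2 < 0 → f pq = 0)
    (hf : ∀ pq : ℕ × ℕ, ‖f (quad pq)‖ ≤ G pq) : Summable f := by
  rw [← quad_injective.summable_iff (fun pq hpq => h0 pq (not_mem_range_quad hpq))]
  exact Summable.of_norm_bounded hG hf

/-- a sum over `ℤ × ℤ` of a family supported in the first quadrant -/
lemma tsum_quad (f : ℤ × ℤ → ℂ) (h0 : ∀ pq : ℤ × ℤ, pq.1 < 0 ∨ pq.2 < 0 → f pq = 0) :
    ∑' pq : ℕ × ℕ, f (quad pq) = ∑' pq, f pq :=
  quad_injective.tsum_eq (by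
    intro pq hpq
    by_contra hcon
    exact hpq (h0 pq (not_mem_range_quad hcon)))

/-- the three families -/
noncomputable def famT (pq : ℤ × ℤ) : ℂ := sgn pq * tr (K.X pq)
noncomputable def famH (pq : ℤ × ℤ) : ℂ := sgn pq * tr (K.homology pq)
noncomputable def famB (pq : ℤ × ℤ) : ℂ := sgn pq * β K pq

lemma famH_eq (hv : v.1 + v.2 = 1) (pq : ℤ × ℤ) (h : Module.Finite ℂ (rs.obj (K.X pq))) :
    famH K pq = famT K pq - famB K pq + famB K (pq - v) := by
  unfold famH famT famB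
  rw [tr_homology_eq K pq h, sgn_sub hv]
  ring

/-- abstract summation: from the pointwise identity -/
lemma tsum_famH (hv : v.1 + v.2 = 1) (hfin : ∀ pq, Module.Finite ℂ (rs.obj (K.X pq)))
    (hTs : Summable (famT K)) (hBs : Summable (famB K)) :
    ∑' pq, famH K pq = ∑' pq, famT K pq := by
  have hBs' : Summable (famB K ∘ (Equiv.subRight v)) :=
    (Equiv.summable_iff (Equiv.subRight v)).2 hBs
  have hpt : ∀ pq, famH K pq = famT K pq - famB K pq + (famB K ∘ (Equiv.subRight v)) pq := by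
    intro pq
    rw [Function.comp_apply, Equiv.subRight_apply]
    exact famH_eq K hv pq (hfin pq)
  have h1 : ∑' pq, famH K pq =
      ∑' pq, (famT K pq - famB K pq + (famB K ∘ (Equiv.subRight v)) pq) := tsum_congr hpt
  have h2 : ∑' pq, (famB K ∘ (Equiv.subRight v)) pq = ∑' pq, famB K pq :=
    (Equiv.subRight v).tsum_eq (famB K)
  rw [h1, (hTs.sub hBs).tsum_add hBs', hTs.tsum_sub hBs, h2]
  ring

section Sum

variable (hv : v.1 + v.2 = 1)
  (hquad : ∀ pq : ℤ × ℤ, pq.1 < 0 ∨ pq.2 < 0 → IsZero (K.X pq))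
  (n : ℕ → ℕ → ℕ) (Bb : ℕ → ℕ → ℝ) (hBb : ∀ p q, 0 ≤ Bb p q)
  (hbd : ∀ p q : ℕ, IsBd (K.X ((p : ℤ), (q : ℤ))) (n p q) (Bb p q))
  (G : ℕ × ℕ → ℝ) (hG : Summable G) (hnG : ∀ pq : ℕ × ℕ, (n pq.1 pq.2 : ℝ) * Bb pq.1 pq.2 ≤ G pq)

include hquad hbd in
lemma finite_X (pq : ℤ × ℤ) : Module.Finite ℂ (rs.obj (K.X pq)) := by
  by_cases h : pq ∈ Set.range quad
  · obtain ⟨⟨p, q⟩, rfl⟩ := h
    exact (hbd p q).fin
  · exact (isBd_of_isZero (hquad pq (not_mem_range_quad h)) 0 0).fin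

include hquad in
lemma famT_zero (pq : ℤ × ℤ) (h : pq.1 < 0 ∨ pq.2 < 0) : famT K pq = 0 := by
  unfold famT
  rw [tr_of_isZero (hquad pq h), mul_zero]

include hquad in
lemma famB_zero (pq : ℤ × ℤ) (h : pq.1 < 0 ∨ pq.2 < 0) : famB K pq = 0 := by
  unfold famB β
  rw [tr_rangeObj_of_isZero_src _ (hquad pq h), mul_zero]

include hquad in
lemma famH_zero (pq : ℤ × ℤ) (h : pq.1 < 0 ∨ pq.2 < 0) : famH K pq = 0 := by
  unfold famH
  have hz : IsZero (K.homology pq) :=
    (K.sc pq).isZero_homology_of_isZero_X₂ (hquad pq h)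
  rw [tr_of_isZero hz, mul_zero]

include hBb hbd hnG in
lemma norm_famT_le (pq : ℕ × ℕ) : ‖famT K (quad pq)‖ ≤ G pq := by
  unfold famT
  rw [norm_mul, norm_sgn, one_mul]
  exact le_trans ((hbd pq.1 pq.2).norm_tr_le (hBb pq.1 pq.2)) (hnG pq)

include hBb hbd hnG in
lemma norm_famB_le (pq : ℕ × ℕ) : ‖famB K (quad pq)‖ ≤ G pq := by
  unfold famB β
  rw [norm_mul, norm_sgn, one_mul]
  exact le_trans (((hbd pq.1 pq.2).rangeObj _).norm_tr_le (hBb pq.1 pq.2)) (hnG pq)

include hv hquad hBb hbd hG hnG in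
/-- **the alternating sums of traces on homology and on the terms agree** -/
theorem tsum_tr_homology :
    ∑' pq : ℕ × ℕ, (-1 : ℂ) ^ (pq.1 + pq.2) * tr (K.homology ((pq.1 : ℤ), (pq.2 : ℤ))) =
      ∑' pq : ℕ × ℕ, (-1 : ℂ) ^ (pq.1 + pq.2) * tr (K.X ((pq.1 : ℤ), (pq.2 : ℤ))) := by
  have hTs : Summable (famT K) := summable_of_quad G hG _ (famT_zero K hquad)
    (norm_famT_le K n Bb hBb hbd G hnG)
  have hBs : Summable (famB K) := summable_of_quad G hG _ (famB_zero K hquad)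
    (norm_famB_le K n Bb hBb hbd G hnG)
  have hsum := tsum_famH K hv (finite_X K hquad n Bb hbd) hTs hBs
  have e1 : ∀ pq : ℕ × ℕ, (-1 : ℂ) ^ (pq.1 + pq.2) * tr (K.homology ((pq.1 : ℤ), (pq.2 : ℤ))) =
      famH K (quad pq) := by
    intro pq
    unfold famH quad
    rw [sgn_natCast]
  have e2 : ∀ pq : ℕ × ℕ, (-1 : ℂ) ^ (pq.1 + pq.2) * tr (K.X ((pq.1 : ℤ), (pq.2 : ℤ))) =
      famT K (quad pq) := by
    intro pq
    unfold famT quad
    rw [sgn_natCast]
  rw [tsum_congr e1, tsum_congr e2, tsum_quad _ (famH_zero K hquad), tsum_quad _ (famT_zero K hquad),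
    hsum]

end Sum

end Groth.Agent.H92.SpecTr
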