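import Mathlib
import Groth.Agent.H92.SpecTrD

/-!
helper92: the boundedness condition on a page of a first-quadrant spectral sequence of
`ℂ[X]`-modules (`PageBd`) passes to the next page, and the alternating sums of traces agree.
-/

set_option autoImplicit false
set_option linter.style.haveILetI false
open CategoryTheory CategoryTheory.Limits Polynomial

namespace Groth.Agent.H92.SpecTr

universe u

/-- the boundedness condition for a bigraded family of `ℂ[X]`-modules -/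
structure PageBd (M : ℤ × ℤ → ModuleCat.{u} ℂ[X]) (N : ℕ) (a c : ℕ → ℝ) (b d : ℕ → ℕ) : Prop where
  quad : ∀ pq : ℤ × ℤ, pq.1 < 0 ∨ pq.2 < 0 → IsZero (M pq)
  fin : ∀ pq : ℤ × ℤ, Module.Finite ℂ (rs.obj (M pq))
  high : ∀ p q : ℕ, N < q → IsZero (M ((p : ℤ), (q : ℤ)))
  eig : ∀ (p q : ℕ) (μ : ℂ), Module.End.HasEigenvalue (Φ (M ((p : ℤ), (q : ℤ)))) μ →
    ‖μ‖ ≤ a q * c p
  rank : ∀ p q : ℕ, Module.finrank ℂ (rs.obj (M ((p : ℤ), (q : ℤ)))) ≤ b q * d p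

variable {N : ℕ} {a c : ℕ → ℝ} {b d : ℕ → ℕ}

lemma PageBd.isBd {M : ℤ × ℤ → ModuleCat.{u} ℂ[X]} (h : PageBd M N a c b d) (p q : ℕ) :
    IsBd (M ((p : ℤ), (q : ℤ))) (b q * d p) (a q * c p) :=
  ⟨h.fin _, h.rank p q, h.eig p q⟩

/-- the majorant -/
noncomputable def major (N : ℕ) (a c : ℕ → ℝ) (b d : ℕ → ℕ) : ℕ × ℕ → ℝ :=
  fun pq => (c pq.1 * (d pq.1 : ℝ)) * (if pq.2 ≤ N then a pq.2 * (b pq.2 : ℝ) else 0)

lemma summable_major (ha : ∀ q, 0 ≤ a q) (hc : ∀ p, 0 ≤ c p)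
    (hsum : Summable fun p : ℕ => c p * (d p : ℝ)) : Summable (major N a c b d) := by
  have key := Summable.mul_of_nonneg (f := fun p : ℕ => c p * (d p : ℝ))
    (g := fun q : ℕ => if q ≤ N then a q * (b q : ℝ) else 0) hsum ?_
    (fun p => mul_nonneg (hc p) (Nat.cast_nonneg _)) ?_
  · exact key
  · apply summable_of_hasFiniteSupport
    refine (Set.finite_Iic N).subset ?_
    intro q hq
    by_contra hcon
    apply hq
    show (if q ≤ N then a q * (b q : ℝ) else 0) = 0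
    have hq' : ¬ q ≤ N := fun h => hcon h
    rw [if_neg hq']
  · intro q
    show 0 ≤ (if q ≤ N then a q * (b q : ℝ) else 0)
    split_ifs
    · exact mul_nonneg (ha q) (Nat.cast_nonneg _)
    · exact le_rfl

lemma major_nonneg (ha : ∀ q, 0 ≤ a q) (hc : ∀ p, 0 ≤ c p) (pq : ℕ × ℕ) :
    0 ≤ major N a c b d pq := by
  unfold major
  refine mul_nonneg (mul_nonneg (hc _) (Nat.cast_nonneg _)) ?_
  split_ifs
  · exact mul_nonneg (ha _) (Nat.cast_nonneg _)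
  · exact le_rfl

/-- the truncated dimension bound -/
def dimB (N : ℕ) (b d : ℕ → ℕ) : ℕ → ℕ → ℕ := fun p q => if q ≤ N then b q * d p else 0

lemma PageBd.isBd' {M : ℤ × ℤ → ModuleCat.{u} ℂ[X]} (h : PageBd M N a c b d) (p q : ℕ) :
    IsBd (M ((p : ℤ), (q : ℤ))) (dimB N b d p q) (a q * c p) := by
  unfold dimB
  split_ifs with hq
  · exact h.isBd p q
  · exact isBd_of_isZero (h.high p q (not_le.1 hq)) _ _

lemma dimB_le_major (pq : ℕ × ℕ) :
    (dimB N b d pq.1 pq.2 : ℝ) * (a pq.2 * c pq.1) ≤ major N a c b d pq := by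
  unfold dimB major
  split_ifs with hq
  · push_cast
    apply le_of_eq
    ring
  · simp

/-- the norm of the trace on a page term is bounded by the majorant -/
lemma PageBd.norm_tr_le {M : ℤ × ℤ → ModuleCat.{u} ℂ[X]} (h : PageBd M N a c b d)
    (ha : ∀ q, 0 ≤ a q) (hc : ∀ p, 0 ≤ c p) (pq : ℕ × ℕ) :
    ‖tr (M ((pq.1 : ℤ), (pq.2 : ℤ)))‖ ≤ major N a c b d pq :=
  le_trans ((h.isBd' pq.1 pq.2).norm_tr_le (mul_nonneg (ha _) (hc _))) (dimB_le_major pq)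

/-- **one page step** -/
theorem PageBd.next {v : ℤ × ℤ} (hv : v.1 + v.2 = 1)
    (K : HomologicalComplex (ModuleCat.{u} ℂ[X]) (ComplexShape.up' v))
    (M' : ℤ × ℤ → ModuleCat.{u} ℂ[X]) (iso : ∀ pq, K.homology pq ≅ M' pq)
    (ha : ∀ q, 0 ≤ a q) (hc : ∀ p, 0 ≤ c p) (hsum : Summable fun p : ℕ => c p * (d p : ℝ))
    (h : PageBd K.X N a c b d) :
    PageBd M' N a c b d ∧
      ∑' pq : ℕ × ℕ, (-1 : ℂ) ^ (pq.1 + pq.2) * tr (M' ((pq.1 : ℤ), (pq.2 : ℤ))) =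
        ∑' pq : ℕ × ℕ, (-1 : ℂ) ^ (pq.1 + pq.2) * tr (K.X ((pq.1 : ℤ), (pq.2 : ℤ))) := by
  have hz : ∀ pq, IsZero (K.X pq) → IsZero (M' pq) := fun pq hpq =>
    IsZero.of_iso ((K.sc pq).isZero_homology_of_isZero_X₂ hpq) (iso pq).symm
  have hb : ∀ p q : ℕ, IsBd (M' ((p : ℤ), (q : ℤ))) (b q * d p) (a q * c p) := fun p q =>
    (IsBd.homology (K.sc _) (h.isBd p q)).of_iso (iso _)
  refine ⟨⟨fun pq hpq => hz pq (h.quad pq hpq), fun pq => ?_, fun p q hq => hz _ (h.high p q hq),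
    fun p q => (hb p q).eig, fun p q => (hb p q).rank⟩, ?_⟩
  · exact finite_of_epi (iso pq).hom (finite_of_epi (K.homologyπ pq)
      (finite_of_mono (K.iCycles pq) (h.fin pq)))
  · have e : ∀ pq : ℕ × ℕ, (-1 : ℂ) ^ (pq.1 + pq.2) * tr (M' ((pq.1 : ℤ), (pq.2 : ℤ))) =
        (-1 : ℂ) ^ (pq.1 + pq.2) * tr (K.homology ((pq.1 : ℤ), (pq.2 : ℤ))) := fun pq => by
      rw [tr_of_iso (iso _)]
    rw [tsum_congr e]
    exact tsum_tr_homology K hv h.quad (dimB N b d) (fun p q => a q * c p)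
      (fun p q => mul_nonneg (ha q) (hc p)) h.isBd' (major N a c b d)
      (summable_major ha hc hsum) dimB_le_major

end Groth.Agent.H92.SpecTr
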