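import Mathlib
import Groth.Prelude.Def_SpSeq
import Groth.Agent.H92.SpecTrB

/-!
helper92: the trace of multiplication by `X` on a `ℂ[X]`-module with a finite decreasing filtration
is the sum of the traces on the graded pieces.
-/

set_option autoImplicit false
set_option linter.style.haveILetI false
open CategoryTheory CategoryTheory.Limits Polynomial

namespace Groth.Agent.H92.SpecTr

universe u

/-- finiteness of the middle term of a short exact sequence -/
lemma finite_of_shortExact (S : ShortComplex (ModuleCat.{u} ℂ[X])) (hS : S.ShortExact)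
    (h₁ : Module.Finite ℂ (rs.obj S.X₁)) (h₃ : Module.Finite ℂ (rs.obj S.X₃)) :
    Module.Finite ℂ (rs.obj S.X₂) := by
  haveI := h₁
  haveI := h₃
  haveI := hS.epi_g
  refine Module.Finite.of_exact (f := lin S.f) (g := lin S.g) ?_ (lin_surjective S.g)
  exact (ShortComplex.ShortExact.moduleCat_exact_iff_function_exact S).1 hS.exact

variable {M : ModuleCat.{u} ℂ[X]} (F : ℤ → Subobject M) (hF : Antitone F)

/-- the short exact sequence `0 → F (p+1) → F p → gr p → 0` -/
noncomputable def grSES (p : ℤ) : ShortComplex (ModuleCat.{u} ℂ[X]) :=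
  ShortComplex.mk ((F (p + 1)).ofLE (F p) (hF (Int.le_add_one le_rfl)))
    (cokernel.π ((F (p + 1)).ofLE (F p) (hF (Int.le_add_one le_rfl)))) (cokernel.condition _)

lemma grSES_shortExact (p : ℤ) : (grSES F hF p).ShortExact where
  exact := ShortComplex.exact_cokernel _
  mono_f := by
    unfold grSES
    infer_instance
  epi_g := by
    unfold grSES
    infer_instance

lemma grSES_X₃ (p : ℤ) : (grSES F hF p).X₃ = SpSeq.grPiece F hF p := rfl

lemma isZero_of_eq_bot {S : Subobject M} (h : S = ⊥) : IsZero (S : ModuleCat.{u} ℂ[X]) := by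
  subst h
  exact IsZero.of_iso (isZero_zero _) Subobject.botCoeIsoZero

/-- graded pieces below the bottom vanish -/
lemma isZero_grPiece_of_bot {b p : ℤ} (hb : F b = ⊥) (hp : b ≤ p) :
    IsZero (SpSeq.grPiece F hF p) := by
  have h1 : F p = ⊥ := le_bot_iff.1 (hb ▸ hF hp)
  haveI : Epi (grSES F hF p).g := (grSES_shortExact F hF p).epi_g
  have h2 : IsZero (grSES F hF p).X₃ :=
    IsZero.of_epi (grSES F hF p).g (isZero_of_eq_bot (M := M) (S := F p) h1)
  exact h2

/-- graded pieces above the top vanish -/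
lemma isZero_grPiece_of_top {a p : ℤ} (ha : F a = ⊤) (hp : p < a) :
    IsZero (SpSeq.grPiece F hF p) := by
  have h1 : F (p + 1) = ⊤ := top_le_iff.1 (ha ▸ hF (by omega : p + 1 ≤ a))
  have h2 : F p = ⊤ := top_le_iff.1 (ha ▸ hF (by omega : p ≤ a))
  have h3 : IsIso ((F (p + 1)).ofLE (F p) (hF (Int.le_add_one le_rfl))) := by
    have e : (F (p + 1)).ofLE (F p) (hF (Int.le_add_one le_rfl)) ≫ (F p).arrow =
      (F (p + 1)).arrow := Subobject.ofLE_arrow _
    haveI : IsIso (F p).arrow := (Subobject.isIso_arrow_iff_eq_top _).2 h2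
    haveI : IsIso (F (p + 1)).arrow := (Subobject.isIso_arrow_iff_eq_top _).2 h1
    exact IsIso.of_isIso_fac_right e
  exact isZero_cokernel_of_epi _

/-- the partial sums of the traces of the graded pieces -/
theorem tr_step (hgr : ∀ p, Module.Finite ℂ (rs.obj (SpSeq.grPiece F hF p))) {b : ℤ}
    (hb : F b = ⊥) : ∀ (j : ℤ) (_ : j ≤ b),
    Module.Finite ℂ (rs.obj (F j : ModuleCat.{u} ℂ[X])) ∧
      tr (F j : ModuleCat.{u} ℂ[X]) = ∑ p ∈ Finset.Ico j b, tr (SpSeq.grPiece F hF p) := by
  refine Int.leInductionDown ?_ ?_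
  · have hz := isZero_of_eq_bot hb
    refine ⟨?_, ?_⟩
    · haveI := subsingleton_of_isZero hz
      infer_instance
    · rw [tr_of_isZero hz]
      simp
  · intro j hj ih
    have hS := grSES_shortExact F hF (j - 1)
    have e1 : j - 1 + 1 = j := by omega
    have hfin1 : Module.Finite ℂ (rs.obj (grSES F hF (j - 1)).X₁) := by
      show Module.Finite ℂ (rs.obj (F (j - 1 + 1) : ModuleCat.{u} ℂ[X]))
      rw [e1]
      exact ih.1
    have htr1 : tr (grSES F hF (j - 1)).X₁ = tr (F j : ModuleCat.{u} ℂ[X]) := by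
      show tr (F (j - 1 + 1) : ModuleCat.{u} ℂ[X]) = _
      rw [e1]
    have hfin2 := finite_of_shortExact _ hS hfin1 (hgr (j - 1))
    refine ⟨hfin2, ?_⟩
    have h := tr_add _ hS hfin2
    rw [htr1, ih.2] at h
    have hI : Finset.Ico (j - 1) b = insert (j - 1) (Finset.Ico j b) := by
      ext x
      simp only [Finset.mem_Ico, Finset.mem_insert]
      omega
    rw [hI, Finset.sum_insert (by simp)]
    show tr (grSES F hF (j - 1)).X₂ = _
    rw [h, add_comm]
    rfl

/-- **the trace on a finitely filtered module** -/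
theorem tr_eq_finsum_gr (hgr : ∀ p, Module.Finite ℂ (rs.obj (SpSeq.grPiece F hF p))) {a b : ℤ}
    (ha : F a = ⊤) (hb : F b = ⊥) :
    Module.Finite ℂ (rs.obj M) ∧ tr M = ∑ᶠ p : ℤ, tr (SpSeq.grPiece F hF p) := by
  -- reduce to `a ≤ b`
  have ha' : F (min a b) = ⊤ := top_le_iff.1 (ha ▸ hF (min_le_left a b))
  obtain ⟨hfin, htr⟩ := tr_step F hF hgr hb (min a b) (min_le_right a b)
  haveI : IsIso (F (min a b)).arrow := (Subobject.isIso_arrow_iff_eq_top _).2 ha'
  refine ⟨finite_of_epi (F (min a b)).arrow hfin, ?_⟩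
  rw [← tr_of_iso (asIso (F (min a b)).arrow), htr]
  symm
  refine finsum_eq_sum_of_support_subset _ ?_
  intro p hp
  simp only [Finset.coe_Ico, Set.mem_Ico]
  by_contra hcon
  apply hp
  by_cases h1 : p < min a b
  · exact tr_of_isZero (isZero_grPiece_of_top F hF ha' h1)
  · exact tr_of_isZero (isZero_grPiece_of_bot F hF hb (by omega))

end Groth.Agent.H92.SpecTr
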