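import Mathlib
import Groth.Prelude.Def_SpSeq
import Groth.Agent.H92.SpecTrE

/-!
helper92: all pages of a first-quadrant `E₂` spectral sequence of `ℂ[X]`-modules with summable
bounds on the second page satisfy the same bounds and have the same alternating sum of traces;
the traces of the limit terms agree with those of a uniform late page.
-/

set_option autoImplicit false
set_option linter.style.haveILetI false
open CategoryTheory CategoryTheory.Limits Polynomial

namespace Groth.Agent.H92.SpecTr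

universe u

variable (E : E₂CohomologicalSpectralSequence (ModuleCat.{u} ℂ[X]))
  {N : ℕ} {a c : ℕ → ℝ} {b d : ℕ → ℕ}

/-- every page satisfies the bounds, with the same alternating sum of traces -/
theorem pageBd_all (ha : ∀ q, 0 ≤ a q) (hc : ∀ p, 0 ≤ c p)
    (hsum : Summable fun p : ℕ => c p * (d p : ℝ))
    (h2 : PageBd (E.page 2 le_rfl).X N a c b d) :
    ∀ (r : ℤ) (hr : 2 ≤ r), PageBd (E.page r hr).X N a c b d ∧
      ∑' pq : ℕ × ℕ, (-1 : ℂ) ^ (pq.1 + pq.2) * tr ((E.page r hr).X ((pq.1 : ℤ), (pq.2 : ℤ))) =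
      ∑' pq : ℕ × ℕ, (-1 : ℂ) ^ (pq.1 + pq.2) *
        tr ((E.page 2 le_rfl).X ((pq.1 : ℤ), (pq.2 : ℤ))) := by
  refine Int.leInduction ?_ ?_
  · exact ⟨h2, rfl⟩
  · intro r hr ih
    have hv : ((r, 1 - r) : ℤ × ℤ).1 + ((r, 1 - r) : ℤ × ℤ).2 = 1 := by simp
    obtain ⟨hP', hsumeq⟩ := PageBd.next (v := (r, 1 - r)) hv (E.page r hr)
      (E.page (r + 1) (Int.le_add_one hr)).X (fun pq => E.iso r (r + 1) pq rfl hr) ha hc hsum ih.1
    exact ⟨hP', hsumeq.trans ih.2⟩

/-- vanishing above the `N`-th row, at integer positions -/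
lemma PageBd.high' {M : ℤ × ℤ → ModuleCat.{u} ℂ[X]} (h : PageBd M N a c b d) (pq : ℤ × ℤ)
    (hq : (N : ℤ) < pq.2) : IsZero (M pq) := by
  by_cases h1 : pq.1 < 0
  · exact h.quad pq (Or.inl h1)
  · obtain ⟨p, hp⟩ := Int.eq_ofNat_of_zero_le (not_lt.1 h1)
    obtain ⟨q, hq'⟩ := Int.eq_ofNat_of_zero_le (by omega : 0 ≤ pq.2)
    have e : pq = ((p : ℤ), (q : ℤ)) := Prod.ext hp hq'
    rw [e]
    exact h.high p q (by omega)

/-- if the differentials at `pq` vanish from page `r` on, the traces at `pq` are constant from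
page `r` on -/
theorem tr_page_eq_of_d_zero
    (hfin : ∀ (r : ℤ) (hr : 2 ≤ r) (pq : ℤ × ℤ), Module.Finite ℂ (rs.obj ((E.page r hr).X pq)))
    (pq : ℤ × ℤ) (r : ℤ) (hr : 2 ≤ r)
    (hd : ∀ (s : ℤ) (hs : 2 ≤ s), r ≤ s → (E.page s hs).d (pq - (s, 1 - s)) pq = 0 ∧
      (E.page s hs).d pq (pq + (s, 1 - s)) = 0) :
    ∀ (r' : ℤ) (hrr' : r ≤ r'),
      tr ((E.page r' (hr.trans hrr')).X pq) = tr ((E.page r hr).X pq) := by
  refine Int.leInduction ?_ ?_
  · rfl
  · intro s hs ih
    have h2s : 2 ≤ s := hr.trans hs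
    have h1 := tr_homology_eq (E.page s h2s) pq (hfin s h2s pq)
    have hb1 : β (E.page s h2s) pq = 0 := tr_rangeObj_of_eq_zero _ (hd s h2s hs).2
    have hb2 : β (E.page s h2s) (pq - (s, 1 - s)) = 0 := by
      unfold β
      rw [tr_rangeObj_d_congr (E.page s h2s) rfl (sub_add_cancel pq (s, 1 - s))]
      exact tr_rangeObj_of_eq_zero _ (hd s h2s hs).1
    rw [hb1, hb2, sub_zero, sub_zero] at h1
    rw [← tr_of_iso (E.iso s (s + 1) pq rfl h2s), h1]
    exact ih

/-- all differentials vanish from page `N + 2` on -/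
lemma d_zero_of_large (hall : ∀ (r : ℤ) (hr : 2 ≤ r), PageBd (E.page r hr).X N a c b d)
    (pq : ℤ × ℤ) (s : ℤ) (hs : 2 ≤ s) (hsN : (N : ℤ) + 2 ≤ s) :
    (E.page s hs).d (pq - (s, 1 - s)) pq = 0 ∧ (E.page s hs).d pq (pq + (s, 1 - s)) = 0 := by
  have hP := hall s hs
  by_cases hquad : pq.1 < 0 ∨ pq.2 < 0
  · exact ⟨(hP.quad pq hquad).eq_of_tgt _ _, (hP.quad pq hquad).eq_of_src _ _⟩
  · push_neg at hquad
    constructor
    · refine (hP.high' _ ?_).eq_of_src _ _
      simp only [Prod.snd_sub]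
      omega
    · by_cases hq : (N : ℤ) < pq.2
      · exact (hP.high' pq hq).eq_of_src _ _
      · refine (hP.quad _ (Or.inr ?_)).eq_of_tgt _ _
        simp only [Prod.snd_add]
        omega

/-- the trace on the limit term at `pq` is the trace on page `N + 2` -/
theorem tr_limit_eq (hall : ∀ (r : ℤ) (hr : 2 ≤ r), PageBd (E.page r hr).X N a c b d)
    (pq : ℤ × ℤ) (rk : ℤ) (hst : SpSeq.StationaryAt E pq rk) :
    tr ((E.page rk hst.1).X pq) = tr ((E.page ((N : ℤ) + 2) (by omega)).X pq) := by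
  have hfin := fun (r : ℤ) (hr : 2 ≤ r) (pq : ℤ × ℤ) => (hall r hr).fin pq
  have h1 := tr_page_eq_of_d_zero E hfin pq rk hst.1 (fun s hs hrs => hst.2 s hs hrs)
    (max rk ((N : ℤ) + 2)) (le_max_left _ _)
  have h2 := tr_page_eq_of_d_zero E hfin pq ((N : ℤ) + 2) (by omega)
    (fun s hs hrs => d_zero_of_large E hall pq s hs hrs) (max rk ((N : ℤ) + 2)) (le_max_right _ _)
  exact h1.symm.trans h2

open Finset in
/-- resummation of an absolutely summable double series along antidiagonals -/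
theorem tsum_antidiagonal {α : Type*} [NormedAddCommGroup α] [CompleteSpace α] (g : ℕ × ℕ → α)
    (hg : Summable g) :
    Summable (fun n => ∑ kl ∈ antidiagonal n, g kl) ∧
      ∑' n, ∑ kl ∈ antidiagonal n, g kl = ∑' pq, g pq := by
  have h : Summable fun x : Σ n : ℕ, antidiagonal n => g (x.2 : ℕ × ℕ) :=
    (Finset.HasAntidiagonal.sigmaAntidiagonalEquivProd.summable_iff (f := g)).2 hg
  constructor
  · conv => congr; ext; rw [← Finset.sum_finset_coe, ← tsum_fintype (L := .unconditional _)]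
    exact h.sigma' fun n => (hasSum_fintype _).summable
  · conv_lhs => congr; ext; rw [← Finset.sum_finset_coe, ← tsum_fintype (L := .unconditional _)]
    rw [← Finset.HasAntidiagonal.sigmaAntidiagonalEquivProd.tsum_eq g]
    exact (h.tsum_sigma' fun n => (hasSum_fintype _).summable).symm

end Groth.Agent.H92.SpecTr
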