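import Mathlib
import Groth.Prelude.Def_SpSeq
import Groth.Agent.H92.SpecTrF
import Groth.Agent.H92.SpecTrG

/-!
helper92: the alternating sum of traces on the abutment of a first-quadrant `E₂` spectral sequence
of `ℂ[X]`-modules with summable bounds on the second page.
-/

set_option autoImplicit false
set_option linter.style.haveILetI false
open CategoryTheory CategoryTheory.Limits Polynomial

namespace Groth.Agent.H92.SpecTr

universe u

variable (E : E₂CohomologicalSpectralSequence (ModuleCat.{u} ℂ[X]))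
  {N : ℕ} {a c : ℕ → ℝ} {b d : ℕ → ℕ} {H : ℤ → ModuleCat.{u} ℂ[X]} (abut : SpSeq.Abutment E H)

/-- the terms of the late page `N + 2` -/
noncomputable abbrev late (N : ℕ) : ℤ × ℤ → ModuleCat.{u} ℂ[X] :=
  (E.page ((N : ℤ) + 2) (by omega)).X

lemma tr_gr_eq (hall : ∀ (r : ℤ) (hr : 2 ≤ r), PageBd (E.page r hr).X N a c b d)
    (pq : ℤ × ℤ) (n : ℤ) (h : pq.1 + pq.2 = n) :
    tr (SpSeq.grPiece (abut.fil n) (abut.anti n) pq.1) = tr (late E N pq) := by
  subst h
  rw [← tr_of_iso (abut.β pq)]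
  exact tr_limit_eq E hall pq _ (abut.stat pq)

lemma finite_gr (hall : ∀ (r : ℤ) (hr : 2 ≤ r), PageBd (E.page r hr).X N a c b d)
    (pq : ℤ × ℤ) (n : ℤ) (h : pq.1 + pq.2 = n) :
    Module.Finite ℂ (rs.obj (SpSeq.grPiece (abut.fil n) (abut.anti n) pq.1)) := by
  subst h
  exact finite_of_epi (abut.β pq).hom ((hall _ (abut.stat pq).1).fin pq)

/-- the trace on the abutment as a finite sum over the line `p + q = n` -/
theorem tr_H_eq_finsum (hall : ∀ (r : ℤ) (hr : 2 ≤ r), PageBd (E.page r hr).X N a c b d)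
    (hfin : ∀ n, abut.IsFinite n) (n : ℤ) :
    Module.Finite ℂ (rs.obj (H n)) ∧ tr (H n) = ∑ᶠ p : ℤ, tr (late E N (p, n - p)) := by
  obtain ⟨⟨a', ha'⟩, ⟨b', hb'⟩⟩ := hfin n
  have hgr : ∀ p, Module.Finite ℂ (rs.obj (SpSeq.grPiece (abut.fil n) (abut.anti n) p)) :=
    fun p => finite_gr E abut hall (p, n - p) n (by simp)
  obtain ⟨h1, h2⟩ := tr_eq_finsum_gr (abut.fil n) (abut.anti n) hgr ha' hb'
  refine ⟨h1, h2.trans (finsum_congr fun p => ?_)⟩
  exact tr_gr_eq E abut hall (p, n - p) n (by simp)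

/-- the terms of the late page at natural positions -/
noncomputable def lateT (N : ℕ) : ℕ × ℕ → ℂ := fun kl => tr (late E N ((kl.1 : ℤ), (kl.2 : ℤ)))

/-- the signed terms of the late page at natural positions -/
noncomputable def lateG (N : ℕ) : ℕ × ℕ → ℂ := fun kl => (-1 : ℂ) ^ (kl.1 + kl.2) * lateT E N kl

theorem tr_H_eq_sum (hall : ∀ (r : ℤ) (hr : 2 ≤ r), PageBd (E.page r hr).X N a c b d)
    (hfin : ∀ n, abut.IsFinite n) (n : ℕ) :
    tr (H (n : ℤ)) = ∑ kl ∈ Finset.HasAntidiagonal.antidiagonal n, lateT E N kl := by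
  rw [(tr_H_eq_finsum E abut hall hfin n).2]
  rw [Finset.Nat.sum_antidiagonal_eq_sum_range_succ_mk]
  have hsupp : (Function.support fun p : ℤ => tr (late E N (p, (n : ℤ) - p))) ⊆
      ↑((Finset.range n.succ).map ⟨fun k : ℕ => (k : ℤ), Nat.cast_injective⟩) := by
    intro p hp
    simp only [Finset.coe_map, Function.Embedding.coeFn_mk, Finset.coe_range, Set.mem_image,
      Set.mem_Iio]
    by_contra hcon
    apply hp
    have hquad : p < 0 ∨ (n : ℤ) - p < 0 := by
      by_contra h'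
      push Not at h'
      apply hcon
      refine ⟨p.toNat, ?_, Int.toNat_of_nonneg h'.1⟩
      omega
    exact tr_of_isZero ((hall _ _).quad (p, (n : ℤ) - p) hquad)
  rw [finsum_eq_sum_of_support_subset _ hsupp, Finset.sum_map]
  refine Finset.sum_congr rfl fun k hk => ?_
  have hk' : k ≤ n := Nat.lt_succ_iff.1 (Finset.mem_range.1 hk)
  simp only [Function.Embedding.coeFn_mk, lateT]
  rw [Nat.cast_sub hk']

/-- **the abutment version of the trace formula** -/
theorem abutment_trace (hfin : ∀ n, abut.IsFinite n)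
    (ha : ∀ q, 0 ≤ a q) (hc : ∀ p, 0 ≤ c p) (hsum : Summable fun p : ℕ => c p * (d p : ℝ))
    (h2 : PageBd (E.page 2 le_rfl).X N a c b d) :
    Summable (fun n : ℕ => ‖tr (H (n : ℤ))‖) ∧
      ∑' n : ℕ, (-1 : ℂ) ^ n * tr (H (n : ℤ)) =
        ∑' pq : ℕ × ℕ, (-1 : ℂ) ^ (pq.1 + pq.2) *
          tr ((E.page 2 le_rfl).X ((pq.1 : ℤ), (pq.2 : ℤ))) := by
  have hallsum := pageBd_all E ha hc hsum h2
  have hall : ∀ (r : ℤ) (hr : 2 ≤ r), PageBd (E.page r hr).X N a c b d :=
    fun r hr => (hallsum r hr).1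
  have hlate := hallsum ((N : ℤ) + 2) (by omega)
  have hmaj : Summable (major N a c b d) := summable_major ha hc hsum
  have hTle : ∀ kl, ‖lateT E N kl‖ ≤ major N a c b d kl := fun kl => hlate.1.norm_tr_le ha hc kl
  have hgn : ∀ kl, ‖lateG E N kl‖ = ‖lateT E N kl‖ := fun kl => by
    simp only [lateG, norm_mul, norm_pow, norm_neg, norm_one, one_pow, one_mul]
  have hTsum : Summable fun kl => ‖lateT E N kl‖ :=
    Summable.of_nonneg_of_le (fun _ => norm_nonneg _) hTle hmaj
  have hgsum : Summable (lateG E N) := by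
    refine Summable.of_norm ?_
    simpa only [hgn] using hTsum
  have hH : ∀ n : ℕ, tr (H (n : ℤ)) = ∑ kl ∈ Finset.HasAntidiagonal.antidiagonal n, lateT E N kl :=
    fun n => tr_H_eq_sum E abut hall hfin n
  constructor
  · obtain ⟨hs, -⟩ := tsum_antidiagonal (fun kl => ‖lateT E N kl‖) hTsum
    refine Summable.of_nonneg_of_le (fun _ => norm_nonneg _) (fun n => ?_) hs
    rw [hH n]
    exact norm_sum_le _ _
  · obtain ⟨-, ht⟩ := tsum_antidiagonal (lateG E N) hgsum
    refine Eq.trans ?_ (ht.trans hlate.2)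
    refine tsum_congr fun n => ?_
    rw [hH n, Finset.mul_sum]
    refine Finset.sum_congr rfl fun kl hkl => ?_
    rw [Finset.HasAntidiagonal.mem_antidiagonal] at hkl
    simp only [lateG, hkl]

end Groth.Agent.H92.SpecTr
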