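import Groth.Prelude.Def_Versch
import Groth.Agent.H74.RelFrobAlg
import Mathlib

/-!
# Over a field: the Verschiebung is bijective iff the Cartier dual is étale
-/

set_option autoImplicit false
universe u v
open TensorProduct WithConv Coalgebra

namespace Groth.Agent.H92.VerschEt

section unram
variable (p : ℕ) [Fact p.Prime] (k : Type u) [CommRing k] [CharP k p] (B : Type v) [CommRing B]
  [Algebra k B] [CharP B p]

theorem relFrob_tmul (b : B) (t : FrobAlg.Twist p k) :
    FrobAlg.relFrob p k B (b ⊗ₜ t) = b ^ p * algebraMap k B ((FrobAlg.toTwist p k).symm t) :=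
  Groth.Agent.H74.RelFrobAlg.relFrob_tmul p k B b t

/-- If the relative Frobenius is surjective, the algebra is formally unramified. -/
theorem formallyUnramified_of_relFrob_surjective
    (h : Function.Surjective (FrobAlg.relFrob p k B)) :
    Algebra.FormallyUnramified k B := by
  constructor
  have hD : ∀ b : B, KaehlerDifferential.D k B b = 0 := by
    intro b
    obtain ⟨z, rfl⟩ := h b
    induction z using TensorProduct.induction_on with
    | zero => simp
    | tmul b t =>
      rw [relFrob_tmul, Derivation.leibniz, Derivation.map_algebraMap, smul_zero, zero_add,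
        Derivation.leibniz_pow]
      have : (p : B) = 0 := CharP.cast_eq_zero B p
      rw [← Nat.cast_smul_eq_nsmul B, this, zero_smul, smul_zero]
    | add x y hx hy => rw [map_add, map_add, hx, hy, add_zero]
  have htop := KaehlerDifferential.span_range_derivation k B
  have hrange : Set.range (KaehlerDifferential.D k B) = {0} := by
    ext w
    constructor
    · rintro ⟨b, rfl⟩
      exact hD b
    · rintro rfl
      exact ⟨0, map_zero _⟩
  rw [hrange, Submodule.span_zero_singleton] at htop
  exact (Submodule.subsingleton_iff B).1 (subsingleton_iff_bot_eq_top.1 htop)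

end unram

section field
variable (p : ℕ) [Fact p.Prime] (k : Type u) [Field k] [CharP k p] (B : Type v) [CommRing B]
  [Algebra k B] [CharP B p] [Module.Finite k B]

theorem etale_iff_relFrob_bijective :
    Algebra.Etale k B ↔ Function.Bijective (FrobAlg.relFrob p k B) := by
  constructor
  · intro h
    exact Groth.Agent.H74.RelFrobAlg.relFrob_bijective_of_etale p k B
  · intro h
    haveI := formallyUnramified_of_relFrob_surjective p k B h.2
    haveI : Algebra.FormallyEtale k B := Algebra.FormallyEtale.of_formallyUnramified_of_field k B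
    haveI : Algebra.FiniteType k B := inferInstance
    haveI : Algebra.FinitePresentation k B := Algebra.FinitePresentation.of_finiteType.mp inferInstance
    exact ⟨inferInstance, inferInstance⟩

end field

section matrix
variable (p : ℕ) [Fact p.Prime] (k : Type u) [Field k] [CharP k p]
  (A : Type v) [CommRing A] [HopfAlgebra k A] [FiniteDimensional k A]

/-- the chosen basis of `A` -/
noncomputable abbrev bas : Module.Basis (Fin (Module.finrank k A)) k A := Module.finBasis k A

/-- the dual basis, in the convolution algebra -/
noncomputable def cd (i : Fin (Module.finrank k A)) : CartDual.D k A := toConv ((bas k A).coord i)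

theorem cd_apply (i : Fin (Module.finrank k A)) (a : A) : cd k A i a = (bas k A).repr a i := rfl

theorem cd_bas (i j : Fin (Module.finrank k A)) : cd k A i (bas k A j) = if j = i then 1 else 0 := by
  rw [cd_apply, Module.Basis.repr_self, Finsupp.single_apply]

/-- the matrix of the `p`-th power map of the dual -/
noncomputable def M : Matrix (Fin (Module.finrank k A)) (Fin (Module.finrank k A)) k :=
  fun i j => ((cd k A i) ^ p) (bas k A j)

/-- coordinates on `A ⊗ Tw` -/
noncomputable def PhiA (z : FrobAlg.BaseChange p k A) : Fin (Module.finrank k A) → FrobAlg.Twist p k :=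
  fun i => Versch.evTw p k A (cd k A i) z

theorem expand (z : FrobAlg.BaseChange p k A) :
    z = ∑ i, bas k A i ⊗ₜ[k] PhiA p k A z i := by
  induction z using TensorProduct.induction_on with
  | zero => simp [PhiA]
  | add z w hz hw =>
    conv_lhs => rw [hz, hw]
    rw [← Finset.sum_add_distrib]
    refine Finset.sum_congr rfl (fun i _ => ?_)
    unfold PhiA
    rw [map_add, TensorProduct.tmul_add]
  | tmul a s =>
    conv_lhs => rw [← (bas k A).sum_repr a, TensorProduct.sum_tmul]
    refine Finset.sum_congr rfl (fun i _ => ?_)
    unfold PhiA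
    rw [Versch.evTw_tmul, TensorProduct.smul_tmul, Algebra.smul_def, cd_apply]

theorem PhiA_sum (t : Fin (Module.finrank k A) → FrobAlg.Twist p k) :
    PhiA p k A (∑ i, bas k A i ⊗ₜ[k] t i) = t := by
  funext j
  unfold PhiA
  rw [map_sum, Finset.sum_eq_single j]
  · rw [Versch.evTw_tmul, cd_bas, if_pos rfl, map_one, one_mul]
  · intro i _ hij
    rw [Versch.evTw_tmul, cd_bas, if_neg hij, map_zero, zero_mul]
  · intro h; exact absurd (Finset.mem_univ j) h

theorem PhiA_bijective : Function.Bijective (PhiA p k A) := by
  constructor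
  · intro z z' h
    rw [expand p k A z, expand p k A z', h]
  · intro t
    exact ⟨_, PhiA_sum p k A t⟩

variable [Coalgebra.IsCocomm k A]

theorem PhiA_v (v : A →+* FrobAlg.BaseChange p k A) (hv : Versch.IsVerschiebung p k A v) (a : A) :
    PhiA p k A (v a) = fun i => FrobAlg.toTwist p k ((M p k A).mulVec ((bas k A).equivFun a) i) := by
  rw [Versch.isVerschiebung_iff] at hv
  funext i
  unfold PhiA
  rw [hv]
  congr 1
  conv_lhs => rw [← (bas k A).sum_repr a]
  rw [CartDual.coe_apply, map_sum, Matrix.mulVec, dotProduct]
  refine Finset.sum_congr rfl (fun j _ => ?_)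
  rw [map_smul, smul_eq_mul, mul_comm]
  rfl

theorem v_bijective_iff (v : A →+* FrobAlg.BaseChange p k A) (hv : Versch.IsVerschiebung p k A v) :
    Function.Bijective v ↔ Function.Bijective (M p k A).mulVec := by
  let T : (Fin (Module.finrank k A) → k) ≃ (Fin (Module.finrank k A) → FrobAlg.Twist p k) :=
    Equiv.piCongrRight fun _ => (FrobAlg.toTwist p k).toEquiv
  have h : (PhiA p k A) ∘ v = T ∘ (M p k A).mulVec ∘ (bas k A).equivFun := by
    funext a
    exact PhiA_v p k A v hv a
  rw [← Function.Bijective.of_comp_iff' (PhiA_bijective p k A) v, h,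
    Function.Bijective.of_comp_iff' T.bijective,
    Function.Bijective.of_comp_iff _ (bas k A).equivFun.bijective]

/-- coordinates on the dual -/
noncomputable def PsiD (y : CartDual.D k A) : Fin (Module.finrank k A) → k :=
  fun j => y (bas k A j)

omit [CharP k p] [Coalgebra.IsCocomm k A] in
theorem PsiD_bijective : Function.Bijective (PsiD k A) := by
  constructor
  · intro y y' h
    have h1 : y.ofConv = y'.ofConv := by
      apply (bas k A).ext
      intro j
      exact congrFun h j
    exact congrArg toConv h1
  · intro c
    refine ⟨toConv ((bas k A).constr k c), ?_⟩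
    funext j
    change (bas k A).constr k c (bas k A j) = c j
    rw [Module.Basis.constr_basis]

/-- parametrisation of `D ⊗ Tw` -/
noncomputable def PhiD (t : Fin (Module.finrank k A) → FrobAlg.Twist p k) :
    FrobAlg.BaseChange p k (CartDual.D k A) :=
  ∑ i, cd k A i ⊗ₜ[k] t i

/-- the `j`-th coordinate functional on `D ⊗ Tw` -/
noncomputable def prD (j : Fin (Module.finrank k A)) :
    FrobAlg.BaseChange p k (CartDual.D k A) →ₗ[k] FrobAlg.Twist p k :=
  (TensorProduct.lid k (FrobAlg.Twist p k)).toLinearMap ∘ₗ
    LinearMap.rTensor (FrobAlg.Twist p k)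
      ((LinearMap.applyₗ (bas k A j)) ∘ₗ (WithConv.linearEquiv k (A →ₗ[k] k)).toLinearMap)

theorem prD_tmul (j : Fin (Module.finrank k A)) (y : CartDual.D k A) (s : FrobAlg.Twist p k) :
    prD p k A j (y ⊗ₜ[k] s) = (y (bas k A j)) • s := by
  simp [prD, CartDual.coe_apply]

theorem PhiD_bijective : Function.Bijective (PhiD p k A) := by
  constructor
  · intro t t' h
    funext j
    have h1 := congrArg (prD p k A j) h
    unfold PhiD at h1
    rw [map_sum, map_sum, Finset.sum_eq_single j, Finset.sum_eq_single j] at h1
    · rwa [prD_tmul, prD_tmul, cd_bas, if_pos rfl, one_smul, one_smul] at h1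
    · intro i _ hij
      rw [prD_tmul, cd_bas, if_neg (Ne.symm hij), zero_smul]
    · intro h; exact absurd (Finset.mem_univ j) h
    · intro i _ hij
      rw [prD_tmul, cd_bas, if_neg (Ne.symm hij), zero_smul]
    · intro h; exact absurd (Finset.mem_univ j) h
  · intro z
    induction z using TensorProduct.induction_on with
    | zero => exact ⟨0, by simp [PhiD]⟩
    | add z w hz hw =>
      obtain ⟨t, rfl⟩ := hz
      obtain ⟨t', rfl⟩ := hw
      refine ⟨t + t', ?_⟩
      unfold PhiD
      rw [← Finset.sum_add_distrib]
      refine Finset.sum_congr rfl (fun i _ => ?_)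
      rw [Pi.add_apply, TensorProduct.tmul_add]
    | tmul y s =>
      refine ⟨fun i => (y (bas k A i)) • s, ?_⟩
      unfold PhiD
      have h1 : y = ∑ i, (y (bas k A i)) • cd k A i := by
        have h2 := (bas k A).sum_dual_apply_smul_coord y.ofConv
        have h3 : y.ofConv = (∑ i, (y (bas k A i)) • cd k A i).ofConv := by
          rw [WithConv.ofConv_sum]
          exact h2.symm
        exact congrArg toConv h3
      conv_rhs => rw [h1, TensorProduct.sum_tmul]
      refine Finset.sum_congr rfl (fun i _ => ?_)
      rw [TensorProduct.smul_tmul]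

theorem PsiD_relFrob_PhiD (t : Fin (Module.finrank k A) → FrobAlg.Twist p k) :
    PsiD k A (FrobAlg.relFrob p k (CartDual.D k A) (PhiD p k A t)) =
      (M p k A).vecMul (fun i => (FrobAlg.toTwist p k).symm (t i)) := by
  funext j
  unfold PsiD PhiD
  rw [map_sum, Matrix.vecMul, dotProduct]
  have : (∑ i, FrobAlg.relFrob p k (CartDual.D k A) (cd k A i ⊗ₜ[k] t i)) (bas k A j) =
      ∑ i, (FrobAlg.relFrob p k (CartDual.D k A) (cd k A i ⊗ₜ[k] t i)) (bas k A j) := by
    rw [CartDual.coe_apply, WithConv.ofConv_sum, LinearMap.sum_apply]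
  rw [this]
  refine Finset.sum_congr rfl (fun i _ => ?_)
  rw [Versch.relFrob_dual_tmul_apply]
  rfl

theorem relFrob_bijective_iff :
    Function.Bijective (FrobAlg.relFrob p k (CartDual.D k A)) ↔
      Function.Bijective (M p k A).vecMul := by
  let T : (Fin (Module.finrank k A) → FrobAlg.Twist p k) ≃ (Fin (Module.finrank k A) → k) :=
    Equiv.piCongrRight fun _ => (FrobAlg.toTwist p k).symm.toEquiv
  have h : (PsiD k A) ∘ (FrobAlg.relFrob p k (CartDual.D k A)) ∘ (PhiD p k A) =
      (M p k A).vecMul ∘ T := by
    funext t
    exact PsiD_relFrob_PhiD p k A t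
  have e1 : Function.Bijective (FrobAlg.relFrob p k (CartDual.D k A)) ↔
      Function.Bijective ((PsiD k A) ∘ (FrobAlg.relFrob p k (CartDual.D k A)) ∘ (PhiD p k A)) := by
    rw [Function.Bijective.of_comp_iff' (PsiD_bijective k A),
      Function.Bijective.of_comp_iff _ (PhiD_bijective p k A)]
  rw [e1, h, Function.Bijective.of_comp_iff _ T.bijective]

theorem main (v : A →+* FrobAlg.BaseChange p k A) (hv : Versch.IsVerschiebung p k A v) :
    Algebra.Etale k (CartDual.D k A) ↔ Function.Bijective v := by
  rw [etale_iff_relFrob_bijective p k (CartDual.D k A), relFrob_bijective_iff, v_bijective_iff p k A v hv]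
  constructor
  · intro h
    have hu := Matrix.vecMul_injective_iff_isUnit.mp h.1
    exact ⟨Matrix.mulVec_injective_iff_isUnit.mpr hu, Matrix.mulVec_surjective_iff_isUnit.mpr hu⟩
  · intro h
    have hu := Matrix.mulVec_injective_iff_isUnit.mp h.1
    exact ⟨Matrix.vecMul_injective_iff_isUnit.mpr hu, Matrix.vecMul_surjective_iff_isUnit.mpr hu⟩

end matrix

end Groth.Agent.H92.VerschEt
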