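import Groth.Prelude.Def_Versch
import Groth.Prelude.Def_SGA3b
import Mathlib

/-!
# Verschiebung: `V ∘ F = [p]` and `F ∘ V = [p]`

The identity of `A` is a finite sum `∑ ε_i` of rank-one maps `ε_i = e_i ⊗ e_i^*` in the (commutative,
characteristic `p`) convolution algebra `A →ₗ A`, hence `id^p = ∑ ε_i^p`, which is `F^* ∘ V^*`.
-/

set_option autoImplicit false
universe u
open TensorProduct WithConv Coalgebra

namespace Groth.Agent.H92.VerschFV

section dualbasis
variable (R : Type u) [CommRing R] (A : Type u) [AddCommGroup A] [Module R A] [Module.Finite R A]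
  [Module.Projective R A]

theorem exists_dual_basis : ∃ (n : ℕ) (e : Fin n → A) (es : Fin n → (A →ₗ[R] R)),
    ∀ a : A, a = ∑ i, es i a • e i := by
  obtain ⟨n, f, g, -, -, hfg⟩ := Module.Finite.exists_comp_eq_id_of_projective R A
  refine ⟨n, fun i => f (Pi.single i 1), fun i => LinearMap.proj i ∘ₗ g, fun a => ?_⟩
  have h1 : f (g a) = a := LinearMap.congr_fun hfg a
  have h2 : g a = ∑ i, (g a i) • (Pi.single i (1 : R) : Fin n → R) := by
    ext j
    simp [Finset.sum_apply, Pi.single_apply]
  conv_lhs => rw [← h1, h2, map_sum]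
  refine Finset.sum_congr rfl (fun i _ => ?_)
  rw [map_smul]
  rfl

end dualbasis

section conv
variable {R : Type u} [CommRing R] {A : Type u} [CommRing A] [Bialgebra R A]

/-- the rank-one map `a ↦ x a • u` -/
noncomputable def sm (u : A) (x : WithConv (A →ₗ[R] R)) : WithConv (A →ₗ[R] A) :=
  toConv ((LinearMap.toSpanSingleton R A u) ∘ₗ x.ofConv)

theorem sm_apply (u : A) (x : WithConv (A →ₗ[R] R)) (a : A) : sm u x a = x a • u := rfl

theorem sm_mul (u w : A) (x y : WithConv (A →ₗ[R] R)) : sm u x * sm w y = sm (u * w) (x * y) := by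
  ext a
  rw [(ℛ R a).convMul_apply, sm_apply, (ℛ R a).convMul_apply, Finset.sum_smul]
  refine Finset.sum_congr rfl (fun i _ => ?_)
  rw [sm_apply, sm_apply, smul_mul_smul_comm]

theorem sm_one : sm (1 : A) (1 : WithConv (A →ₗ[R] R)) = 1 := by
  ext a
  rw [sm_apply, LinearMap.convOne_apply, LinearMap.convOne_apply, Algebra.algebraMap_eq_smul_one,
    Algebra.algebraMap_eq_smul_one, smul_eq_mul, mul_one]

theorem sm_pow (u : A) (x : WithConv (A →ₗ[R] R)) (n : ℕ) : sm u x ^ n = sm (u ^ n) (x ^ n) := by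
  induction n with
  | zero => rw [pow_zero, pow_zero, pow_zero, sm_one]
  | succ n ih => rw [pow_succ, ih, sm_mul, pow_succ, pow_succ]

end conv

section main
variable (p : ℕ) [Fact p.Prime] (R : Type u) [CommRing R] [CharP R p]
  (A : Type u) [CommRing A] [HopfAlgebra R A]

theorem algebraMap_conv_injective :
    Function.Injective (algebraMap R (WithConv (A →ₗ[R] A))) := by
  intro r s h
  have h1 := congrArg (fun x : WithConv (A →ₗ[R] A) => Coalgebra.counit (R := R) (x 1)) h
  simpa [LinearMap.convAlgebraMap_apply, Algebra.smul_def] using h1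

instance instCharPConv : CharP (WithConv (A →ₗ[R] A)) p :=
  charP_of_injective_algebraMap (algebraMap_conv_injective R A) p

variable {R A}

theorem id_eq_sum {n : ℕ} (e : Fin n → A) (es : Fin n → (A →ₗ[R] R))
    (h : ∀ a : A, a = ∑ i, es i a • e i) :
    toConv (LinearMap.id : A →ₗ[R] A) = ∑ i, sm (e i) (toConv (es i)) := by
  ext a
  have : (∑ i, sm (e i) (toConv (es i))) a = ∑ i, (sm (e i) (toConv (es i))) a := by
    change (WithConv.ofConv (∑ i, sm (e i) (toConv (es i)))) a = _
    rw [WithConv.ofConv_sum, LinearMap.sum_apply]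
  rw [this]
  exact h a

variable [Coalgebra.IsCocomm R A]

theorem powConv_apply {n : ℕ} (e : Fin n → A) (es : Fin n → (A →ₗ[R] R))
    (h : ∀ a : A, a = ∑ i, es i a • e i) (a : A) :
    SGA3b.powConv R A p a = ∑ i, ((toConv (es i) : WithConv (A →ₗ[R] R)) ^ p) a • (e i) ^ p := by
  have h1 := AlgHom.toLinearMap_convPow (toConv (AlgHom.id R A)) p
  have h2 : toConv (toConv (AlgHom.id R A)).ofConv.toLinearMap =
      toConv (LinearMap.id : A →ₗ[R] A) := rfl
  rw [h2, id_eq_sum e es h, sum_pow_char] at h1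
  have h3 : SGA3b.powConv R A p a = (toConv ((toConv (AlgHom.id R A)) ^ p).ofConv.toLinearMap) a := rfl
  rw [h3, h1]
  have : (∑ i, sm (e i) (toConv (es i)) ^ p) a = ∑ i, (sm (e i) (toConv (es i)) ^ p) a := by
    change (WithConv.ofConv (∑ i, sm (e i) (toConv (es i)) ^ p)) a = _
    rw [WithConv.ofConv_sum, LinearMap.sum_apply]
  rw [this]
  refine Finset.sum_congr rfl (fun i _ => ?_)
  rw [sm_pow, sm_apply]

end main

section versch
variable (p : ℕ) [Fact p.Prime] (R : Type u) [CommRing R] [CharP R p]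
  (A : Type u) [CommRing A] [HopfAlgebra R A]

theorem relFrob_tmul [CharP A p] (b : A) (t : FrobAlg.Twist p R) :
    FrobAlg.relFrob p R A (b ⊗ₜ t) = b ^ p * algebraMap R A ((FrobAlg.toTwist p R).symm t) := by
  simp [FrobAlg.relFrob, FrobAlg.frobHom, FrobAlg.inclHom, Algebra.TensorProduct.lift_tmul]
  rfl

variable {R A}

theorem expand {n : ℕ} (e : Fin n → A) (es : Fin n → (A →ₗ[R] R))
    (h : ∀ a : A, a = ∑ i, es i a • e i) (z : FrobAlg.BaseChange p R A) :
    z = ∑ i, e i ⊗ₜ[R] Versch.evTw p R A (toConv (es i)) z := by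
  induction z using TensorProduct.induction_on with
  | zero => simp
  | add z w hz hw =>
    conv_lhs => rw [hz, hw]
    rw [← Finset.sum_add_distrib]
    refine Finset.sum_congr rfl (fun i _ => ?_)
    rw [map_add, TensorProduct.tmul_add]
  | tmul a s =>
    conv_lhs => rw [h a, TensorProduct.sum_tmul]
    refine Finset.sum_congr rfl (fun i _ => ?_)
    rw [Versch.evTw_tmul, TensorProduct.smul_tmul, Algebra.smul_def]

variable [Coalgebra.IsCocomm R A] [Module.Finite R A] [Module.Projective R A]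

theorem v_apply {n : ℕ} (e : Fin n → A) (es : Fin n → (A →ₗ[R] R))
    (h : ∀ a : A, a = ∑ i, es i a • e i)
    (v : A →+* FrobAlg.BaseChange p R A) (hv : Versch.IsVerschiebung p R A v) (a : A) :
    v a = ∑ i, e i ⊗ₜ[R] FrobAlg.toTwist p R (((toConv (es i) : CartDual.D R A) ^ p) a) := by
  rw [Versch.isVerschiebung_iff] at hv
  conv_lhs => rw [expand p e es h (v a)]
  refine Finset.sum_congr rfl (fun i _ => ?_)
  rw [hv]

/-- `V ∘ F = [p]` -/
theorem relFrob_comp_v [CharP A p]
    (v : A →+* FrobAlg.BaseChange p R A) (hv : Versch.IsVerschiebung p R A v) :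
    (FrobAlg.relFrob p R A).comp v = (SGA3b.powConv R A p).toRingHom := by
  obtain ⟨n, e, es, h⟩ := exists_dual_basis R A
  ext a
  change FrobAlg.relFrob p R A (v a) = SGA3b.powConv R A p a
  rw [v_apply p e es h v hv a, powConv_apply p e es h a, map_sum]
  refine Finset.sum_congr rfl (fun i _ => ?_)
  rw [relFrob_tmul, RingEquiv.symm_apply_apply, Algebra.smul_def, mul_comm]

end versch

end Groth.Agent.H92.VerschFV
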