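import Groth.Agent.H92.VerschVF

/-!
# Verschiebung bijective and `[p^n] = 0` imply `F^n = 0`
-/

set_option autoImplicit false
universe u
open TensorProduct WithConv Coalgebra

namespace Groth.Agent.H92.VerschInf
open Groth.Agent.H92.VerschFV Groth.Agent.H92.VerschVF

section
variable (p : ℕ) [Fact p.Prime] {R : Type u} [CommRing R] [CharP R p]
  {A : Type u} [CommRing A] [HopfAlgebra R A] [Coalgebra.IsCocomm R A] [Module.Finite R A]
  [Module.Projective R A] [CharP A p]

theorem v_relFrob_tmul (v : A →+* FrobAlg.BaseChange p R A) (hv : Versch.IsVerschiebung p R A v)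
    (a : A) (s : FrobAlg.Twist p R) :
    v (FrobAlg.relFrob p R A (a ⊗ₜ[R] s)) = (SGA3b.powConv R A p a) ⊗ₜ[R] s := by
  obtain ⟨n, e, es, h⟩ := exists_dual_basis R A
  rw [relFrob_tmul, map_mul, map_pow, v_pow_p p e es h v hv,
    v_algebraMap p v hv, RingEquiv.apply_symm_apply, Algebra.TensorProduct.tmul_mul_tmul, mul_one,
    one_mul]

theorem v_pow (v : A →+* FrobAlg.BaseChange p R A) (hv : Versch.IsVerschiebung p R A v) (a : A) :
    v (a ^ p) = (SGA3b.powConv R A p a) ⊗ₜ[R] (1 : FrobAlg.Twist p R) := by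
  have := v_relFrob_tmul p v hv a 1
  rwa [relFrob_tmul, map_one, map_one, mul_one] at this

theorem relFrob_v (v : A →+* FrobAlg.BaseChange p R A) (hv : Versch.IsVerschiebung p R A v) (a : A) :
    FrobAlg.relFrob p R A (v a) = SGA3b.powConv R A p a :=
  RingHom.congr_fun (relFrob_comp_v p v hv) a

/-- main: if `V` is bijective then `a^(p^m) = θ_m ([p^m] a)` for a ring endomorphism `θ_m`. -/
theorem exists_theta (v : A →+* FrobAlg.BaseChange p R A) (hv : Versch.IsVerschiebung p R A v)
    (hbij : Function.Bijective v) (m : ℕ) :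
    ∃ θ : A →+* A, ∀ a : A, a ^ (p ^ m) = θ (SGA3b.powConv R A (p ^ m) a) := by
  let w : FrobAlg.BaseChange p R A ≃+* A := (RingEquiv.ofBijective v hbij).symm
  have hwv : ∀ a, w (v a) = a := fun a => (RingEquiv.ofBijective v hbij).symm_apply_apply a
  let ι : A →+* FrobAlg.BaseChange p R A :=
    (Algebra.TensorProduct.includeLeft : A →ₐ[R] A ⊗[R] FrobAlg.Twist p R).toRingHom
  let θ : A →+* A := (w : FrobAlg.BaseChange p R A →+* A).comp ι
  have hθ : ∀ a, θ a = w (a ⊗ₜ[R] (1 : FrobAlg.Twist p R)) := fun a => rfl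
  -- φ = θ ∘ P
  have h1 : ∀ a : A, a ^ p = θ (SGA3b.powConv R A p a) := by
    intro a
    rw [hθ, ← v_pow p v hv a, hwv]
  induction m with
  | zero =>
    refine ⟨RingHom.id A, fun a => ?_⟩
    rw [pow_zero, pow_one, Groth.Agent.H92.OTEigen.powConv_one]
    rfl
  | succ m ih =>
    obtain ⟨θm, hm⟩ := ih
    refine ⟨θm.comp θ, fun a => ?_⟩
    rw [pow_succ, pow_mul, hm, ← map_pow, h1, mul_comm, Groth.Agent.H92.OTEigen.powConv_mul]
    rfl

/-- If the Verschiebung is bijective and `[p^n]` is trivial then `a^(p^n) = 0` on the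
augmentation ideal. -/
theorem pow_eq_zero (v : A →+* FrobAlg.BaseChange p R A) (hv : Versch.IsVerschiebung p R A v)
    (hbij : Function.Bijective v) (n : ℕ)
    (hn : SGA3b.powConv R A (p ^ n) = (Algebra.ofId R A).comp (Bialgebra.counitAlgHom R A))
    (a : A) (ha : Coalgebra.counit (R := R) a = 0) : a ^ (p ^ n) = 0 := by
  obtain ⟨θ, h⟩ := exists_theta p v hv hbij n
  rw [h a, hn]
  change θ (algebraMap R A (Coalgebra.counit (R := R) a)) = 0
  rw [ha, map_zero, map_zero]

end

end Groth.Agent.H92.VerschInf
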