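import Groth.Agent.H92.VerschFV
import Groth.Agent.H92.OTBase

/-!
# Verschiebung: `F ∘ V = [p]` on `G^(p)`
-/

set_option autoImplicit false
universe u
open TensorProduct WithConv Coalgebra

namespace Groth.Agent.H92.VerschVF
open Groth.Agent.H92.VerschFV

section
variable (p : ℕ) [Fact p.Prime] (R : Type u) [CommRing R] [CharP R p]
  (A : Type u) [CommRing A] [HopfAlgebra R A]

/-- the retraction `A ⊗ Tw → Tw` induced by the counit -/
noncomputable def retr : FrobAlg.BaseChange p R A →ₗ[R] FrobAlg.Twist p R :=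
  Versch.evTw p R A (toConv (Coalgebra.counit (R := R) (A := A)))

theorem retr_one_tmul (s : FrobAlg.Twist p R) : retr p R A ((1 : A) ⊗ₜ[R] s) = s := by
  unfold retr
  rw [Versch.evTw_tmul]
  change algebraMap R (FrobAlg.Twist p R) (Coalgebra.counit (R := R) (1 : A)) * s = s
  rw [Bialgebra.counit_one, map_one, one_mul]

theorem algebraMap_twist_injective :
    Function.Injective (algebraMap (FrobAlg.Twist p R) (FrobAlg.BaseChange p R A)) := by
  intro s t h
  have h1 : algebraMap (FrobAlg.Twist p R) (FrobAlg.BaseChange p R A) s = (1 : A) ⊗ₜ[R] s := rfl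
  have h2 : algebraMap (FrobAlg.Twist p R) (FrobAlg.BaseChange p R A) t = (1 : A) ⊗ₜ[R] t := rfl
  rw [h1, h2] at h
  have := congrArg (retr p R A) h
  rwa [retr_one_tmul, retr_one_tmul] at this

instance instCharPBaseChange : CharP (FrobAlg.BaseChange p R A) p :=
  charP_of_injective_algebraMap (algebraMap_twist_injective p R A) p

end

section
variable (p : ℕ) [Fact p.Prime] {R : Type u} [CommRing R] [CharP R p]
  {A : Type u} [CommRing A] [HopfAlgebra R A] [Coalgebra.IsCocomm R A] [Module.Finite R A]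
  [Module.Projective R A]

theorem counit_pow (x : CartDual.D R A) (n : ℕ) :
    CartDual.counit R A (x ^ n) = (CartDual.counit R A x) ^ n := by
  induction n with
  | zero => rw [pow_zero, pow_zero, CartDual.counit_one']
  | succ n ih => rw [pow_succ, pow_succ, CartDual.counit_mul', ih]

theorem v_algebraMap (v : A →+* FrobAlg.BaseChange p R A) (hv : Versch.IsVerschiebung p R A v)
    (r : R) : v (algebraMap R A r) = (1 : A) ⊗ₜ[R] FrobAlg.toTwist p R r := by
  rw [Versch.isVerschiebung_iff] at hv
  apply Versch.evTw_injective p R A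
  intro x
  rw [hv, Versch.evTw_tmul]
  have h1 : (x ^ p) (algebraMap R A r) = r * (x (1 : A)) ^ p := by
    rw [Algebra.algebraMap_eq_smul_one, CartDual.coe_apply, map_smul, smul_eq_mul,
      ← CartDual.coe_apply, ← CartDual.counit_apply, ← CartDual.counit_apply]
    rw [counit_pow]
  rw [h1, map_mul, FrobAlg.algebraMap_twist, mul_comm]

theorem v_pow_p {n : ℕ} (e : Fin n → A) (es : Fin n → (A →ₗ[R] R))
    (h : ∀ a : A, a = ∑ i, es i a • e i)
    (v : A →+* FrobAlg.BaseChange p R A) (hv : Versch.IsVerschiebung p R A v) (a : A) :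
    (v a) ^ p = (SGA3b.powConv R A p a) ⊗ₜ[R] (1 : FrobAlg.Twist p R) := by
  rw [v_apply p e es h v hv a, sum_pow_char, powConv_apply p e es h a, TensorProduct.sum_tmul]
  refine Finset.sum_congr rfl (fun i _ => ?_)
  rw [Algebra.TensorProduct.tmul_pow, ← map_pow, ← FrobAlg.algebraMap_twist,
    Algebra.algebraMap_eq_smul_one, TensorProduct.smul_tmul]

/-- `F ∘ V = [p]` on `G^(p)` -/
theorem v_comp_relFrob [CharP A p]
    (v : A →+* FrobAlg.BaseChange p R A) (hv : Versch.IsVerschiebung p R A v) :
    ((Algebra.TensorProduct.comm R A (FrobAlg.Twist p R)).toRingEquiv.toRingHom.comp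
        ((v.comp (FrobAlg.relFrob p R A)).comp
          (Algebra.TensorProduct.comm R A (FrobAlg.Twist p R)).symm.toRingEquiv.toRingHom)) =
      (SGA3b.powConv (FrobAlg.Twist p R) (FrobAlg.Twist p R ⊗[R] A) p).toRingHom := by
  obtain ⟨n, e, es, h⟩ := exists_dual_basis R A
  apply RingHom.ext
  intro z
  induction z using TensorProduct.induction_on with
  | zero => rw [map_zero, map_zero]
  | add z w hz hw => rw [map_add, map_add, hz, hw]
  | tmul s a =>
    change (Algebra.TensorProduct.comm R A (FrobAlg.Twist p R))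
      (v (FrobAlg.relFrob p R A ((Algebra.TensorProduct.comm R A (FrobAlg.Twist p R)).symm (s ⊗ₜ[R] a)))) =
      SGA3b.powConv (FrobAlg.Twist p R) (FrobAlg.Twist p R ⊗[R] A) p (s ⊗ₜ[R] a)
    rw [Algebra.TensorProduct.comm_symm_tmul, relFrob_tmul, map_mul, map_pow, v_pow_p p e es h v hv,
      v_algebraMap p v hv, RingEquiv.apply_symm_apply, Algebra.TensorProduct.tmul_mul_tmul, mul_one,
      one_mul, Algebra.TensorProduct.comm_tmul]
    have h1 : s ⊗ₜ[R] a = s • ((1 : FrobAlg.Twist p R) ⊗ₜ[R] a) := by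
      rw [TensorProduct.smul_tmul', smul_eq_mul, mul_one]
    rw [h1, map_smul, Groth.Agent.H92.OTBase.powConv_baseChange, TensorProduct.smul_tmul',
      smul_eq_mul, mul_one]

end

end Groth.Agent.H92.VerschVF
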