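import Mathlib.RingTheory.WittVector.Identities
import Mathlib.RingTheory.WittVector.Domain
import Mathlib.RingTheory.WittVector.Truncated
import Mathlib.RingTheory.WittVector.Complete
import Mathlib.RingTheory.WittVector.Teichmuller
import Mathlib.Data.ZMod.Units
import Mathlib.Tactic

set_option autoImplicit false

namespace Groth.Agent.H92.WittCyc

open WittVector Function

variable {p : ℕ} [hp : Fact p.Prime]

local notation "𝕎" => WittVector p

section basic

variable {R : Type*} [CommRing R]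

/-- iterated Verschiebung as an additive map -/
noncomputable def Vi : ℕ → (𝕎 R →+ 𝕎 R)
  | 0 => AddMonoidHom.id _
  | i + 1 => (verschiebung : 𝕎 R →+ 𝕎 R).comp (Vi i)

theorem Vi_apply (i : ℕ) (x : 𝕎 R) : Vi i x = (⇑(verschiebung : 𝕎 R →+ 𝕎 R))^[i] x := by
  induction i with
  | zero => rfl
  | succ i ih => rw [iterate_succ_apply', ← ih]; rfl

theorem iterate_verschiebung_sum {J : Type*} (s : Finset J) (x : J → 𝕎 R) (i : ℕ) :
    (⇑(verschiebung : 𝕎 R →+ 𝕎 R))^[i] (∑ j ∈ s, x j) =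
      ∑ j ∈ s, (⇑(verschiebung : 𝕎 R →+ 𝕎 R))^[i] (x j) := by
  simp only [← Vi_apply, map_sum]

theorem iterate_verschiebung_add (x y : 𝕎 R) (i : ℕ) :
    (⇑(verschiebung : 𝕎 R →+ 𝕎 R))^[i] (x + y) =
      (⇑(verschiebung : 𝕎 R →+ 𝕎 R))^[i] x + (⇑(verschiebung : 𝕎 R →+ 𝕎 R))^[i] y := by
  simp only [← Vi_apply, map_add]

theorem map_iterate_verschiebung {S : Type*} [CommRing S] (f : R →+* S) (x : 𝕎 R) (i : ℕ) :
    WittVector.map f ((⇑(verschiebung : 𝕎 R →+ 𝕎 R))^[i] x) =
      (⇑(verschiebung : 𝕎 S →+ 𝕎 S))^[i] (WittVector.map f x) := by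
  induction i with
  | zero => rfl
  | succ i ih => rw [iterate_succ_apply', iterate_succ_apply', map_verschiebung, ih]

theorem exists_verschiebung_of_coeff_zero (x : 𝕎 R) (h : x.coeff 0 = 0) :
    ∃ d : 𝕎 R, x = verschiebung d :=
  ⟨x.shift 1, by
    have := eq_iterate_verschiebung (x := x) (n := 1) (by intro i hi; obtain rfl : i = 0 := by omega
                                                          exact h)
    simpa using this⟩

theorem exists_eq_teichmuller_add_verschiebung (c : 𝕎 R) :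
    ∃ d : 𝕎 R, c = teichmuller p (c.coeff 0) + verschiebung d := by
  obtain ⟨d, hd⟩ := exists_verschiebung_of_coeff_zero (c - teichmuller p (c.coeff 0)) (by
    have : (c - teichmuller p (c.coeff 0)).coeff 0 =
        constantCoeff (c - teichmuller p (c.coeff 0)) := rfl
    rw [this, map_sub]
    simp [constantCoeff_apply, teichmuller_coeff_zero])
  exact ⟨d, by rw [← hd]; ring⟩

theorem teichmuller_sum {J : Type*} (s : Finset J) (u : J → R) :
    ∃ d : 𝕎 R, teichmuller p (∑ j ∈ s, u j) = ∑ j ∈ s, teichmuller p (u j) + verschiebung d := by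
  obtain ⟨d, hd⟩ := exists_verschiebung_of_coeff_zero
    (teichmuller p (∑ j ∈ s, u j) - ∑ j ∈ s, teichmuller p (u j)) (by
    have : ∀ x : 𝕎 R, x.coeff 0 = constantCoeff x := fun _ => rfl
    rw [this, map_sub, map_sum (constantCoeff : 𝕎 R →+* R)]
    simp [constantCoeff_apply, teichmuller_coeff_zero])
  exact ⟨d, by rw [← hd]; ring⟩

theorem truncate_iterate_verschiebung_eq_zero {m i : ℕ} (hmi : m ≤ i) (x : 𝕎 R) :
    WittVector.truncate m ((⇑(verschiebung : 𝕎 R →+ 𝕎 R))^[i] x) = 0 := by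
  rw [← RingHom.mem_ker, mem_ker_truncate]
  intro k hk
  exact iterate_verschiebung_coeff_eq_zero x (lt_of_lt_of_le hk hmi)

theorem eq_of_truncate_eq {x y : 𝕎 R}
    (h : ∀ m, WittVector.truncate m x = WittVector.truncate m y) : x = y := by
  ext k
  have := congrArg (fun t => TruncatedWittVector.coeff (⟨k, Nat.lt_succ_self k⟩ : Fin (k + 1)) t)
    (h (k + 1))
  simpa [WittVector.coeff_truncate] using this

theorem truncate_map_eq {S : Type*} [CommRing S] (f : R →+* S) {m : ℕ} {x y : 𝕎 R}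
    (h : WittVector.truncate m x = WittVector.truncate m y) :
    WittVector.truncate m (WittVector.map f x) = WittVector.truncate m (WittVector.map f y) := by
  ext k
  rw [WittVector.coeff_truncate, WittVector.coeff_truncate, map_coeff, map_coeff]
  have := congrArg (fun t => TruncatedWittVector.coeff k t) h
  simp only [WittVector.coeff_truncate] at this
  rw [this]

/-- a `V`-adically convergent series has a limit. -/
theorem exists_limit (xs : ℕ → 𝕎 R) : ∃ X : 𝕎 R, ∀ m, WittVector.truncate m X =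
    WittVector.truncate m (∑ i ∈ Finset.range m, (⇑(verschiebung : 𝕎 R →+ 𝕎 R))^[i] (xs i)) := by
  refine ⟨WittVector.mk p (fun k =>
    (∑ i ∈ Finset.range (k + 1), (⇑(verschiebung : 𝕎 R →+ 𝕎 R))^[i] (xs i)).coeff k), ?_⟩
  intro m
  ext k
  rw [WittVector.coeff_truncate, WittVector.coeff_truncate, coeff_mk]
  have hk : (k : ℕ) + 1 ≤ m := k.2
  have e : WittVector.truncate ((k : ℕ) + 1)
      (∑ i ∈ Finset.range m, (⇑(verschiebung : 𝕎 R →+ 𝕎 R))^[i] (xs i)) =
      WittVector.truncate ((k : ℕ) + 1)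
      (∑ i ∈ Finset.range ((k : ℕ) + 1), (⇑(verschiebung : 𝕎 R →+ 𝕎 R))^[i] (xs i)) := by
    rw [← Finset.sum_range_add_sum_Ico _ hk, map_add]
    have h0 : WittVector.truncate ((k : ℕ) + 1)
        (∑ i ∈ Finset.Ico ((k : ℕ) + 1) m, (⇑(verschiebung : 𝕎 R →+ 𝕎 R))^[i] (xs i)) = 0 := by
      rw [map_sum]
      refine Finset.sum_eq_zero (fun i hi => ?_)
      exact truncate_iterate_verschiebung_eq_zero (Finset.mem_Ico.mp hi).1 _
    rw [h0, add_zero]
  have := congrArg (fun t => TruncatedWittVector.coeff (⟨k, Nat.lt_succ_self k⟩ : Fin (k + 1)) t) e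
  simp only [WittVector.coeff_truncate] at this
  exact this.symm

variable [CharP R p]

theorem iterate_frobenius_teichmuller (b : R) (i : ℕ) :
    (⇑(frobenius : 𝕎 R →+* 𝕎 R))^[i] (teichmuller p b) = teichmuller p (b ^ p ^ i) := by
  ext k
  rw [iterate_frobenius_coeff]
  rcases Nat.eq_zero_or_pos k with rfl | hk
  · rw [teichmuller_coeff_zero, teichmuller_coeff_zero]
  · rw [teichmuller_coeff_pos p _ k hk, teichmuller_coeff_pos p _ k hk, zero_pow]
    exact pow_ne_zero _ hp.out.ne_zero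

theorem teichmuller_mul_iterate_verschiebung (β : R) (c : 𝕎 R) (i : ℕ) :
    teichmuller p β * (⇑(verschiebung : 𝕎 R →+ 𝕎 R))^[i] c =
      (⇑(verschiebung : 𝕎 R →+ 𝕎 R))^[i] (teichmuller p (β ^ p ^ i) * c) := by
  rw [mul_comm, iterate_verschiebung_mul_left, iterate_frobenius_teichmuller, mul_comm]

theorem iterate_verschiebung_mul_teichmuller_pow (x : 𝕎 R) (b : R) (i : ℕ) :
    (⇑(verschiebung : 𝕎 R →+ 𝕎 R))^[i] (x * teichmuller p (b ^ p ^ i)) =
      (⇑(verschiebung : 𝕎 R →+ 𝕎 R))^[i] x * teichmuller p b := by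
  rw [iterate_verschiebung_mul_left, iterate_frobenius_teichmuller]

end basic

section main

variable {A B : Type*} [CommRing A] [CommRing B] [CharP B p] (f : A →+* B)
  {J : Type*} [Fintype J] (z : J → B) (n : ℕ) (α : A)

/-- The hypotheses of the Teichmüller trick: the `z j` span `B` over `A`, and multiplication by
`α ^ p ^ i` sends each `z j` into `A • (z j') ^ p ^ (n + i)` for some `j'`. -/
structure Hyp : Prop where
  span : ∀ b : B, ∃ g : J → A, b = ∑ j, f (g j) * z j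
  perm : ∀ (i : ℕ) (j : J), ∃ (j' : J) (g : A), f α ^ p ^ i * z j = f g * z j' ^ p ^ (n + i)

variable {f z n α}

theorem step (h : Hyp (p := p) f z n α) (i : ℕ) (c : 𝕎 B) :
    ∃ (x : J → 𝕎 A) (c' : 𝕎 B),
      teichmuller p (f α) * (⇑(verschiebung : 𝕎 B →+ 𝕎 B))^[i] c =
        ∑ j, WittVector.map f ((⇑(verschiebung : 𝕎 A →+ 𝕎 A))^[i] (x j)) *
            teichmuller p (z j ^ p ^ n) +
          teichmuller p (f α) * (⇑(verschiebung : 𝕎 B →+ 𝕎 B))^[i + 1] c' := by
  classical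
  obtain ⟨cp, hc⟩ := exists_eq_teichmuller_add_verschiebung c
  obtain ⟨g0, hg0⟩ := h.span (c.coeff 0)
  choose σ g' hσ using h.perm i
  obtain ⟨d, hd⟩ := teichmuller_sum (p := p) Finset.univ (fun j => f (g0 j) * z j)
  refine ⟨fun j' => ∑ j ∈ Finset.univ.filter (fun j => σ j = j'), teichmuller p (g0 j * g' j),
    d + cp, ?_⟩
  have e0 : ∀ j, teichmuller p (f α ^ p ^ i) * teichmuller p (f (g0 j) * z j) =
      WittVector.map f (teichmuller p (g0 j * g' j)) *
        teichmuller p ((z (σ j) ^ p ^ n) ^ p ^ i) := by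
    intro j
    rw [← map_mul, map_teichmuller, ← map_mul]
    congr 1
    rw [map_mul, ← pow_mul, ← pow_add]
    calc f α ^ p ^ i * (f (g0 j) * z j) = f (g0 j) * (f α ^ p ^ i * z j) := by ring
      _ = f (g0 j) * (f (g' j) * z (σ j) ^ p ^ (n + i)) := by rw [hσ j]
      _ = _ := by ring
  have e1 : teichmuller p (f α ^ p ^ i) * c =
      ∑ j, WittVector.map f (teichmuller p (g0 j * g' j)) *
          teichmuller p ((z (σ j) ^ p ^ n) ^ p ^ i) +
        teichmuller p (f α ^ p ^ i) * verschiebung (d + cp) := by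
    conv_lhs => rw [hc, hg0, hd]
    rw [map_add, mul_add, mul_add, mul_add, Finset.mul_sum, add_assoc]
    congr 1
    exact Finset.sum_congr rfl (fun j _ => e0 j)
  rw [teichmuller_mul_iterate_verschiebung, e1, iterate_verschiebung_add,
    iterate_verschiebung_sum, ← teichmuller_mul_iterate_verschiebung, ← iterate_succ_apply]
  congr 1
  simp only [iterate_verschiebung_mul_teichmuller_pow, ← map_iterate_verschiebung]
  -- reindex
  rw [← Finset.sum_fiberwise Finset.univ σ]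
  refine Finset.sum_congr rfl (fun j' _ => ?_)
  rw [iterate_verschiebung_sum, map_sum, Finset.sum_mul]
  refine Finset.sum_congr rfl (fun j hj => ?_)
  rw [(Finset.mem_filter.mp hj).2]

/-- **Teichmüller trick**: under `Hyp`, `[α] • 𝕎 B` lies in the `𝕎 A`-span of the
`[z j ^ p ^ n] = F^n [z j]`. -/
theorem main (h : Hyp (p := p) f z n α) (c : 𝕎 B) :
    ∃ X : J → 𝕎 A, teichmuller p (f α) * c =
      ∑ j, WittVector.map f (X j) * teichmuller p (z j ^ p ^ n) := by
  classical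
  choose nx nc hstep using (step h)
  let cs : ℕ → 𝕎 B := fun m => Nat.rec c (fun i ci => nc i ci) m
  have hcs0 : cs 0 = c := rfl
  have hcsS : ∀ i, cs (i + 1) = nc i (cs i) := fun i => rfl
  let xs : ℕ → J → 𝕎 A := fun i => nx i (cs i)
  have hpartial : ∀ m, teichmuller p (f α) * c =
      ∑ j, WittVector.map f (∑ i ∈ Finset.range m,
        (⇑(verschiebung : 𝕎 A →+ 𝕎 A))^[i] (xs i j)) * teichmuller p (z j ^ p ^ n) +
      teichmuller p (f α) * (⇑(verschiebung : 𝕎 B →+ 𝕎 B))^[m] (cs m) := by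
    intro m
    induction m with
    | zero => simp [hcs0]
    | succ m ih =>
      rw [ih, hstep m (cs m), ← hcsS m, ← add_assoc]
      congr 1
      rw [← Finset.sum_add_distrib]
      refine Finset.sum_congr rfl (fun j _ => ?_)
      rw [Finset.sum_range_succ, map_add, add_mul]
  choose X hX using fun j => exists_limit (p := p) (fun i => xs i j)
  refine ⟨X, ?_⟩
  apply eq_of_truncate_eq
  intro m
  rw [hpartial m, map_add, map_mul (WittVector.truncate m) (teichmuller p (f α)),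
    truncate_iterate_verschiebung_eq_zero le_rfl, mul_zero, add_zero, map_sum, map_sum]
  refine Finset.sum_congr rfl (fun j _ => ?_)
  rw [map_mul, map_mul, truncate_map_eq f (hX j m)]

end main

section arith

/-- Solving `e' * m ≡ e (mod ℓ)` with `1 ≤ e' ≤ ℓ` and nonnegative quotient. -/
theorem exists_mul_eq_add_mul {ℓ m e : ℕ} (hℓ : 0 < ℓ) (hm : Nat.Coprime m ℓ) (hm0 : 0 < m)
    (he1 : 1 ≤ e) (heℓ : e ≤ ℓ) :
    ∃ e' q : ℕ, 1 ≤ e' ∧ e' ≤ ℓ ∧ q < m ∧ e' * m = e + ℓ * q := by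
  haveI : NeZero ℓ := ⟨hℓ.ne'⟩
  let t : ZMod ℓ := (e : ZMod ℓ) * ((ZMod.unitOfCoprime m hm)⁻¹ : (ZMod ℓ)ˣ)
  have ht : t * (m : ZMod ℓ) = e := by
    have : (m : ZMod ℓ) = ((ZMod.unitOfCoprime m hm : (ZMod ℓ)ˣ) : ZMod ℓ) := by simp
    rw [this, mul_assoc, Units.inv_mul, mul_one]
  obtain ⟨e', he'1, he'ℓ, he't⟩ : ∃ e' : ℕ, 1 ≤ e' ∧ e' ≤ ℓ ∧ (e' : ZMod ℓ) = t := by
    by_cases h0 : t.val = 0
    · refine ⟨ℓ, hℓ, le_rfl, ?_⟩
      rw [ZMod.natCast_self]
      exact ((ZMod.val_eq_zero t).mp h0).symm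
    · exact ⟨t.val, Nat.one_le_iff_ne_zero.mpr h0, (ZMod.val_lt t).le, ZMod.natCast_zmod_val t⟩
  have hmod : (e : ℤ) ≡ ((e' * m : ℕ) : ℤ) [ZMOD (ℓ : ℤ)] := by
    rw [← ZMod.intCast_eq_intCast_iff]
    push_cast
    rw [he't, ht]
  obtain ⟨k, hk⟩ := hmod.dvd
  -- hk : (e' * m : ℤ) - e = ℓ * k
  have he'm : 1 ≤ e' * m := Nat.mul_pos he'1 hm0
  have hk0 : 0 ≤ k := by
    by_contra hneg
    push Not at hneg
    have h1 : (ℓ : ℤ) * k ≤ -(ℓ : ℤ) := by
      have : k ≤ -1 := by omega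
      calc (ℓ : ℤ) * k ≤ (ℓ : ℤ) * (-1) :=
            mul_le_mul_of_nonneg_left this (by exact_mod_cast hℓ.le)
        _ = -(ℓ : ℤ) := by ring
    have h2 : ((e' * m : ℕ) : ℤ) - (e : ℤ) ≤ -(ℓ : ℤ) := hk ▸ h1
    have h3 : (1 : ℤ) ≤ ((e' * m : ℕ) : ℤ) := by exact_mod_cast he'm
    have h4 : (e : ℤ) ≤ ℓ := by exact_mod_cast heℓ
    omega
  lift k to ℕ using hk0
  have hk' : e' * m = e + ℓ * k := by
    have : ((e' * m : ℕ) : ℤ) = ((e + ℓ * k : ℕ) : ℤ) := by
      push_cast
      push_cast at hk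
      linarith
    exact_mod_cast this
  refine ⟨e', k, he'1, he'ℓ, ?_, hk'⟩
  -- ℓ k = e' m - e < ℓ m
  by_contra hge
  push Not at hge
  have h1 : ℓ * m ≤ ℓ * k := Nat.mul_le_mul_left ℓ hge
  have h2 : e' * m ≤ ℓ * m := Nat.mul_le_mul_right m he'ℓ
  omega

end arith

end Groth.Agent.H92.WittCyc
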