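import Mathlib
import Groth.Prelude.Def_W4c3truncdispsmoothDesc
import Groth.Agent.H92.WittDescFF

/-!
# The canonical descent datum functor for `W_n`-modules is fully faithful on flat modules
(helper92)

Final assembly of `Groth.Agent.H92.WittDescFF` (that file erases the instance
`CategoryTheory.catToReflQuiver`, so that all its `⟶` elaborate through `CategoryStruct.toQuiver`;
this file is elaborated in the ordinary environment, so that the statements below agree
syntactically with statements elaborated elsewhere).

**Kernel performance note.**  `(CommRingCat.ofHom f).op` elaborates with the quiver instance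
`CategoryStruct.toQuiver`, whereas `t.op` for a variable `t : A ⟶ B` (declared in a file importing
all of Mathlib) elaborates with `ReflQuiver.toQuiver (catToReflQuiver ..)`.  The two are
definitionally equal, but when they occur inside the family of a `Pseudofunctor.DescentData` the
kernel needs minutes to see it (deterministic timeouts).  Hence the binder type of `t` below.
-/

set_option autoImplicit false

universe u

open CategoryTheory Opposite TensorProduct W4c3truncdispsmooth

namespace Groth.Agent.H92.WittDescFF

variable (p : ℕ) [Fact p.Prime] (n : ℕ)

/-- Full faithfulness of the canonical descent datum functor along `t : R → R'` on flat modules,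
given that `W_n(R) → W_n(R') ⇉ W_n(T)` is an equalizer diagram (with injective first map). -/
theorem bijective_of_equalizer (R R' : Type u) [CommRing R] [CommRing R'] {T : CommRingCat.{u}}
    (t : @Quiver.Hom CommRingCat CategoryStruct.toQuiver (CommRingCat.of R) (CommRingCat.of R'))
    (i₁ i₂ : CommRingCat.of R' ⟶ T)
    (hq : t ≫ i₂ = t ≫ i₁)
    (hinj : Function.Injective (WittGrp.truncMap p n t.hom))
    (hex : ∀ b, WittGrp.truncMap p n i₁.hom b = WittGrp.truncMap p n i₂.hom b →
      ∃ a, WittGrp.truncMap p n t.hom a = b)
    (M N : ModuleCat.{u} (TruncatedWittVector p n R))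
    [Module.Flat (TruncatedWittVector p n R) N] :
    Function.Bijective (fun φ : M ⟶ N =>
      ((wittModPF.{u} p n).toDescentData (fun _ : PUnit.{u + 1} => t.op)).map φ) :=
  ⟨inj_abs p n t i₁ i₂ hq hinj hex M N, surj_abs p n t i₁ i₂ hq hinj hex M N⟩

/-- **Full faithfulness of the canonical descent datum functor on flat `W_n(R)`-modules**, for a
faithfully flat ring map `R → R'`: `Hom(M, N) → Hom(can M, can N)` is bijective. -/
theorem bijective_toDescentData_map (R R' : Type u) [CommRing R] [CommRing R'] [Algebra R R']
    [Module.FaithfullyFlat R R'] (M N : ModuleCat.{u} (TruncatedWittVector p n R))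
    [Module.Flat (TruncatedWittVector p n R) N] :
    Function.Bijective (fun φ : M ⟶ N =>
      ((wittModPF.{u} p n).toDescentData
        (fun _ : PUnit.{u + 1} => (CommRingCat.ofHom (algebraMap R R')).op)).map φ) :=
  bijective_of_equalizer p n R R' (CommRingCat.ofHom (algebraMap R R')) (i1 R R') (i2 R R')
    (hq2 R R') (truncMap_injective p n R R') (truncMap_equalizer p n R R') M N

end Groth.Agent.H92.WittDescFF
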