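import Mathlib
import Groth.Prelude.Def_WittGrp
import Groth.Agent.H74.WittProjTrunc
import Groth.Agent.H94.WittGhost

/-!
# The `V`-adic filtration on truncated Witt vectors (helper92)

For a commutative ring `T`, the ideals `Fil i ⊂ W_n(T)` of vectors whose first `i` coefficients
vanish; the `i`-th coefficient is additive on `Fil i` and semilinear with respect to the `i`-th
ghost component `gh i : W_n(T) →+* T`.  `Fil 1` is nilpotent when `p` is nilpotent in `T`.
-/

set_option autoImplicit false

universe u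

open WittVector

namespace Groth.Agent.H92.WittFiltr

variable (p : ℕ) [Fact p.Prime] (n : ℕ) {T : Type u} [CommRing T]

theorem ghost_zero (X : WittVector p T) : ghostComponent 0 X = X.coeff 0 := by
  rw [Groth.Agent.H94.ghostComponent_eq_sum]
  simp

theorem ghost_iterate_frobenius (k i : ℕ) (A : WittVector p T) :
    ghostComponent k (frobenius^[i] A) = ghostComponent (k + i) A := by
  induction i generalizing k with
  | zero => rfl
  | succ i ih =>
    rw [Function.iterate_succ_apply', ghostComponent_frobenius, ih,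
      show k + 1 + i = k + (i + 1) by omega]

theorem coeff_zero_iterate_frobenius (i : ℕ) (A : WittVector p T) :
    (frobenius^[i] A).coeff 0 = ghostComponent i A := by
  rw [← ghost_zero, ghost_iterate_frobenius, zero_add]

theorem out_coeff_of_lt (x : TruncatedWittVector p n T) (j : ℕ) (hj : j < n) :
    x.out.coeff j = x.coeff ⟨j, hj⟩ :=
  TruncatedWittVector.coeff_out x ⟨j, hj⟩

theorem out_coeff_of_ge (x : TruncatedWittVector p n T) (j : ℕ) (hj : n ≤ j) :
    x.out.coeff j = 0 := by
  simp only [TruncatedWittVector.out]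
  exact dif_neg (by omega)

variable {n}

theorem ghost_out_truncate (i : ℕ) (hi : i < n) (X : WittVector p T) :
    ghostComponent i (WittVector.truncate n X).out = ghostComponent i X := by
  rw [Groth.Agent.H94.ghostComponent_eq_sum, Groth.Agent.H94.ghostComponent_eq_sum]
  refine Finset.sum_congr rfl fun j hj => ?_
  have hj' : j < n := by
    have := Finset.mem_range.mp hj
    omega
  rw [out_coeff_of_lt p n _ j hj', WittVector.coeff_truncate]

/-- the `i`-th ghost component on truncated Witt vectors of length `n > i` -/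
noncomputable def gh (i : ℕ) (hi : i < n) : TruncatedWittVector p n T →+* T where
  toFun x := ghostComponent i x.out
  map_one' := by
    rw [← map_one (WittVector.truncate (p := p) (R := T) n), ghost_out_truncate p i hi, map_one]
  map_zero' := by
    rw [← map_zero (WittVector.truncate (p := p) (R := T) n), ghost_out_truncate p i hi, map_zero]
  map_mul' x y := by
    obtain ⟨X, rfl⟩ := WittVector.truncate_surjective p n T x
    obtain ⟨Y, rfl⟩ := WittVector.truncate_surjective p n T y
    rw [← map_mul, ghost_out_truncate p i hi, ghost_out_truncate p i hi,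
      ghost_out_truncate p i hi, map_mul]
  map_add' x y := by
    obtain ⟨X, rfl⟩ := WittVector.truncate_surjective p n T x
    obtain ⟨Y, rfl⟩ := WittVector.truncate_surjective p n T y
    rw [← map_add, ghost_out_truncate p i hi, ghost_out_truncate p i hi,
      ghost_out_truncate p i hi, map_add]

theorem gh_truncate (i : ℕ) (hi : i < n) (X : WittVector p T) :
    gh p i hi (WittVector.truncate n X) = ghostComponent i X :=
  ghost_out_truncate p i hi X

theorem gh_zero (h0 : 0 < n) (x : TruncatedWittVector p n T) :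
    gh p 0 h0 x = x.coeff ⟨0, h0⟩ := by
  obtain ⟨X, rfl⟩ := WittVector.truncate_surjective p n T x
  rw [gh_truncate, ghost_zero, WittVector.coeff_truncate]

theorem gh_truncMap {T' : Type u} [CommRing T'] (f : T →+* T') (i : ℕ) (hi : i < n)
    (x : TruncatedWittVector p n T) :
    gh p i hi (WittGrp.truncMap p n f x) = f (gh p i hi x) := by
  obtain ⟨X, rfl⟩ := WittVector.truncate_surjective p n T x
  rw [WittGrp.truncMap_truncate, gh_truncate, gh_truncate,
    Groth.Agent.H94.ghostComponent_eq_sum, Groth.Agent.H94.ghostComponent_eq_sum, map_sum]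
  refine Finset.sum_congr rfl fun j _ => ?_
  rw [map_mul, map_pow, map_pow, map_natCast, WittVector.map_coeff]

/-! ### the filtration -/

theorem exists_rep (i : ℕ) (x : TruncatedWittVector p n T)
    (hx : ∀ j : Fin n, (j : ℕ) < i → x.coeff j = 0) :
    ∃ Y : WittVector p T, x = WittVector.truncate n (verschiebung^[i] Y) := by
  refine ⟨x.out.shift i, ?_⟩
  rw [← WittVector.eq_iterate_verschiebung]
  · exact (TruncatedWittVector.truncateFun_out x).symm
  · intro j hj
    by_cases hjn : j < n
    · rw [out_coeff_of_lt p n x j hjn]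
      exact hx ⟨j, hjn⟩ hj
    · exact out_coeff_of_ge p n x j (by omega)

theorem coeff_rep_lt (i : ℕ) (Y : WittVector p T) (j : Fin n) (hj : (j : ℕ) < i) :
    (WittVector.truncate n (verschiebung^[i] Y)).coeff j = 0 := by
  rw [WittVector.coeff_truncate]
  exact WittVector.iterate_verschiebung_coeff_eq_zero Y hj

theorem coeff_rep_eq (i : ℕ) (hi : i < n) (Y : WittVector p T) :
    (WittVector.truncate n (verschiebung^[i] Y)).coeff ⟨i, hi⟩ = Y.coeff 0 := by
  rw [WittVector.coeff_truncate]
  have := WittVector.iterate_verschiebung_coeff Y i 0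
  rwa [zero_add] at this

theorem rep_add (i : ℕ) (Y Y' : WittVector p T) :
    WittVector.truncate n (verschiebung^[i] Y) + WittVector.truncate n (verschiebung^[i] Y') =
      WittVector.truncate n (verschiebung^[i] (Y + Y')) := by
  rw [← map_add, iterate_map_add]

theorem mul_rep (i : ℕ) (A Y : WittVector p T) :
    WittVector.truncate n A * WittVector.truncate n (verschiebung^[i] Y) =
      WittVector.truncate n (verschiebung^[i] (Y * frobenius^[i] A)) := by
  rw [← map_mul, mul_comm, WittVector.iterate_verschiebung_mul_left]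

variable (n T) in
/-- the ideal of truncated Witt vectors whose first `i` coefficients vanish -/
def Fil (i : ℕ) : Ideal (TruncatedWittVector p n T) where
  carrier := {x | ∀ j : Fin n, (j : ℕ) < i → x.coeff j = 0}
  zero_mem' := fun j _ => TruncatedWittVector.coeff_zero p n T j
  add_mem' := by
    intro x y hx hy
    obtain ⟨X, rfl⟩ := exists_rep p i x hx
    obtain ⟨Y, rfl⟩ := exists_rep p i y hy
    rw [rep_add]
    exact fun j hj => coeff_rep_lt p i _ j hj
  smul_mem' := by
    intro a x hx
    obtain ⟨A, rfl⟩ := WittVector.truncate_surjective p n T a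
    obtain ⟨X, rfl⟩ := exists_rep p i x hx
    rw [smul_eq_mul, mul_rep]
    exact fun j hj => coeff_rep_lt p i _ j hj

theorem mem_Fil {i : ℕ} {x : TruncatedWittVector p n T} :
    x ∈ Fil p n T i ↔ ∀ j : Fin n, (j : ℕ) < i → x.coeff j = 0 := Iff.rfl

theorem coeff_add_of_mem {i : ℕ} (hi : i < n) {x y : TruncatedWittVector p n T}
    (hx : x ∈ Fil p n T i) (hy : y ∈ Fil p n T i) :
    (x + y).coeff ⟨i, hi⟩ = x.coeff ⟨i, hi⟩ + y.coeff ⟨i, hi⟩ := by
  obtain ⟨X, rfl⟩ := exists_rep p i x hx
  obtain ⟨Y, rfl⟩ := exists_rep p i y hy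
  rw [rep_add, coeff_rep_eq, coeff_rep_eq, coeff_rep_eq, WittVector.add_coeff_zero]

theorem coeff_mul_of_mem {i : ℕ} (hi : i < n) (a : TruncatedWittVector p n T)
    {x : TruncatedWittVector p n T} (hx : x ∈ Fil p n T i) :
    (a * x).coeff ⟨i, hi⟩ = gh p i hi a * x.coeff ⟨i, hi⟩ := by
  obtain ⟨A, rfl⟩ := WittVector.truncate_surjective p n T a
  obtain ⟨X, rfl⟩ := exists_rep p i x hx
  rw [mul_rep, coeff_rep_eq, coeff_rep_eq, WittVector.mul_coeff_zero,
    coeff_zero_iterate_frobenius, gh_truncate, mul_comm]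

theorem coeff_neg_of_mem {i : ℕ} (hi : i < n) {x : TruncatedWittVector p n T}
    (hx : x ∈ Fil p n T i) : (-x).coeff ⟨i, hi⟩ = -x.coeff ⟨i, hi⟩ := by
  have h := coeff_add_of_mem p hi hx ((Fil p n T i).neg_mem hx)
  rw [add_neg_cancel, TruncatedWittVector.coeff_zero] at h
  exact (neg_eq_of_add_eq_zero_right h.symm).symm

theorem coeff_sub_of_mem {i : ℕ} (hi : i < n) {x y : TruncatedWittVector p n T}
    (hx : x ∈ Fil p n T i) (hy : y ∈ Fil p n T i) :
    (x - y).coeff ⟨i, hi⟩ = x.coeff ⟨i, hi⟩ - y.coeff ⟨i, hi⟩ := by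
  rw [sub_eq_add_neg, coeff_add_of_mem p hi hx ((Fil p n T i).neg_mem hy),
    coeff_neg_of_mem p hi hy, sub_eq_add_neg]

theorem mem_Fil_succ {i : ℕ} (hi : i < n) {x : TruncatedWittVector p n T} :
    x ∈ Fil p n T (i + 1) ↔ x ∈ Fil p n T i ∧ x.coeff ⟨i, hi⟩ = 0 := by
  constructor
  · intro h
    exact ⟨fun j hj => h j (by omega), h ⟨i, hi⟩ (by simp)⟩
  · rintro ⟨h1, h2⟩ j hj
    by_cases hji : (j : ℕ) < i
    · exact h1 j hji
    · have : j = ⟨i, hi⟩ := by
        apply Fin.ext
        simp only
        omega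
      rw [this]
      exact h2

theorem Fil_zero : Fil p n T 0 = ⊤ := by
  rw [eq_top_iff]
  intro x _ j hj
  omega

theorem eq_zero_of_mem_Fil {i : ℕ} (hi : n ≤ i) {x : TruncatedWittVector p n T}
    (hx : x ∈ Fil p n T i) : x = 0 := by
  ext j
  rw [TruncatedWittVector.coeff_zero]
  exact hx j (lt_of_lt_of_le j.2 hi)

theorem Fil_anti {i j : ℕ} (h : i ≤ j) : Fil p n T j ≤ Fil p n T i :=
  fun _ hx k hk => hx k (lt_of_lt_of_le hk h)

theorem exists_mem_Fil_coeff {i : ℕ} (hi : i < n) (t : T) :
    ∃ x ∈ Fil p n T i, x.coeff ⟨i, hi⟩ = t := by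
  refine ⟨TruncatedWittVector.mk p (fun j => if (j : ℕ) = i then t else 0), ?_, ?_⟩
  · intro j hj
    rw [TruncatedWittVector.coeff_mk, if_neg (by omega)]
  · rw [TruncatedWittVector.coeff_mk, if_pos rfl]

theorem truncMap_mem_Fil {T' : Type u} [CommRing T'] (f : T →+* T') {i : ℕ}
    {x : TruncatedWittVector p n T} (hx : x ∈ Fil p n T i) :
    WittGrp.truncMap p n f x ∈ Fil p n T' i := by
  intro j hj
  rw [WittGrp.coeff_truncMap, hx j hj, map_zero]

/-- `Fil 1` is nilpotent when `p` is nilpotent -/
theorem Fil_one_pow_eq_bot (hp : IsNilpotent (p : T)) : ∃ m, (Fil p n T 1) ^ m = ⊥ := by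
  obtain ⟨m, hm⟩ := Groth.Agent.H74.WittProjTrunc.exists_pow_le (p := p) (R := T) hp n
  refine ⟨m, ?_⟩
  rw [eq_bot_iff]
  have h1 : Fil p n T 1 ≤ Ideal.map (WittVector.truncate (p := p) (R := T) n)
      (Groth.Agent.H74.WittProjTrunc.In p T 1) := by
    intro x hx
    have hx' : x.out ∈ Groth.Agent.H74.WittProjTrunc.In p T 1 := by
      rw [WittVector.mem_ker_truncate]
      intro j hj
      by_cases hjn : j < n
      · rw [out_coeff_of_lt p n x j hjn]
        exact hx ⟨j, hjn⟩ hj
      · exact out_coeff_of_ge p n x j (by omega)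
    have := Ideal.mem_map_of_mem (WittVector.truncate (p := p) (R := T) n) hx'
    rwa [show WittVector.truncate n x.out = x from TruncatedWittVector.truncateFun_out x] at this
  calc (Fil p n T 1) ^ m
      ≤ (Ideal.map (WittVector.truncate (p := p) (R := T) n)
          (Groth.Agent.H74.WittProjTrunc.In p T 1)) ^ m := Ideal.pow_right_mono h1 m
    _ = Ideal.map (WittVector.truncate (p := p) (R := T) n)
          ((Groth.Agent.H74.WittProjTrunc.In p T 1) ^ m) := (Ideal.map_pow _ _ _).symm
    _ ≤ Ideal.map (WittVector.truncate (p := p) (R := T) n)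
          (Groth.Agent.H74.WittProjTrunc.In p T n) := Ideal.map_mono hm
    _ ≤ ⊥ := by
      rw [Ideal.map_le_iff_le_comap]
      intro x hx
      exact hx

end Groth.Agent.H92.WittFiltr
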