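import Mathlib
import Groth.Agent.H92.WittFiltr
import Groth.Agent.H92.ClassMat

/-!
# Lifting matrix descent data along the `V`-adic filtration of truncated Witt vectors (helper92)

A *Witt matrix descent datum* relative to a faithfully flat `R → S` is an idempotent matrix `e` over
`W_n(S)` with a matrix `γ` over `W_n(S ⊗[R] S)` satisfying the usual identities.  Applying the ghost
component `gh i` gives classical matrix descent data (`Groth.Agent.H92.ClassMat`); the `i`-th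
coefficient identifies the graded pieces of the `V`-adic filtration of the twisted Amitsur complex
with the classical ones, so `H¹ = 0` classically lets one lift invariant vectors step by step.
-/

set_option autoImplicit false
universe u
open TensorProduct Matrix

namespace Groth.Agent.H92.WittMatLift

open Groth.Agent.H92.WittFiltr Groth.Agent.H92.ClassMat

variable (p : ℕ) [Fact p.Prime] {n : ℕ}

section coeff

variable {T : Type u} [CommRing T]

/-- the `i`-th coefficient -/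
def cf (i : ℕ) (hi : i < n) (x : TruncatedWittVector p n T) : T := x.coeff ⟨i, hi⟩

variable {p}

theorem cf_sum {i : ℕ} (hi : i < n) {κ : Type*} (s : Finset κ) (f : κ → TruncatedWittVector p n T)
    (hf : ∀ k ∈ s, f k ∈ Fil p n T i) :
    (∑ k ∈ s, f k) ∈ Fil p n T i ∧ cf p i hi (∑ k ∈ s, f k) = ∑ k ∈ s, cf p i hi (f k) := by
  classical
  induction s using Finset.induction_on with
  | empty =>
    refine ⟨by simp, ?_⟩
    simp only [Finset.sum_empty, cf]
    exact TruncatedWittVector.coeff_zero p n T _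
  | insert a s ha ih =>
    have h1 := ih (fun k hk => hf k (Finset.mem_insert_of_mem hk))
    have h2 := hf a (Finset.mem_insert_self a s)
    rw [Finset.sum_insert ha, Finset.sum_insert ha]
    refine ⟨(Fil p n T i).add_mem h2 h1.1, ?_⟩
    rw [← h1.2]
    exact coeff_add_of_mem p hi h2 h1.1

theorem mulVec_mem {i : ℕ} {ι κ : Type*} [Fintype κ] (M : Matrix ι κ (TruncatedWittVector p n T))
    (v : κ → TruncatedWittVector p n T) (hv : ∀ k, v k ∈ Fil p n T i) (j : ι) :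
    (M *ᵥ v) j ∈ Fil p n T i := by
  simp only [Matrix.mulVec, dotProduct]
  exact (Fil p n T i).sum_mem fun k _ => (Fil p n T i).mul_mem_left _ (hv k)

theorem cf_mulVec {i : ℕ} (hi : i < n) {ι κ : Type*} [Fintype κ]
    (M : Matrix ι κ (TruncatedWittVector p n T))
    (v : κ → TruncatedWittVector p n T) (hv : ∀ k, v k ∈ Fil p n T i) :
    cf p i hi ∘ (M *ᵥ v) = M.map (gh p i hi) *ᵥ (cf p i hi ∘ v) := by
  funext j
  simp only [Function.comp_apply, Matrix.mulVec, dotProduct, Matrix.map_apply]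
  rw [(cf_sum hi Finset.univ (fun k => M j k * v k)
    (fun k _ => (Fil p n T i).mul_mem_left _ (hv k))).2]
  refine Finset.sum_congr rfl fun k _ => ?_
  exact coeff_mul_of_mem p hi (M j k) (hv k)

theorem cf_truncMap {T' : Type u} [CommRing T'] (h : T →+* T') {i : ℕ} (hi : i < n)
    (x : TruncatedWittVector p n T) : cf p i hi (WittGrp.truncMap p n h x) = h (cf p i hi x) :=
  WittGrp.coeff_truncMap p n h x ⟨i, hi⟩

theorem cf_sub {i : ℕ} (hi : i < n) {x y : TruncatedWittVector p n T}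
    (hx : x ∈ Fil p n T i) (hy : y ∈ Fil p n T i) :
    cf p i hi (x - y) = cf p i hi x - cf p i hi y := coeff_sub_of_mem p hi hx hy

theorem cf_add {i : ℕ} (hi : i < n) {x y : TruncatedWittVector p n T}
    (hx : x ∈ Fil p n T i) (hy : y ∈ Fil p n T i) :
    cf p i hi (x + y) = cf p i hi x + cf p i hi y := coeff_add_of_mem p hi hx hy

theorem mem_Fil_succ' {i : ℕ} (hi : i < n) {x : TruncatedWittVector p n T} :
    x ∈ Fil p n T (i + 1) ↔ x ∈ Fil p n T i ∧ cf p i hi x = 0 := mem_Fil_succ p hi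

theorem mem_Fil_zero (x : TruncatedWittVector p n T) : x ∈ Fil p n T 0 := by
  rw [Fil_zero]
  exact Submodule.mem_top

theorem cf_eq_gh (h0 : 0 < n) (x : TruncatedWittVector p n T) : cf p 0 h0 x = gh p 0 h0 x :=
  (gh_zero p h0 x).symm

end coeff

section datum

variable {p}
variable {R S : Type u} [CommRing R] [CommRing S] [Algebra R S] {r : ℕ}

local notation "Wm" => WittGrp.truncMap p n

variable (p n R S r) in
/-- a Witt matrix descent datum relative to `R → S` -/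
structure IsWDatum (e : Matrix (Fin r) (Fin r) (TruncatedWittVector p n S))
    (γ : Matrix (Fin r) (Fin r) (TruncatedWittVector p n (S ⊗[R] S))) : Prop where
  idem : e * e = e
  left : e.map (Wm (c2 R S)) * γ = γ
  right : γ * e.map (Wm (c1 R S)) = γ
  cocycle : γ.map (Wm (d13 R S)) = γ.map (Wm (d23 R S)) * γ.map (Wm (d12 R S))
  unit : γ.map (Wm (dΔ R S)) = e

theorem map_gh_map_Wm {T T' : Type u} [CommRing T] [CommRing T'] {ι κ : Type*}
    (M : Matrix ι κ (TruncatedWittVector p n T)) (h : T →+* T') (i : ℕ) (hi : i < n) :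
    (M.map (Wm h)).map (gh p i hi) = (M.map (gh p i hi)).map h := by
  ext j k
  simp only [Matrix.map_apply]
  exact gh_truncMap p h i hi (M j k)

variable {e : Matrix (Fin r) (Fin r) (TruncatedWittVector p n S)}
  {γ : Matrix (Fin r) (Fin r) (TruncatedWittVector p n (S ⊗[R] S))}

theorem isDatum_level (hW : IsWDatum p n R S r e γ) (i : ℕ) (hi : i < n) :
    IsDatum (e.map (gh p i hi)) (γ.map (gh p i hi)) := by
  refine ⟨?_, ?_, ?_, ?_, ?_⟩
  · rw [← Matrix.map_mul, hW.idem]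
  · rw [← map_gh_map_Wm, ← Matrix.map_mul, hW.left]
  · rw [← map_gh_map_Wm, ← Matrix.map_mul, hW.right]
  · rw [← map_gh_map_Wm, ← map_gh_map_Wm, ← map_gh_map_Wm, ← Matrix.map_mul, hW.cocycle]
  · rw [← map_gh_map_Wm, hW.unit]

theorem Wm_comp_eq {T₁ T₂ T₂' T₃ : Type u} [CommRing T₁] [CommRing T₂] [CommRing T₂']
    [CommRing T₃] (h1 : T₁ →+* T₂) (h1' : T₂ →+* T₃) (h2 : T₁ →+* T₂') (h2' : T₂' →+* T₃)
    (hh : ∀ s, h1' (h1 s) = h2' (h2 s)) (x : TruncatedWittVector p n T₁) :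
    Wm h1' (Wm h1 x) = Wm h2' (Wm h2 x) := by
  ext j
  rw [WittGrp.coeff_truncMap, WittGrp.coeff_truncMap, WittGrp.coeff_truncMap,
    WittGrp.coeff_truncMap, hh]

/-- the differential `d⁰` of the twisted complex -/
noncomputable def dl (γ : Matrix (Fin r) (Fin r) (TruncatedWittVector p n (S ⊗[R] S)))
    (u : Fin r → TruncatedWittVector p n S) : Fin r → TruncatedWittVector p n (S ⊗[R] S) :=
  γ *ᵥ (Wm (c1 R S) ∘ u) - Wm (c2 R S) ∘ u

theorem dl_sub (u v : Fin r → TruncatedWittVector p n S) : dl γ (u - v) = dl γ u - dl γ v := by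
  unfold dl
  have h1 : Wm (c1 R S) ∘ (u - v) = Wm (c1 R S) ∘ u - Wm (c1 R S) ∘ v := by
    funext j
    simp
  have h2 : Wm (c2 R S) ∘ (u - v) = Wm (c2 R S) ∘ u - Wm (c2 R S) ∘ v := by
    funext j
    simp
  rw [h1, h2, Matrix.mulVec_sub]
  abel

theorem comp_sub' {T T' : Type u} [CommRing T] [CommRing T'] (h : T →+* T') {ι : Type*}
    (a b : ι → T) : h ∘ (a - b) = h ∘ a - h ∘ b := by
  funext j
  simp

theorem d1_d0 (hW : IsWDatum p n R S r e γ) (u : Fin r → TruncatedWittVector p n S) :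
    Wm (d23 R S) ∘ (dl γ u) - Wm (d13 R S) ∘ (dl γ u) +
      γ.map (Wm (d23 R S)) *ᵥ (Wm (d12 R S) ∘ dl γ u) = 0 := by
  unfold dl
  have e1 : Wm (d23 R S) ∘ (Wm (c1 R S) ∘ u) = Wm (d12 R S) ∘ (Wm (c2 R S) ∘ u) := by
    funext j
    exact Wm_comp_eq _ _ _ _ (fun s => d23_c1 s) (u j)
  have e2 : Wm (d23 R S) ∘ (Wm (c2 R S) ∘ u) = Wm (d13 R S) ∘ (Wm (c2 R S) ∘ u) := by
    funext j
    exact Wm_comp_eq _ _ _ _ (fun s => d23_c2 s) (u j)
  have e3 : Wm (d12 R S) ∘ (Wm (c1 R S) ∘ u) = Wm (d13 R S) ∘ (Wm (c1 R S) ∘ u) := by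
    funext j
    exact Wm_comp_eq _ _ _ _ (fun s => d12_c1 s) (u j)
  rw [comp_sub', comp_sub', comp_sub', comp_mulVec, comp_mulVec, comp_mulVec, e1, e2, e3,
    hW.cocycle, ← Matrix.mulVec_mulVec, Matrix.mulVec_sub]
  abel

/-! ### lifting invariant vectors -/

section lift

variable [Module.FaithfullyFlat R S]

theorem cf_dl {i : ℕ} (hi : i < n) (x : Fin r → TruncatedWittVector p n S)
    (hx : ∀ j, x j ∈ Fil p n S i) :
    (∀ j, dl γ x j ∈ Fil p n (S ⊗[R] S) i) ∧
      cf p i hi ∘ dl γ x = γ.map (gh p i hi) *ᵥ (c1 R S ∘ (cf p i hi ∘ x)) -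
        c2 R S ∘ (cf p i hi ∘ x) := by
  have m1 : ∀ j, (Wm (c1 R S) ∘ x) j ∈ Fil p n (S ⊗[R] S) i := fun j =>
    truncMap_mem_Fil p (c1 R S) (hx j)
  have m2 : ∀ j, (Wm (c2 R S) ∘ x) j ∈ Fil p n (S ⊗[R] S) i := fun j =>
    truncMap_mem_Fil p (c2 R S) (hx j)
  have m3 := mulVec_mem γ _ m1
  refine ⟨fun j => (Fil p n (S ⊗[R] S) i).sub_mem (m3 j) (m2 j), ?_⟩
  have h1 : cf p i hi ∘ (Wm (c1 R S) ∘ x) = c1 R S ∘ (cf p i hi ∘ x) := by
    funext j
    exact cf_truncMap (c1 R S) hi (x j)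
  have h2 : cf p i hi ∘ (Wm (c2 R S) ∘ x) = c2 R S ∘ (cf p i hi ∘ x) := by
    funext j
    exact cf_truncMap (c2 R S) hi (x j)
  rw [← h1, ← h2, ← cf_mulVec hi γ _ m1]
  funext j
  exact cf_sub hi (m3 j) (m2 j)

theorem step (hW : IsWDatum p n R S r e γ) {i : ℕ} (hi : i < n)
    (u : Fin r → TruncatedWittVector p n S) (heu : e *ᵥ u = u)
    (hu : ∀ j, dl γ u j ∈ Fil p n (S ⊗[R] S) i) :
    ∃ x : Fin r → TruncatedWittVector p n S, (∀ j, x j ∈ Fil p n S i) ∧ e *ᵥ x = x ∧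
      ∀ j, dl γ (u - x) j ∈ Fil p n (S ⊗[R] S) (i + 1) := by
  set y := dl γ u with hy
  set yb : Fin r → S ⊗[R] S := cf p i hi ∘ y with hyb
  have hd := isDatum_level hW i hi
  -- (1)
  have hy0 : e.map (Wm (c2 R S)) *ᵥ y = y := by
    rw [hy]
    unfold dl
    rw [Matrix.mulVec_sub, Matrix.mulVec_mulVec, hW.left, ← comp_mulVec, heu]
  have hy1 : (e.map (gh p i hi)).map (c2 R S) *ᵥ yb = yb := by
    have : cf p i hi ∘ (e.map (Wm (c2 R S)) *ᵥ y) = cf p i hi ∘ y :=
      congrArg (fun z => cf p i hi ∘ z) hy0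
    rw [cf_mulVec hi _ y hu, map_gh_map_Wm] at this
    exact this
  -- (2)
  have ha : ∀ j, (Wm (d23 R S) ∘ y) j ∈ Fil p n _ i := fun j => truncMap_mem_Fil p _ (hu j)
  have hb : ∀ j, (Wm (d13 R S) ∘ y) j ∈ Fil p n _ i := fun j => truncMap_mem_Fil p _ (hu j)
  have hc0 : ∀ j, (Wm (d12 R S) ∘ y) j ∈ Fil p n _ i := fun j => truncMap_mem_Fil p _ (hu j)
  have hc := mulVec_mem (γ.map (Wm (d23 R S))) _ hc0
  have hcoc : d23 R S ∘ yb - d13 R S ∘ yb +
      (γ.map (gh p i hi)).map (d23 R S) *ᵥ (d12 R S ∘ yb) = 0 := by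
    have h1 : cf p i hi ∘ (Wm (d23 R S) ∘ y) = d23 R S ∘ yb := by
      funext j
      exact cf_truncMap (d23 R S) hi (y j)
    have h2 : cf p i hi ∘ (Wm (d13 R S) ∘ y) = d13 R S ∘ yb := by
      funext j
      exact cf_truncMap (d13 R S) hi (y j)
    have h3 : cf p i hi ∘ (Wm (d12 R S) ∘ y) = d12 R S ∘ yb := by
      funext j
      exact cf_truncMap (d12 R S) hi (y j)
    rw [← h1, ← h2, ← h3, ← map_gh_map_Wm, ← cf_mulVec hi _ _ hc0]
    funext j
    have hz := congrFun (d1_d0 hW u) j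
    rw [← hy] at hz
    have := congrArg (cf p i hi) hz
    simp only [Pi.add_apply, Pi.sub_apply] at this
    rw [cf_add hi ((Fil p n _ i).sub_mem (ha j) (hb j)) (hc j), cf_sub hi (ha j) (hb j)] at this
    simp only [Pi.add_apply, Pi.sub_apply, Function.comp_apply, Pi.zero_apply]
    exact this.trans (TruncatedWittVector.coeff_zero p n _ _)
  -- (3)
  obtain ⟨xb, hx1, hx2⟩ := exists_cobound hd yb hy1 hcoc
  -- (4)
  have hex : ∀ j, ∃ x ∈ Fil p n S i, cf p i hi x = xb j := fun j =>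
    exists_mem_Fil_coeff p hi (xb j)
  choose x₀ hx₀ hx₀' using hex
  have hcf0 : cf p i hi ∘ x₀ = xb := funext hx₀'
  refine ⟨e *ᵥ x₀, mulVec_mem e x₀ hx₀, by rw [Matrix.mulVec_mulVec, hW.idem], ?_⟩
  have hxm := mulVec_mem e x₀ hx₀
  have hcfx : cf p i hi ∘ (e *ᵥ x₀) = xb := by
    rw [cf_mulVec hi e x₀ hx₀, hcf0, hx1]
  -- (5), (6)
  obtain ⟨hdx, hdx'⟩ := cf_dl (γ := γ) hi (e *ᵥ x₀) hxm
  rw [hcfx, hx2] at hdx'
  intro j
  rw [dl_sub, mem_Fil_succ' hi]
  refine ⟨(Fil p n _ i).sub_mem (hu j) (hdx j), ?_⟩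
  rw [Pi.sub_apply, cf_sub hi (hu j) (hdx j)]
  have := congrFun hdx' j
  simp only [Function.comp_apply] at this
  rw [this]
  exact sub_self _

theorem lift_invariant (hW : IsWDatum p n R S r e γ) (h0 : 0 < n) (xb : Fin r → S)
    (h1 : e.map (gh p 0 h0) *ᵥ xb = xb)
    (h2 : γ.map (gh p 0 h0) *ᵥ (c1 R S ∘ xb) = c2 R S ∘ xb) :
    ∃ u : Fin r → TruncatedWittVector p n S, e *ᵥ u = u ∧
      γ *ᵥ (Wm (c1 R S) ∘ u) = Wm (c2 R S) ∘ u ∧ gh p 0 h0 ∘ u = xb := by
  have key : ∀ i, 1 ≤ i → i ≤ n → ∃ u : Fin r → TruncatedWittVector p n S, e *ᵥ u = u ∧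
      cf p 0 h0 ∘ u = xb ∧ ∀ j, dl γ u j ∈ Fil p n (S ⊗[R] S) i := by
    intro i hi1
    induction i, hi1 using Nat.le_induction with
    | base =>
      intro _
      have hex : ∀ j, ∃ x ∈ Fil p n S 0, cf p 0 h0 x = xb j := fun j =>
        exists_mem_Fil_coeff p h0 (xb j)
      choose u₀ hu₀ hu₀' using hex
      have hcf0 : cf p 0 h0 ∘ u₀ = xb := funext hu₀'
      have hm : ∀ j, (e *ᵥ u₀) j ∈ Fil p n S 0 := fun j => mem_Fil_zero _
      have hcfu : cf p 0 h0 ∘ (e *ᵥ u₀) = xb := by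
        rw [cf_mulVec h0 e u₀ hu₀, hcf0, h1]
      refine ⟨e *ᵥ u₀, by rw [Matrix.mulVec_mulVec, hW.idem], hcfu, ?_⟩
      obtain ⟨hdx, hdx'⟩ := cf_dl (γ := γ) h0 (e *ᵥ u₀) hm
      rw [hcfu, h2, sub_self] at hdx'
      intro j
      rw [mem_Fil_succ' h0]
      exact ⟨hdx j, congrFun hdx' j⟩
    | succ i hi1 ih =>
      intro hin
      have hi : i < n := hin
      obtain ⟨u, heu, hcfu, hu⟩ := ih hi.le
      obtain ⟨x, hx, hex, hdx⟩ := step hW hi u heu hu
      refine ⟨u - x, by rw [Matrix.mulVec_sub, heu, hex], ?_, hdx⟩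
      funext j
      have hx1 : x j ∈ Fil p n S 1 := Fil_anti p hi1 (hx j)
      have hx0 : cf p 0 h0 (x j) = 0 := ((mem_Fil_succ' h0).mp hx1).2
      simp only [Function.comp_apply, Pi.sub_apply]
      rw [cf_sub h0 (mem_Fil_zero _) (mem_Fil_zero _), hx0, sub_zero]
      exact congrFun hcfu j
  obtain ⟨u, heu, hcfu, hu⟩ := key n h0 le_rfl
  refine ⟨u, heu, ?_, ?_⟩
  · have : dl γ u = 0 := by
      funext j
      exact eq_zero_of_mem_Fil p le_rfl (hu j)
    unfold dl at this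
    exact sub_eq_zero.mp this
  · rw [← hcfu]
    funext j
    exact (cf_eq_gh h0 (u j)).symm

end lift

/-! ### the Witt-level presentation -/

section present

theorem corner_inv {A : Type*} [Ring A] (g X : A) (hg : g * g = g) (h1 : g * X = X)
    (h2 : X * g = X) (hn : IsNilpotent (X - g)) : ∃ V : A, X * V = g ∧ V * X = g := by
  obtain ⟨U, hU⟩ := hn.isUnit_one_add
  have hgU : g * (U : A) = X := by
    rw [hU, mul_add, mul_one, mul_sub, h1, hg]
    abel
  have hUg : (U : A) * g = X := by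
    rw [hU, add_mul, one_mul, sub_mul, h2, hg]
    abel
  refine ⟨((U⁻¹ : Aˣ) : A), ?_, ?_⟩
  · rw [← hgU, mul_assoc, Units.mul_inv, mul_one]
  · rw [← hUg, ← mul_assoc, Units.inv_mul, one_mul]

variable {T : Type u} [CommRing T]

theorem isNilpotent_of_mem_Fil_one (hp : IsNilpotent (p : T)) (x : TruncatedWittVector p n T)
    (hx : x ∈ Fil p n T 1) : IsNilpotent x := by
  obtain ⟨m, hm⟩ := Fil_one_pow_eq_bot p (n := n) hp
  refine ⟨m, ?_⟩
  have := Ideal.pow_mem_pow hx m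
  rw [hm] at this
  exact this

theorem isNilpotent_of_map_gh_eq_zero (hp : IsNilpotent (p : T)) (h0 : 0 < n) {s : ℕ}
    (X : Matrix (Fin s) (Fin s) (TruncatedWittVector p n T)) (hX : X.map (gh p 0 h0) = 0) :
    IsNilpotent X := by
  apply Groth.Agent.H74.WittIdemLift.isNilpotent_of_entries
  intro j k
  apply isNilpotent_of_mem_Fil_one hp
  rw [mem_Fil_succ' h0]
  refine ⟨mem_Fil_zero _, ?_⟩
  rw [cf_eq_gh]
  have := congrFun (congrFun hX j) k
  simpa using this

theorem gh_surjective (h0 : 0 < n) : Function.Surjective (gh p 0 h0 : TruncatedWittVector p n T → T) := by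
  intro t
  obtain ⟨x, -, hx⟩ := exists_mem_Fil_coeff p h0 t
  exact ⟨x, by rw [gh_zero, hx]⟩

theorem exists_map_gh_eq (h0 : 0 < n) {ι κ : Type*} (M₀ : Matrix ι κ T) :
    ∃ M : Matrix ι κ (TruncatedWittVector p n T), M.map (gh p 0 h0) = M₀ := by
  choose g hg using gh_surjective (p := p) (T := T) h0
  exact ⟨M₀.map g, by ext j k; simp [hg]⟩

theorem exists_idem_lift (hp : IsNilpotent (p : T)) (h0 : 0 < n) {s : ℕ}
    (f₀ : Matrix (Fin s) (Fin s) T) (hf₀ : f₀ * f₀ = f₀) :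
    ∃ f : Matrix (Fin s) (Fin s) (TruncatedWittVector p n T), f * f = f ∧
      f.map (gh p 0 h0) = f₀ := by
  obtain ⟨f, hf, hf'⟩ := exists_isIdempotentElem_eq_of_ker_isNilpotent
    ((gh p 0 h0).mapMatrix : Matrix (Fin s) (Fin s) (TruncatedWittVector p n T) →+* _)
    (fun X hX => isNilpotent_of_map_gh_eq_zero hp h0 X hX) f₀
    (by
      obtain ⟨M, hM⟩ := exists_map_gh_eq (p := p) h0 f₀
      exact ⟨M, hM⟩) hf₀
  exact ⟨f, hf, hf'⟩

instance subsingleton_zero : Subsingleton (TruncatedWittVector p 0 T) :=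
  ⟨fun _ _ => TruncatedWittVector.ext fun i => i.elim0⟩

variable [Module.FaithfullyFlat R S]

/-- **Witt-level presentation**: a Witt matrix descent datum is the base change of an idempotent
matrix over `W_n(R)`, compatibly with the descent data. -/
theorem exists_witt_presentation (hp : IsNilpotent (p : R)) (hW : IsWDatum p n R S r e γ) :
    ∃ (s : ℕ) (f : Matrix (Fin s) (Fin s) (TruncatedWittVector p n R))
      (B : Matrix (Fin r) (Fin s) (TruncatedWittVector p n S))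
      (CL CR : Matrix (Fin s) (Fin r) (TruncatedWittVector p n S)),
      f * f = f ∧ γ * B.map (Wm (c1 R S)) = B.map (Wm (c2 R S)) ∧ e * B = B ∧
      B * f.map (Wm (algebraMap R S)) = B ∧ CL * B = f.map (Wm (algebraMap R S)) ∧
      B * CR = e := by
  rcases Nat.eq_zero_or_pos n with hn | h0
  · subst hn
    exact ⟨0, 0, 0, 0, 0, Subsingleton.elim _ _, Subsingleton.elim _ _, Subsingleton.elim _ _,
      Subsingleton.elim _ _, Subsingleton.elim _ _, Subsingleton.elim _ _⟩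
  have hpS : IsNilpotent (p : S) := by
    have := hp.map (algebraMap R S)
    rwa [map_natCast] at this
  have hd := isDatum_level hW 0 h0
  obtain ⟨s, f₀, B₀, C₀, hf₀, hinv, hBf, hCB, hBC⟩ := exists_presentation hd
  obtain ⟨f, hf, hff₀⟩ := exists_idem_lift hp h0 f₀ hf₀
  -- lift the columns of `B₀`
  have hcol : ∀ l : Fin s, ∃ u : Fin r → TruncatedWittVector p n S, e *ᵥ u = u ∧
      γ *ᵥ (Wm (c1 R S) ∘ u) = Wm (c2 R S) ∘ u ∧ gh p 0 h0 ∘ u = fun j => B₀ j l := by
    intro l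
    refine lift_invariant hW h0 (fun j => B₀ j l) ?_ (hinv l)
    exact mulVec_of_mem_Inv hd ((mem_Inv _).mpr (hinv l))
  choose U hU1 hU2 hU3 using hcol
  set B₁ : Matrix (Fin r) (Fin s) (TruncatedWittVector p n S) := Matrix.of fun j l => U l j
    with hB₁
  have hB₁e : e * B₁ = B₁ := by
    apply Matrix.ext
    intro j l
    have := congrFun (hU1 l) j
    simpa [Matrix.mul_apply, Matrix.mulVec, dotProduct, hB₁] using this
  have hB₁γ : γ * B₁.map (Wm (c1 R S)) = B₁.map (Wm (c2 R S)) := by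
    apply Matrix.ext
    intro j l
    have := congrFun (hU2 l) j
    simpa [Matrix.mul_apply, Matrix.mulVec, dotProduct, hB₁] using this
  have hB₁0 : B₁.map (gh p 0 h0) = B₀ := by
    ext j l
    have := congrFun (hU3 l) j
    simpa [hB₁] using this
  set F := f.map (Wm (algebraMap R S)) with hF
  have hFF : F * F = F := by rw [hF, ← Matrix.map_mul, hf]
  have hF0 : F.map (gh p 0 h0) = f₀.map (algebraMap R S) := by
    rw [hF, map_gh_map_Wm, hff₀]
  have hF12 : F.map (Wm (c1 R S)) = F.map (Wm (c2 R S)) := by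
    apply Matrix.ext
    intro j l
    simp only [hF, Matrix.map_apply]
    exact Wm_comp_eq _ _ _ _ (fun x => c1_algebraMap x) (f j l)
  set B := B₁ * F with hB
  have hBe : e * B = B := by rw [hB, ← Matrix.mul_assoc, hB₁e]
  have hBF : B * F = B := by rw [hB, Matrix.mul_assoc, hFF]
  have hBγ : γ * B.map (Wm (c1 R S)) = B.map (Wm (c2 R S)) := by
    rw [hB, Matrix.map_mul, Matrix.map_mul, ← Matrix.mul_assoc, hB₁γ, hF12]
  have hB0 : B.map (gh p 0 h0) = B₀ := by
    rw [hB, Matrix.map_mul, hB₁0, hF0, hBf]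
  -- the approximate inverse
  obtain ⟨C₁, hC₁⟩ := exists_map_gh_eq (p := p) h0 C₀
  set Ct := F * C₁ * e with hCt
  have hCt0 : Ct.map (gh p 0 h0) = f₀.map (algebraMap R S) * C₀ * e.map (gh p 0 h0) := by
    rw [hCt, Matrix.map_mul, Matrix.map_mul, hF0, hC₁]
  have he₀B₀ : e.map (gh p 0 h0) * B₀ = B₀ := by
    rw [← hB0, ← Matrix.map_mul, hBe]
  -- right inverse
  have hX1 : e * (B * Ct) = B * Ct := by rw [← Matrix.mul_assoc, hBe]
  have hCte : Ct * e = Ct := by
    rw [hCt, Matrix.mul_assoc, hW.idem]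
  have hX2 : (B * Ct) * e = B * Ct := by rw [Matrix.mul_assoc, hCte]
  have hX3 : (B * Ct - e).map (gh p 0 h0) = 0 := by
    rw [Matrix.map_sub _ (map_sub (gh p 0 h0)), Matrix.map_mul, hB0, hCt0, ← Matrix.mul_assoc,
      ← Matrix.mul_assoc, hBf, hBC, hd.idem, sub_self]
  obtain ⟨V, hV1, -⟩ := corner_inv e (B * Ct) hW.idem hX1 hX2
    (isNilpotent_of_map_gh_eq_zero hpS h0 _ hX3)
  -- left inverse
  have hFCt : F * Ct = Ct := by
    rw [hCt, ← Matrix.mul_assoc, ← Matrix.mul_assoc, hFF]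
  have hY1 : F * (Ct * B) = Ct * B := by rw [← Matrix.mul_assoc, hFCt]
  have hY2 : (Ct * B) * F = Ct * B := by rw [Matrix.mul_assoc, hBF]
  have hY3 : (Ct * B - F).map (gh p 0 h0) = 0 := by
    rw [Matrix.map_sub _ (map_sub (gh p 0 h0)), Matrix.map_mul, hB0, hCt0, hF0, Matrix.mul_assoc,
      he₀B₀, Matrix.mul_assoc, hCB, ← Matrix.map_mul, hf₀, sub_self]
  obtain ⟨V', -, hV'2⟩ := corner_inv F (Ct * B) hFF hY1 hY2
    (isNilpotent_of_map_gh_eq_zero hpS h0 _ hY3)
  exact ⟨s, f, B, V' * Ct, Ct * V, hf, hBγ, hBe, hBF, by rw [Matrix.mul_assoc, hV'2],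
    by rw [← Matrix.mul_assoc, hV1]⟩

end present

end datum

end Groth.Agent.H92.WittMatLift
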