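import Mathlib
import Groth.Prelude.Def_W4c3truncdispsmoothDesc
import Groth.Agent.H92.WittDescFF
import Groth.Agent.H92.DescGen

/-!
# Descent data of `W_n`-modules relative to a ring map, on elements (helper92)

Unwinds Mathlib's `Pseudofunctor.DescentData` for the prelude pseudofunctor
`W4c3truncdispsmooth.wittModPF` on elements (the analogue of `Groth.Agent.H92.RingDesc` for
`Desc.ringModPF`).
-/

set_option autoImplicit false

universe u

open CategoryTheory Opposite TensorProduct ChangeOfRings Limits W4c3truncdispsmooth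

namespace Groth.Agent.H92.WittTheta

attribute [-instance] CategoryTheory.catToReflQuiver

open Groth.Agent.H92.WittDescFF Groth.Agent.H92.DescGen

variable (p : ℕ) [Fact p.Prime] (n : ℕ)

section theta

variable {p n}
variable {A B : CommRingCat.{u}} {t : A ⟶ B}
  (D : (wittModPF.{u} p n).DescentData (fun _ : PUnit.{u + 1} => t.op))

/-- the underlying `W_n(B)`-module of a descent datum relative to `t : A ⟶ B` -/
noncomputable def wmod : ModuleCat.{u} (TruncatedWittVector p n B) :=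
  dobj (wittModPF.{u} p n) t.op D

theorem wmod_eq : wmod D = dobj (wittModPF.{u} p n) t.op D := rfl

theorem exists_whomE {Y : CommRingCat.{u}} (q : A ⟶ Y) (g₁ g₂ : B ⟶ Y)
    (h₁ : g₁.op ≫ t.op = q.op) (h₂ : g₂.op ≫ t.op = q.op) :
    ∃ k : ext p n g₁ (wmod D) ⟶ ext p n g₂ (wmod D),
      k = dhom (wittModPF.{u} p n) t.op D q.op g₁.op g₂.op h₁ h₂ := ⟨_, rfl⟩

/-- the comparison morphism of a descent datum for a pair of ring maps `g₁ g₂ : B ⟶ Y` agreeing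
on `A`, as a morphism between extensions of scalars (opaque) -/
noncomputable def whomE {Y : CommRingCat.{u}} (q : A ⟶ Y) (g₁ g₂ : B ⟶ Y)
    (h₁ : g₁.op ≫ t.op = q.op) (h₂ : g₂.op ≫ t.op = q.op) :
    ext p n g₁ (wmod D) ⟶ ext p n g₂ (wmod D) :=
  (exists_whomE D q g₁ g₂ h₁ h₂).choose

theorem whomE_eq {Y : CommRingCat.{u}} (q : A ⟶ Y) (g₁ g₂ : B ⟶ Y)
    (h₁ : g₁.op ≫ t.op = q.op) (h₂ : g₂.op ≫ t.op = q.op) :
    dhom (wittModPF.{u} p n) t.op D q.op g₁.op g₂.op h₁ h₂ = whomE D q g₁ g₂ h₁ h₂ :=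
  (exists_whomE D q g₁ g₂ h₁ h₂).choose_spec.symm

theorem whomE_self {Y : CommRingCat.{u}} (q : A ⟶ Y) (g : B ⟶ Y)
    (h : g.op ≫ t.op = q.op) (x : ext p n g (wmod D)) : whomE D q g g h h x = x := by
  have e := dhom_self D q.op g.op h
  rw [whomE_eq] at e
  rw [e]
  rfl

theorem whomE_comp {Y : CommRingCat.{u}} (q : A ⟶ Y) (g₁ g₂ g₃ : B ⟶ Y)
    (h₁ : g₁.op ≫ t.op = q.op) (h₂ : g₂.op ≫ t.op = q.op) (h₃ : g₃.op ≫ t.op = q.op)
    (x : ext p n g₁ (wmod D)) :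
    whomE D q g₂ g₃ h₂ h₃ (whomE D q g₁ g₂ h₁ h₂ x) = whomE D q g₁ g₃ h₁ h₃ x := by
  have e := dhom_comp D q.op g₁.op g₂.op g₃.op h₁ h₂ h₃
  rw [whomE_eq, whomE_eq, whomE_eq] at e
  rw [← e]
  rfl

theorem whomE_pull {Y Y' : CommRingCat.{u}} (k : Y ⟶ Y') (q : A ⟶ Y) (q' : A ⟶ Y')
    (hq : q ≫ k = q') (g₁ g₂ : B ⟶ Y) (h₁ : g₁.op ≫ t.op = q.op) (h₂ : g₂.op ≫ t.op = q.op)
    (g₁' g₂' : B ⟶ Y') (hg₁ : g₁ ≫ k = g₁') (hg₂ : g₂ ≫ k = g₂')
    (h₁' : g₁'.op ≫ t.op = q'.op) (h₂' : g₂'.op ≫ t.op = q'.op) (m : wmod D) :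
    whomE D q' g₁' g₂' h₁' h₂' (oneT (WittGrp.truncMap p n g₁'.hom) (wmod D) m) =
      bc (WittGrp.truncMap p n g₂.hom) (WittGrp.truncMap p n k.hom) (WittGrp.truncMap p n g₂'.hom)
        (hcW p n g₂ k g₂' hg₂) (wmod D)
        (whomE D q g₁ g₂ h₁ h₂ (oneT (WittGrp.truncMap p n g₁.hom) (wmod D) m)) := by
  have c₁ : CompCond g₁.op k.op g₁'.op := by subst hg₁; rfl
  have c₂ : CompCond g₂.op k.op g₂'.op := by subst hg₂; rfl
  have e : dhom (wittModPF.{u} p n) t.op D q'.op g₁'.op g₂'.op h₁' h₂' =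
      (mcIso (wittModPF.{u} p n) g₁.op k.op g₁'.op c₁
        (wmod D : ModuleCat.{u} (TruncatedWittVector p n B))).hom ≫
        (pull (wittModPF.{u} p n) k.op).map
          (dhom (wittModPF.{u} p n) t.op D q.op g₁.op g₂.op h₁ h₂) ≫
          (mcIso (wittModPF.{u} p n) g₂.op k.op g₂'.op c₂
            (wmod D : ModuleCat.{u} (TruncatedWittVector p n B))).inv :=
    dhom_pull D k.op q.op q'.op (by rw [← hq]; rfl) g₁.op g₂.op h₁ h₂ g₁'.op g₂'.op
      (by rw [← hg₁]; rfl) (by rw [← hg₂]; rfl) c₁ c₂ h₁' h₂'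
  rw [mcIso_eq p n g₁ k g₁' c₁ (wmod D), mcIso_eq p n g₂ k g₂' c₂ (wmod D), whomE_eq,
    whomE_eq] at e
  erw [pull_map_eq p n k (whomE D q g₁ g₂ h₁ h₂)] at e
  rw [e]
  change (compIso p n g₂ k g₂' c₂ (wmod D)).inv
    ((ModuleCat.extendScalars (WittGrp.truncMap p n k.hom)).map (whomE D q g₁ g₂ h₁ h₂)
      ((compIso p n g₁ k g₁' c₁ (wmod D)).hom
        (oneT (WittGrp.truncMap p n g₁'.hom) (wmod D) m))) = _
  rw [compIso_hom_oneT p n _ _ _ hg₁, map_oneT, L_eq_bc p n _ _ _ hg₂]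

end theta

end Groth.Agent.H92.WittTheta
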