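import Mathlib
import Groth.Prelude.Def_W4c3truncdispsmoothDesc
import Groth.Agent.H92.WittTheta
import Groth.Agent.H92.RingCoalg
import Groth.Agent.H92.WittMatLift

/-!
# From a descent datum of `W_n`-modules to a Witt matrix descent datum (helper92)

Given a descent datum `D` for `wittModPF` relative to `R → S` and a presentation of its underlying
module as a direct summand of a finite free module, we produce matrices `(e, γ)` forming a Witt
matrix descent datum in the sense of `Groth.Agent.H92.WittMatLift`.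
-/

set_option autoImplicit false
universe u
open CategoryTheory Opposite TensorProduct ChangeOfRings Limits W4c3truncdispsmooth Matrix

namespace Groth.Agent.H92.WittDict

attribute [-instance] CategoryTheory.catToReflQuiver

open Groth.Agent.H92.WittDescFF (oneT bc CompCond pull mcIso oneT_add oneT_smul oneT_zero map_oneT
  hom_ext_oneT ext_induction bc_smul_oneT ext hcW)
open Groth.Agent.H92.DescGen Groth.Agent.H92.WittTheta Groth.Agent.H92.RingSquare
open Groth.Agent.H92.RingCoalg (rt ri1 ri2 rΔ p12 p13 p23 j1 j2 j3 rid T2 T3 rt_ri2 ri1_Δ ri2_Δ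
  ri1_p12 ri2_p12 ri1_p13 ri2_p13 hop rt_j2 rt_j3)

variable {p : ℕ} [Fact p.Prime] {n : ℕ} {R S : Type u} [CommRing R] [CommRing S] [Algebra R S]
  (D : (wittModPF.{u} p n).DescentData (fun _ : PUnit.{u + 1} => (rt R S).op)) {r : ℕ}
  (ι' : wmod D →ₗ[TruncatedWittVector p n S] (Fin r → TruncatedWittVector p n S))
  (ρ : (Fin r → TruncatedWittVector p n S) →ₗ[TruncatedWittVector p n S] wmod D)

section vec

variable {Y : CommRingCat.{u}} (g : CommRingCat.of S ⟶ Y)

/-- the biadditive map underlying `vec` -/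
noncomputable def vecAux :
    TruncatedWittVector p n Y →+ wmod D →+ (Fin r → TruncatedWittVector p n Y) :=
  AddMonoidHom.mk' (fun a => AddMonoidHom.mk'
    (fun m => a • (WittGrp.truncMap p n g.hom ∘ ι' m))
    (fun m m' => by
      funext j
      simp only [map_add, Pi.smul_apply, Function.comp_apply, Pi.add_apply, smul_eq_mul, mul_add]))
    (fun a a' => by
      ext m : 1
      simp only [AddMonoidHom.mk'_apply, AddMonoidHom.add_apply]
      exact add_smul _ _ _)

theorem vecAux_apply (a : TruncatedWittVector p n Y) (m : wmod D) :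
    vecAux D ι' g a m = a • (WittGrp.truncMap p n g.hom ∘ ι' m) := rfl

/-- coordinates of an element of the extension of scalars of `wmod D` along `W_n(g)` -/
noncomputable def vec : ext p n g (wmod D) →+ (Fin r → TruncatedWittVector p n Y) :=
  extLift (WittGrp.truncMap p n g.hom) (wmod D) (vecAux D ι' g) (fun a' a m => by
    rw [vecAux_apply, vecAux_apply, map_smul]
    funext j
    simp only [Pi.smul_apply, Function.comp_apply, smul_eq_mul, map_mul]
    ring)

theorem vec_smul_oneT (a : TruncatedWittVector p n Y) (m : wmod D) :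
    vec D ι' g (a • oneT (WittGrp.truncMap p n g.hom) (wmod D) m) =
      a • (WittGrp.truncMap p n g.hom ∘ ι' m) :=
  extLift_smul_oneT _ _ _ _ a m

theorem vec_oneT (m : wmod D) :
    vec D ι' g (oneT (WittGrp.truncMap p n g.hom) (wmod D) m) =
      WittGrp.truncMap p n g.hom ∘ ι' m := by
  have := vec_smul_oneT D ι' g 1 m
  rwa [one_smul, one_smul] at this

theorem vec_smul (a : TruncatedWittVector p n Y) (x : ext p n g (wmod D)) :
    vec D ι' g (a • x) = a • vec D ι' g x := by
  induction x using ext_induction with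
  | zero => rw [smul_zero, map_zero, smul_zero]
  | tmul b m => rw [smul_smul, vec_smul_oneT, vec_smul_oneT, smul_smul]
  | add x y hx hy => rw [smul_add, map_add, map_add, hx, hy, smul_add]

theorem oneT_sum {A B : Type u} [CommRing A] [CommRing B] (f : A →+* B) (M : ModuleCat.{u} A)
    {κ : Type*} (s : Finset κ) (m : κ → M) :
    oneT f M (∑ k ∈ s, m k) = ∑ k ∈ s, oneT f M (m k) := by
  classical
  induction s using Finset.induction_on with
  | empty => simp [oneT_zero]
  | insert a s ha ih => rw [Finset.sum_insert ha, Finset.sum_insert ha, oneT_add, ih]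

/-- the inverse of `vec` on its image -/
noncomputable def ofVec (v : Fin r → TruncatedWittVector p n Y) : ext p n g (wmod D) :=
  ∑ k, v k • oneT (WittGrp.truncMap p n g.hom) (wmod D) (ρ (Pi.single k 1))

theorem ofVec_add (v v' : Fin r → TruncatedWittVector p n Y) :
    ofVec D ρ g (v + v') = ofVec D ρ g v + ofVec D ρ g v' := by
  unfold ofVec
  rw [← Finset.sum_add_distrib]
  exact Finset.sum_congr rfl fun k _ => add_smul _ _ _

theorem ofVec_smul (a : TruncatedWittVector p n Y) (v : Fin r → TruncatedWittVector p n Y) :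
    ofVec D ρ g (a • v) = a • ofVec D ρ g v := by
  unfold ofVec
  rw [Finset.smul_sum]
  exact Finset.sum_congr rfl fun k _ => by rw [Pi.smul_apply, smul_eq_mul, mul_smul]

theorem rho_eq_sum (v : Fin r → TruncatedWittVector p n S) :
    ρ v = ∑ k, v k • ρ (Pi.single k 1) := by
  conv_lhs => rw [pi_eq_sum_univ' v]
  rw [map_sum]
  exact Finset.sum_congr rfl fun k _ => by rw [map_smul]

variable (hρ : ∀ m, ρ (ι' m) = m)

include hρ in
theorem ofVec_vec (x : ext p n g (wmod D)) : ofVec D ρ g (vec D ι' g x) = x := by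
  induction x using ext_induction with
  | zero =>
    rw [map_zero]
    unfold ofVec
    simp
  | tmul a m =>
    rw [vec_smul_oneT, ofVec_smul]
    congr 1
    unfold ofVec
    conv_rhs => rw [← hρ m, rho_eq_sum D ρ (ι' m), oneT_sum]
    exact Finset.sum_congr rfl fun k _ => by rw [Function.comp_apply, oneT_smul]
  | add x y hx hy => rw [map_add, ofVec_add, hx, hy]

include hρ in
theorem vec_injective : Function.Injective (vec D ι' g) := by
  intro x x' h
  rw [← ofVec_vec D ι' ρ g hρ x, h, ofVec_vec D ι' ρ g hρ x']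

/-- compatibility of `vec` with base change -/
theorem vec_bc {Y' : CommRingCat.{u}} (k : Y ⟶ Y') (g' : CommRingCat.of S ⟶ Y') (hg : g ≫ k = g')
    (x : ext p n g (wmod D)) :
    vec D ι' g' (bc (WittGrp.truncMap p n g.hom) (WittGrp.truncMap p n k.hom)
      (WittGrp.truncMap p n g'.hom) (hcW p n g k g' hg) (wmod D) x) =
      WittGrp.truncMap p n k.hom ∘ vec D ι' g x := by
  induction x using ext_induction with
  | zero =>
    rw [map_zero, map_zero, map_zero]
    funext j
    simp
  | tmul a m =>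
    rw [bc_smul_oneT, vec_smul_oneT, vec_smul_oneT]
    funext j
    simp only [Pi.smul_apply, Function.comp_apply, smul_eq_mul, map_mul]
    congr 1
    have := hcW p n g k g' hg
    rw [← this]
    rfl
  | add x y hx hy =>
    rw [map_add, map_add, hx, hy, map_add]
    funext j
    simp

end vec

section datum

open Groth.Agent.H92.ClassMat (comp_mulVec c1 c2 d12 d13 d23 dΔ)
open Groth.Agent.H92.WittMatLift (IsWDatum)

/-- the comparison morphism over `S ⊗ S` -/
noncomputable abbrev Phi : ext p n (ri1 R S) (wmod D) ⟶ ext p n (ri2 R S) (wmod D) :=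
  whomE D (rt R S ≫ ri1 R S) (ri1 R S) (ri2 R S) (hop _ _ rfl) (hop _ _ (rt_ri2 R S))

/-- the coaction in coordinates -/
noncomputable def Th (m : wmod D) : Fin r → TruncatedWittVector p n (S ⊗[R] S) :=
  vec D ι' (ri2 R S) (Phi D (oneT (WittGrp.truncMap p n (ri1 R S).hom) (wmod D) m))

theorem Th_add (m m' : wmod D) : Th D ι' (m + m') = Th D ι' m + Th D ι' m' := by
  unfold Th
  rw [oneT_add, map_add, map_add]

theorem Th_smul (a : TruncatedWittVector p n S) (m : wmod D) :
    Th D ι' (a • m) = WittGrp.truncMap p n (ri1 R S).hom a • Th D ι' m := by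
  unfold Th
  rw [oneT_smul, map_smul, vec_smul]

theorem Th_zero : Th D ι' 0 = 0 := by
  unfold Th
  rw [oneT_zero, map_zero, map_zero]

theorem Th_sum {κ : Type*} (s : Finset κ) (m : κ → wmod D) :
    Th D ι' (∑ k ∈ s, m k) = ∑ k ∈ s, Th D ι' (m k) := by
  classical
  induction s using Finset.induction_on with
  | empty => simp [Th_zero]
  | insert a s ha ih => rw [Finset.sum_insert ha, Finset.sum_insert ha, Th_add, ih]

/-- the idempotent matrix of the presentation -/
noncomputable def eM : Matrix (Fin r) (Fin r) (TruncatedWittVector p n S) :=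
  Matrix.of fun j k => ι' (ρ (Pi.single k 1)) j

/-- the matrix of the descent datum -/
noncomputable def gM : Matrix (Fin r) (Fin r) (TruncatedWittVector p n (S ⊗[R] S)) :=
  Matrix.of fun j k => Th D ι' (ρ (Pi.single k 1)) j

theorem eM_mulVec (v : Fin r → TruncatedWittVector p n S) : eM D ι' ρ *ᵥ v = ι' (ρ v) := by
  rw [rho_eq_sum D ρ v, map_sum]
  funext j
  simp only [Matrix.mulVec, dotProduct, eM, Matrix.of_apply, Finset.sum_apply, map_smul,
    Pi.smul_apply, smul_eq_mul]
  exact Finset.sum_congr rfl fun k _ => mul_comm _ _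

theorem gM_mulVec (v : Fin r → TruncatedWittVector p n S) :
    gM D ι' ρ *ᵥ (WittGrp.truncMap p n (ri1 R S).hom ∘ v) = Th D ι' (ρ v) := by
  rw [rho_eq_sum D ρ v, Th_sum]
  funext j
  simp only [Matrix.mulVec, dotProduct, gM, Matrix.of_apply, Finset.sum_apply, Th_smul,
    Pi.smul_apply, smul_eq_mul, Function.comp_apply]
  exact Finset.sum_congr rfl fun k _ => mul_comm _ _

theorem mul_apply_eq_mulVec {α : Type*} [NonUnitalNonAssocSemiring α] {ι κ μ : Type*} [Fintype κ]
    (M : Matrix ι κ α) (N : Matrix κ μ α) (j : ι) (k : μ) :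
    (M * N) j k = (M *ᵥ fun l => N l k) j := rfl

variable (hρ : ∀ m, ρ (ι' m) = m)

include hρ in
theorem Th_eq (m : wmod D) :
    Th D ι' m = gM D ι' ρ *ᵥ (WittGrp.truncMap p n (ri1 R S).hom ∘ ι' m) := by
  rw [gM_mulVec, hρ]

include hρ in
theorem vec_fixed {Y : CommRingCat.{u}} (g : CommRingCat.of S ⟶ Y) (x : ext p n g (wmod D)) :
    (eM D ι' ρ).map (WittGrp.truncMap p n g.hom) *ᵥ vec D ι' g x = vec D ι' g x := by
  induction x using ext_induction with
  | zero => rw [map_zero, Matrix.mulVec_zero]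
  | tmul a m =>
    rw [vec_smul_oneT, Matrix.mulVec_smul, ← comp_mulVec, eM_mulVec, hρ]
  | add x y hx hy => rw [map_add, Matrix.mulVec_add, hx, hy]

theorem Th_Δ (m : wmod D) :
    WittGrp.truncMap p n (rΔ R S).hom ∘ Th D ι' m = ι' m := by
  unfold Th
  rw [← vec_bc D ι' (ri2 R S) (rΔ R S) (rid S) (ri2_Δ R S)]
  have h1 := whomE_pull D (rΔ R S) (rt R S ≫ ri1 R S) (rt R S)
    (by rw [Category.assoc, ri1_Δ, Category.comp_id]) (ri1 R S) (ri2 R S)
    (hop _ _ rfl) (hop _ _ (rt_ri2 R S)) (rid S) (rid S) (ri1_Δ R S) (ri2_Δ R S)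
    (hop _ _ (Category.comp_id _)) (hop _ _ (Category.comp_id _)) m
  rw [whomE_self] at h1
  rw [← h1, vec_oneT]
  funext j
  change WittGrp.truncMap p n (RingHom.id S) (ι' m j) = ι' m j
  rw [WittGrp.truncMap_id]
  rfl

/-- the comparison morphism over `S ⊗ S ⊗ S` for the pair `(j2, j3)` -/
noncomputable abbrev w23 : ext p n (j2 R S) (wmod D) ⟶ ext p n (j3 R S) (wmod D) :=
  whomE D (rt R S ≫ j1 R S) (j2 R S) (j3 R S) (hop _ _ (rt_j2 (R := R) (S := S)))
    (hop _ _ (rt_j3 (R := R) (S := S)))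

theorem w23_oneT (m : wmod D) :
    w23 D (oneT (WittGrp.truncMap p n (j2 R S).hom) (wmod D) m) =
      bc (WittGrp.truncMap p n (ri2 R S).hom) (WittGrp.truncMap p n (p23 R S).hom)
        (WittGrp.truncMap p n (j3 R S).hom) (hcW p n _ _ _ rfl) (wmod D)
        (Phi D (oneT (WittGrp.truncMap p n (ri1 R S).hom) (wmod D) m)) :=
  whomE_pull D (p23 R S) (rt R S ≫ ri1 R S) (rt R S ≫ j1 R S)
    (by rw [Category.assoc]; exact rt_j2 (R := R) (S := S)) (ri1 R S) (ri2 R S)
    (hop _ _ rfl) (hop _ _ (rt_ri2 R S)) (j2 R S) (j3 R S) rfl rfl _ _ m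

include hρ in
theorem G23 (x : ext p n (j2 R S) (wmod D)) :
    (gM D ι' ρ).map (WittGrp.truncMap p n (p23 R S).hom) *ᵥ vec D ι' (j2 R S) x =
      vec D ι' (j3 R S) (w23 D x) := by
  induction x using ext_induction with
  | zero => rw [map_zero, map_zero, map_zero, Matrix.mulVec_zero]
  | tmul a m =>
    have hw : w23 D (a • oneT (WittGrp.truncMap p n (j2 R S).hom) (wmod D) m) =
        a • w23 D (oneT (WittGrp.truncMap p n (j2 R S).hom) (wmod D) m) := map_smul _ _ _
    rw [hw, vec_smul, vec_smul, vec_oneT, Matrix.mulVec_smul, w23_oneT, vec_bc D ι' (ri2 R S)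
      (p23 R S) (j3 R S) rfl]
    congr 1
    change _ = WittGrp.truncMap p n (p23 R S).hom ∘ Th D ι' m
    rw [Th_eq D ι' ρ hρ m, comp_mulVec]
    congr 1
  | add x y hx hy => rw [map_add, map_add, map_add, Matrix.mulVec_add, hx, hy]

include hρ in
/-- **The Witt matrix descent datum of a descent datum with a presentation.** -/
theorem isWDatum : IsWDatum p n R S r (eM D ι' ρ) (gM D ι' ρ) := by
  refine ⟨?_, ?_, ?_, ?_, ?_⟩
  · apply Matrix.ext
    intro j k
    rw [mul_apply_eq_mulVec]
    have : (fun l => eM D ι' ρ l k) = ι' (ρ (Pi.single k 1)) := rfl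
    rw [this, eM_mulVec, hρ]
    rfl
  · apply Matrix.ext
    intro j k
    rw [mul_apply_eq_mulVec]
    have : (fun l => gM D ι' ρ l k) = Th D ι' (ρ (Pi.single k 1)) := rfl
    rw [this]
    exact congrFun (vec_fixed D ι' ρ hρ (ri2 R S) _) j
  · apply Matrix.ext
    intro j k
    rw [mul_apply_eq_mulVec]
    have : (fun l => (eM D ι' ρ).map (WittGrp.truncMap p n (c1 R S)) l k) =
        WittGrp.truncMap p n (ri1 R S).hom ∘ ι' (ρ (Pi.single k 1)) := rfl
    rw [this, gM_mulVec, hρ]
    rfl
  · apply Matrix.ext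
    intro j k
    rw [mul_apply_eq_mulVec]
    set m := ρ (Pi.single k 1) with hm
    have e13 := whomE_pull D (p13 R S) (rt R S ≫ ri1 R S) (rt R S ≫ j1 R S)
      (by rw [Category.assoc, ri1_p13]) (ri1 R S) (ri2 R S)
      (hop _ _ rfl) (hop _ _ (rt_ri2 R S)) (j1 R S) (j3 R S) (ri1_p13 R S) (ri2_p13 R S)
      (hop _ _ rfl) (hop _ _ (rt_j3 (R := R) (S := S))) m
    have e12 := whomE_pull D (p12 R S) (rt R S ≫ ri1 R S) (rt R S ≫ j1 R S)
      (by rw [Category.assoc, ri1_p12]) (ri1 R S) (ri2 R S)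
      (hop _ _ rfl) (hop _ _ (rt_ri2 R S)) (j1 R S) (j2 R S) (ri1_p12 R S) (ri2_p12 R S)
      (hop _ _ rfl) (hop _ _ (rt_j2 (R := R) (S := S))) m
    have ec := whomE_comp D (rt R S ≫ j1 R S) (j1 R S) (j2 R S) (j3 R S) (hop _ _ rfl)
      (hop _ _ (rt_j2 (R := R) (S := S))) (hop _ _ (rt_j3 (R := R) (S := S)))
      (oneT (WittGrp.truncMap p n (j1 R S).hom) (wmod D) m)
    have hL : (fun l => (gM D ι' ρ).map (WittGrp.truncMap p n (d12 R S)) l k) =
        WittGrp.truncMap p n (p12 R S).hom ∘ Th D ι' m := rfl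
    have hR : (gM D ι' ρ).map (WittGrp.truncMap p n (d13 R S)) j k =
        (WittGrp.truncMap p n (p13 R S).hom ∘ Th D ι' m) j := rfl
    rw [hL, hR]
    unfold Th
    rw [← vec_bc D ι' (ri2 R S) (p13 R S) (j3 R S) (ri2_p13 R S),
      ← vec_bc D ι' (ri2 R S) (p12 R S) (j2 R S) (ri2_p12 R S), ← e13, ← e12]
    have := G23 D ι' ρ hρ (whomE D (rt R S ≫ j1 R S) (j1 R S) (j2 R S) (hop _ _ rfl)
      (hop _ _ (rt_j2 (R := R) (S := S)))
      (oneT (WittGrp.truncMap p n (j1 R S).hom) (wmod D) m))
    change (gM D ι' ρ).map (WittGrp.truncMap p n (p23 R S).hom) *ᵥ _ = _ at this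
    rw [ec] at this
    exact (congrFun this j).symm
  · apply Matrix.ext
    intro j k
    exact congrFun (Th_Δ D ι' (ρ (Pi.single k 1))) j

end datum

end Groth.Agent.H92.WittDict
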