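import Mathlib
import Groth.Prelude.Def_W4c3truncdispsmoothDesc
import Groth.Agent.H92.WittDict

/-!
# Effectivity of descent for finite projective `W_n`-modules (helper92)

Let `R → S` be faithfully flat with `p` nilpotent in `R`.  Every descent datum of `W_n(S)`-modules
relative to `R → S` (for the prelude pseudofunctor `wittModPF`) whose underlying module is finite
projective is isomorphic to the canonical descent datum of a finite projective `W_n(R)`-module.
-/

set_option autoImplicit false
universe u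
open CategoryTheory Opposite TensorProduct ChangeOfRings Limits W4c3truncdispsmooth Matrix

namespace Groth.Agent.H92.WittEff

attribute [-instance] CategoryTheory.catToReflQuiver

open Groth.Agent.H92.WittDescFF (oneT bc CompCond pull mcIso oneT_add oneT_smul oneT_zero map_oneT
  hom_ext_oneT ext_induction bc_smul_oneT ext hcW compIso compIso_hom_oneT compIso_inv_oneT mcIso_eq
  pull_map_eq)
open Groth.Agent.H92.DescGen Groth.Agent.H92.WittTheta Groth.Agent.H92.RingSquare
open Groth.Agent.H92.RingCoalg (rt ri1 ri2 rΔ p12 p13 p23 j1 j2 j3 rid T2 T3 rt_ri2 hop)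
open Groth.Agent.H92.WittDict
open Groth.Agent.H92.ClassMat (comp_mulVec c1 c2 c1_algebraMap)
open Groth.Agent.H92.WittMatLift (IsWDatum Wm_comp_eq)

variable {p : ℕ} [Fact p.Prime] {n : ℕ} {R S : Type u} [CommRing R] [CommRing S] [Algebra R S]
  (D : (wittModPF.{u} p n).DescentData (fun _ : PUnit.{u + 1} => (rt R S).op))

/-! ### the criterion for an isomorphism of descent data -/

section crit

theorem wc_ri1 : CompCond (rt R S).op (ri1 R S).op (rt R S ≫ ri1 R S).op := rfl

theorem wc_ri2 : CompCond (rt R S).op (ri2 R S).op (rt R S ≫ ri1 R S).op := by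
  rw [← rt_ri2]
  rfl

/-- the comparison isomorphism of the canonical descent datum, on `1 ⊗ (1 ⊗ m)` -/
theorem wcan_oneT (M : ModuleCat.{u} (TruncatedWittVector p n R)) (m : M) :
    (compIso p n (rt R S) (ri2 R S) (rt R S ≫ ri1 R S) wc_ri2 M).hom
      ((compIso p n (rt R S) (ri1 R S) (rt R S ≫ ri1 R S) wc_ri1 M).inv
        (oneT (WittGrp.truncMap p n (ri1 R S).hom) _
          (oneT (WittGrp.truncMap p n (rt R S).hom) M m))) =
      oneT (WittGrp.truncMap p n (ri2 R S).hom) _
        (oneT (WittGrp.truncMap p n (rt R S).hom) M m) := by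
  rw [compIso_inv_oneT p n _ _ _ rfl, compIso_hom_oneT p n _ _ _ (rt_ri2 R S)]

theorem wcomm_ext (M : ModuleCat.{u} (TruncatedWittVector p n R))
    (ε : ext p n (rt R S) M ≅ wmod D)
    (key : ∀ m : M, Phi D (oneT (WittGrp.truncMap p n (ri1 R S).hom) (wmod D)
        (ε.hom (oneT (WittGrp.truncMap p n (rt R S).hom) M m))) =
      oneT (WittGrp.truncMap p n (ri2 R S).hom) (wmod D)
        (ε.hom (oneT (WittGrp.truncMap p n (rt R S).hom) M m))) :
    (ModuleCat.extendScalars (WittGrp.truncMap p n (ri1 R S).hom)).map ε.hom ≫ Phi D =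
      ((compIso p n (rt R S) (ri1 R S) (rt R S ≫ ri1 R S) wc_ri1 M).inv ≫
          (compIso p n (rt R S) (ri2 R S) (rt R S ≫ ri1 R S) wc_ri2 M).hom) ≫
        (ModuleCat.extendScalars (WittGrp.truncMap p n (ri2 R S).hom)).map ε.hom := by
  apply hom_ext_oneT
  intro x
  induction x using ext_induction with
  | zero => rw [oneT_zero, map_zero, map_zero]
  | tmul s m =>
    rw [oneT_smul, map_smul, map_smul]
    congr 1
    change Phi D ((ModuleCat.extendScalars (WittGrp.truncMap p n (ri1 R S).hom)).map ε.hom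
        (oneT (WittGrp.truncMap p n (ri1 R S).hom) _
          (oneT (WittGrp.truncMap p n (rt R S).hom) M m))) =
      (ModuleCat.extendScalars (WittGrp.truncMap p n (ri2 R S).hom)).map ε.hom
        ((compIso p n (rt R S) (ri2 R S) (rt R S ≫ ri1 R S) wc_ri2 M).hom
          ((compIso p n (rt R S) (ri1 R S) (rt R S ≫ ri1 R S) wc_ri1 M).inv
            (oneT (WittGrp.truncMap p n (ri1 R S).hom) _
              (oneT (WittGrp.truncMap p n (rt R S).hom) M m))))
    rw [map_oneT, wcan_oneT, map_oneT]
    exact key m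
  | add x y hx hy => rw [oneT_add, map_add, map_add, hx, hy]

theorem wnonempty_iso_of_key (M : ModuleCat.{u} (TruncatedWittVector p n R))
    (ε : ext p n (rt R S) M ≅ wmod D)
    (key : ∀ m : M, Phi D (oneT (WittGrp.truncMap p n (ri1 R S).hom) (wmod D)
        (ε.hom (oneT (WittGrp.truncMap p n (rt R S).hom) M m))) =
      oneT (WittGrp.truncMap p n (ri2 R S).hom) (wmod D)
        (ε.hom (oneT (WittGrp.truncMap p n (rt R S).hom) M m))) :
    Nonempty (((wittModPF.{u} p n).toDescentData
      (fun _ : PUnit.{u + 1} => (rt R S).op)).obj M ≅ D) := by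
  have hpb : IsPullback (ri1 R S).op (ri2 R S).op (rt R S).op (rt R S).op :=
    (CommRingCat.isPushout_tensorProduct R S S).op.flip
  refine nonempty_iso_of_comm' (F := wittModPF.{u} p n) (t := (rt R S).op) (ri1 R S).op
    (ri2 R S).op (rt R S ≫ ri1 R S).op (hop _ _ rfl) (hop _ _ (rt_ri2 R S)) hpb _ D ε ?_
  rw [dhom_toDescentData (F := wittModPF.{u} p n) (t := (rt R S).op) M (rt R S ≫ ri1 R S).op
      (ri1 R S).op (ri2 R S).op (hop _ _ rfl) (hop _ _ (rt_ri2 R S)) wc_ri1 wc_ri2, whomE_eq,
    mcIso_eq p n (rt R S) (ri1 R S) _ wc_ri1 M, mcIso_eq p n (rt R S) (ri2 R S) _ wc_ri2 M]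
  erw [pull_map_eq p n (ri1 R S) ε.hom, pull_map_eq p n (ri2 R S) ε.hom]
  exact wcomm_ext D M ε key

end crit

/-! ### the isomorphism -/

section iso

variable {r : ℕ}
  (ι' : wmod D →ₗ[TruncatedWittVector p n S] (Fin r → TruncatedWittVector p n S))
  (ρ : (Fin r → TruncatedWittVector p n S) →ₗ[TruncatedWittVector p n S] wmod D)
  {s : ℕ} (f : Matrix (Fin s) (Fin s) (TruncatedWittVector p n R))
  (B : Matrix (Fin r) (Fin s) (TruncatedWittVector p n S))

/-- the image of the idempotent `f`, as a module -/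
noncomputable abbrev Mf : ModuleCat.{u} (TruncatedWittVector p n R) :=
  ModuleCat.of (TruncatedWittVector p n R) (LinearMap.range (Matrix.mulVecLin f))

/-- the underlying vector of an element of `Mf f` -/
def valM (m : Mf f) : Fin s → TruncatedWittVector p n R :=
  (m : LinearMap.range (Matrix.mulVecLin f)).1

theorem valM_add (m m' : Mf f) : valM f (m + m') = valM f m + valM f m' := rfl

theorem valM_smul (a : TruncatedWittVector p n R) (m : Mf f) :
    valM f (a • m) = a • valM f m := rfl

theorem valM_injective : Function.Injective (valM f) := fun _ _ h => Subtype.ext h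

theorem valM_fixed (hf : f * f = f) (m : Mf f) : f *ᵥ valM f m = valM f m := by
  obtain ⟨w, hw⟩ := (m : LinearMap.range (Matrix.mulVecLin f)).2
  have hw' : valM f m = f *ᵥ w := hw.symm
  rw [hw', Matrix.mulVec_mulVec, hf]

/-- the columns of `f`, as elements of `Mf f` -/
noncomputable def fcol (l : Fin s) : Mf f :=
  (⟨f *ᵥ Pi.single l 1, ⟨Pi.single l 1, rfl⟩⟩ : LinearMap.range (Matrix.mulVecLin f))

theorem valM_fcol (l : Fin s) : valM f (fcol f l) = f *ᵥ Pi.single l 1 := rfl

local notation "Wt" => WittGrp.truncMap p n (CommRingCat.Hom.hom (rt R S))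

theorem Wt_comp_smul (a : TruncatedWittVector p n R) (v : Fin s → TruncatedWittVector p n R) :
    Wt ∘ (a • v) = Wt a • (Wt ∘ v) := by
  funext j
  simp only [Function.comp_apply, Pi.smul_apply, smul_eq_mul, map_mul]

theorem Wt_comp_add (v v' : Fin s → TruncatedWittVector p n R) :
    Wt ∘ (v + v') = Wt ∘ v + Wt ∘ v' := by
  funext j
  simp only [Function.comp_apply, Pi.add_apply, map_add]

/-- `m ↦ ρ (B · W(t)(m))` -/
noncomputable def alpha (m : Mf f) : wmod D := ρ (B *ᵥ (Wt ∘ valM f m))

theorem alpha_add (m m' : Mf f) : alpha D ρ f B (m + m') = alpha D ρ f B m + alpha D ρ f B m' := by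
  unfold alpha
  rw [valM_add, Wt_comp_add, Matrix.mulVec_add, map_add]

theorem alpha_smul (a : TruncatedWittVector p n R) (m : Mf f) :
    alpha D ρ f B (a • m) = Wt a • alpha D ρ f B m := by
  unfold alpha
  rw [valM_smul, Wt_comp_smul, Matrix.mulVec_smul, map_smul]

/-- the biadditive map underlying `eps` -/
noncomputable def epsAux : TruncatedWittVector p n S →+ Mf f →+ wmod D :=
  AddMonoidHom.mk' (fun b => AddMonoidHom.mk' (fun m => b • alpha D ρ f B m)
    (fun m m' => by rw [alpha_add, smul_add]))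
    (fun b b' => by
      ext m : 1
      simp only [AddMonoidHom.mk'_apply, AddMonoidHom.add_apply]
      exact add_smul _ _ _)

/-- `b ⊗ m ↦ b • ρ (B · W(t)(m))` -/
noncomputable def epsAdd : ext p n (rt R S) (Mf f) →+ wmod D :=
  extLift (WittGrp.truncMap p n (rt R S).hom) (Mf f) (epsAux D ρ f B) (fun a b m => by
    change (Wt a * b) • alpha D ρ f B m = b • alpha D ρ f B (a • m)
    rw [alpha_smul, smul_smul, mul_comm])

theorem epsAdd_smul_oneT (b : TruncatedWittVector p n S) (m : Mf f) :
    epsAdd D ρ f B (b • oneT (WittGrp.truncMap p n (rt R S).hom) (Mf f) m) =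
      b • alpha D ρ f B m :=
  extLift_smul_oneT _ _ _ _ b m

theorem epsAdd_oneT (m : Mf f) :
    epsAdd D ρ f B (oneT (WittGrp.truncMap p n (rt R S).hom) (Mf f) m) = alpha D ρ f B m := by
  have := epsAdd_smul_oneT D ρ f B 1 m
  rwa [one_smul, one_smul] at this

theorem epsAdd_smul (c : TruncatedWittVector p n S) (x : ext p n (rt R S) (Mf f)) :
    epsAdd D ρ f B (c • x) = c • epsAdd D ρ f B x := by
  induction x using ext_induction with
  | zero => rw [smul_zero, map_zero, smul_zero]
  | tmul b m => rw [smul_smul, epsAdd_smul_oneT, epsAdd_smul_oneT, smul_smul]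
  | add x y hx hy => rw [smul_add, map_add, map_add, hx, hy, smul_add]

/-- `eps` as a linear map -/
noncomputable def epsLin : ext p n (rt R S) (Mf f) →ₗ[TruncatedWittVector p n S] wmod D where
  toFun := epsAdd D ρ f B
  map_add' := map_add _
  map_smul' := epsAdd_smul D ρ f B

/-- the candidate inverse, for a matrix `C` -/
noncomputable def lam (C : Matrix (Fin s) (Fin r) (TruncatedWittVector p n S)) (m' : wmod D) :
    ext p n (rt R S) (Mf f) :=
  ∑ l, (C *ᵥ ι' m') l • oneT (WittGrp.truncMap p n (rt R S).hom) (Mf f) (fcol f l)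

theorem lam_add (C : Matrix (Fin s) (Fin r) (TruncatedWittVector p n S)) (m' m'' : wmod D) :
    lam D ι' f C (m' + m'') = lam D ι' f C m' + lam D ι' f C m'' := by
  unfold lam
  rw [map_add, Matrix.mulVec_add, ← Finset.sum_add_distrib]
  exact Finset.sum_congr rfl fun l _ => add_smul _ _ _

theorem lam_smul (C : Matrix (Fin s) (Fin r) (TruncatedWittVector p n S))
    (b : TruncatedWittVector p n S) (m' : wmod D) :
    lam D ι' f C (b • m') = b • lam D ι' f C m' := by
  unfold lam
  rw [map_smul, Matrix.mulVec_smul, Finset.smul_sum]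
  exact Finset.sum_congr rfl fun l _ => by rw [Pi.smul_apply, smul_eq_mul, mul_smul]

/-- `Σ_l z_l • (1 ⊗ f_l) = 1 ⊗ m` for `z = W(t)(m)` -/
theorem sum_fcol (hf : f * f = f) (m : Mf f) :
    ∑ l, Wt (valM f m l) •
      oneT (WittGrp.truncMap p n (rt R S).hom) (Mf f) (fcol f l) =
      oneT (WittGrp.truncMap p n (rt R S).hom) (Mf f) m := by
  have h1 : ∀ l, Wt (valM f m l) •
      oneT (WittGrp.truncMap p n (rt R S).hom) (Mf f) (fcol f l) =
      oneT (WittGrp.truncMap p n (rt R S).hom) (Mf f) (valM f m l • fcol f l) :=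
    fun l => (oneT_smul _ _ _ _).symm
  rw [Finset.sum_congr rfl fun l _ => h1 l, ← oneT_sum]
  congr 1
  apply valM_injective
  have h2 : valM f (∑ l, valM f m l • fcol f l) = ∑ l, valM f m l • valM f (fcol f l) := by
    change ((∑ l, valM f m l • fcol f l : Mf f) : LinearMap.range (Matrix.mulVecLin f)).1 = _
    rw [Submodule.coe_sum]
    rfl
  rw [h2]
  conv_rhs => rw [← valM_fixed f hf m, pi_eq_sum_univ' (valM f m), Matrix.mulVec_sum]
  refine Finset.sum_congr rfl fun l _ => ?_
  rw [valM_fcol, Matrix.mulVec_smul]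

section inverse

variable (hρ : ∀ m, ρ (ι' m) = m) (CL CR : Matrix (Fin s) (Fin r) (TruncatedWittVector p n S))
  (hf : f * f = f) (hBe : eM D ι' ρ * B = B)
  (hBF : B * f.map (WittGrp.truncMap p n (rt R S).hom) = B)
  (hCLB : CL * B = f.map (WittGrp.truncMap p n (rt R S).hom))
  (hBCR : B * CR = eM D ι' ρ)

include hBe in
theorem iota_alpha (m : Mf f) : ι' (alpha D ρ f B m) = B *ᵥ (Wt ∘ valM f m) := by
  unfold alpha
  rw [← eM_mulVec, Matrix.mulVec_mulVec, hBe]

theorem lam_zero (C : Matrix (Fin s) (Fin r) (TruncatedWittVector p n S)) :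
    lam D ι' f C 0 = 0 := by
  unfold lam
  rw [map_zero, Matrix.mulVec_zero]
  simp

include hf hBe hCLB in
theorem lam_eps (x : ext p n (rt R S) (Mf f)) : lam D ι' f CL (epsAdd D ρ f B x) = x := by
  induction x using ext_induction with
  | zero => rw [map_zero, lam_zero]
  | tmul b m =>
    rw [epsAdd_smul_oneT, lam_smul]
    congr 1
    unfold lam
    rw [iota_alpha D ι' ρ f B hBe, Matrix.mulVec_mulVec, hCLB,
      ← comp_mulVec (WittGrp.truncMap p n (rt R S).hom) f (valM f m), valM_fixed f hf m]
    exact sum_fcol f hf m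
  | add x y hx hy => rw [map_add, lam_add, hx, hy]

theorem Wt_comp_single (l : Fin s) :
    Wt ∘ (Pi.single l 1 : Fin s → TruncatedWittVector p n R) = Pi.single l 1 := by
  funext j
  simp only [Function.comp_apply, Pi.single_apply]
  split_ifs
  · exact map_one _
  · exact map_zero _

include hBF in
theorem alpha_fcol (l : Fin s) : alpha D ρ f B (fcol f l) = ρ (B *ᵥ Pi.single l 1) := by
  unfold alpha
  rw [valM_fcol, comp_mulVec, Matrix.mulVec_mulVec, hBF, Wt_comp_single]

include hρ hBF hBCR in
theorem eps_lam (m' : wmod D) : epsAdd D ρ f B (lam D ι' f CR m') = m' := by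
  unfold lam
  rw [map_sum]
  have h1 : ∀ l, epsAdd D ρ f B ((CR *ᵥ ι' m') l •
      oneT (WittGrp.truncMap p n (rt R S).hom) (Mf f) (fcol f l)) =
      ρ ((CR *ᵥ ι' m') l • (B *ᵥ Pi.single l 1)) := by
    intro l
    rw [epsAdd_smul_oneT, alpha_fcol D ρ f B hBF, map_smul]
  rw [Finset.sum_congr rfl fun l _ => h1 l, ← map_sum]
  have h2 : ∑ l, (CR *ᵥ ι' m') l • (B *ᵥ Pi.single l 1) = B *ᵥ (CR *ᵥ ι' m') := by
    conv_rhs => rw [pi_eq_sum_univ' (CR *ᵥ ι' m'), Matrix.mulVec_sum]
    exact Finset.sum_congr rfl fun l _ => by rw [Matrix.mulVec_smul]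
  rw [h2, Matrix.mulVec_mulVec, hBCR, eM_mulVec, hρ, hρ]

end inverse

end iso

/-! ### the theorem -/

section main

open Groth.Agent.H92.WittMatLift (exists_witt_presentation)

variable [Module.FaithfullyFlat R S]

/-- **Effectivity of descent for finite projective `W_n`-modules.** -/
theorem effective (hp : IsNilpotent (p : R))
    (hfin : Module.Finite (TruncatedWittVector p n S) (wmod D))
    (hproj : Module.Projective (TruncatedWittVector p n S) (wmod D)) :
    ∃ M : ModuleCat.{u} (TruncatedWittVector p n R),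
      Module.Finite (TruncatedWittVector p n R) M ∧
        Module.Projective (TruncatedWittVector p n R) M ∧
        Nonempty (((wittModPF.{u} p n).toDescentData
          (fun _ : PUnit.{u + 1} => (rt R S).op)).obj M ≅ D) := by
  obtain ⟨r, ρ, hρs⟩ := Module.Finite.exists_fin' (TruncatedWittVector p n S) (wmod D)
  obtain ⟨ι', hι'⟩ := Module.projective_lifting_property ρ LinearMap.id hρs
  have hρ : ∀ m, ρ (ι' m) = m := fun m => LinearMap.congr_fun hι' m
  have hW := isWDatum D ι' ρ hρ
  obtain ⟨s, f, B, CL, CR, hf, hBγ, hBe, hBF, hCLB, hBCR⟩ := exists_witt_presentation hp hW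
  have hBγ' : gM D ι' ρ * B.map (WittGrp.truncMap p n (ri1 R S).hom) =
      B.map (WittGrp.truncMap p n (ri2 R S).hom) := hBγ
  have hBF' : B * f.map (WittGrp.truncMap p n (rt R S).hom) = B := hBF
  have hCLB' : CL * B = f.map (WittGrp.truncMap p n (rt R S).hom) := hCLB
  -- the isomorphism
  have hbij : Function.Bijective (epsLin D ρ f B) :=
    ⟨Function.LeftInverse.injective (g := lam D ι' f CL)
        (lam_eps D ι' ρ f B CL hf hBe hCLB'),
      Function.RightInverse.surjective (g := lam D ι' f CR)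
        (eps_lam D ι' ρ f B hρ CR hBF' hBCR)⟩
  let ε : ext p n (rt R S) (Mf f) ≅ wmod D :=
    (LinearEquiv.ofBijective (epsLin D ρ f B) hbij).toModuleIso
  have hε : ∀ m : Mf f, ε.hom (oneT (WittGrp.truncMap p n (rt R S).hom) (Mf f) m) =
      alpha D ρ f B m := fun m => epsAdd_oneT D ρ f B m
  -- finiteness and projectivity
  set E := Matrix.mulVecLin f with hE
  have hEE : ∀ w, E (E w) = E w := by
    intro w
    rw [hE, Matrix.mulVecLin_apply, Matrix.mulVecLin_apply, Matrix.mulVec_mulVec, hf]
  have hfinM : Module.Finite (TruncatedWittVector p n R) (LinearMap.range E) :=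
    Module.Finite.range E
  have hprojM : Module.Projective (TruncatedWittVector p n R) (LinearMap.range E) :=
    Module.Projective.of_split (LinearMap.range E).subtype E.rangeRestrict
      (LinearMap.ext fun ⟨_, w, hw⟩ => Subtype.ext (by
        subst hw
        exact hEE w))
  refine ⟨Mf f, hfinM, hprojM, wnonempty_iso_of_key D (Mf f) ε ?_⟩
  intro m
  rw [hε]
  apply vec_injective D ι' ρ (ri2 R S) hρ
  rw [vec_oneT]
  change Th D ι' (alpha D ρ f B m) = _
  rw [Th_eq D ι' ρ hρ, iota_alpha D ι' ρ f B hBe, comp_mulVec, comp_mulVec, Matrix.mulVec_mulVec,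
    hBγ']
  congr 1
  funext j
  exact Wm_comp_eq _ _ _ _ (fun x => c1_algebraMap x) (valM f m j)

end main

end Groth.Agent.H92.WittEff
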