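import Mathlib.RingTheory.WittVector.StructurePolynomial
import Mathlib.RingTheory.WittVector.Defs
import Mathlib.RingTheory.MvPolynomial.WeightedHomogeneous

set_option autoImplicit false

namespace Groth.Agent.H92

open MvPolynomial

variable (p : ℕ) [hp : Fact p.Prime] {idx : Type*}

/-- The weight `c b * p ^ i` of the variable `(b, i)`. -/
def wittWt (c : idx → ℕ) : idx × ℕ → ℕ := fun bi => c bi.1 * p ^ bi.2

omit hp in
theorem rename_wittPolynomial_isWeightedHomogeneous (c : idx → ℕ) (b : idx) (n : ℕ) :
    IsWeightedHomogeneous (wittWt p c) (rename (Prod.mk b) (wittPolynomial p ℚ n)) (c b * p ^ n) := by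
  rw [wittPolynomial, map_sum]
  refine IsWeightedHomogeneous.sum _ _ _ (fun i hi => ?_)
  rw [rename_monomial]
  refine isWeightedHomogeneous_monomial _ _ _ ?_
  rw [Finsupp.mapDomain_single, Finsupp.weight_single]
  have hi' : i ≤ n := Nat.lt_succ_iff.mp (Finset.mem_range.mp hi)
  simp only [wittWt, smul_eq_mul]
  calc p ^ (n - i) * (c b * p ^ i) = c b * (p ^ (n - i) * p ^ i) := by ring
    _ = c b * p ^ n := by rw [← pow_add, Nat.sub_add_cancel hi']

theorem wittStructureRat_isWeightedHomogeneous (c : idx → ℕ) (Φ : MvPolynomial idx ℚ) (D : ℕ)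
    (hΦ : ∀ n, IsWeightedHomogeneous (wittWt p c)
      (bind₁ (fun b => rename (fun i => (b, i)) (wittPolynomial p ℚ n)) Φ) (D * p ^ n)) (n : ℕ) :
    IsWeightedHomogeneous (wittWt p c) (wittStructureRat p Φ n) (D * p ^ n) := by
  induction n using Nat.strong_induction_on with
  | _ n ih =>
    rw [wittStructureRat_rec]
    have h0 : IsWeightedHomogeneous (wittWt p c) (C (1 / (p : ℚ) ^ n) : MvPolynomial (idx × ℕ) ℚ) 0 :=
      isWeightedHomogeneous_C _ _
    have key : IsWeightedHomogeneous (wittWt p c)
        (bind₁ (fun b => rename (fun i => (b, i)) (wittPolynomial p ℚ n)) Φ -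
          ∑ i ∈ Finset.range n, C ((p : ℚ) ^ i) * wittStructureRat p Φ i ^ p ^ (n - i)) (D * p ^ n) := by
      refine (hΦ n).sub ?_
      refine IsWeightedHomogeneous.sum _ _ _ (fun i hi => ?_)
      have hi' : i < n := Finset.mem_range.mp hi
      have h1 := (ih i hi').pow (p ^ (n - i))
      have h2 : p ^ (n - i) • (D * p ^ i) = D * p ^ n := by
        rw [smul_eq_mul]
        calc p ^ (n - i) * (D * p ^ i) = D * (p ^ (n - i) * p ^ i) := by ring
          _ = D * p ^ n := by rw [← pow_add, Nat.sub_add_cancel hi'.le]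
      rw [h2] at h1
      have h3 := (isWeightedHomogeneous_C (wittWt p c) ((p : ℚ) ^ i)).mul h1
      rwa [zero_add] at h3
    have := h0.mul key
    rwa [zero_add] at this

theorem isWeightedHomogeneous_of_map_intCast {σ : Type*} (w : σ → ℕ) (φ : MvPolynomial σ ℤ) (m : ℕ)
    (h : IsWeightedHomogeneous w (map (Int.castRingHom ℚ) φ) m) : IsWeightedHomogeneous w φ m := by
  intro d hd
  apply h
  rw [coeff_map]
  simpa using hd

theorem wittStructureInt_isWeightedHomogeneous (c : idx → ℕ) (Φ : MvPolynomial idx ℤ) (D : ℕ)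
    (hΦ : ∀ n, IsWeightedHomogeneous (wittWt p c)
      (bind₁ (fun b => rename (fun i => (b, i)) (wittPolynomial p ℚ n))
        (map (Int.castRingHom ℚ) Φ)) (D * p ^ n)) (n : ℕ) :
    IsWeightedHomogeneous (wittWt p c) (wittStructureInt p Φ n) (D * p ^ n) := by
  apply isWeightedHomogeneous_of_map_intCast
  rw [map_wittStructureInt]
  exact wittStructureRat_isWeightedHomogeneous p c _ D hΦ n

/-- `wittAdd p n` is weighted homogeneous of degree `p ^ n`, the variable `(b, i)` having weight
`p ^ i`. -/
theorem wittAdd_isWeightedHomogeneous (n : ℕ) :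
    IsWeightedHomogeneous (wittWt p (fun _ : Fin 2 => 1)) (WittVector.wittAdd p n) (1 * p ^ n) := by
  unfold WittVector.wittAdd
  refine wittStructureInt_isWeightedHomogeneous p _ _ 1 (fun m => ?_) n
  simp only [map_add, map_X, bind₁_X_right]
  exact (rename_wittPolynomial_isWeightedHomogeneous p _ 0 m).add
    (rename_wittPolynomial_isWeightedHomogeneous p _ 1 m)

/-- `wittMul p n` is weighted homogeneous of degree `p ^ n` in the variables `(0, i)` alone
(weights `p ^ i`). -/
theorem wittMul_isWeightedHomogeneous_left (n : ℕ) :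
    IsWeightedHomogeneous (wittWt p (fun b : Fin 2 => if b = 0 then 1 else 0))
      (WittVector.wittMul p n) (1 * p ^ n) := by
  unfold WittVector.wittMul
  refine wittStructureInt_isWeightedHomogeneous p _ _ 1 (fun m => ?_) n
  simp only [map_mul, map_X, bind₁_X_right]
  have h0 := rename_wittPolynomial_isWeightedHomogeneous p
    (fun b : Fin 2 => if b = 0 then 1 else 0) 0 m
  have h1 := rename_wittPolynomial_isWeightedHomogeneous p
    (fun b : Fin 2 => if b = 0 then 1 else 0) 1 m
  have := h0.mul h1
  simpa using this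

/-- `wittMul p n` is weighted homogeneous of degree `p ^ n` in the variables `(1, i)` alone
(weights `p ^ i`). -/
theorem wittMul_isWeightedHomogeneous_right (n : ℕ) :
    IsWeightedHomogeneous (wittWt p (fun b : Fin 2 => if b = 1 then 1 else 0))
      (WittVector.wittMul p n) (1 * p ^ n) := by
  unfold WittVector.wittMul
  refine wittStructureInt_isWeightedHomogeneous p _ _ 1 (fun m => ?_) n
  simp only [map_mul, map_X, bind₁_X_right]
  have h0 := rename_wittPolynomial_isWeightedHomogeneous p
    (fun b : Fin 2 => if b = 1 then 1 else 0) 0 m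
  have h1 := rename_wittPolynomial_isWeightedHomogeneous p
    (fun b : Fin 2 => if b = 1 then 1 else 0) 1 m
  have := h0.mul h1
  simpa using this

end Groth.Agent.H92
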